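import Mathlib
import Groth.Prelude.Def_ModSite2
import Groth.Agent.Lib.Seat16RSpPullGerm
import Groth.Agent.Lib.Seat93RSpFree2
import Groth.Agent.Lib.Seat93ExtAlg
set_option backward.isDefEq.respectTransparency.types false

/-!
# Descent of finite type along a flat surjective open morphism of ringed spaces (seat 93)

For `f : (X, O_X) → (Y, O_Y)` whose stalk maps are faithfully flat, open and surjective on points:
if `f^*F` is of finite type then so is `F`.
-/

set_option autoImplicit false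
universe u
open CategoryTheory CategoryTheory.Limits TopCat TopologicalSpace Opposite TensorProduct

namespace Groth.Agent.Lib.Seat93.RSpDesc

open Groth.Agent.Lib.Helper1.StalkTensor Groth.Agent.Lib.Seat93.RSpBase
  Groth.Agent.Lib.Seat93.RSpFP Groth.Agent.Lib.Seat93.RSpFT Groth.Agent.Lib.Seat93.RSpFree
  Groth.Agent.Lib.Seat93.FreeAlg Groth.Agent.Lib.Seat93.ExtAlg Groth.Agent.Lib.Seat16.RSpPull

variable {X Y : TopCat.{u}} (f : X ⟶ Y) (O_X : TopCat.Sheaf CommRingCat.{u} X)
  (O_Y : TopCat.Sheaf CommRingCat.{u} Y)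
  (c : O_Y ⟶ ((TopologicalSpace.Opens.map f).sheafPushforwardContinuous CommRingCat.{u}
      (Opens.grothendieckTopology Y) (Opens.grothendieckTopology X)).obj O_X)
  (F : ModSite.Mod O_Y) (x : X)

/-- the target of the stalk comparison: `O_{X,x} ⊗ F_{f x}` -/
noncomputable abbrev ExtStalk : ModuleCat.{u} (Ox O_X x) :=
  (ModuleCat.extendScalars.{u, u, u} (stk f O_X O_Y c x).hom).obj ((stalkFun O_Y (f x)).obj F)

/-- `(f^*F)_x ≃ O_{X,x} ⊗ F_{f x}` as a linear equivalence -/
noncomputable def Psi : St (RSpBase.toPM ((ff f O_X O_Y c).pull.obj F)) x ≃ₗ[Ox O_X x]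
    ExtStalk f O_X O_Y c F x :=
  ((stalkPullbackIso f O_X O_Y c x).app F).toLinearEquiv

lemma Psi_etaSec (V : Opens Y) (hx : f x ∈ V) (s : sec F V) :
    Psi f O_X O_Y c F x (gm (RSpBase.toPM ((ff f O_X O_Y c).pull.obj F)) x ((Opens.map f).obj V) hx
      (etaSec f O_X O_Y c F V s)) =
      ((1 : Ox O_X x) ⊗ₜ[Ox O_Y (f x)] gm (RSpBase.toPM F) (f x) V hx s : ExtStalk f O_X O_Y c F x) :=
  stalkPullbackIso_germ f O_X O_Y c x F V hx s

/-- spanning the stalk of the pullback versus spanning the extension of scalars -/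
lemma span_pull_iff (V : Opens Y) (hx : f x ∈ V) {K : Type*} (μ : K → sec F V) :
    Submodule.span (Ox O_X x) (Set.range fun k =>
      gm (RSpBase.toPM ((ff f O_X O_Y c).pull.obj F)) x ((Opens.map f).obj V) hx
        (etaSec f O_X O_Y c F V (μ k))) = ⊤ ↔
    (Submodule.span (Ox O_X x) (Set.range fun k =>
      ((1 : Ox O_X x) ⊗ₜ[Ox O_Y (f x)] gm (RSpBase.toPM F) (f x) V hx (μ k) :
        ExtStalk f O_X O_Y c F x)) : Submodule (Ox O_X x) (ExtStalk f O_X O_Y c F x)) = ⊤ := by
  have e : (fun k => ((1 : Ox O_X x) ⊗ₜ[Ox O_Y (f x)] gm (RSpBase.toPM F) (f x) V hx (μ k) :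
        ExtStalk f O_X O_Y c F x)) =
      fun k => Psi f O_X O_Y c F x (gm (RSpBase.toPM ((ff f O_X O_Y c).pull.obj F)) x
        ((Opens.map f).obj V) hx (etaSec f O_X O_Y c F V (μ k))) := by
    funext k
    exact (Psi_etaSec f O_X O_Y c F x V hx (μ k)).symm
  rw [e]
  have h1 : (Set.range fun k => Psi f O_X O_Y c F x (gm (RSpBase.toPM ((ff f O_X O_Y c).pull.obj F)) x
        ((Opens.map f).obj V) hx (etaSec f O_X O_Y c F V (μ k)))) =
      (Psi f O_X O_Y c F x) '' (Set.range fun k =>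
        gm (RSpBase.toPM ((ff f O_X O_Y c).pull.obj F)) x ((Opens.map f).obj V) hx
          (etaSec f O_X O_Y c F V (μ k))) := by
    rw [← Set.range_comp]
    rfl
  rw [h1]
  have h2 := Submodule.map_span (Psi f O_X O_Y c F x).toLinearMap (Set.range fun k =>
        gm (RSpBase.toPM ((ff f O_X O_Y c).pull.obj F)) x ((Opens.map f).obj V) hx
          (etaSec f O_X O_Y c F V (μ k)))
  constructor
  · intro h
    rw [h] at h2
    exact h2.symm.trans ((Submodule.map_eq_top_iff (e := Psi f O_X O_Y c F x)).2 rfl)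
  · intro h
    exact (Submodule.map_eq_top_iff (e := Psi f O_X O_Y c F x)).1 (h2.trans h)

/-- descent of spanning along a faithfully flat stalk map -/
theorem span_of_span_pull
    (hff : letI := (stk f O_X O_Y c x).hom.toAlgebra; Module.FaithfullyFlat (Ox O_Y (f x)) (Ox O_X x))
    (V : Opens Y) (hx : f x ∈ V) {K : Type*} (μ : K → sec F V)
    (h : Submodule.span (Ox O_X x) (Set.range fun k =>
      gm (RSpBase.toPM ((ff f O_X O_Y c).pull.obj F)) x ((Opens.map f).obj V) hx
        (etaSec f O_X O_Y c F V (μ k))) = ⊤) :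
    Submodule.span (Ox O_Y (f x)) (Set.range fun k => gm (RSpBase.toPM F) (f x) V hx (μ k)) = ⊤ :=
  span_of_span_extendScalars (stk f O_X O_Y c x).hom hff ((stalkFun O_Y (f x)).obj F)
    (fun k => gm (RSpBase.toPM F) (f x) V hx (μ k)) ((span_pull_iff f O_X O_Y c F x V hx μ).1 h)

/-- finitely many germs of the pullback lie in the span of finitely many pulled-back sections -/
theorem exists_finite_gens {ι : Type*} [Finite ι]
    (τ : ι → St (RSpBase.toPM ((ff f O_X O_Y c).pull.obj F)) x) :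
    ∃ (V : Opens Y) (hx : f x ∈ V) (K : Type u) (_ : Fintype K) (μ : K → sec F V),
      ∀ j, τ j ∈ Submodule.span (Ox O_X x) (Set.range fun k =>
        gm (RSpBase.toPM ((ff f O_X O_Y c).pull.obj F)) x ((Opens.map f).obj V) hx
          (etaSec f O_X O_Y c F V (μ k))) := by
  classical
  have h1 : ∀ j, Psi f O_X O_Y c F x (τ j) ∈
      (Submodule.span (Ox O_X x) (Set.range fun m : ((stalkFun O_Y (f x)).obj F) =>
        ((1 : Ox O_X x) ⊗ₜ[Ox O_Y (f x)] m : ExtStalk f O_X O_Y c F x)) :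
          Submodule (Ox O_X x) (ExtStalk f O_X O_Y c F x)) := by
    intro j
    rw [span_one_tmul_eq_top]
    trivial
  choose T hT hmem using fun j => Submodule.mem_span_finite_of_mem_span (h1 j)
  have := Fintype.ofFinite ι
  let TT : Finset (ExtStalk f O_X O_Y c F x) := Finset.univ.biUnion T
  have hTT : ∀ z ∈ TT, ∃ m : St (RSpBase.toPM F) (f x),
      ((1 : Ox O_X x) ⊗ₜ[Ox O_Y (f x)] m : ExtStalk f O_X O_Y c F x) = z := by
    intro z hz
    obtain ⟨j, _, hj⟩ := Finset.mem_biUnion.1 hz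
    exact hT j hj
  let K : Type u := {z // z ∈ TT}
  choose m hm using fun k : K => hTT k.1 k.2
  choose V₁ hx₁ μ₁ hμ₁ using fun k : K => exists_gm_eq (P := RSpBase.toPM F) (m k)
  obtain ⟨V, hxV, hV⟩ := exists_common_nhd (f x) V₁ hx₁
  refine ⟨V, hxV, K, inferInstance, fun k => resS F (hV k) (μ₁ k), fun j => ?_⟩
  set P := Submodule.span (Ox O_X x) (Set.range fun k : K =>
        gm (RSpBase.toPM ((ff f O_X O_Y c).pull.obj F)) x ((Opens.map f).obj V) hxV
          (etaSec f O_X O_Y c F V (resS F (hV k) (μ₁ k)))) with hP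
  -- the image of `P` under `Psi` contains all of `TT`
  have hk : ∀ k : K, (k.1 : ExtStalk f O_X O_Y c F x) ∈ Submodule.map (Psi f O_X O_Y c F x).toLinearMap P := by
    intro k
    refine ⟨gm (RSpBase.toPM ((ff f O_X O_Y c).pull.obj F)) x ((Opens.map f).obj V) hxV
      (etaSec f O_X O_Y c F V (resS F (hV k) (μ₁ k))), Submodule.subset_span ⟨k, rfl⟩, ?_⟩
    refine (Psi_etaSec f O_X O_Y c F x V hxV (resS F (hV k) (μ₁ k))).trans ?_
    rw [gm_resS, hμ₁ k]
    exact hm k
  have hsub : Submodule.span (Ox O_X x) (T j : Set (ExtStalk f O_X O_Y c F x)) ≤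
      Submodule.map (Psi f O_X O_Y c F x).toLinearMap P := by
    rw [Submodule.span_le]
    intro z hz
    have hzTT : z ∈ TT := Finset.mem_biUnion.2 ⟨j, Finset.mem_univ _, hz⟩
    exact hk ⟨z, hzTT⟩
  obtain ⟨p, hp, e⟩ := hsub (hmem j)
  have : p = τ j := (Psi f O_X O_Y c F x).injective e
  rw [← this]
  exact hp

/-- descent of finite type along an open surjective morphism with faithfully flat stalk maps -/
theorem isFiniteType_of_isFiniteType_pull (hopen : IsOpenMap f) (hsurj : Function.Surjective f)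
    (hff : ∀ x : X, letI := (stk f O_X O_Y c x).hom.toAlgebra;
      Module.FaithfullyFlat (Ox O_Y (f x)) (Ox O_X x))
    (h : SheafOfModules.IsFiniteType (R := ModSite.ringSh O_X) ((ff f O_X O_Y c).pull.obj F)) :
    SheafOfModules.IsFiniteType (R := ModSite.ringSh O_Y) F := by
  classical
  rw [isFiniteType_iff] at h ⊢
  intro y
  obtain ⟨x, rfl⟩ := hsurj y
  obtain ⟨U, hxU, ι, hι, t, ht⟩ := h x
  have := Fintype.ofFinite ι
  obtain ⟨V, hxV, K, hK, μ, hμ⟩ := exists_finite_gens f O_X O_Y c F x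
    (fun j => gm (RSpBase.toPM ((ff f O_X O_Y c).pull.obj F)) x U hxU (t j))
  choose a ha using fun j => (Submodule.mem_span_range_iff_exists_fun (Ox O_X x)).1 (hμ j)
  obtain ⟨U', hU'V, hU'U, hxU', A, hAgr, hA⟩ :=
    exists_rep_comb_family ((ff f O_X O_Y c).pull.obj F)
      (fun k => etaSec f O_X O_Y c F V (μ k)) t x hxV hxU a (fun j => (ha j).symm)
  let V' : Opens Y := ⟨f '' (U' : Set X), hopen _ U'.isOpen⟩ ⊓ V
  have hV'V : V' ≤ V := inf_le_right
  refine ⟨V', ⟨⟨x, hxU', rfl⟩, hxV⟩, K, Finite.of_fintype K, fun k => resS F hV'V (μ k),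
    fun y' hy' => ?_⟩
  obtain ⟨⟨x', hx'U', rfl⟩, hy'V⟩ := hy'
  have hsp : Submodule.span (Ox O_X x') (Set.range fun k =>
      gm (RSpBase.toPM ((ff f O_X O_Y c).pull.obj F)) x' ((Opens.map f).obj V) (hU'V hx'U')
        (etaSec f O_X O_Y c F V (μ k))) = ⊤ :=
    span_of_comb
      (fun k => gm (RSpBase.toPM ((ff f O_X O_Y c).pull.obj F)) x' ((Opens.map f).obj V) (hU'V hx'U')
        (etaSec f O_X O_Y c F V (μ k)))
      (fun j => gm (RSpBase.toPM ((ff f O_X O_Y c).pull.obj F)) x' U (hU'U hx'U') (t j))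
      (fun j k => gr O_X.presheaf x' U' hx'U' (A j k))
      (fun j => gm_of_resS_eq ((ff f O_X O_Y c).pull.obj F) hU'V hU'U
        (fun k => etaSec f O_X O_Y c F V (μ k)) (t j) (A j) (hA j) x' hx'U')
      (ht x' (hU'U hx'U'))
  have h2 := span_of_span_pull f O_X O_Y c F x' (hff x') V hy'V μ hsp
  have e : (fun k => gm (RSpBase.toPM F) (f x') V' ⟨⟨x', hx'U', rfl⟩, hy'V⟩ (resS F hV'V (μ k))) =
      fun k => gm (RSpBase.toPM F) (f x') V hy'V (μ k) := by
    funext k
    exact gm_resS F hV'V (μ k) (f x') _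
  rw [e]
  exact h2

end Groth.Agent.Lib.Seat93.RSpDesc
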