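import Mathlib
import Groth.Prelude.Def_ModSite2
import Groth.Agent.Lib.Seat93RSpFP
set_option backward.isDefEq.respectTransparency.types false

/-!
# From a presentation of `M|_U` to stalkwise presentation data (seat 93)
-/

set_option autoImplicit false
universe u
open CategoryTheory CategoryTheory.Limits TopCat TopologicalSpace Opposite

namespace Groth.Agent.Lib.Seat93.RSpFP

open Groth.Agent.Lib.Helper1.StalkTensor Groth.Agent.Lib.Seat93.RSpBase
  Groth.Agent.Lib.Seat93.RSpGen Groth.Agent.Lib.Seat93.RSpFT Groth.Agent.Lib.Seat93.FreeCoord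

variable {X : TopCat.{u}} {O : TopCat.Sheaf CommRingCat.{u} X}
variable (M : ModSite.Mod O) (U : Opens X) (P : ((ModSite.restr O U).obj M).Presentation)

/-- the `k`-th relation as a section of the free module over `W ≤ U` -/
noncomputable def relSec (k : P.relations.I) {W : Opens X} (hW : W ≤ U) :
    (SheafOfModules.free (R := ModSite.ringSh (O.over U)) P.generators.I).val.obj (op (ov hW)) :=
  (kernel.ι P.generators.π).val.app (op (ov hW)) (sval (P.relations.s k) (op (ov hW)))

lemma relSec_res (k : P.relations.I) {W W' : Opens X} (hW : W ≤ U) (h' : W' ≤ W) :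
    (SheafOfModules.free (R := ModSite.ringSh (O.over U)) P.generators.I).val.map (ovHom hW h').op
      (relSec M U P k hW) = relSec M U P k (h'.trans hW) := by
  have h1 := PresheafOfModules.naturality_apply (kernel.ι P.generators.π).val (ovHom hW h').op
    (sval (P.relations.s k) (op (ov hW)))
  refine h1.symm.trans ?_
  congr 1
  exact (P.relations.s k).property (ovHom hW h').op

lemma pi_relSec (k : P.relations.I) {W : Opens X} (hW : W ≤ U) :
    P.generators.π.val.app (op (ov hW)) (relSec M U P k hW) = 0 := by
  have h := congrArg (fun f => f.val.app (op (ov hW)) (sval (P.relations.s k) (op (ov hW))))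
    (kernel.condition P.generators.π)
  exact h

variable [DecidableEq P.generators.I]

/-- the coefficients of the `k`-th relation -/
noncomputable def relCoef (k : P.relations.I) (i : P.generators.I) : O.presheaf.obj (op U) :=
  coef (relSec M U P k (le_refl U)) i

lemma coef_relSec (k : P.relations.I) (i : P.generators.I) {W : Opens X} (hW : W ≤ U) :
    coef (relSec M U P k hW) i = resR hW (relCoef M U P k i) := by
  have h1 := relSec_res M U P k (le_refl U) hW
  have h2 := coef_map (R := ModSite.ringSh (O.over U)) (ovHom (le_refl U) hW).op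
    (relSec M U P k (le_refl U)) i
  rw [h1] at h2
  exact h2

omit [DecidableEq P.generators.I] in
lemma gen_sval (i : P.generators.I) {W : Opens X} (hW : W ≤ U) :
    sval (P.generators.s i) (op (ov hW)) = resS M hW (gsec M U P.generators i) :=
  gsec_res M U P.generators i (ov hW)

variable [Fintype P.generators.I]

lemma pi_app {W : Opens X} (hW : W ≤ U)
    (t : (SheafOfModules.free (R := ModSite.ringSh (O.over U)) P.generators.I).val.obj (op (ov hW))) :
    P.generators.π.val.app (op (ov hW)) t =
      ∑ i, (show O.presheaf.obj (op W) from coef t i) • resS M hW (gsec M U P.generators i) := by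
  have h := app_eq_sum (R := ModSite.ringSh (O.over U)) P.generators.s t
  refine h.trans ?_
  refine Finset.sum_congr rfl (fun i _ => ?_)
  rw [gen_sval]
  rfl

lemma rel_eq_zero (k : P.relations.I) :
    ∑ i, relCoef M U P k i • gsec M U P.generators i = 0 := by
  have h := pi_app M U P (le_refl U) (relSec M U P k (le_refl U))
  rw [pi_relSec] at h
  refine Eq.trans ?_ h.symm
  refine Finset.sum_congr rfl (fun i _ => ?_)
  congr 1
  exact (Groth.Agent.Lib.Helper21.UnitHom.map_id_apply' M.val (op U) _).symm

variable [Fintype P.relations.I] [DecidableEq P.relations.I]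

theorem syz_mem (y : X) (hy : y ∈ U) (c : P.generators.I → Ox O y)
    (hc : ∑ i, c i • gm (toPM M) y U hy (gsec M U P.generators i) = 0) :
    c ∈ Submodule.span (Ox O y)
      (Set.range fun k => fun i => gr O.presheaf y U hy (relCoef M U P k i)) := by
  obtain ⟨W, hWU, hyW, c', hc', hrel⟩ := exists_rep_rel M (gsec M U P.generators) y hy c hc
  -- the section of the free module with coefficients `c'`
  let t : (SheafOfModules.free (R := ModSite.ringSh (O.over U)) P.generators.I).val.obj (op (ov hWU)) :=
    ∑ i, (show (ModSite.ringSh (O.over U)).obj.obj (op (ov hWU)) from c' i) • bas i (op (ov hWU))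
  have hcoef : ∀ i, coef t i = c' i := fun i =>
    coef_sum_smul_bas (R := ModSite.ringSh (O.over U)) (Y := op (ov hWU))
      (fun i => (show (ModSite.ringSh (O.over U)).obj.obj (op (ov hWU)) from c' i)) i
  have hπ : P.generators.π.val.app (op (ov hWU)) t = 0 := by
    rw [pi_app]
    refine Eq.trans ?_ hrel
    refine Finset.sum_congr rfl (fun i _ => ?_)
    rw [hcoef]
  obtain ⟨t', ht'⟩ := exists_kernel_section P.generators.π (op (ov hWU)) t hπ
  -- lift locally through the relations
  have hls := Groth.Agent.Lib.Helper4.ModEpi.isLocallySurjective_of_epi P.relations.π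
  have h1 := hls.imageSieve_mem (U := ov hWU) t'
  rw [GrothendieckTopology.mem_over_iff] at h1
  obtain ⟨V, f, hf, hyV⟩ := h1 y hyW
  rw [Sieve.overEquiv_iff] at hf
  obtain ⟨u, hu⟩ := hf
  have hVW : V ≤ W := f.le
  have hVU : V ≤ U := hVW.trans hWU
  -- `u` is a section of `free κ` over `V`
  let u' : (SheafOfModules.free (R := ModSite.ringSh (O.over U)) P.relations.I).val.obj (op (ov hVU)) := u
  have hu' : P.relations.π.val.app (op (ov hVU)) u' =
      (kernel P.generators.π).val.map (ovHom hWU hVW).op t' := hu
  have h2 := app_eq_sum (R := ModSite.ringSh (O.over U)) P.relations.s u'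
  -- apply `kernel.ι`
  have h3 : (kernel.ι P.generators.π).val.app (op (ov hVU)) (P.relations.π.val.app (op (ov hVU)) u') =
      ∑ k, coef u' k • relSec M U P k hVU := by
    rw [h2, map_sum]
    refine Finset.sum_congr rfl (fun k _ => ?_)
    exact ((kernel.ι P.generators.π).val.app (op (ov hVU))).hom.map_smul _ _
  have h4 : (kernel.ι P.generators.π).val.app (op (ov hVU)) (P.relations.π.val.app (op (ov hVU)) u') =
      (SheafOfModules.free (R := ModSite.ringSh (O.over U)) P.generators.I).val.map (ovHom hWU hVW).op t := by
    rw [hu', ← ht']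
    exact PresheafOfModules.naturality_apply (kernel.ι P.generators.π).val (ovHom hWU hVW).op t'
  have h5 : ∀ i, resR hVW (c' i) = ∑ k, (show O.presheaf.obj (op V) from coef u' k) * resR hVU (relCoef M U P k i) := by
    intro i
    have e1 := congrArg (fun z => coef (R := ModSite.ringSh (O.over U)) (Y := op (ov hVU)) z i) (h4.symm.trans h3)
    simp only at e1
    have e2 := coef_map (R := ModSite.ringSh (O.over U)) (ovHom hWU hVW).op t i
    rw [hcoef] at e2
    have e3 : coef (R := ModSite.ringSh (O.over U)) (Y := op (ov hVU)) (∑ k, coef u' k • relSec M U P k hVU) i =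
        ∑ k, coef u' k * coef (relSec M U P k hVU) i := by
      have : coef (R := ModSite.ringSh (O.over U)) (Y := op (ov hVU)) (∑ k, coef u' k • relSec M U P k hVU) i =
          ∑ k, coef (R := ModSite.ringSh (O.over U)) (Y := op (ov hVU)) (coef u' k • relSec M U P k hVU) i :=
        map_sum ((coord i).val.app (op (ov hVU))).hom _ _
      rw [this]
      exact Finset.sum_congr rfl (fun k _ => coef_smul _ _ _)
    rw [e3] at e1
    refine (e2.symm.trans e1).trans ?_
    refine Finset.sum_congr rfl (fun k _ => ?_)
    rw [coef_relSec]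
    rfl
  -- conclude on germs
  have h6 : c = ∑ k, gr O.presheaf y V hyV (show O.presheaf.obj (op V) from coef u' k) •
      (fun i => gr O.presheaf y U hy (relCoef M U P k i)) := by
    funext i
    rw [Finset.sum_apply]
    rw [← hc' i, ← gr_resR hVW (c' i) y hyV, h5 i, map_sum]
    refine Finset.sum_congr rfl (fun k _ => ?_)
    rw [map_mul, gr_resR]
    rfl
  rw [h6]
  exact Submodule.sum_mem _ (fun k _ => Submodule.smul_mem _ _ (Submodule.subset_span ⟨k, rfl⟩))

end Groth.Agent.Lib.Seat93.RSpFP
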