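import Mathlib
import Groth.Prelude.Def_ModSite2
import Groth.Agent.Lib.Seat93RSpFP2
set_option backward.isDefEq.respectTransparency.types false

/-!
# Finite presentation gives stalkwise presentation data near every point (seat 93)
-/

set_option autoImplicit false
universe u
open CategoryTheory CategoryTheory.Limits TopCat TopologicalSpace Opposite

namespace Groth.Agent.Lib.Seat93.RSpFP

open Groth.Agent.Lib.Helper1.StalkTensor Groth.Agent.Lib.Seat93.RSpBase
  Groth.Agent.Lib.Seat93.RSpGen Groth.Agent.Lib.Seat93.RSpFT Groth.Agent.Lib.Seat93.FreeCoord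

variable {X : TopCat.{u}} {O : TopCat.Sheaf CommRingCat.{u} X}

/-- the stalkwise data attached to a finite presentation of `M|_U` -/
noncomputable def fpDataOfPresentation (M : ModSite.Mod O) (U : Opens X)
    (P : ((ModSite.restr O U).obj M).Presentation) [hP : P.IsFinite] : FPData M U := by
  classical
  haveI : Finite P.generators.I := hP.isFiniteType_generators.finite
  haveI : Finite P.relations.I := hP.isFiniteType_relations.finite
  letI : Fintype P.generators.I := Fintype.ofFinite _
  letI : Fintype P.relations.I := Fintype.ofFinite _
  exact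
    { ι := P.generators.I
      κ := P.relations.I
      s := gsec M U P.generators
      r := relCoef M U P
      rel := rel_eq_zero M U P
      span := span_germ_eq_top M U P.generators
      syz := syz_mem M U P }

theorem exists_fpData (M : ModSite.Mod O)
    [hM : SheafOfModules.IsFinitePresentation (R := ModSite.ringSh O) M] (x : X) :
    ∃ (U : Opens X) (_ : x ∈ U), Nonempty (FPData M U) := by
  obtain ⟨σ, hσ⟩ := hM.exists_quasicoherentData
  have hcov : IsOpenCover σ.X := (Opens.coversTop_iff _ σ.X).1 σ.coversTop
  obtain ⟨i, hi⟩ := hcov.exists_mem x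
  have hfin : (σ.presentation i).IsFinite := hσ.isFinite_presentation i
  exact ⟨σ.X i, hi, ⟨@fpDataOfPresentation _ _ M (σ.X i) (σ.presentation i) hfin⟩⟩

end Groth.Agent.Lib.Seat93.RSpFP
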