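import Mathlib
import Groth.Prelude.Def_ModSite2
import Groth.Agent.Lib.Seat93RSpFree2
set_option backward.isDefEq.respectTransparency.types false

/-!
# Stalks of locally free modules on a ringed space (seat 93)

* `exists_stalk_basis`: a trivialisation `M|_U ≅ free ι` (finite `ι`) gives a basis of `M_y`, `y ∈ U`.
* `isIso_of_epi_of_stalk_bases`: an epimorphism between modules whose stalks have bases indexed by the
  same finite type is an isomorphism.
-/

set_option autoImplicit false
universe u
open CategoryTheory CategoryTheory.Limits TopCat TopologicalSpace Opposite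

namespace Groth.Agent.Lib.Seat93.RSpFree

open Groth.Agent.Lib.Helper1.StalkTensor Groth.Agent.Lib.Seat93.RSpBase
  Groth.Agent.Lib.Seat93.RSpGen Groth.Agent.Lib.Seat93.RSpFT Groth.Agent.Lib.Seat93.FreeCoord
  Groth.Agent.Lib.Seat93.RSpFP Groth.Agent.Lib.Seat93.FreeAlg

variable {X : TopCat.{u}} {O : TopCat.Sheaf CommRingCat.{u} X}

/-- the basis of the stalk given by a family whose germs form a basis -/
noncomputable def basisOf (M : ModSite.Mod O) {U : Opens X} {ι : Type u} (s : ι → sec M U) (y : X)
    (hy : y ∈ U) (h : IsBasisAt M U s y hy) : Module.Basis ι (Ox O y) (St (toPM M) y) :=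
  Module.Basis.mk h.2 h.1.ge

theorem exists_stalk_basis (M : ModSite.Mod O) {ι : Type u} [Fintype ι] (y : X)
    (h : ∃ U : Opens X, y ∈ U ∧ Nonempty ((ModSite.restr O U).obj M ≅ SheafOfModules.free ι)) :
    Nonempty (Module.Basis ι (Ox O y) (St (toPM M) y)) := by
  obtain ⟨U, hy, ⟨e⟩⟩ := h
  obtain ⟨s, hs⟩ := exists_basis_of_iso M U e
  exact ⟨basisOf M s y hy (hs y hy)⟩

/-- stalkwise criterion: an epimorphism which is stalkwise a surjection between free modules of the
same finite rank is an isomorphism -/
theorem isIso_of_epi_of_stalk_bases {F G : ModSite.Mod O} (φ : F ⟶ G) [Epi φ]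
    (h : ∀ y : X, ∃ (ι : Type u) (_ : Fintype ι), Nonempty (Module.Basis ι (Ox O y) (St (toPM F) y)) ∧
      Nonempty (Module.Basis ι (Ox O y) (St (toPM G) y))) : IsIso φ := by
  have hmono : Mono φ := by
    apply RSpBase.mono_of_sm_injective
    intro y
    obtain ⟨ι, _, ⟨bF⟩, ⟨bG⟩⟩ := h y
    have hfin : Module.Finite (Ox O y) (St (toPM G) y) := Module.Finite.of_basis bG
    have hsurj : Function.Surjective (smₗ (toPMMap φ) y) := sm_surjective_of_epi φ y
    let E : St (toPM F) y ≃ₗ[Ox O y] St (toPM G) y := bF.equiv bG (Equiv.refl ι)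
    exact OrzechProperty.injective_of_surjective_of_injective E.toLinearMap (smₗ (toPMMap φ) y)
      E.injective hsurj
  exact isIso_of_mono_of_epi φ

end Groth.Agent.Lib.Seat93.RSpFree
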