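import Mathlib
import Groth.Prelude.Def_ModSite2
import Groth.Agent.Lib.Seat93RSpFree3
set_option backward.isDefEq.respectTransparency.types false

/-!
# Direct summands of finite locally free modules (seat 93)

`fpDataOfRetract`: if `F` is a retract of `H` (`i : F ⟶ H`, `p : H ⟶ F`, `i ≫ p = 𝟙`) and `h` is a family of
sections of `H` over `U` whose germs form bases of all stalks on `U`, with the idempotent `p ≫ i`
given on `h` by a matrix `E` over `U`, then `F` has presentation data over `U`: generators `p (h j)`,
relations the rows of `1 - E`.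
-/

set_option autoImplicit false
universe u
open CategoryTheory CategoryTheory.Limits TopCat TopologicalSpace Opposite

namespace Groth.Agent.Lib.Seat93.RSpFree

open Groth.Agent.Lib.Helper1.StalkTensor Groth.Agent.Lib.Seat93.RSpBase
  Groth.Agent.Lib.Seat93.RSpGen Groth.Agent.Lib.Seat93.RSpFT Groth.Agent.Lib.Seat93.FreeCoord
  Groth.Agent.Lib.Seat93.RSpFP Groth.Agent.Lib.Seat93.FreeAlg

variable {X : TopCat.{u}} {O : TopCat.Sheaf CommRingCat.{u} X}
variable {F H : ModSite.Mod O} (i : F ⟶ H) (p : H ⟶ F) (hip : i ≫ p = 𝟙 F)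

include hip in
lemma retract_app {W : Opens X} (m : sec F W) : p.val.app (op W) (i.val.app (op W) m) = m := by
  have h := congrArg (fun f : F ⟶ F => f.val.app (op W) m) hip
  exact h

include hip in
lemma retract_sm (y : X) (a : St (toPM F) y) : sm (toPMMap p) y (sm (toPMMap i) y a) = a := by
  have h1 := sm_comp' y (toPMMap i) (toPMMap p) a
  have h2 : toPMMap i ≫ toPMMap p = 𝟙 (toPM F) := congrArg (fun f : F ⟶ F => f.val) hip
  rw [h2, sm_id'] at h1
  exact h1.symm

lemma sm_sum_smul {P P' : PMod O.presheaf} (φ : P ⟶ P') (y : X) {ι : Type*} [Fintype ι]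
    (c : ι → Ox O y) (a : ι → St P y) :
    sm φ y (∑ j, c j • a j) = ∑ j, c j • sm φ y (a j) := by
  rw [map_sum]
  exact Finset.sum_congr rfl (fun j _ => sm_smul φ (c j) (a j))

variable {U : Opens X} {ι : Type u} [Fintype ι] [DecidableEq ι] (h : ι → sec H U)
  (hb : ∀ (y : X) (hy : y ∈ U), IsBasisAt H U h y hy)
  (E : ι → ι → O.presheaf.obj (op U))
  (hE : ∀ j, i.val.app (op U) (p.val.app (op U) (h j)) = ∑ k, E j k • h k)

include hip hb hE in
/-- presentation data for a retract of a free module -/
noncomputable def fpDataOfRetract : FPData F U where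
  ι := ι
  κ := ι
  s := fun j => p.val.app (op U) (h j)
  r := fun j k => (if j = k then 1 else 0) - E j k
  rel := by
    intro j
    have h1 : ∑ k, E j k • (show sec F U from p.val.app (op U) (h k)) = p.val.app (op U) (h j) := by
      have h2 := congrArg (fun m => p.val.app (op U) m) (hE j)
      simp only at h2
      rw [retract_app i p hip, app_sum] at h2
      rw [h2]
      exact Finset.sum_congr rfl (fun k _ => (app_smul p (E j k) (h k)).symm)
    simp only [sub_smul, Finset.sum_sub_distrib]
    rw [h1]
    simp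
  span := by
    intro y hy
    rw [eq_top_iff]
    intro a _
    have ha : sm (toPMMap i) y a ∈
        Submodule.span (Ox O y) (Set.range fun j => gm (toPM H) y U hy (h j)) := by
      rw [(hb y hy).1]; trivial
    obtain ⟨c, hc⟩ := (Submodule.mem_span_range_iff_exists_fun (Ox O y)).1 ha
    have h1 := congrArg (sm (toPMMap p) y) hc
    rw [retract_sm i p hip, sm_sum_smul] at h1
    rw [← h1]
    refine Submodule.sum_mem _ (fun j _ => Submodule.smul_mem _ _ ?_)
    rw [sm_gm]
    exact Submodule.subset_span ⟨j, rfl⟩
  syz := by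
    intro y hy c hc
    -- `m = Σ c_j h_j` is killed by `p`, hence by `p ≫ i`
    have h1 : sm (toPMMap p) y (∑ j, c j • gm (toPM H) y U hy (h j)) = 0 := by
      rw [sm_sum_smul, ← hc]
      refine Finset.sum_congr rfl (fun j _ => ?_)
      rw [sm_gm]
      rfl
    have h2 : sm (toPMMap i) y (sm (toPMMap p) y (∑ j, c j • gm (toPM H) y U hy (h j))) = 0 := by
      rw [h1, map_zero]
    rw [sm_sum_smul, sm_sum_smul] at h2
    have h3 : ∀ j, sm (toPMMap i) y (sm (toPMMap p) y (gm (toPM H) y U hy (h j))) =
        ∑ k, gr O.presheaf y U hy (E j k) • gm (toPM H) y U hy (h k) := by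
      intro j
      rw [sm_gm, sm_gm]
      have := congrArg (gm (toPM H) y U hy) (hE j)
      rw [gm_sum_smul] at this
      exact this
    simp only [h3] at h2
    -- compare coefficients
    have h4 : ∑ k, (∑ j, c j * gr O.presheaf y U hy (E j k)) • gm (toPM H) y U hy (h k) = 0 := by
      rw [← h2]
      simp only [Finset.sum_smul, Finset.smul_sum, mul_smul]
      exact Finset.sum_comm
    have h5 := Fintype.linearIndependent_iff.1 (hb y hy).2 _ h4
    have h6 : c = ∑ j, c j • (fun k => gr O.presheaf y U hy ((if j = k then 1 else 0) - E j k)) := by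
      funext k
      rw [Finset.sum_apply]
      simp only [Pi.smul_apply, smul_eq_mul, map_sub, mul_sub, Finset.sum_sub_distrib]
      rw [h5 k, sub_zero]
      simp [apply_ite (gr O.presheaf y U hy)]
    rw [h6]
    exact Submodule.sum_mem _ (fun j _ => Submodule.smul_mem _ _ (Submodule.subset_span ⟨j, rfl⟩))

end Groth.Agent.Lib.Seat93.RSpFree
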