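import Mathlib
import Groth.Prelude.Def_ModSite2
import Groth.Agent.Lib.Seat93RSpFree3
set_option backward.isDefEq.respectTransparency.types false

/-!
# Rank of a locally free module on a ringed space (seat 93)

* `exists_linearIndependent_of_iso_free`: a trivialisation `M|_U ≅ free I` (any `I`) gives a linearly
  independent family indexed by `I` in every stalk `M_y`, `y ∈ U`.
* `card_eq_of_iso_free`: two trivialisations near a point with nonzero local ring have index sets of the
  same `ENat.card`.
-/

set_option autoImplicit false
universe u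
open CategoryTheory CategoryTheory.Limits TopCat TopologicalSpace Opposite

namespace Groth.Agent.Lib.Seat93.RSpFree

open Groth.Agent.Lib.Helper1.StalkTensor Groth.Agent.Lib.Seat93.RSpBase
  Groth.Agent.Lib.Seat93.RSpGen Groth.Agent.Lib.Seat93.RSpFT Groth.Agent.Lib.Seat93.FreeCoord
  Groth.Agent.Lib.Seat93.RSpFP Groth.Agent.Lib.Seat93.FreeAlg

variable {X : TopCat.{u}} {O : TopCat.Sheaf CommRingCat.{u} X}
variable (M : ModSite.Mod O) (U : Opens X) {I : Type u}
  (e : (ModSite.restr O U).obj M ≅ SheafOfModules.free I)

/-- the section of `M` over `U` corresponding to the `i`-th basis section -/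
noncomputable def isoSec (i : I) : sec M U :=
  e.inv.val.app (op (ov (le_refl U))) (bas i (op (ov (le_refl U))))

lemma hom_app_resS_isoSec (i : I) {W : Opens X} (hW : W ≤ U) :
    e.hom.val.app (op (ov hW)) (resS M hW (isoSec M U e i)) = bas i (op (ov hW)) := by
  have h1 : resS M hW (isoSec M U e i) =
      e.inv.val.app (op (ov hW)) (bas i (op (ov hW))) := by
    have h2 := PresheafOfModules.naturality_apply e.inv.val (ovHom (le_refl U) hW).op
      (bas i (op (ov (le_refl U))))
    rw [bas_map] at h2
    exact h2.symm
  have h3 := congrArg (fun f : SheafOfModules.free I ⟶ SheafOfModules.free I =>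
    f.val.app (op (ov hW)) (bas i (op (ov hW)))) e.inv_hom_id
  exact (congrArg (fun m => e.hom.val.app (op (ov hW)) m) h1).trans h3

theorem linearIndependent_isoSec (y : X) (hy : y ∈ U) :
    LinearIndependent (Ox O y) (fun i => gm (toPM M) y U hy (isoSec M U e i)) := by
  classical
  rw [linearIndependent_iff']
  intro T g hg j hj
  have hg' : ∑ i : T, g i • gm (toPM M) y U hy (isoSec M U e i) = 0 := by
    rw [← hg]
    exact Finset.sum_coe_sort T (fun i => g i • gm (toPM M) y U hy (isoSec M U e i))
  obtain ⟨W, hWU, hyW, c', hc', hrel⟩ :=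
    exists_rep_rel M (fun i : T => isoSec M U e i) y hy (fun i => g i) hg'
  have h1 := congrArg (fun m => e.hom.val.app (op (ov hWU)) m) hrel
  simp only at h1
  have h2 : e.hom.val.app (op (ov hWU)) (∑ i : T, c' i • resS M hWU (isoSec M U e i)) =
      ∑ i : T, (show (ModSite.ringSh (O.over U)).obj.obj (op (ov hWU)) from c' i) •
        bas (i : I) (op (ov hWU)) := by
    rw [map_sum]
    refine Finset.sum_congr rfl (fun i _ => ?_)
    have h3 := (e.hom.val.app (op (ov hWU))).hom.map_smul
      (show (ModSite.ringSh (O.over U)).obj.obj (op (ov hWU)) from c' i)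
      (resS M hWU (isoSec M U e i))
    refine h3.trans ?_
    congr 1
    exact hom_app_resS_isoSec M U e i hWU
  have h4 : e.hom.val.app (op (ov hWU)) (0 : sec M W) = 0 := map_zero _
  have h1' := h2.symm.trans (h1.trans h4)
  have h5 := congrArg (fun t => coef (R := ModSite.ringSh (O.over U)) t j) h1'
  simp only at h5
  rw [coef_zero, coef_sum] at h5
  have h6 : ∀ i : T, coef ((show (ModSite.ringSh (O.over U)).obj.obj (op (ov hWU)) from c' i) •
      bas (R := ModSite.ringSh (O.over U)) (i : I) (op (ov hWU))) j =
      if (i : I) = j then (show (ModSite.ringSh (O.over U)).obj.obj (op (ov hWU)) from c' i) else 0 := by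
    intro i
    rw [coef_smul, coef_bas]
    split_ifs <;> simp
  simp only [h6] at h5
  have h7 : c' ⟨j, hj⟩ = 0 := by
    refine Eq.trans ?_ h5
    symm
    rw [Finset.sum_eq_single (⟨j, hj⟩ : T)]
    · simp
    · intro b _ hb
      have : (b : I) ≠ j := fun h => hb (Subtype.ext h)
      simp [this]
    · intro h
      exact (h (Finset.mem_univ _)).elim
  have h8 := hc' ⟨j, hj⟩
  rw [h7, map_zero] at h8
  exact h8.symm

theorem card_le_of_iso_free {U U' : Opens X} {I I' : Type u} [Fintype I']
    (e : (ModSite.restr O U).obj M ≅ SheafOfModules.free I)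
    (e' : (ModSite.restr O U').obj M ≅ SheafOfModules.free I') (y : X) (hy : y ∈ U) (hy' : y ∈ U')
    [Nontrivial (Ox O y)] : Cardinal.mk I ≤ Cardinal.mk I' := by
  obtain ⟨b⟩ := exists_stalk_basis M y ⟨U', hy', ⟨e'⟩⟩
  exact linearIndependent_le_basis b _ (linearIndependent_isoSec M U e y hy)

/-- two trivialisations near a point whose local ring is nonzero have index types of the same size -/
theorem card_eq_of_iso_free {U U' : Opens X} {I I' : Type u}
    (e : (ModSite.restr O U).obj M ≅ SheafOfModules.free I)
    (e' : (ModSite.restr O U').obj M ≅ SheafOfModules.free I') (y : X) (hy : y ∈ U) (hy' : y ∈ U')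
    [Nontrivial (Ox O y)] : ENat.card I = ENat.card I' := by
  classical
  rcases finite_or_infinite I with hI | hI
  · rcases finite_or_infinite I' with hI' | hI'
    · letI := Fintype.ofFinite I
      let _ := Fintype.ofFinite I'
      have h1 := card_le_of_iso_free M e e' y hy hy'
      have h2 := card_le_of_iso_free M e' e y hy' hy
      have h3 : Cardinal.mk I = Cardinal.mk I' := le_antisymm h1 h2
      unfold ENat.card
      rw [h3]
    · letI := Fintype.ofFinite I
      have h2 := card_le_of_iso_free M e' e y hy' hy
      have : Finite I' := by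
        rw [← Cardinal.lt_aleph0_iff_finite]
        exact lt_of_le_of_lt h2 (Cardinal.lt_aleph0_of_finite I)
      exact (not_finite I').elim
  · rcases finite_or_infinite I' with hI' | hI'
    · letI := Fintype.ofFinite I'
      have h1 := card_le_of_iso_free M e e' y hy hy'
      have : Finite I := by
        rw [← Cardinal.lt_aleph0_iff_finite]
        exact lt_of_le_of_lt h1 (Cardinal.lt_aleph0_of_finite I')
      exact (not_finite I).elim
    · rw [ENat.card_eq_top_of_infinite, ENat.card_eq_top_of_infinite]

end Groth.Agent.Lib.Seat93.RSpFree
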