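import Mathlib
import Groth.Prelude.Def_ModSite2
import Groth.Agent.Lib.Seat16RSpPT2
import Groth.Agent.Lib.Seat93RSpFP
import Groth.Agent.Lib.Seat93InvAlg
set_option backward.isDefEq.respectTransparency.types false

/-!
# Invertible modules on a ringed space: stalks (seat 93)

* `rho x : (O as a module)_x ≃ₗ O_x`;
* `Theta e y : L_y ⊗ N_y ≃ₗ O_y` for `e : L ⊗ N ≅ O`, with `Theta_gm`: on germs of sections it is the germ of the
  function `pairing e l n`;
* `exists_nhd_isUnit`: a function whose germ at `x` is a unit has unit germs near `x`.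
-/

set_option autoImplicit false
universe u
open CategoryTheory CategoryTheory.Limits TopCat TopologicalSpace Opposite MonoidalCategory TensorProduct

namespace Groth.Agent.Lib.Seat93.RSpInv

open Groth.Agent.Lib.Helper1.StalkTensor Groth.Agent.Lib.Helper1.Sky Groth.Agent.Lib.Seat93.RSpBase
  Groth.Agent.Lib.Seat93.RSpFP Groth.Agent.Lib.Seat16.RSpPT Groth.Agent.Lib.Seat16.RSpFlat

variable {X : TopCat.{u}} (O : TopCat.Sheaf CommRingCat.{u} X)

/-- a section of the unit module as a function -/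
def unitSec {U : Opens X} (r : sec (ModSite.unit O) U) : O.presheaf.obj (op U) := r

/-- a function as a section of the unit module -/
def ofFun {U : Opens X} (r : O.presheaf.obj (op U)) : sec (ModSite.unit O) U := r

section Generic

variable (R : X.Presheaf CommRingCat.{u})

/-- the unit presheaf of modules -/
noncomputable abbrev unitP : PMod R := PresheafOfModules.unit (R ⋙ forget₂ CommRingCat RingCat)

/-- an element of the unit presheaf of modules as a function -/
def asFun (U : (Opens X)ᵒᵖ) (r : (unitP R).obj U) : R.obj (op U.unop) := r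

/-- the morphism from the unit module to the skyscraper of the local ring -/
noncomputable def unitToSkyP (x : X) : unitP R ⟶ skyP R x (Rx R x) where
  app U := ModuleCat.ofHom
    { toFun := fun r => SkyT.mk (R := R) (U := U.unop) fun hx => gr R x U.unop hx (asFun R U r)
      map_add' := fun s t => by
        ext hx
        simp only [SkyT.ev_mk, SkyT.add_ev]
        exact map_add _ _ _
      map_smul' := fun r s => by
        ext hx
        erw [SkyT.smul_ev]
        simp only [SkyT.ev_mk]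
        exact map_mul (gr R x U.unop hx) r (asFun R U s) }
  naturality {U V} f := by
    apply ModuleCat.hom_ext
    apply LinearMap.ext
    intro s
    apply SkyT.ext (R := R) (U := V.unop)
    intro hx
    exact gr_rr (R := R) f.unop hx (asFun R U s)

end Generic

/-- the morphism from the unit module to the skyscraper of the local ring -/
noncomputable def unitToSky (x : X) :
    RSpBase.toPM (ModSite.unit O) ⟶ skyP O.presheaf x (Ox O x) := unitToSkyP O.presheaf x

/-- the stalk of the unit module is the local ring -/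
noncomputable def rhoLin (x : X) : St (RSpBase.toPM (ModSite.unit O)) x →ₗ[Ox O x] Ox O x :=
  toStalk (unitToSky O x)

lemma rhoLin_gm (x : X) {U : Opens X} (hx : x ∈ U) (r : O.presheaf.obj (op U)) :
    rhoLin O x (gm (RSpBase.toPM (ModSite.unit O)) x U hx (ofFun O r)) = gr O.presheaf x U hx r :=
  toStalk_gm _ hx _

lemma rhoLin_bijective (x : X) : Function.Bijective (rhoLin O x) := by
  constructor
  · rw [injective_iff_map_eq_zero]
    intro a ha
    obtain ⟨U, hU, s, rfl⟩ := exists_gm_eq a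
    have h1 : gr O.presheaf x U hU (unitSec O s) = gr O.presheaf x U hU 0 := by
      rw [map_zero]
      exact (rhoLin_gm O x hU (unitSec O s)).symm.trans ha
    obtain ⟨V, hxV, i₁, i₂, e⟩ := TopCat.Presheaf.germ_eq O.presheaf x hU hU _ _ h1
    have h2 : rs (RSpBase.toPM (ModSite.unit O)) i₁ s = 0 := by
      have : (O.presheaf.map i₂.op).hom (0 : O.presheaf.obj (op U)) = 0 := map_zero _
      exact e.trans this
    rw [← gm_rs (P := RSpBase.toPM (ModSite.unit O)) i₁ hxV s, h2, map_zero]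
  · intro r
    obtain ⟨U, hU, r', rfl⟩ := exists_gr_eq r
    exact ⟨_, rhoLin_gm O x hU r'⟩

/-- `(O as a module)_x ≃ₗ O_x` -/
noncomputable def rho (x : X) : St (RSpBase.toPM (ModSite.unit O)) x ≃ₗ[Ox O x] Ox O x :=
  LinearEquiv.ofBijective (rhoLin O x) (rhoLin_bijective O x)

/-- the stalk of an isomorphism of modules, as a linear equivalence -/
noncomputable def stalkIsoEquiv {M M' : ModSite.Mod O} (e : M ≅ M') (y : X) :
    St (RSpBase.toPM M) y ≃ₗ[Ox O y] St (RSpBase.toPM M') y :=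
  ((stalkFun O y).mapIso e).toLinearEquiv

lemma stalkIsoEquiv_gm {M M' : ModSite.Mod O} (e : M ≅ M') (y : X) {V : Opens X} (hy : y ∈ V)
    (m : sec M V) :
    stalkIsoEquiv O e y (gm (RSpBase.toPM M) y V hy m) =
      gm (RSpBase.toPM M') y V hy (e.hom.val.app (op V) m) :=
  sm_gm (RSpBase.toPMMap e.hom) hy m

variable {O} (L N : ModSite.Mod O) (e : tens O L N ≅ ModSite.unit O)

/-- `L_y ⊗ N_y ≃ O_y` induced by `L ⊗ N ≅ O` -/
noncomputable def Theta (y : X) :
    St (RSpBase.toPM L) y ⊗[Ox O y] St (RSpBase.toPM N) y ≃ₗ[Ox O y] Ox O y :=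
  (stalkTensorEquiv O y L N).symm ≪≫ₗ stalkIsoEquiv O e y ≪≫ₗ rho O y

/-- the pairing of sections: the function `e (l ⊗ n)` -/
noncomputable def pairing {V : Opens X} (l : sec L V) (n : sec N V) : O.presheaf.obj (op V) :=
  unitSec O (e.hom.val.app (op V)
    ((etaO O (RSpBase.toPM L ⊗ RSpBase.toPM N)).app (op V) (tm (RSpBase.toPM L) (RSpBase.toPM N) l n)))

lemma Theta_gm (y : X) {V : Opens X} (hy : y ∈ V) (l : sec L V) (n : sec N V) :
    Theta L N e y (gm (RSpBase.toPM L) y V hy l ⊗ₜ[Ox O y] gm (RSpBase.toPM N) y V hy n) =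
      gr O.presheaf y V hy (pairing L N e l n) := by
  unfold Theta
  rw [LinearEquiv.trans_apply, LinearEquiv.trans_apply, stalkTensorEquiv_symm_gm, stalkIsoEquiv_gm]
  exact rhoLin_gm O y hy (pairing L N e l n)

variable (O) in
/-- a function whose germ at `x` is a unit has unit germs near `x` -/
theorem exists_nhd_isUnit {V : Opens X} (u : O.presheaf.obj (op V)) (x : X) (hx : x ∈ V)
    (h : IsUnit (gr O.presheaf x V hx u)) :
    ∃ (W : Opens X) (hW : W ≤ V) (_ : x ∈ W), ∀ (y : X) (hy : y ∈ W),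
      IsUnit (gr O.presheaf y V (hW hy) u) := by
  obtain ⟨w', hw'⟩ := h.exists_right_inv
  obtain ⟨V₁, hx₁, w, rfl⟩ := exists_gr_eq w'
  have hx₂ : x ∈ V ⊓ V₁ := ⟨hx, hx₁⟩
  have h₂ : V ⊓ V₁ ≤ V := inf_le_left
  have h₂' : V ⊓ V₁ ≤ V₁ := inf_le_right
  have hg : ∀ _ : Unit, gr O.presheaf x (V ⊓ V₁) hx₂ (resR h₂ u * resR h₂' w) =
      gr O.presheaf x (V ⊓ V₁) hx₂ 1 := by
    intro _
    rw [map_mul, gr_resR, gr_resR, map_one]
    exact hw'
  obtain ⟨W, hW, hxW, hWe⟩ := exists_eq_of_gr_eq x hx₂ (fun _ : Unit => resR h₂ u * resR h₂' w)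
    (fun _ => 1) hg
  refine ⟨W, hW.trans h₂, hxW, fun y hy => ?_⟩
  have h1 := congrArg (gr O.presheaf y W hy) (hWe ())
  rw [gr_resR, gr_resR, map_mul, gr_resR, gr_resR, map_one] at h1
  exact IsUnit.of_mul_eq_one _ h1

open Groth.Agent.Lib.Seat93.InvAlg in
/-- the key step: if `s_x ∉ 𝔪_x L_x` then near `x` the germ of `s` pairs to a unit with the germ of a section of `N` -/
theorem exists_nhd_pairing_isUnit (hO : ∀ y : X, IsLocalRing (Ox O y)) {U : Opens X} (s : sec L U)
    (x : X) (hx : x ∈ U)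
    (hs : gm (RSpBase.toPM L) x U hx s ∉
      (@IsLocalRing.maximalIdeal (Ox O x) _ (hO x)) • (⊤ : Submodule (Ox O x) (St (RSpBase.toPM L) x))) :
    ∃ (W : Opens X) (hWU : W ≤ U) (_ : x ∈ W), ∀ (y : X) (hy : y ∈ W),
      ∃ b : St (RSpBase.toPM N) y,
        IsUnit (Theta L N e y (gm (RSpBase.toPM L) y U (hWU hy) s ⊗ₜ[Ox O y] b)) := by
  have := hO x
  obtain ⟨b, hb⟩ := exists_isUnit_of_notMem (Theta L N e x) _ hs
  obtain ⟨V₁, hx₁, n₁, rfl⟩ := exists_gm_eq b
  have hxV : x ∈ U ⊓ V₁ := ⟨hx, hx₁⟩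
  have hVU : U ⊓ V₁ ≤ U := inf_le_left
  have hVV₁ : U ⊓ V₁ ≤ V₁ := inf_le_right
  have h1 : IsUnit (gr O.presheaf x (U ⊓ V₁) hxV (pairing L N e (resS L hVU s) (resS N hVV₁ n₁))) := by
    rw [← Theta_gm, gm_resS, gm_resS]
    exact hb
  obtain ⟨W, hW, hxW, hu⟩ := exists_nhd_isUnit O _ x hxV h1
  refine ⟨W, hW.trans hVU, hxW, fun y hy => ⟨gm (RSpBase.toPM N) y V₁ (hVV₁ (hW hy)) n₁, ?_⟩⟩
  have h2 := hu y hy
  rw [← Theta_gm, gm_resS, gm_resS] at h2
  exact h2

include N e in
open Groth.Agent.Lib.Seat93.InvAlg in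
theorem isOpen_generating_locus (hO : ∀ y : X, IsLocalRing (Ox O y)) {U : Opens X} (s : sec L U) :
    IsOpen {x : X | ∃ hx : x ∈ U, gm (RSpBase.toPM L) x U hx s ∉
      (@IsLocalRing.maximalIdeal (Ox O x) _ (hO x)) • (⊤ : Submodule (Ox O x) (St (RSpBase.toPM L) x))} := by
  rw [isOpen_iff_forall_mem_open]
  rintro x ⟨hx, hs⟩
  obtain ⟨W, hWU, hxW, hW⟩ := exists_nhd_pairing_isUnit L N e hO s x hx hs
  refine ⟨W, fun y hy => ?_, W.isOpen, hxW⟩
  obtain ⟨b, hb⟩ := hW y hy
  have := hO y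
  exact ⟨hWU hy, notMem_smul_top_of_isUnit (Theta L N e y) _ b hb⟩

include N e in
open Groth.Agent.Lib.Seat93.InvAlg in
theorem bijective_smul_germ (hO : ∀ y : X, IsLocalRing (Ox O y)) {U : Opens X} (s : sec L U)
    (x : X) (hx : x ∈ U)
    (hs : gm (RSpBase.toPM L) x U hx s ∉
      (@IsLocalRing.maximalIdeal (Ox O x) _ (hO x)) • (⊤ : Submodule (Ox O x) (St (RSpBase.toPM L) x))) :
    Function.Bijective (fun a : Ox O x => a • gm (RSpBase.toPM L) x U hx s) := by
  obtain ⟨W, hWU, hxW, hW⟩ := exists_nhd_pairing_isUnit L N e hO s x hx hs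
  obtain ⟨b, hb⟩ := hW x hxW
  have := hO x
  exact bijective_smul_of_isUnit (Theta L N e x) _ b hb

end Groth.Agent.Lib.Seat93.RSpInv
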