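import Mathlib
import Groth.Prelude.Def_ModSite2
import Groth.Agent.Lib.Seat16RSpPull
import Groth.Agent.Lib.Seat93RSpGen2
set_option backward.isDefEq.respectTransparency.types false

/-!
# Pullback of modules along a morphism of ringed spaces: generators (seat 93)

For `f : (X, O_X) → (Y, O_Y)` and `G : Mod O_Y`, a section `s ∈ G(V)` gives `us s ∈ (f^*G)(f⁻¹V)` (the unit of
the adjunction).  `span_us`: if the germs of `s j` span `G_{f x}` then the germs of `us (s j)` span `(f^*G)_x`.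
-/

set_option autoImplicit false
universe u
open CategoryTheory CategoryTheory.Limits TopCat TopologicalSpace Opposite

namespace Groth.Agent.Lib.Seat93.RSpPull

open Groth.Agent.Lib.Helper1.StalkTensor Groth.Agent.Lib.Helper1.Sky Groth.Agent.Lib.Seat93.RSpBase
  Groth.Agent.Lib.Seat93.RSpGen Groth.Agent.Lib.Seat16.RSpPull

variable {X Y : TopCat.{u}} (f : X ⟶ Y) (O_X : TopCat.Sheaf CommRingCat.{u} X)
  (O_Y : TopCat.Sheaf CommRingCat.{u} Y)
  (c : O_Y ⟶ ((TopologicalSpace.Opens.map f).sheafPushforwardContinuous CommRingCat.{u}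
      (Opens.grothendieckTopology Y) (Opens.grothendieckTopology X)).obj O_X)

/-- the pulled back section `f^* s ∈ (f^*G)(f⁻¹V)` -/
noncomputable def us (G : ModSite.Mod O_Y) (V : Opens Y) (s : sec G V) :
    sec ((ff f O_X O_Y c).pull.obj G) ((Opens.map f).obj V) :=
  ((ff f O_X O_Y c).adj.unit.app G).val.app (op V) s

theorem span_us (G : ModSite.Mod O_Y) (V : Opens Y) {I : Type*} (s : I → sec G V) (x : X) (hx : f x ∈ V)
    (h : Submodule.span (Ox O_Y (f x)) (Set.range fun j => gm (RSpBase.toPM G) (f x) V hx (s j)) = ⊤) :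
    Submodule.span (Ox O_X x) (Set.range fun j =>
      gm (RSpBase.toPM ((ff f O_X O_Y c).pull.obj G)) x ((Opens.map f).obj V) hx (us f O_X O_Y c G V (s j))) = ⊤ := by
  set S := Submodule.span (Ox O_X x) (Set.range fun j =>
      gm (RSpBase.toPM ((ff f O_X O_Y c).pull.obj G)) x ((Opens.map f).obj V) hx (us f O_X O_Y c G V (s j))) with hS
  let T := (St (RSpBase.toPM ((ff f O_X O_Y c).pull.obj G)) x) ⧸ S
  let q₀ : St (RSpBase.toPM ((ff f O_X O_Y c).pull.obj G)) x →ₗ[Ox O_X x] T := S.mkQ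
  let q : (ff f O_X O_Y c).pull.obj G ⟶ skyMod O_X x (ModuleCat.of _ T) :=
    ⟨ofStalk (R := O_X.presheaf) (x := x) (N := T) (P := toPM ((ff f O_X O_Y c).pull.obj G)) q₀⟩
  let q' : G ⟶ (ff f O_X O_Y c).push.obj (skyMod O_X x (ModuleCat.of _ T)) :=
    (ff f O_X O_Y c).adj.unit.app G ≫ (ff f O_X O_Y c).push.map q
  let φ : G ⟶ skyMod O_Y (f x) ((resStalk f O_X O_Y c x).obj (ModuleCat.of _ T)) :=
    q' ≫ (pushSkyIso f O_X O_Y c x (ModuleCat.of _ T)).hom
  have hgen : ∀ j, toStalk (RSpBase.toPMMap φ) (gm (RSpBase.toPM G) (f x) V hx (s j)) = 0 := by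
    intro j
    rw [toStalk_gm]
    change q₀ (gm (RSpBase.toPM ((ff f O_X O_Y c).pull.obj G)) x ((Opens.map f).obj V) hx
      (us f O_X O_Y c G V (s j))) = 0
    exact (Submodule.Quotient.mk_eq_zero S).2 (Submodule.subset_span ⟨j, rfl⟩)
  have hL : toStalk (RSpBase.toPMMap φ) = 0 := LinearMap.ext_on_range h (fun j => (hgen j).trans (by simp))
  have hφ : toPMMap φ = 0 := by
    apply (Groth.Agent.Lib.Helper1.Sky.homEquiv (P := RSpBase.toPM G)
      (N := ((resStalk f O_X O_Y c x).obj (ModuleCat.of _ T)))).injective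
    change toStalk (RSpBase.toPMMap φ) = toStalk 0
    rw [hL]
    symm
    ext a
    obtain ⟨U, hU, p, rfl⟩ := exists_gm_eq a
    rw [toStalk_gm]
    rfl
  have hφ0 : φ = 0 := SheafOfModules.hom_ext hφ
  have hq' : q' = 0 := by
    have h1 := congrArg (fun g => g ≫ (pushSkyIso f O_X O_Y c x (ModuleCat.of _ T)).inv) hφ0
    simp only [φ, Category.assoc, Iso.hom_inv_id, Category.comp_id, zero_comp] at h1
    exact h1
  have hq : q = 0 := by
    apply ((ff f O_X O_Y c).adj.homEquiv _ _).injective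
    rw [Adjunction.homEquiv_unit, Adjunction.homEquiv_unit]
    refine hq'.trans ?_
    rw [Functor.map_zero, comp_zero]
  rw [eq_top_iff]
  intro a _
  obtain ⟨W, hxW, m, rfl⟩ := exists_gm_eq a
  have h2 : q.val.app (op W) m = 0 := by
    rw [hq]; rfl
  have h3 := congrArg (fun t => SkyT.ev O_X.presheaf W t hxW) h2
  change q₀ (gm (RSpBase.toPM ((ff f O_X O_Y c).pull.obj G)) x W hxW m) = 0 at h3
  exact (Submodule.Quotient.mk_eq_zero S).1 h3

end Groth.Agent.Lib.Seat93.RSpPull
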