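import Mathlib
import Groth.Prelude.Def_ModSite2
import Groth.Agent.Lib.Seat93RSpGen2
set_option backward.isDefEq.respectTransparency.types false

/-!
# Restriction to an open of a ringed space: epi / mono / iso stalkwise (seat 93)

For `φ : G ⟶ F` in `ModSite.Mod O` and an open `W`: `(ModSite.restr O W).map φ` is epi (mono, iso) iff `φ` is
surjective (injective, bijective) on the stalks at all points of `W`.
-/

set_option autoImplicit false
universe u
open CategoryTheory CategoryTheory.Limits TopCat TopologicalSpace Opposite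

namespace Groth.Agent.Lib.Seat93.RSpRestr

open Groth.Agent.Lib.Helper1.StalkTensor Groth.Agent.Lib.Seat93.RSpBase Groth.Agent.Lib.Seat93.RSpGen

variable {X : TopCat.{u}} {O : TopCat.Sheaf CommRingCat.{u} X}

theorem epi_restr_of_sm_surjective {G F : ModSite.Mod O} (φ : G ⟶ F) (W : Opens X)
    (h : ∀ y ∈ W, Function.Surjective (sm (toPMMap φ) y)) : Epi ((ModSite.restr O W).map φ) := by
  apply epi_of_isLocallySurjective
  constructor
  intro Y m
  rw [GrothendieckTopology.mem_over_iff]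
  intro y hy
  have hyW : y ∈ W := Y.hom.le hy
  obtain ⟨a, ha⟩ := h y hyW (gm (toPM F) y Y.left hy m)
  obtain ⟨V, hyV, g, rfl⟩ := exists_gm_eq a
  rw [sm_gm] at ha
  obtain ⟨W', hyW', iV, iY, e⟩ := gm_eq (P := toPM F) hyV hy _ _ ha
  refine ⟨W', iY, ?_, hyW'⟩
  rw [Sieve.overEquiv_iff]
  refine ⟨G.val.map iV.op g, ?_⟩
  have := PresheafOfModules.naturality_apply φ.val iV.op g
  exact this.trans e

theorem sm_surjective_of_epi_restr {G F : ModSite.Mod O} (φ : G ⟶ F) (W : Opens X)
    [Epi ((ModSite.restr O W).map φ)] (y : X) (hy : y ∈ W) : Function.Surjective (sm (toPMMap φ) y) := by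
  intro c
  obtain ⟨U, hyU, s, rfl⟩ := exists_gm_eq c
  have hyUW : y ∈ U ⊓ W := ⟨hyU, hy⟩
  have h := Groth.Agent.Lib.Helper4.ModEpi.isLocallySurjective_of_epi ((ModSite.restr O W).map φ)
  have h1 := h.imageSieve_mem (U := ov (inf_le_right : U ⊓ W ≤ W))
    (F.val.map (homOfLE (inf_le_left : U ⊓ W ≤ U)).op s)
  rw [GrothendieckTopology.mem_over_iff] at h1
  obtain ⟨V, f, hf, hyV⟩ := h1 y hyUW
  rw [Sieve.overEquiv_iff] at hf
  obtain ⟨t, ht⟩ := hf
  refine ⟨gm (toPM G) y V hyV t, ?_⟩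
  rw [sm_gm]
  erw [ht]
  refine (gm_rs (P := toPM F) f hyV _).trans ?_
  exact gm_rs (P := toPM F) (homOfLE (inf_le_left : U ⊓ W ≤ U)) (f.le hyV) s

end Groth.Agent.Lib.Seat93.RSpRestr
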