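import Mathlib.RingTheory.Polynomial.Resultant.Basic
import Mathlib.FieldTheory.Finite.Basic
import Mathlib.SetTheory.Cardinal.Finite

/-!
# Counting lemmas for resultants of a binary quadratic and a binary form of degree `n` (seat 93)

Part A: fibre counting for surjective additive maps, the coefficient-vector encodings of polynomials.
-/
set_option autoImplicit false
universe u

open Polynomial

namespace Groth.Agent.Lib.Seat93.ResCountA

/-- Fibre counting for a surjective homomorphism of finite additive groups. -/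
theorem card_preimage_mul {V W : Type*} [AddCommGroup V] [AddCommGroup W] [Finite V] [Finite W]
    (φ : V →+ W) (hφ : Function.Surjective φ) (S : Set W) :
    Nat.card {v : V // φ v ∈ S} * Nat.card W = Nat.card S * Nat.card V := by
  classical
  let σ : W → V := Function.surjInv hφ
  have hσ : ∀ w, φ (σ w) = w := Function.surjInv_eq hφ
  let e : V ≃ W × φ.ker :=
    { toFun := fun v => (φ v, ⟨v - σ (φ v), by simp [AddMonoidHom.mem_ker, hσ]⟩)
      invFun := fun p => σ p.1 + p.2
      left_inv := fun v => by simp
      right_inv := fun p => by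
        obtain ⟨w, k, hk⟩ := p
        have hk' : φ k = 0 := hk
        ext <;> simp [hσ, hk'] }
  let e' : {v : V // φ v ∈ S} ≃ S × φ.ker :=
    { toFun := fun v => (⟨φ v.1, v.2⟩, (e v.1).2)
      invFun := fun p => ⟨e.symm (p.1.1, p.2), by
        have hk' : φ p.2 = 0 := p.2.2
        simp [e, hσ, hk']⟩
      left_inv := fun v => by
        apply Subtype.ext
        simp [e]
      right_inv := fun p => by
        obtain ⟨⟨w, hw⟩, k, hk⟩ := p
        have hk' : φ k = 0 := hk
        ext <;> simp [e, hσ, hk'] }
  rw [Nat.card_congr e', Nat.card_congr e, Nat.card_prod, Nat.card_prod]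
  ring

variable {F : Type u} [Field F]

/-- The polynomial with coefficient vector `b`. -/
noncomputable def gp (n : ℕ) (b : Fin (n + 1) → F) : F[X] :=
  ∑ j : Fin (n + 1), C (b j) * X ^ (j : ℕ)

theorem gp_coeff (n : ℕ) (b : Fin (n + 1) → F) (j : ℕ) :
    (gp n b).coeff j = if h : j < n + 1 then b ⟨j, h⟩ else 0 := by
  classical
  unfold gp
  rw [finsetSum_coeff]
  simp only [coeff_C_mul, coeff_X_pow]
  split_ifs with h
  · rw [Finset.sum_eq_single (⟨j, h⟩ : Fin (n + 1))]
    · simp
    · intro i _ hi
      have : j ≠ (i : ℕ) := fun hh => hi (Fin.ext hh.symm)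
      simp [this]
    · simp
  · apply Finset.sum_eq_zero
    intro i _
    have : j ≠ (i : ℕ) := fun hh => h (hh ▸ i.2)
    simp [this]

theorem gp_natDegree_le (n : ℕ) (b : Fin (n + 1) → F) : (gp n b).natDegree ≤ n := by
  rw [natDegree_le_iff_coeff_eq_zero]
  intro N hN
  rw [gp_coeff, dif_neg (by omega)]

theorem gp_coeff_last (n : ℕ) (b : Fin (n + 1) → F) : (gp n b).coeff n = b (Fin.last n) := by
  rw [gp_coeff, dif_pos (Nat.lt_succ_self n)]
  rfl

theorem gp_add (n : ℕ) (b b' : Fin (n + 1) → F) : gp n (b + b') = gp n b + gp n b' := by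
  unfold gp
  rw [← Finset.sum_add_distrib]
  apply Finset.sum_congr rfl
  intro j _
  simp [add_mul]

theorem gp_smul (n : ℕ) (c : F) (b : Fin (n + 1) → F) : gp n (c • b) = C c * gp n b := by
  unfold gp
  rw [Finset.mul_sum]
  apply Finset.sum_congr rfl
  intro j _
  simp [mul_assoc]

theorem gp_eval (n : ℕ) (b : Fin (n + 1) → F) (ρ : F) :
    (gp n b).eval ρ = ∑ j : Fin (n + 1), b j * ρ ^ (j : ℕ) := by
  unfold gp
  rw [eval_finsetSum]
  simp

theorem gp_two (a : Fin 3 → F) : gp 2 a = C (a 0) + C (a 1) * X + C (a 2) * X ^ 2 := by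
  unfold gp
  rw [Fin.sum_univ_three]
  simp

/-- `gp` is injective: the polynomial determines the coefficient vector. -/
theorem gp_injective (n : ℕ) : Function.Injective (gp (F := F) n) := by
  intro b b' h
  funext j
  have := congrArg (fun p => p.coeff (j : ℕ)) h
  simpa [gp_coeff, j.2] using this

end Groth.Agent.Lib.Seat93.ResCountA
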