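import Groth.Agent.Lib.Seat93ResCountA

/-!
# Counting lemmas for resultants (seat 93), part B: the resultant `Res_{2,n}(f, g)` in the three cases
`f` of exact degree two, `f` of exact degree one (as a quadratic form: one root at infinity),
`f` constant.
-/
set_option autoImplicit false
universe u

open Polynomial

namespace Groth.Agent.Lib.Seat93.ResCountB

open Groth.Agent.Lib.Seat93.ResCountA

variable {F : Type u} [Field F]

/-- The value `r₁² f(-r₀/r₁)` of the quadratic form `f = a` at the root of `r₀ + r₁ X`. -/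
def Q (a : Fin 3 → F) (r : F × F) : F := a 2 * r.1 ^ 2 - a 1 * r.1 * r.2 + a 0 * r.2 ^ 2

theorem Q_smul (c : F) (a : Fin 3 → F) (r : F × F) : Q (c • a) r = c * Q a r := by
  simp only [Q, Pi.smul_apply, smul_eq_mul]
  ring

theorem res_two_one (a : Fin 3 → F) (r0 r1 : F) :
    resultant (gp 2 a) (C r0 + C r1 * X) 2 1 = Q a (r0, r1) := by
  rw [gp_two]
  simp [resultant, sylvester, Matrix.det_fin_three, Fin.addCases, coeff_X, Q]
  ring

theorem res_case3 (a : Fin 3 → F) (h2 : a 2 = 0) (h1 : a 1 = 0) (g : F[X]) (n : ℕ) :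
    resultant (gp 2 a) g 2 n = g.coeff n ^ 2 * a 0 ^ n := by
  rw [gp_two, h2, h1]
  have : (C (a 0) + C 0 * X + C 0 * X ^ 2 : F[X]) = C (a 0) := by simp
  rw [this, resultant_C_left, pow_mul]
  simp

theorem res_case2 (a : Fin 3 → F) (h2 : a 2 = 0) (h1 : a 1 ≠ 0) (g : F[X]) (n : ℕ)
    (hg : g.natDegree ≤ n) :
    resultant (gp 2 a) g 2 n = (-1) ^ n * g.coeff n * (a 1 ^ n * g.eval (-(a 0 / a 1))) := by
  have hf : gp 2 a = C (a 1) * (X + C (a 0 / a 1)) := by
    rw [gp_two, h2]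
    simp only [map_zero, zero_mul, add_zero, mul_add, ← C_mul]
    rw [mul_div_cancel₀ _ h1, add_comm]
  have hdeg : (gp 2 a).natDegree ≤ 1 := by
    rw [hf]
    refine (natDegree_C_mul_le _ _).trans ?_
    exact natDegree_X_add_C _ |>.le
  have := resultant_succ_left_deg (gp 2 a) g 1 n hdeg
  rw [show (1 + 1 : ℕ) = 2 from rfl] at this
  rw [this, hf, resultant_C_mul_left, resultant_X_add_C_left _ _ _ hg]

theorem monic_aux (a : Fin 3 → F) (h2 : a 2 ≠ 0) :
    (gp 2 ((a 2)⁻¹ • a)).Monic ∧ (gp 2 ((a 2)⁻¹ • a)).natDegree = 2 := by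
  have hc : (gp 2 ((a 2)⁻¹ • a)).coeff 2 = 1 := by
    rw [gp_coeff_last]
    simp [h2]
  refine ⟨monic_of_natDegree_le_of_coeff_eq_one 2 (gp_natDegree_le 2 _) hc, ?_⟩
  exact natDegree_eq_of_le_of_coeff_ne_zero (gp_natDegree_le 2 _) (by rw [hc]; exact one_ne_zero)

theorem res_case1 (a : Fin 3 → F) (h2 : a 2 ≠ 0) (g : F[X]) (n : ℕ) (hn : 2 ≤ n)
    (hg : g.natDegree ≤ n) :
    resultant (gp 2 a) g 2 n =
      a 2 ^ n * ((a 2)⁻¹ * Q a ((g %ₘ gp 2 ((a 2)⁻¹ • a)).coeff 0,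
        (g %ₘ gp 2 ((a 2)⁻¹ • a)).coeff 1)) := by
  obtain ⟨hm, hd⟩ := monic_aux a h2
  set f₁ := gp 2 ((a 2)⁻¹ • a) with hf₁
  have hf : gp 2 a = C (a 2) * f₁ := by
    rw [hf₁, gp_smul, ← mul_assoc, ← C_mul, mul_inv_cancel₀ h2, C_1, one_mul]
  set r := g %ₘ f₁ with hr
  have hrdeg : r.natDegree ≤ 1 := by
    have h1 : r.degree < f₁.degree := degree_modByMonic_lt g hm
    rw [degree_eq_natDegree hm.ne_zero, hd] at h1
    have h2' : r.natDegree < 2 := by
      by_cases hr0 : r = 0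
      · rw [hr0]; simp
      · rwa [degree_eq_natDegree hr0, Nat.cast_lt] at h1
    omega
  have hgdecomp : g = r + f₁ * (g /ₘ f₁) := (modByMonic_add_div g f₁).symm
  have hqdeg : (g /ₘ f₁).natDegree + 2 ≤ n := by
    rw [natDegree_divByMonic g hm, hd]
    omega
  have hr' : r = C (r.coeff 0) + C (r.coeff 1) * X := by
    conv_lhs => rw [eq_X_add_C_of_natDegree_le_one hrdeg]
    rw [add_comm]
  rw [hf, resultant_C_mul_left]
  congr 1
  conv_lhs => rw [hgdecomp]
  rw [resultant_add_mul_right _ _ _ _ _ hqdeg (hd.le)]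
  obtain ⟨k, rfl⟩ : ∃ k, n = 1 + k := ⟨n - 1, by omega⟩
  rw [resultant_add_right_deg _ _ _ _ _ hrdeg]
  have hc2 : f₁.coeff 2 = 1 := by
    have := hm.coeff_natDegree
    rwa [hd] at this
  rw [hc2, one_pow, one_mul]
  conv_lhs => rw [hr']
  rw [hf₁, res_two_one, Q_smul]

end Groth.Agent.Lib.Seat93.ResCountB
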