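import Groth.Agent.Lib.Seat93ResCountB

/-!
# Counting lemmas for resultants (seat 93), part C: the number of `g` with `Res_{2,n}(f, g) ≠ 0`
for a fixed quadratic form `f`, in each of the three cases.
-/
set_option autoImplicit false
universe u

open Polynomial

namespace Groth.Agent.Lib.Seat93.ResCountC

open Groth.Agent.Lib.Seat93.ResCountA Groth.Agent.Lib.Seat93.ResCountB

/-- Exact form of the fibre count when the cardinalities are powers of `q`. -/
theorem card_preimage_pow {V W : Type*} [AddCommGroup V] [AddCommGroup W] [Finite V] [Finite W]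
    (φ : V →+ W) (hφ : Function.Surjective φ) (S : Set W) (q k j : ℕ) (hq : 0 < q)
    (hV : Nat.card V = q ^ (j + k)) (hW : Nat.card W = q ^ j) :
    Nat.card {v : V // φ v ∈ S} = Nat.card S * q ^ k := by
  have h := card_preimage_mul φ hφ S
  rw [hV, hW, pow_add] at h
  have h' : Nat.card {v : V // φ v ∈ S} * q ^ j = (Nat.card S * q ^ k) * q ^ j := by
    rw [h]; ring
  exact Nat.eq_of_mul_eq_mul_right (pow_pos hq j) h'

set_option linter.unusedSectionVars false

variable {F : Type u} [Field F] [Finite F]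

theorem card_ne_zero : Nat.card {x : F // x ≠ 0} = Nat.card F - 1 := by
  classical
  have := Fintype.ofFinite F
  rw [Nat.card_eq_fintype_card, Nat.card_eq_fintype_card, Fintype.card_subtype_compl,
    Fintype.card_subtype_eq]

theorem card_pos : 0 < Nat.card F := Nat.card_pos

theorem card_fin_fun (k : ℕ) : Nat.card (Fin k → F) = Nat.card F ^ k := by
  rw [Nat.card_fun, Nat.card_eq_fintype_card (α := Fin k), Fintype.card_fin]

theorem card_prod_ne_ne : Nat.card ({x : F × F | x.1 ≠ 0 ∧ x.2 ≠ 0} : Set (F × F)) =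
    (Nat.card F - 1) ^ 2 := by
  have e : ({x : F × F | x.1 ≠ 0 ∧ x.2 ≠ 0} : Set (F × F)) ≃ {x : F // x ≠ 0} × {x : F // x ≠ 0} :=
    { toFun := fun x => (⟨x.1.1, x.2.1⟩, ⟨x.1.2, x.2.2⟩)
      invFun := fun p => ⟨(p.1.1, p.2.1), p.1.2, p.2.2⟩
      left_inv := fun x => rfl
      right_inv := fun p => rfl }
  rw [Nat.card_congr e, Nat.card_prod, card_ne_zero, sq]

theorem card_prod_eq_ne : Nat.card ({x : F × F | x.1 = 0 ∧ x.2 ≠ 0} : Set (F × F)) =
    Nat.card F - 1 := by
  have e : ({x : F × F | x.1 = 0 ∧ x.2 ≠ 0} : Set (F × F)) ≃ {x : F // x ≠ 0} :=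
    { toFun := fun x => ⟨x.1.2, x.2.2⟩
      invFun := fun p => ⟨(0, p.1), rfl, p.2⟩
      left_inv := fun x => by
        obtain ⟨⟨x1, x2⟩, h1, h2⟩ := x
        change x1 = 0 at h1
        subst h1
        rfl
      right_inv := fun p => rfl }
  rw [Nat.card_congr e, card_ne_zero]

theorem card_set_ne : Nat.card ({x : F | x ≠ 0} : Set F) = Nat.card F - 1 := card_ne_zero

/-- every polynomial of degree at most `n` is a `gp`. -/
theorem gp_of_coeff (n : ℕ) (p : F[X]) (hp : p.natDegree ≤ n) :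
    gp n (fun j : Fin (n + 1) => p.coeff j) = p := by
  ext j
  rw [gp_coeff]
  split_ifs with h
  · rfl
  · exact (coeff_eq_zero_of_natDegree_lt (by omega)).symm

/-- `gp` as an additive map. -/
noncomputable def gpHom (n : ℕ) : (Fin (n + 1) → F) →+ F[X] where
  toFun := gp n
  map_zero' := by
    have := gp_smul n (0 : F) (0 : Fin (n + 1) → F)
    simpa using this
  map_add' := gp_add n

@[simp] theorem gpHom_apply (n : ℕ) (b : Fin (n + 1) → F) : gpHom n b = gp n b := rfl

open Classical in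
/-- Case 3: `f = a₀` constant. -/
theorem count_case3 (a : Fin 3 → F) (h2 : a 2 = 0) (h1 : a 1 = 0) (n : ℕ) (hn : 1 ≤ n) :
    Nat.card {b : Fin (n + 1) → F // resultant (gp 2 a) (gp n b) 2 n ≠ 0} =
      if a 0 ≠ 0 then (Nat.card F - 1) * Nat.card F ^ n else 0 := by
  split_ifs with h0
  · let φ : (Fin (n + 1) → F) →+ F := (Polynomial.lcoeff F n).toAddMonoidHom.comp (gpHom n)
    have hφ : Function.Surjective φ := by
      intro x
      refine ⟨fun j => (C x * X ^ n : F[X]).coeff j, ?_⟩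
      show (gp n _).coeff n = x
      rw [gp_of_coeff n _ (natDegree_C_mul_X_pow_le x n)]
      simp
    have key := card_preimage_pow φ hφ {x : F | x ≠ 0} (Nat.card F) n 1 card_pos
      (by rw [card_fin_fun, add_comm]) (by simp)
    rw [card_set_ne] at key
    rw [← key]
    apply Nat.card_congr
    apply Equiv.subtypeEquivRight
    intro b
    rw [res_case3 a h2 h1]
    show _ ↔ (gp n b).coeff n ≠ 0
    simp [h0]
  · have : IsEmpty {b : Fin (n + 1) → F // resultant (gp 2 a) (gp n b) 2 n ≠ 0} := by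
      constructor
      rintro ⟨b, hb⟩
      apply hb
      rw [res_case3 a h2 h1]
      have h0' : a 0 = 0 := not_not.mp h0
      rw [h0', zero_pow (by omega), mul_zero]
    simp

/-- Case 2: `f = a₀ + a₁ X` with `a₁ ≠ 0`. -/
theorem count_case2 (a : Fin 3 → F) (h2 : a 2 = 0) (h1 : a 1 ≠ 0) (n : ℕ) (hn : 1 ≤ n) :
    Nat.card {b : Fin (n + 1) → F // resultant (gp 2 a) (gp n b) 2 n ≠ 0} =
      (Nat.card F - 1) ^ 2 * Nat.card F ^ (n - 1) := by
  set ρ : F := -(a 0 / a 1) with hρ
  let φ : (Fin (n + 1) → F) →+ F × F :=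
    ((Polynomial.lcoeff F n).toAddMonoidHom.prod (Polynomial.leval ρ).toAddMonoidHom).comp (gpHom n)
  have hφ : Function.Surjective φ := by
    rintro ⟨x, y⟩
    obtain ⟨z, hz⟩ : ∃ z : F, z + x * ρ ^ n = y := ⟨y - x * ρ ^ n, by ring⟩
    have hdeg : (C z + C x * X ^ n : F[X]).natDegree ≤ n :=
      (natDegree_add_le _ _).trans (max_le ((natDegree_C _).le.trans (Nat.zero_le _)) (natDegree_C_mul_X_pow_le x n))
    refine ⟨fun j => (C z + C x * X ^ n : F[X]).coeff j, ?_⟩
    show ((gp n _).coeff n, (gp n _).eval ρ) = (x, y)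
    rw [gp_of_coeff n _ hdeg]
    have hn0 : n ≠ 0 := by omega
    simp [coeff_C, hn0, hz]
  have key := card_preimage_pow φ hφ {x : F × F | x.1 ≠ 0 ∧ x.2 ≠ 0} (Nat.card F) (n - 1) 2 card_pos
    (by rw [card_fin_fun]; congr 1; omega) (by rw [Nat.card_prod, sq])
  rw [card_prod_ne_ne] at key
  rw [← key]
  apply Nat.card_congr
  apply Equiv.subtypeEquivRight
  intro b
  rw [res_case2 a h2 h1 _ n (gp_natDegree_le n b)]
  show _ ↔ (gp n b).coeff n ≠ 0 ∧ (gp n b).eval ρ ≠ 0
  simp [h1, hρ]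

/-- Case 1: `f` of exact degree two. -/
theorem count_case1 (a : Fin 3 → F) (h2 : a 2 ≠ 0) (n : ℕ) (hn : 2 ≤ n) :
    Nat.card {b : Fin (n + 1) → F // resultant (gp 2 a) (gp n b) 2 n ≠ 0} =
      Nat.card ({r : F × F | Q a r ≠ 0} : Set (F × F)) * Nat.card F ^ (n - 1) := by
  obtain ⟨hm, hd⟩ := monic_aux a h2
  set f₁ := gp 2 ((a 2)⁻¹ • a) with hf₁
  let φ : (Fin (n + 1) → F) →+ F × F :=
    (((Polynomial.lcoeff F 0).toAddMonoidHom.prod (Polynomial.lcoeff F 1).toAddMonoidHom).comp
      (modByMonicHom f₁).toAddMonoidHom).comp (gpHom n)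
  have hφ : Function.Surjective φ := by
    rintro ⟨x, y⟩
    have hdeg1 : (C x + C y * X : F[X]).natDegree ≤ 1 :=
      (natDegree_add_le _ _).trans (max_le ((natDegree_C _).le.trans (Nat.zero_le _))
        ((natDegree_C_mul_le _ _).trans natDegree_X_le))
    refine ⟨fun j => (C x + C y * X : F[X]).coeff j, ?_⟩
    show (((gp n _) %ₘ f₁).coeff 0, ((gp n _) %ₘ f₁).coeff 1) = (x, y)
    rw [gp_of_coeff n _ (hdeg1.trans (by omega))]
    have hlt : (C x + C y * X : F[X]).degree < f₁.degree := by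
      rw [degree_eq_natDegree hm.ne_zero, hd]
      exact (degree_le_of_natDegree_le hdeg1).trans_lt (by norm_num)
    rw [(modByMonic_eq_self_iff hm).2 hlt]
    simp [coeff_C]
  have key := card_preimage_pow φ hφ {r : F × F | Q a r ≠ 0} (Nat.card F) (n - 1) 2 card_pos
    (by rw [card_fin_fun]; congr 1; omega) (by rw [Nat.card_prod, sq])
  rw [← key]
  apply Nat.card_congr
  apply Equiv.subtypeEquivRight
  intro b
  rw [res_case1 a h2 _ n hn (gp_natDegree_le n b), ← hf₁]
  show _ ↔ Q a (((gp n b) %ₘ f₁).coeff 0, ((gp n b) %ₘ f₁).coeff 1) ≠ 0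
  simp [h2]

end Groth.Agent.Lib.Seat93.ResCountC
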