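import Groth.Agent.Lib.Seat93ResCountC

/-!
# Counting lemmas for resultants (seat 93), part D: summing over the quadratic forms.
-/
set_option autoImplicit false
universe u

open Polynomial

namespace Groth.Agent.Lib.Seat93.ResCountD

open Groth.Agent.Lib.Seat93.ResCountA Groth.Agent.Lib.Seat93.ResCountB
  Groth.Agent.Lib.Seat93.ResCountC

set_option linter.unusedSectionVars false

variable {F : Type u} [Field F] [Fintype F]

theorem sum_ite_const {α : Type*} [Fintype α] (P : α → Prop) [DecidablePred P] (c : ℕ) :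
    ∑ x : α, (if P x then c else 0) = Nat.card {x // P x} * c := by
  rw [Finset.sum_ite, Finset.sum_const_zero, add_zero, Finset.sum_const, smul_eq_mul,
    Nat.card_eq_fintype_card, Fintype.card_subtype]

theorem card_prod_sigma {α β : Type*} [Fintype α] [Finite β] (P : α → β → Prop) :
    Nat.card {x : α × β // P x.1 x.2} = ∑ a : α, Nat.card {b : β // P a b} := by
  rw [Nat.card_congr (Equiv.subtypeProdEquivSigmaSubtype P), Nat.card_sigma]

theorem card_prod_sigma' {α β : Type*} [Finite α] [Fintype β] (P : α → β → Prop) :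
    Nat.card {x : α × β // P x.1 x.2} = ∑ b : β, Nat.card {a : α // P a b} := by
  rw [← card_prod_sigma (fun b a => P a b)]
  apply Nat.card_congr
  exact
    { toFun := fun x => ⟨(x.1.2, x.1.1), x.2⟩
      invFun := fun x => ⟨(x.1.2, x.1.1), x.2⟩
      left_inv := fun x => rfl
      right_inv := fun x => rfl }

/-- number of quadratic forms of exact degree one. -/
theorem card_A2 : Nat.card {a : Fin 3 → F // a 2 = 0 ∧ a 1 ≠ 0} = (Nat.card F - 1) * Nat.card F := by
  let φ : (Fin 3 → F) →+ F × F :=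
    (Pi.evalAddMonoidHom (fun _ : Fin 3 => F) 2).prod (Pi.evalAddMonoidHom (fun _ : Fin 3 => F) 1)
  have hφ : Function.Surjective φ := by
    rintro ⟨x, y⟩
    exact ⟨![0, y, x], rfl⟩
  have key := card_preimage_pow φ hφ {x : F × F | x.1 = 0 ∧ x.2 ≠ 0} (Nat.card F) 1 2 card_pos
    (by rw [card_fin_fun]) (by rw [Nat.card_prod, sq])
  rw [card_prod_eq_ne, pow_one] at key
  rw [← key]
  rfl

/-- number of nonzero constant quadratic forms. -/
theorem card_A3 : Nat.card {a : Fin 3 → F // a 2 = 0 ∧ a 1 = 0 ∧ a 0 ≠ 0} = Nat.card F - 1 := by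
  rw [← card_ne_zero (F := F)]
  apply Nat.card_congr
  exact
    { toFun := fun a => ⟨a.1 0, a.2.2.2⟩
      invFun := fun x => ⟨![x.1, 0, 0], rfl, rfl, x.2⟩
      left_inv := fun a => by
        obtain ⟨a, h2, h1, h0⟩ := a
        apply Subtype.ext
        funext i
        fin_cases i
        · rfl
        · exact h1.symm
        · exact h2.symm
      right_inv := fun x => rfl }

theorem Q_add (a a' : Fin 3 → F) (r : F × F) : Q (a + a') r = Q a r + Q a' r := by
  simp only [Q, Pi.add_apply]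
  ring

/-- `a ↦ Q a r` as an additive map. -/
def QHom (r : F × F) : (Fin 3 → F) →+ F where
  toFun := fun a => Q a r
  map_zero' := by simp [Q]
  map_add' := fun a a' => Q_add a a' r

theorem card_K1 (r : F × F) (hr : r.2 ≠ 0) :
    Nat.card {a : Fin 3 → F // a 2 ≠ 0 ∧ Q a r ≠ 0} = (Nat.card F - 1) ^ 2 * Nat.card F := by
  let φ : (Fin 3 → F) →+ F × F := (Pi.evalAddMonoidHom (fun _ : Fin 3 => F) 2).prod (QHom r)
  have hφ : Function.Surjective φ := by
    rintro ⟨x, y⟩
    refine ⟨![(y - x * r.1 ^ 2) / r.2 ^ 2, 0, x], ?_⟩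
    show ((![(y - x * r.1 ^ 2) / r.2 ^ 2, 0, x] : Fin 3 → F) 2,
      Q ![(y - x * r.1 ^ 2) / r.2 ^ 2, 0, x] r) = (x, y)
    have h2 : r.2 ^ 2 ≠ 0 := pow_ne_zero 2 hr
    simp only [Q, Matrix.cons_val_zero, Matrix.cons_val_one, Matrix.cons_val]
    refine Prod.ext rfl ?_
    show x * r.1 ^ 2 - 0 * r.1 * r.2 + (y - x * r.1 ^ 2) / r.2 ^ 2 * r.2 ^ 2 = y
    rw [div_mul_cancel₀ _ h2]
    ring
  have key := card_preimage_pow φ hφ {x : F × F | x.1 ≠ 0 ∧ x.2 ≠ 0} (Nat.card F) 1 2 card_pos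
    (by rw [card_fin_fun]) (by rw [Nat.card_prod, sq])
  rw [card_prod_ne_ne, pow_one] at key
  rw [← key]
  rfl

theorem card_K2 (r : F × F) (hr2 : r.2 = 0) (hr1 : r.1 ≠ 0) :
    Nat.card {a : Fin 3 → F // a 2 ≠ 0 ∧ Q a r ≠ 0} = (Nat.card F - 1) * Nat.card F ^ 2 := by
  let φ : (Fin 3 → F) →+ F := Pi.evalAddMonoidHom (fun _ : Fin 3 => F) 2
  have hφ : Function.Surjective φ := fun x => ⟨![0, 0, x], rfl⟩
  have key := card_preimage_pow φ hφ {x : F | x ≠ 0} (Nat.card F) 2 1 card_pos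
    (by rw [card_fin_fun]) (by rw [pow_one])
  rw [card_set_ne] at key
  rw [← key]
  apply Nat.card_congr
  apply Equiv.subtypeEquivRight
  intro a
  show _ ↔ a 2 ≠ 0
  simp [Q, hr2, hr1]

theorem card_K3 (r : F × F) (hr2 : r.2 = 0) (hr1 : r.1 = 0) :
    Nat.card {a : Fin 3 → F // a 2 ≠ 0 ∧ Q a r ≠ 0} = 0 := by
  have : IsEmpty {a : Fin 3 → F // a 2 ≠ 0 ∧ Q a r ≠ 0} := by
    constructor
    rintro ⟨a, -, h⟩
    apply h
    simp [Q, hr2, hr1]
  simp

theorem card_R1 : Nat.card {r : F × F // r.2 ≠ 0} = Nat.card F * (Nat.card F - 1) := by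
  rw [← card_ne_zero (F := F), ← Nat.card_prod]
  apply Nat.card_congr
  exact
    { toFun := fun r => (r.1.1, ⟨r.1.2, r.2⟩)
      invFun := fun p => ⟨(p.1, p.2.1), p.2.2⟩
      left_inv := fun r => rfl
      right_inv := fun p => rfl }

theorem card_R2 : Nat.card {r : F × F // r.2 = 0 ∧ r.1 ≠ 0} = Nat.card F - 1 := by
  rw [← card_ne_zero (F := F)]
  apply Nat.card_congr
  exact
    { toFun := fun r => ⟨r.1.1, r.2.2⟩
      invFun := fun x => ⟨(x.1, 0), rfl, x.2⟩
      left_inv := fun r => by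
        obtain ⟨⟨r1, r2⟩, h2, h1⟩ := r
        change r2 = 0 at h2
        subst h2
        rfl
      right_inv := fun x => rfl }

open Classical in
/-- the number of pairs (quadratic form of exact degree two, linear form) with nonzero resultant. -/
theorem card_pairs :
    Nat.card {x : (Fin 3 → F) × (F × F) // x.1 2 ≠ 0 ∧ Q x.1 x.2 ≠ 0} =
      Nat.card F * (Nat.card F - 1) * ((Nat.card F - 1) ^ 2 * Nat.card F) +
        (Nat.card F - 1) * ((Nat.card F - 1) * Nat.card F ^ 2) := by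
  rw [card_prod_sigma' (fun a r => a 2 ≠ 0 ∧ Q a r ≠ 0)]
  have hK : ∀ r : F × F, Nat.card {a : Fin 3 → F // a 2 ≠ 0 ∧ Q a r ≠ 0} =
      (if r.2 ≠ 0 then (Nat.card F - 1) ^ 2 * Nat.card F else 0) +
        (if r.2 = 0 ∧ r.1 ≠ 0 then (Nat.card F - 1) * Nat.card F ^ 2 else 0) := by
    intro r
    by_cases h2 : r.2 = 0
    · by_cases h1 : r.1 = 0
      · rw [card_K3 r h2 h1]; simp [h2, h1]
      · rw [card_K2 r h2 h1]; simp [h2, h1]
    · rw [card_K1 r h2]; simp [h2]
  simp_rw [hK]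
  rw [Finset.sum_add_distrib, sum_ite_const, sum_ite_const, card_R1, card_R2]

end Groth.Agent.Lib.Seat93.ResCountD
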