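import Groth.Agent.Lib.Seat93ResCountD

/-!
# Counting lemmas for resultants (seat 93), part E: the total counts.
-/
set_option autoImplicit false
universe u

open Polynomial

namespace Groth.Agent.Lib.Seat93.ResCountE

open Groth.Agent.Lib.Seat93.ResCountA Groth.Agent.Lib.Seat93.ResCountB
  Groth.Agent.Lib.Seat93.ResCountC Groth.Agent.Lib.Seat93.ResCountD

set_option linter.unusedSectionVars false

variable {F : Type u} [Field F] [Fintype F]

open Classical in
theorem count_fixed (a : Fin 3 → F) (n : ℕ) (hn : 2 ≤ n) :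
    Nat.card {b : Fin (n + 1) → F // resultant (gp 2 a) (gp n b) 2 n ≠ 0} =
      Nat.card {r : F × F // a 2 ≠ 0 ∧ Q a r ≠ 0} * Nat.card F ^ (n - 1) +
        (if a 2 = 0 ∧ a 1 ≠ 0 then (Nat.card F - 1) ^ 2 * Nat.card F ^ (n - 1) else 0) +
        (if a 2 = 0 ∧ a 1 = 0 ∧ a 0 ≠ 0 then (Nat.card F - 1) * Nat.card F ^ n else 0) := by
  by_cases h2 : a 2 = 0
  · have hempty : Nat.card {r : F × F // a 2 ≠ 0 ∧ Q a r ≠ 0} = 0 := by
      have : IsEmpty {r : F × F // a 2 ≠ 0 ∧ Q a r ≠ 0} := ⟨fun r => r.2.1 h2⟩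
      simp
    by_cases h1 : a 1 = 0
    · rw [count_case3 a h2 h1 n (by omega), hempty]
      by_cases h0 : a 0 = 0 <;> simp [h2, h1, h0]
    · rw [count_case2 a h2 h1 n (by omega), hempty]
      simp [h2, h1]
  · rw [count_case1 a h2 n hn]
    have : Nat.card ({r : F × F | Q a r ≠ 0} : Set (F × F)) =
        Nat.card {r : F × F // a 2 ≠ 0 ∧ Q a r ≠ 0} := by
      apply Nat.card_congr
      apply Equiv.subtypeEquivRight
      intro r
      show Q a r ≠ 0 ↔ _
      simp [h2]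
    rw [this]
    simp [h2]

/-- The number of pairs (binary quadratic form, binary form of degree `n`) with nonzero resultant. -/
theorem card_res_ne_zero (n : ℕ) (hn : 2 ≤ n) :
    Nat.card {p : (Fin 3 → F) × (Fin (n + 1) → F) // resultant (gp 2 p.1) (gp n p.2) 2 n ≠ 0} =
      Nat.card F ^ (n + 1) * (Nat.card F - 1) ^ 2 * (Nat.card F + 1) := by
  classical
  rw [card_prod_sigma (fun a b => resultant (gp 2 a) (gp n b) 2 n ≠ 0)]
  simp_rw [count_fixed _ n hn]
  rw [Finset.sum_add_distrib, Finset.sum_add_distrib, sum_ite_const, sum_ite_const, card_A2, card_A3,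
    ← Finset.sum_mul, ← card_prod_sigma (fun (a : Fin 3 → F) (r : F × F) => a 2 ≠ 0 ∧ Q a r ≠ 0),
    card_pairs]
  obtain ⟨s, hs⟩ : ∃ s, Nat.card F = s + 1 := ⟨Nat.card F - 1, by have := card_pos (F := F); omega⟩
  obtain ⟨m, rfl⟩ : ∃ m, n = m + 1 := ⟨n - 1, by omega⟩
  rw [hs]
  simp only [Nat.add_sub_cancel]
  ring

end Groth.Agent.Lib.Seat93.ResCountE
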