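import Groth.Agent.Lib.Seat93ResCountE

/-!
# Counting lemmas for resultants (seat 93), part F: resultant equal to one, odd degree.
-/
set_option autoImplicit false
universe u

open Polynomial

namespace Groth.Agent.Lib.Seat93.ResCountF

open Groth.Agent.Lib.Seat93.ResCountA Groth.Agent.Lib.Seat93.ResCountB
  Groth.Agent.Lib.Seat93.ResCountC Groth.Agent.Lib.Seat93.ResCountD Groth.Agent.Lib.Seat93.ResCountE

set_option linter.unusedSectionVars false

variable {F : Type u} [Field F]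

/-- The resultant of a pair of coefficient vectors. -/
noncomputable def R (n : ℕ) (p : (Fin 3 → F) × (Fin (n + 1) → F)) : F :=
  resultant (gp 2 p.1) (gp n p.2) 2 n

/-- The weighted scaling action making the resultant homogeneous of degree one (`n = 2k+1`). -/
def act (k : ℕ) {n : ℕ} (c : F) (p : (Fin 3 → F) × (Fin (n + 1) → F)) :
    (Fin 3 → F) × (Fin (n + 1) → F) := (c • p.1, (c⁻¹) ^ k • p.2)

theorem R_act (k : ℕ) (c : F) (hc : c ≠ 0) (p : (Fin 3 → F) × (Fin (2 * k + 1 + 1) → F)) :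
    R (2 * k + 1) (act k c p) = c * R (2 * k + 1) p := by
  unfold R act
  simp only
  rw [gp_smul, gp_smul, resultant_C_mul_left, resultant_C_mul_right, ← mul_assoc]
  congr 1
  rw [← pow_mul, pow_succ, inv_pow, mul_comm (c ^ (2 * k)) c, mul_assoc, mul_comm k 2,
    mul_inv_cancel₀ (pow_ne_zero _ hc), mul_one]

theorem act_act_inv (k : ℕ) {n : ℕ} (c : F) (hc : c ≠ 0) (p : (Fin 3 → F) × (Fin (n + 1) → F)) :
    act k c (act k c⁻¹ p) = p := by
  unfold act
  ext i
  · simp [hc]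
  · simp only [inv_inv, Pi.smul_apply, smul_eq_mul]
    rw [← mul_assoc, ← mul_pow, inv_mul_cancel₀ hc, one_pow, one_mul]

theorem act_inv_act (k : ℕ) {n : ℕ} (c : F) (hc : c ≠ 0) (p : (Fin 3 → F) × (Fin (n + 1) → F)) :
    act k c⁻¹ (act k c p) = p := by
  have := act_act_inv k c⁻¹ (inv_ne_zero hc) p
  rwa [inv_inv] at this

/-- the locus `Res ≠ 0` is the product of the nonzero scalars and the locus `Res = 1`. -/
noncomputable def equivOne (k : ℕ) :
    {p : (Fin 3 → F) × (Fin (2 * k + 1 + 1) → F) // R (2 * k + 1) p ≠ 0} ≃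
      {c : F // c ≠ 0} × {p : (Fin 3 → F) × (Fin (2 * k + 1 + 1) → F) // R (2 * k + 1) p = 1} where
  toFun p := (⟨R (2 * k + 1) p.1, p.2⟩, ⟨act k (R (2 * k + 1) p.1)⁻¹ p.1, by
    rw [R_act k _ (inv_ne_zero p.2), inv_mul_cancel₀ p.2]⟩)
  invFun x := ⟨act k x.1.1 x.2.1, by
    rw [R_act k _ x.1.2, x.2.2, mul_one]; exact x.1.2⟩
  left_inv p := by
    apply Subtype.ext
    exact act_act_inv k _ p.2 p.1
  right_inv x := by
    obtain ⟨⟨c, hc⟩, ⟨p, hp⟩⟩ := x
    have h1 : R (2 * k + 1) (act k c p) = c := by rw [R_act k _ hc, hp, mul_one]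
    refine Prod.ext (Subtype.ext h1) (Subtype.ext ?_)
    show act k (R (2 * k + 1) (act k c p))⁻¹ (act k c p) = p
    rw [h1, act_inv_act k c hc]

variable [Fintype F]

theorem card_res_eq_one (n : ℕ) (hodd : Odd n) (hn : 3 ≤ n) :
    Nat.card {p : (Fin 3 → F) × (Fin (n + 1) → F) // resultant (gp 2 p.1) (gp n p.2) 2 n = 1} =
      Nat.card F ^ (n + 1) * (Nat.card F - 1) * (Nat.card F + 1) := by
  obtain ⟨k, rfl⟩ := hodd
  have h1 := card_res_ne_zero (F := F) (2 * k + 1) (by omega)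
  have h2 := Nat.card_congr (equivOne (F := F) k)
  rw [Nat.card_prod, card_ne_zero] at h2
  have h3 : Nat.card {p : (Fin 3 → F) × (Fin (2 * k + 1 + 1) → F) // R (2 * k + 1) p ≠ 0} =
      Nat.card F ^ (2 * k + 1 + 1) * (Nat.card F - 1) ^ 2 * (Nat.card F + 1) := h1
  rw [h3] at h2
  have hpos : 0 < Nat.card F - 1 := by
    have := Fintype.one_lt_card (α := F)
    rw [Nat.card_eq_fintype_card]; omega
  have h4 : (Nat.card F - 1) * Nat.card {p : (Fin 3 → F) × (Fin (2 * k + 1 + 1) → F) //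
      R (2 * k + 1) p = 1} = (Nat.card F - 1) *
        (Nat.card F ^ (2 * k + 1 + 1) * (Nat.card F - 1) * (Nat.card F + 1)) := by
    rw [← h2]; ring
  exact Nat.eq_of_mul_eq_mul_left hpos h4

end Groth.Agent.Lib.Seat93.ResCountF
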