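import Mathlib

/-!
# Two linear-algebra lemmas on generators and syzygies (seat 93)

* `ker_le_span`: generators of the kernel of a surjection from a finitely generated module onto a finitely
  presented one.
* `syz_coker`: syzygies of the images of generators in a cokernel.
-/

set_option autoImplicit false

namespace Groth.Agent.Lib.Seat93.SyzAlg

variable {A : Type*} [CommRing A] {G F Q : Type*} [AddCommGroup G] [Module A G] [AddCommGroup F] [Module A F]
  [AddCommGroup Q] [Module A Q]
variable {τ ι κ : Type*} [Fintype τ] [Fintype ι] [Fintype κ]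

/-- Let `θ : G → F` be linear, `t` generators of `G`, `s` elements of `F` with lifts `g`, `θ (t j) = ∑ a j i • s i`,
and suppose all syzygies of `s` are combinations of the `r k`. Then `ker θ` is generated by the elements
`t j - ∑ a j i • g i` and `∑ r k i • g i`. -/
theorem ker_le_span (θ : G →ₗ[A] F) (t : τ → G) (ht : Submodule.span A (Set.range t) = ⊤)
    (s : ι → F) (g : ι → G) (hg : ∀ i, θ (g i) = s i)
    (a : τ → ι → A) (ha : ∀ j, θ (t j) = ∑ i, a j i • s i)
    (r : κ → ι → A)
    (hr : ∀ c : ι → A, ∑ i, c i • s i = 0 → c ∈ Submodule.span A (Set.range r)) :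
    LinearMap.ker θ ≤ Submodule.span A
      (Set.range (Sum.elim (fun j => t j - ∑ i, a j i • g i) (fun k => ∑ i, r k i • g i))) := by
  intro e he
  rw [LinearMap.mem_ker] at he
  set N := Submodule.span A
      (Set.range (Sum.elim (fun j => t j - ∑ i, a j i • g i) (fun k => ∑ i, r k i • g i))) with hN
  have hz : ∀ j, t j - ∑ i, a j i • g i ∈ N := fun j => Submodule.subset_span ⟨Sum.inl j, rfl⟩
  have hw : ∀ k, ∑ i, r k i • g i ∈ N := fun k => Submodule.subset_span ⟨Sum.inr k, rfl⟩
  have he' : e ∈ Submodule.span A (Set.range t) := by rw [ht]; trivial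
  obtain ⟨c, rfl⟩ := (Submodule.mem_span_range_iff_exists_fun A).1 he'
  -- the vector v i = ∑ j, c j * a j i is a syzygy
  let v : ι → A := fun i => ∑ j, c j * a j i
  have hv : ∑ i, v i • s i = 0 := by
    rw [← he, map_sum]
    simp only [v, Finset.sum_smul, map_smul, ha, Finset.smul_sum, smul_smul]
    rw [Finset.sum_comm]
  have hv' := hr v hv
  obtain ⟨d, hd⟩ := (Submodule.mem_span_range_iff_exists_fun A).1 hv'
  have key : ∑ j, c j • t j = ∑ j, c j • (t j - ∑ i, a j i • g i) + ∑ k, d k • ∑ i, r k i • g i := by
    have h1 : ∑ k, d k • ∑ i, r k i • g i = ∑ i, v i • g i := by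
      simp only [Finset.smul_sum, smul_smul]
      rw [Finset.sum_comm]
      refine Finset.sum_congr rfl (fun i _ => ?_)
      rw [← Finset.sum_smul]
      congr 1
      have := congrFun hd i
      simp only [Finset.sum_apply, Pi.smul_apply, smul_eq_mul] at this
      exact this
    have h2 : ∑ i, v i • g i = ∑ j, c j • ∑ i, a j i • g i := by
      simp only [v, Finset.sum_smul, Finset.smul_sum, smul_smul]
      rw [Finset.sum_comm]
    rw [h1, h2, ← Finset.sum_add_distrib]
    refine Finset.sum_congr rfl (fun j _ => ?_)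
    rw [← smul_add, sub_add_cancel]
  rw [key]
  exact N.add_mem (Submodule.sum_mem _ fun j _ => N.smul_mem _ (hz j))
    (Submodule.sum_mem _ fun k _ => N.smul_mem _ (hw k))

/-- Let `φ : G → F`, `q : F → Q` with `ker q = range φ`, `t` generators of `G`, `s` elements of `F` with
`φ (t j) = ∑ a j i • s i`, and suppose all syzygies of `s` are combinations of the `r k`. Then all syzygies
of the `q (s i)` are combinations of the `r k` and the `a j`. -/
theorem syz_coker (φ : G →ₗ[A] F) (q : F →ₗ[A] Q) (hq : LinearMap.ker q ≤ LinearMap.range φ)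
    (t : τ → G) (ht : Submodule.span A (Set.range t) = ⊤)
    (s : ι → F) (a : τ → ι → A) (ha : ∀ j, φ (t j) = ∑ i, a j i • s i)
    (r : κ → ι → A)
    (hr : ∀ c : ι → A, ∑ i, c i • s i = 0 → c ∈ Submodule.span A (Set.range r))
    (c : ι → A) (hc : ∑ i, c i • q (s i) = 0) :
    c ∈ Submodule.span A (Set.range (Sum.elim r a)) := by
  have h1 : ∑ i, c i • s i ∈ LinearMap.ker q := by
    rw [LinearMap.mem_ker, map_sum]
    simpa only [map_smul] using hc
  obtain ⟨e, he⟩ := hq h1
  have he' : e ∈ Submodule.span A (Set.range t) := by rw [ht]; trivial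
  obtain ⟨d, rfl⟩ := (Submodule.mem_span_range_iff_exists_fun A).1 he'
  let v : ι → A := fun i => ∑ j, d j * a j i
  have hv : ∑ i, (c i - v i) • s i = 0 := by
    simp only [sub_smul, Finset.sum_sub_distrib]
    rw [← he, map_sum, sub_eq_zero]
    simp only [v, Finset.sum_smul, map_smul, ha, Finset.smul_sum, smul_smul]
    rw [Finset.sum_comm]
  have hv' := hr _ hv
  have hsub : Submodule.span A (Set.range r) ≤ Submodule.span A (Set.range (Sum.elim r a)) := by
    apply Submodule.span_mono
    rintro _ ⟨k, rfl⟩
    exact ⟨Sum.inl k, rfl⟩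
  have hvmem : v ∈ Submodule.span A (Set.range (Sum.elim r a)) := by
    have : v = ∑ j, d j • a j := by
      funext i
      simp only [v, Finset.sum_apply, Pi.smul_apply, smul_eq_mul]
    rw [this]
    exact Submodule.sum_mem _ fun j _ => Submodule.smul_mem _ _ (Submodule.subset_span ⟨Sum.inr j, rfl⟩)
  have : c = (fun i => c i - v i) + v := by funext i; simp
  rw [this]
  exact Submodule.add_mem _ (hsub hv') hvmem

end Groth.Agent.Lib.Seat93.SyzAlg
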