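import Mathlib

/-!
# Zero-dimensional Noetherian T0 spaces are finite and discrete (seat 93)
-/
set_option autoImplicit false

namespace Groth.Agent.Lib.Seat93.ZeroDim

open TopologicalSpace

variable (Z : Type*) [TopologicalSpace Z]

/-- In a T0 space of Krull dimension `≤ 0` every point is closed. -/
theorem t1Space_of_dim_le_zero [T0Space Z] (h : topologicalKrullDim Z ≤ 0) : T1Space Z := by
  have hmin : ∀ x : IrreducibleCloseds Z, IsMin x := Order.krullDim_nonpos_iff_forall_isMin.mp h
  refine ⟨fun z => ?_⟩
  have hcl : closure ({z} : Set Z) = {z} := by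
    apply Set.Subset.antisymm _ subset_closure
    intro z' hz'
    let Cz : IrreducibleCloseds Z := ⟨closure {z}, isIrreducible_singleton.closure, isClosed_closure⟩
    let Cz' : IrreducibleCloseds Z := ⟨closure {z'}, isIrreducible_singleton.closure, isClosed_closure⟩
    have hle : Cz' ≤ Cz := by
      change closure ({z'} : Set Z) ⊆ closure {z}
      exact closure_minimal (Set.singleton_subset_iff.2 hz') isClosed_closure
    have hge : Cz ≤ Cz' := hmin Cz hle
    have hz : z ∈ closure ({z'} : Set Z) := hge (subset_closure rfl)
    have h1 : z' ⤳ z := specializes_iff_mem_closure.2 hz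
    have h2 : z ⤳ z' := specializes_iff_mem_closure.2 hz'
    exact (h1.antisymm h2).eq
  rw [← hcl]
  exact isClosed_closure

/-- A Noetherian T0 space of Krull dimension `≤ 0` is finite. -/
theorem finite_of_dim_le_zero [T0Space Z] [NoetherianSpace Z] (h : topologicalKrullDim Z ≤ 0) :
    Finite Z := by
  haveI := t1Space_of_dim_le_zero Z h
  have hmax : ∀ x : IrreducibleCloseds Z, IsMax x := Order.krullDim_nonpos_iff_forall_isMax.mp h
  have hfin : (irreducibleComponents Z).Finite := NoetherianSpace.finite_irreducibleComponents
  have hsing : ∀ C ∈ irreducibleComponents Z, C.Finite := by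
    intro C hC
    have hCirr : IsIrreducible C := hC.1
    have hCcl : IsClosed C := isClosed_of_mem_irreducibleComponents C hC
    obtain ⟨z, hz⟩ := hCirr.nonempty
    let Cz : IrreducibleCloseds Z := ⟨{z}, isIrreducible_singleton, isClosed_singleton⟩
    let CC : IrreducibleCloseds Z := ⟨C, hCirr, hCcl⟩
    have hle : Cz ≤ CC := by
      change ({z} : Set Z) ⊆ C
      exact Set.singleton_subset_iff.2 hz
    have hge : CC ≤ Cz := hmax Cz hle
    have : C ⊆ {z} := hge
    exact (Set.finite_singleton z).subset this
  have huniv : (Set.univ : Set Z).Finite := by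
    rw [← sUnion_irreducibleComponents]
    exact hfin.sUnion hsing
  exact Set.finite_univ_iff.1 huniv

end Groth.Agent.Lib.Seat93.ZeroDim
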