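import Mathlib

/-!
# Clopen subsets of affine schemes, idempotents, and base change of module presentations (seat 94)
-/

set_option autoImplicit false
universe u

open CategoryTheory CategoryTheory.Limits AlgebraicGeometry TopologicalSpace

namespace Groth.Agent.Lib.Seat94.AffIdem

section Prime

variable {R : Type u} [CommRing R]

lemma prime_basicOpen_le_iSup_iff {ι : Type*} (e : R) (v : ι → R) :
    PrimeSpectrum.basicOpen e ≤ ⨆ k, PrimeSpectrum.basicOpen (v k) ↔
      e ∈ (Ideal.span (Set.range v)).radical := by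
  rw [← SetLike.coe_subset_coe, Opens.coe_iSup]
  simp only [PrimeSpectrum.basicOpen_eq_zeroLocus_compl, ← Set.compl_iInter,
    ← PrimeSpectrum.zeroLocus_iUnion, Set.compl_subset_compl, Set.iUnion_singleton_eq_range]
  rw [← PrimeSpectrum.zeroLocus_span (Set.range v), ← PrimeSpectrum.zeroLocus_span {e},
    PrimeSpectrum.zeroLocus_subset_zeroLocus_iff, Ideal.span_le, Set.singleton_subset_iff, SetLike.mem_coe]

lemma mem_of_idem_of_mem_radical {I : Ideal R} {e : R} (he : e * e = e) (h : e ∈ I.radical) : e ∈ I := by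
  obtain ⟨N, hN⟩ := h
  have hpow : ∀ k : ℕ, e ^ (k + 1) = e := fun k => by
    induction k with
    | zero => simp
    | succ k ih => rw [pow_succ, ih, he]
  cases N with
  | zero =>
    rw [pow_zero] at hN
    rw [(Ideal.eq_top_iff_one I).2 hN]
    trivial
  | succ k => rwa [hpow k] at hN

end Prime

section Affine

variable (T : Scheme.{u}) [IsAffine T]

lemma basicOpen_le_iSup_iff {ι : Type*} (e : Γ(T, ⊤)) (v : ι → Γ(T, ⊤)) :
    T.basicOpen e ≤ ⨆ k, T.basicOpen (v k) ↔ e ∈ (Ideal.span (Set.range v)).radical := by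
  rw [← prime_basicOpen_le_iSup_iff]
  simp only [← Scheme.toSpecΓ_preimage_basicOpen]
  rw [← Scheme.Hom.preimage_iSup]
  constructor
  · intro h x hx
    obtain ⟨y, rfl⟩ := T.isoSpec.hom.surjective x
    exact h hx
  · intro h
    exact Scheme.Hom.preimage_mono _ h

lemma isClosed_basicOpen_of_idem (e : Γ(T, ⊤)) (he : e * e = e) : IsClosed (T.basicOpen e : Set T) := by
  rw [← Scheme.toSpecΓ_preimage_basicOpen]
  show IsClosed (T.toSpecΓ ⁻¹' (PrimeSpectrum.basicOpen e : Set (PrimeSpectrum Γ(T, ⊤))))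
  refine IsClosed.preimage T.toSpecΓ.continuous ?_
  exact (PrimeSpectrum.isClopen_iff.2 ⟨e, he, rfl⟩).1

lemma exists_idempotent_of_isClopen (W : T.Opens) (hW : IsClosed (W : Set T)) :
    ∃ e : Γ(T, ⊤), e * e = e ∧ T.basicOpen e = W := by
  let φ := T.isoSpec.hom.homeomorph
  have hcl : IsClopen (φ '' (W : Set T)) :=
    ⟨(φ.isClosed_image).2 hW, (φ.isOpen_image).2 W.2⟩
  obtain ⟨e, he, hs⟩ := PrimeSpectrum.isClopen_iff.1 hcl
  refine ⟨e, he, ?_⟩
  rw [← Scheme.toSpecΓ_preimage_basicOpen]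
  ext x
  show T.toSpecΓ x ∈ (PrimeSpectrum.basicOpen e : Set (PrimeSpectrum Γ(T, ⊤))) ↔ x ∈ W
  rw [← hs]
  constructor
  · rintro ⟨y, hy, hxy⟩
    have : y = x := φ.injective hxy
    exact this ▸ hy
  · intro hx
    exact ⟨x, hx, rfl⟩

end Affine

section Pushout

open TensorProduct

/-- base change of a presentation of a module along a pushout of rings. -/
theorem pushout_conditions {A B A' B' : CommRingCat.{u}} (φ : A ⟶ B) (ρ : A ⟶ A') (β' : B ⟶ B') (α' : A' ⟶ B')
    (h : IsPushout φ ρ β' α') {n m : ℕ} (b : Fin n → B) (r : Fin m → Fin n → A)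
    (hb : ∀ y : B, ∃ u : Fin n → A, y = ∑ i, φ (u i) * b i)
    (hrel : ∀ u : Fin n → A, ∑ i, φ (u i) * b i = 0 → ∃ c : Fin m → A, ∀ i, u i = ∑ t, c t * r t i) :
    (∀ y : B', ∃ a : Fin n → A', y = ∑ i, α' (a i) * β' (b i)) ∧
    (∀ a : Fin n → A', ∑ i, α' (a i) * β' (b i) = 0 →
      ∃ z : Fin m → A', ∀ i, a i = ∑ t, z t * ρ (r t i)) := by
  let _ : Algebra A B := φ.hom.toAlgebra
  let _ : Algebra A A' := ρ.hom.toAlgebra
  have hφ : ∀ a : A, algebraMap A B a = φ a := fun _ => rfl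
  have hρ : ∀ a : A, algebraMap A A' a = ρ a := fun _ => rfl
  have hten := CommRingCat.isPushout_tensorProduct A B A'
  have hφ' : CommRingCat.ofHom (algebraMap A B) = φ := rfl
  have hρ' : CommRingCat.ofHom (algebraMap A A') = ρ := rfl
  rw [hφ', hρ'] at hten
  let ε := hten.isoIsPushout _ _ h
  have hε1 : ∀ y : B, ε.hom (y ⊗ₜ[A] (1 : A')) = β' y := fun y =>
    congr($(hten.inl_isoIsPushout_hom _ _ h).hom y)
  have hε2 : ∀ a : A', ε.hom ((1 : B) ⊗ₜ[A] a) = α' a := fun a =>
    congr($(hten.inr_isoIsPushout_hom _ _ h).hom a)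
  have hεt : ∀ (y : B) (a : A'), ε.hom (y ⊗ₜ[A] a) = α' a * β' y := fun y a => by
    have : y ⊗ₜ[A] a = ((1 : B) ⊗ₜ[A] a) * (y ⊗ₜ[A] (1 : A')) := by
      rw [Algebra.TensorProduct.tmul_mul_tmul, one_mul, mul_one]
    rw [this, map_mul, hε1, hε2]
  have hsum : ∀ a : Fin n → A', ε.hom (∑ i, b i ⊗ₜ[A] a i) = ∑ i, α' (a i) * β' (b i) := fun a => by
    rw [map_sum]
    exact Finset.sum_congr rfl fun i _ => hεt _ _
  have hεinj : Function.Injective ε.hom := by
    intro x y hxy
    have := congr(ε.inv $hxy)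
    simpa using this
  have hεsurj : Function.Surjective ε.hom := fun y => ⟨ε.inv y, by simp⟩
  have hspanB : Submodule.span A (Set.range b) = ⊤ := by
    rw [eq_top_iff]
    rintro y -
    obtain ⟨u, rfl⟩ := hb y
    refine Submodule.sum_mem _ fun i _ => ?_
    rw [← hφ, ← Algebra.smul_def]
    exact Submodule.smul_mem _ _ (Submodule.subset_span ⟨i, rfl⟩)
  constructor
  · intro y
    obtain ⟨τ, rfl⟩ := hεsurj y
    suffices hτ : ∃ a : Fin n → A', τ = ∑ i, b i ⊗ₜ[A] a i by
      obtain ⟨a, rfl⟩ := hτ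
      exact ⟨a, hsum a⟩
    induction τ using TensorProduct.induction_on with
    | zero => exact ⟨0, by simp⟩
    | tmul y a =>
      obtain ⟨u, rfl⟩ := hb y
      refine ⟨fun i => u i • a, ?_⟩
      rw [TensorProduct.sum_tmul]
      refine Finset.sum_congr rfl fun i _ => ?_
      rw [← hφ, ← Algebra.smul_def, TensorProduct.smul_tmul]
    | add x y hx hy =>
      obtain ⟨a, rfl⟩ := hx
      obtain ⟨a', rfl⟩ := hy
      refine ⟨a + a', ?_⟩
      simp only [Pi.add_apply, TensorProduct.tmul_add, Finset.sum_add_distrib]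
  · intro a ha
    rw [← hsum a] at ha
    have h0 : ∑ i, b i ⊗ₜ[A] a i = 0 := hεinj (ha.trans (map_zero _).symm)
    obtain ⟨k, c, y, hay, hcb⟩ := TensorProduct.vanishesTrivially_of_sum_tmul_eq_zero A hspanB h0
    -- each column of `c` is a combination of the relations
    have hcol : ∀ j : Fin k, ∃ l : Fin m → A, ∀ i, c i j = ∑ t, l t * r t i := fun j => by
      refine hrel (fun i => c i j) ?_
      rw [← hcb j]
      refine Finset.sum_congr rfl fun i _ => ?_
      rw [← hφ, ← Algebra.smul_def]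
    choose l hl using hcol
    refine ⟨fun t => ∑ j, l j t • y j, fun i => ?_⟩
    rw [hay i]
    simp only [hl, Finset.sum_smul, Finset.sum_mul]
    rw [Finset.sum_comm]
    refine Finset.sum_congr rfl fun t _ => Finset.sum_congr rfl fun j _ => ?_
    simp only [Algebra.smul_def, hρ, map_mul]
    ring

end Pushout

end Groth.Agent.Lib.Seat94.AffIdem
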