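import Mathlib

/-!
# Seat94: flat birational morphisms of integral schemes

* `bijective_stalkMap`: a flat dominant morphism of integral schemes inducing an isomorphism on
  function fields is bijective on all stalks.
* `injective_of_isIso_stalkMap`: a separated morphism of integral schemes with all stalk maps
  isomorphisms is injective on points.
* `isIso_of_flat`: a flat, surjective, separated, birational morphism of integral schemes which is
  affine or locally of finite presentation is an isomorphism.
-/

set_option autoImplicit false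
open CategoryTheory AlgebraicGeometry TopologicalSpace
universe u

namespace Groth.Agent.Lib.Seat94.BiratFlat

/-- Over an integral scheme, every element of the stalk at the generic point is a fraction of
elements of the stalk at any point. -/
theorem exists_frac {X : Scheme.{u}} [IsIntegral X] (η x : X) (hη : η = genericPoint X)
    (h : η ⤳ x) (c : X.presheaf.stalk η) :
    ∃ a₁ a₂ : X.presheaf.stalk x, a₂ ≠ 0 ∧
      c * (X.presheaf.stalkSpecializes h).hom a₂ = (X.presheaf.stalkSpecializes h).hom a₁ := by
  subst hη
  obtain ⟨⟨a₁, a₂⟩, h12⟩ := IsLocalization.surj (nonZeroDivisors (X.presheaf.stalk x)) c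
  exact ⟨a₁, a₂.1, nonZeroDivisors.ne_zero a₂.2, h12⟩

/-- a flat local homomorphism of local domains which induces an isomorphism of "fraction fields" is
bijective. -/
theorem bijective_of_flat_of_frac {A B K L : Type u} [CommRing A] [CommRing B] [CommRing K]
    [CommRing L] [IsLocalRing A] [IsLocalRing B] [IsDomain B]
    (φ : A →+* B) [IsLocalHom φ] (hφ : φ.Flat)
    (s : A →+* K) (s' : B →+* L) (ψ : K →+* L) (hψ : Function.Bijective ψ)
    (hs' : Function.Injective s') (hcomm : ψ.comp s = s'.comp φ)
    (hfrac : ∀ c : K, ∃ a₁ a₂ : A, a₂ ≠ 0 ∧ c * s a₂ = s a₁) :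
    Function.Bijective φ := by
  algebraize [φ]
  have : Module.FaithfullyFlat A B := Module.FaithfullyFlat.of_flat_of_isLocalHom
  have hinj : Function.Injective φ := FaithfulSMul.algebraMap_injective A B
  refine ⟨hinj, fun b => ?_⟩
  obtain ⟨c, hc⟩ := hψ.2 (s' b)
  obtain ⟨a₁, a₂, ha₂, h12⟩ := hfrac c
  have h1 : b * φ a₂ = φ a₁ := by
    apply hs'
    have e1 : ψ (s a₂) = s' (φ a₂) := RingHom.congr_fun hcomm a₂
    have e2 : ψ (s a₁) = s' (φ a₁) := RingHom.congr_fun hcomm a₁
    rw [map_mul, ← hc, ← e1, ← map_mul, h12, e2]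
  have h2 : a₁ ∈ Ideal.span {a₂} := by
    rw [← Ideal.comap_map_eq_self_of_faithfullyFlat (B := B) (Ideal.span {a₂}), Ideal.mem_comap,
      Ideal.map_span, Set.image_singleton, Ideal.mem_span_singleton]
    exact ⟨b, by rw [mul_comm]; exact h1.symm⟩
  obtain ⟨a, rfl⟩ := Ideal.mem_span_singleton.mp h2
  refine ⟨a, ?_⟩
  have h3 : φ a₂ ≠ 0 := fun h0 => ha₂ (hinj (by rw [h0, map_zero]))
  have h4 : φ a₂ * φ a = φ a₂ * b := by rw [← map_mul, ← h1, mul_comm]
  exact mul_left_cancel₀ h3 h4

/-- a dominant morphism of integral schemes maps the generic point to the generic point. -/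
theorem map_genericPoint {X' X : Scheme.{u}} [IsIntegral X'] [IsIntegral X]
    (f : X' ⟶ X) [IsDominant f] : f (genericPoint X') = genericPoint X := by
  apply ((genericPoint_spec X).eq _).symm
  have := (genericPoint_spec X').image f.continuous
  rwa [Set.image_univ, f.denseRange.closure_range] at this

/-- a flat dominant morphism of integral schemes inducing an isomorphism on function fields is
bijective on all stalks. -/
theorem bijective_stalkMap {X' X : Scheme.{u}} [IsIntegral X'] [IsIntegral X]
    (f : X' ⟶ X) [IsDominant f] [Flat f] (hK : IsIso (f.stalkMap (genericPoint X'))) (x' : X') :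
    Function.Bijective (f.stalkMap x').hom := by
  have h : genericPoint X' ⤳ x' := (genericPoint_spec X').specializes trivial
  refine bijective_of_flat_of_frac (f.stalkMap x').hom (Flat.stalkMap f x')
    (X.presheaf.stalkSpecializes (f.base.hom.map_specializes h)).hom
    (X'.presheaf.stalkSpecializes h).hom (f.stalkMap (genericPoint X')).hom
    (ConcreteCategory.bijective_of_isIso _) ?_ ?_ ?_
  · exact IsFractionRing.injective (X'.presheaf.stalk x') X'.functionField
  · rw [← CommRingCat.hom_comp, ← CommRingCat.hom_comp, Scheme.Hom.stalkSpecializes_stalkMap]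
  · exact exists_frac _ _ (map_genericPoint f) _

/-- `Spec` of an injective ring homomorphism is dominant. -/
theorem isDominant_SpecMap_of_injective {R S : CommRingCat.{u}} (φ : R ⟶ S)
    (h : Function.Injective φ.hom) : IsDominant (Spec.map φ) := by
  constructor
  change DenseRange (PrimeSpectrum.comap φ.hom)
  rw [PrimeSpectrum.denseRange_comap_iff_ker_le_nilRadical,
    (RingHom.injective_iff_ker_eq_bot φ.hom).mp h]
  exact bot_le

set_option backward.isDefEq.respectTransparency false in
theorem SpecMap_stalkSpecializes_closedPoint_of_eq {X : Scheme.{u}} (y₁ y₂ : X) (e : y₁ = y₂) :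
    Spec.map (X.presheaf.stalkSpecializes (specializes_of_eq e))
      (IsLocalRing.closedPoint (X.presheaf.stalk y₁)) =
      IsLocalRing.closedPoint (X.presheaf.stalk y₂) := by
  subst e
  have : X.presheaf.stalkSpecializes (specializes_of_eq (rfl : y₁ = y₁)) = 𝟙 _ :=
    TopCat.Presheaf.stalkSpecializes_refl _ _
  rw [this, Spec.map_id]
  rfl

set_option backward.isDefEq.respectTransparency false in
/-- a separated morphism of integral schemes all of whose stalk maps are isomorphisms is injective
on points. -/
theorem injective_of_isIso_stalkMap {X' X : Scheme.{u}} [IsIntegral X'] [IsIntegral X]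
    (f : X' ⟶ X) [IsSeparated f] [∀ x', IsIso (f.stalkMap x')] :
    Function.Injective f.base := by
  intro x₁ x₂ e
  have h₁ : genericPoint X' ⤳ x₁ := (genericPoint_spec X').specializes trivial
  have h₂ : genericPoint X' ⤳ x₂ := (genericPoint_spec X').specializes trivial
  have h₁₂ : f x₁ ⤳ f x₂ := specializes_of_eq e
  let g₁ : Spec (X.presheaf.stalk (f x₁)) ⟶ X' :=
    Spec.map (inv (f.stalkMap x₁)) ≫ X'.fromSpecStalk x₁
  let g₂ : Spec (X.presheaf.stalk (f x₁)) ⟶ X' :=
    Spec.map (X.presheaf.stalkSpecializes h₁₂) ≫ Spec.map (inv (f.stalkMap x₂)) ≫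
      X'.fromSpecStalk x₂
  have hg₁ : g₁ ≫ f = X.fromSpecStalk (f x₁) := by
    simp only [g₁, Category.assoc, ← Scheme.SpecMap_stalkMap_fromSpecStalk]
    rw [← Spec.map_comp_assoc, IsIso.hom_inv_id, Spec.map_id, Category.id_comp]
  have hg₂ : g₂ ≫ f = X.fromSpecStalk (f x₁) := by
    simp only [g₂, Category.assoc, ← Scheme.SpecMap_stalkMap_fromSpecStalk]
    rw [← Spec.map_comp_assoc (f.stalkMap x₂), IsIso.hom_inv_id, Spec.map_id, Category.id_comp,
      Scheme.SpecMap_stalkSpecializes_fromSpecStalk]
  let ι : Spec X'.functionField ⟶ Spec (X.presheaf.stalk (f x₁)) :=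
    Spec.map (f.stalkMap x₁ ≫ X'.presheaf.stalkSpecializes h₁)
  have hι₁ : ι ≫ g₁ = X'.fromSpecStalk (genericPoint X') := by
    simp only [ι, g₁]
    rw [← Spec.map_comp_assoc, IsIso.inv_hom_id_assoc,
      Scheme.SpecMap_stalkSpecializes_fromSpecStalk]
  have hι₂ : ι ≫ g₂ = X'.fromSpecStalk (genericPoint X') := by
    simp only [ι, g₂]
    rw [← Spec.map_comp_assoc, ← Spec.map_comp_assoc]
    have : inv (f.stalkMap x₂) ≫ X.presheaf.stalkSpecializes h₁₂ ≫ f.stalkMap x₁ ≫
        X'.presheaf.stalkSpecializes h₁ = X'.presheaf.stalkSpecializes h₂ := by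
      rw [← Scheme.Hom.stalkSpecializes_stalkMap, TopCat.Presheaf.stalkSpecializes_comp_assoc,
        Scheme.Hom.stalkSpecializes_stalkMap f _ _ h₂, IsIso.inv_hom_id_assoc]
    rw [this, Scheme.SpecMap_stalkSpecializes_fromSpecStalk]
  have hdom : IsDominant ι := by
    apply isDominant_SpecMap_of_injective
    rw [CommRingCat.hom_comp, RingHom.coe_comp]
    exact (IsFractionRing.injective (X'.presheaf.stalk x₁) X'.functionField).comp
      (ConcreteCategory.bijective_of_isIso (f.stalkMap x₁)).1
  have hg : g₁ = g₂ :=
    ext_of_isDominant_of_isSeparated f (hg₁.trans hg₂.symm) ι (hι₁.trans hι₂.symm)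
  have c₁ : g₁ (IsLocalRing.closedPoint _) = x₁ := by
    simp only [g₁]
    rw [Scheme.Hom.comp_apply, Spec_closedPoint, Scheme.fromSpecStalk_closedPoint]
  have c₂ : g₂ (IsLocalRing.closedPoint _) = x₂ := by
    simp only [g₂]
    rw [Scheme.Hom.comp_apply, Scheme.Hom.comp_apply,
      SpecMap_stalkSpecializes_closedPoint_of_eq _ _ e, Spec_closedPoint,
      Scheme.fromSpecStalk_closedPoint]
  rw [← c₁, ← c₂, hg]

/-- a flat, surjective, separated, birational morphism of integral schemes which is affine or
locally of finite presentation is an isomorphism. -/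
theorem isIso_of_flat {X' X : Scheme.{u}} [IsIntegral X'] [IsIntegral X]
    (f : X' ⟶ X) [Surjective f] [IsSeparated f] (hK : IsIso (f.stalkMap (genericPoint X')))
    (h : IsAffineHom f ∨ LocallyOfFinitePresentation f) [Flat f] : IsIso f := by
  have hst : ∀ x', IsIso (f.stalkMap x') := fun x' =>
    (ConcreteCategory.isIso_iff_bijective _).mpr (bijective_stalkMap f hK x')
  have hinj : Function.Injective f.base := injective_of_isIso_stalkMap f
  have hopen : Topology.IsOpenEmbedding f.base := by
    rcases h with h | h
    · have hq : Topology.IsQuotientMap f.base := Flat.isQuotientMap_of_surjective f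
      exact (isHomeomorph_iff_isQuotientMap_injective.mpr ⟨hq, hinj⟩).isOpenEmbedding
    · exact Topology.IsOpenEmbedding.of_continuous_injective_isOpenMap f.continuous hinj
        f.isOpenMap
  have : IsOpenImmersion f := IsOpenImmersion.of_isIso_stalkMap f hopen
  have : Epi f.base := (TopCat.epi_iff_surjective _).mpr f.surjective
  exact IsOpenImmersion.isIso f

end Groth.Agent.Lib.Seat94.BiratFlat
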