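import Mathlib
import Groth.Agent.Lib.Seat29Strata5

/-!
# Completely decomposed morphisms: spreading out rational points (seat 94)

* `exists_spread`: for a finitely presented `A`-algebra `B` and a ring map `h : B → K` to a field
  all of whose elements are fractions of elements of `A`, there are `g : A`, a finitely generated
  ideal `I` of `A` killed in `K` with `g` invertible in `K`, and an `A`-algebra map
  `B → A_g / I A_g`.
-/

set_option autoImplicit false
universe u

open AlgebraicGeometry CategoryTheory Limits Topology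

namespace Groth.Agent.Lib.Seat94.CdStrat

theorem exists_spread {A B K : Type u} [CommRing A] [CommRing B] [Field K] (φ : A →+* B)
    (hφ : φ.FinitePresentation) (h : B →+* K)
    (hK : ∀ θ : K, ∃ a s : A, h (φ s) ≠ 0 ∧ θ * h (φ s) = h (φ a)) :
    ∃ (g : A) (I : Ideal A)
      (σ : B →+* (Localization.Away g ⧸ I.map (algebraMap A (Localization.Away g)))),
      h (φ g) ≠ 0 ∧ I.FG ∧ (∀ a ∈ I, h (φ a) = 0) ∧
      σ.comp φ = (Ideal.Quotient.mk _).comp (algebraMap A (Localization.Away g)) := by
  classical
  letI : Algebra A B := φ.toAlgebra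
  have hfp : Algebra.FinitePresentation A B := hφ
  obtain ⟨n, f, hf, S, hS⟩ := Algebra.FinitePresentation.out (R := A) (A := B)
  have hfC : ∀ a : A, f (MvPolynomial.C a) = φ a := fun a => by
    rw [← MvPolynomial.algebraMap_eq, AlgHom.commutes]; rfl
  choose a s hs has using fun i : Fin n => hK (h (f (MvPolynomial.X i)))
  let ev : A →+* K := h.comp φ
  let g : A := ∏ i, s i
  have hg : ev g ≠ 0 := by
    change h (φ (∏ i, s i)) ≠ 0
    rw [map_prod, map_prod]
    exact Finset.prod_ne_zero_iff.mpr fun i _ => hs i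
  let Ag := Localization.Away g
  have hgu : IsUnit (ev g) := isUnit_iff_ne_zero.mpr hg
  let evg : Ag →+* K := IsLocalization.Away.lift g hgu
  have hevg : ∀ x : A, evg (algebraMap A Ag x) = ev x := fun x =>
    IsLocalization.Away.lift_eq g hgu x
  have hsu : ∀ i, IsUnit (algebraMap A Ag (s i)) := by
    intro i
    have h1 : IsUnit (algebraMap A Ag g) := IsLocalization.Away.algebraMap_isUnit g
    have h2 : algebraMap A Ag (s i) ∣ algebraMap A Ag g :=
      map_dvd _ (Finset.dvd_prod_of_mem s (Finset.mem_univ i))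
    exact isUnit_of_dvd_unit h2 h1
  let b : Fin n → Ag := fun i => algebraMap A Ag (a i) * ↑((hsu i).unit⁻¹)
  have hb : ∀ i, evg (b i) = h (f (MvPolynomial.X i)) := by
    intro i
    have h1 : evg (b i) * ev (s i) = ev (a i) := by
      rw [← hevg (s i), ← map_mul]
      have : b i * algebraMap A Ag (s i) = algebraMap A Ag (a i) := by
        change algebraMap A Ag (a i) * ↑((hsu i).unit⁻¹) * algebraMap A Ag (s i) = _
        rw [mul_assoc, IsUnit.val_inv_mul, mul_one]
      rw [this, hevg]
    have h2 : h (f (MvPolynomial.X i)) * ev (s i) = ev (a i) := has i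
    exact mul_right_cancel₀ (hs i) (h1.trans h2.symm)
  let ψ : MvPolynomial (Fin n) A →ₐ[A] Ag := MvPolynomial.aeval b
  have hcomp : evg.comp ψ.toRingHom = h.comp f.toRingHom := by
    apply MvPolynomial.ringHom_ext
    · intro x
      change evg (ψ (MvPolynomial.C x)) = h (f (MvPolynomial.C x))
      rw [hfC, ← MvPolynomial.algebraMap_eq, AlgHom.commutes, hevg]
      rfl
    · intro i
      change evg (MvPolynomial.aeval b (MvPolynomial.X i)) = h (f (MvPolynomial.X i))
      rw [MvPolynomial.aeval_X, hb]
  have hkey : ∀ r : MvPolynomial (Fin n) A, ∃ a' : A, f r = 0 →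
      ev a' = 0 ∧ ψ r ∈ Ideal.span {algebraMap A Ag a'} := by
    intro r
    obtain ⟨⟨a', ⟨_, k, rfl⟩⟩, hx⟩ := IsLocalization.surj (Submonoid.powers g) (ψ r)
    refine ⟨a', fun hr => ⟨?_, ?_⟩⟩
    · have h0 : evg (ψ r) = 0 := by
        have := congrArg (fun F => F r) hcomp
        change evg (ψ r) = h (f r) at this
        rw [this, hr, map_zero]
      have := congrArg evg hx
      rw [map_mul, h0, zero_mul, hevg] at this
      exact this.symm
    · have hu : IsUnit (algebraMap A Ag (g ^ k)) := by
        rw [map_pow]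
        exact (IsLocalization.Away.algebraMap_isUnit g).pow k
      have : ψ r = algebraMap A Ag a' * ↑(hu.unit⁻¹) := by
        have hx' : ψ r * algebraMap A Ag (g ^ k) = algebraMap A Ag a' := hx
        rw [← hx', mul_assoc, IsUnit.mul_val_inv, mul_one]
      rw [this]
      exact Ideal.mul_mem_right _ _ (Ideal.subset_span rfl)
  choose a' ha' using hkey
  let I : Ideal A := Ideal.span (a' '' (S : Set (MvPolynomial (Fin n) A)))
  have hIfg : I.FG := ⟨S.image a', by rw [Finset.coe_image]⟩
  have hSker : ∀ r ∈ S, f r = 0 := by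
    intro r hr
    have : r ∈ RingHom.ker f.toRingHom := by
      rw [← hS]; exact Ideal.subset_span hr
    exact this
  have hIev : ∀ x ∈ I, h (φ x) = 0 := by
    intro x hx
    have hle : I ≤ RingHom.ker ev := by
      rw [Ideal.span_le]
      rintro _ ⟨r, hr, rfl⟩
      exact (ha' r (hSker r hr)).1
    exact hle hx
  let J : Ideal Ag := I.map (algebraMap A Ag)
  let χ : MvPolynomial (Fin n) A →ₐ[A] Ag ⧸ J := (Ideal.Quotient.mkₐ A J).comp ψ
  have hχ : RingHom.ker f.toRingHom ≤ RingHom.ker χ.toRingHom := by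
    rw [← hS, Ideal.span_le]
    intro r hr
    change χ r = 0
    change Ideal.Quotient.mk J (ψ r) = 0
    rw [Ideal.Quotient.eq_zero_iff_mem]
    have h1 := (ha' r (hSker r hr)).2
    have h2 : Ideal.span {algebraMap A Ag (a' r)} ≤ J := by
      rw [Ideal.span_le, Set.singleton_subset_iff]
      exact Ideal.mem_map_of_mem _ (Ideal.subset_span ⟨r, hr, rfl⟩)
    exact h2 h1
  let σ : B →ₐ[A] Ag ⧸ J := AlgHom.liftOfSurjective f hf χ hχ
  refine ⟨g, I, σ.toRingHom, hg, hIfg, hIev, ?_⟩
  ext x
  change σ (algebraMap A B x) = Ideal.Quotient.mk J (algebraMap A Ag x)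
  rw [AlgHom.commutes]
  rfl

/-- Spreading out a rational point: if `f : X ⟶ Y` is locally of finite presentation and `x : X`
has trivial residue field extension over `f x`, there are a finitely presented immersion
`z : Z ⟶ Y` with `Z` affine and `f x` in its range, and a lift `σ : Z ⟶ X` of `z`. -/
theorem exists_immersion_lift {X Y : Scheme.{u}} (f : X ⟶ Y) [LocallyOfFinitePresentation f]
    (x : X) (hx : Function.Surjective (f.residueFieldMap x)) :
    ∃ (Z : Scheme.{u}) (z : Z ⟶ Y) (σ : Z ⟶ X), IsAffine Z ∧ IsImmersion z ∧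
      LocallyOfFinitePresentation z ∧ σ ≫ f = z ∧ f x ∈ Set.range z := by
  obtain ⟨W, hW, hxW, -⟩ := TopologicalSpace.Opens.isBasis_iff_nbhd.mp Y.isBasis_affineOpens
    (show f x ∈ (⊤ : Y.Opens) from trivial)
  obtain ⟨V, hV, hxV, e⟩ := TopologicalSpace.Opens.isBasis_iff_nbhd.mp X.isBasis_affineOpens
    (show x ∈ f ⁻¹ᵁ W from hxW)
  let φ : Γ(Y, W) →+* Γ(X, V) := (f.appLE W V e).hom
  have hφ : φ.FinitePresentation := f.finitePresentation_appLE hW hV e
  let h : Γ(X, V) →+* X.residueField x := (X.evaluation V x hxV).hom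
  have key : ∀ a : Γ(Y, W), h (φ a) = f.residueFieldMap x (Y.evaluation W (f x) hxW a) := by
    intro a
    rw [Scheme.evaluation_naturality_apply]
    change X.evaluation V x hxV (f.appLE W V e a) = _
    rw [Scheme.Hom.appLE]
    change X.residue x (X.presheaf.germ V x hxV (X.presheaf.map (homOfLE e).op (f.app W a))) =
      X.residue x (X.presheaf.germ (f ⁻¹ᵁ W) x hxW (f.app W a))
    rw [TopCat.Presheaf.germ_res_apply]
  have hK : ∀ θ : X.residueField x, ∃ a s : Γ(Y, W), h (φ s) ≠ 0 ∧ θ * h (φ s) = h (φ a) := by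
    intro θ
    obtain ⟨θ', rfl⟩ := hx θ
    obtain ⟨t, rfl⟩ := IsLocalRing.residue_surjective θ'
    letI := Y.presheaf.algebra_section_stalk ⟨f x, hxW⟩
    have hloc := hW.isLocalization_stalk ⟨f x, hxW⟩
    obtain ⟨⟨a, s⟩, hts⟩ := IsLocalization.surj (hW.primeIdealOf ⟨f x, hxW⟩).asIdeal.primeCompl t
    have hsu : IsUnit (Y.presheaf.germ W (f x) hxW s.1) :=
      IsLocalization.map_units (M := (hW.primeIdealOf ⟨f x, hxW⟩).asIdeal.primeCompl) _ s
    refine ⟨a, s.1, ?_, ?_⟩
    · rw [key]
      have : Y.evaluation W (f x) hxW s.1 ≠ 0 := (hsu.map (Y.residue (f x)).hom).ne_zero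
      exact (map_ne_zero_iff _ (f.residueFieldMap x).hom.injective).mpr this
    · rw [key, key]
      have hts' : t * Y.presheaf.germ W (f x) hxW s.1 = Y.presheaf.germ W (f x) hxW a := hts
      have := congrArg (fun r => f.residueFieldMap x (Y.residue (f x) r)) hts'
      simp only [map_mul] at this
      exact this
  obtain ⟨g, I, σ, hg, hIfg, hIev, hσ⟩ := exists_spread φ hφ h hK
  let Ag := Localization.Away g
  let J : Ideal Ag := I.map (algebraMap Γ(Y, W) Ag)
  let ψ : Γ(Y, W) →+* Ag ⧸ J := (Ideal.Quotient.mk J).comp (algebraMap Γ(Y, W) Ag)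
  let z₀ : Spec (CommRingCat.of (Ag ⧸ J)) ⟶ Spec Γ(Y, W) := Spec.map (CommRingCat.ofHom ψ)
  have hz₀ : z₀ = Spec.map (CommRingCat.ofHom (Ideal.Quotient.mk J)) ≫
      Spec.map (CommRingCat.ofHom (algebraMap Γ(Y, W) Ag)) := by
    rw [← Spec.map_comp]; rfl
  have himm : IsImmersion z₀ := by
    rw [hz₀]
    have : IsOpenImmersion (Spec.map (CommRingCat.ofHom (algebraMap Γ(Y, W) Ag))) :=
      Scheme.isOpenImmersion_SpecMap_localizationAway (R := Γ(Y, W)) g
    have : IsClosedImmersion (Spec.map (CommRingCat.ofHom (Ideal.Quotient.mk J))) :=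
      IsClosedImmersion.spec_of_surjective _ Ideal.Quotient.mk_surjective
    infer_instance
  have hlfp : LocallyOfFinitePresentation z₀ := by
    rw [HasRingHomProperty.Spec_iff (P := @LocallyOfFinitePresentation)]
    change ψ.FinitePresentation
    refine RingHom.FinitePresentation.comp ?_ ?_
    · exact RingHom.FinitePresentation.of_surjective _ Ideal.Quotient.mk_surjective
        (by rw [Ideal.mk_ker]; exact hIfg.map _)
    · exact RingHom.finitePresentation_algebraMap.mpr inferInstance
  refine ⟨Spec (CommRingCat.of (Ag ⧸ J)), z₀ ≫ hW.fromSpec,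
    Spec.map (CommRingCat.ofHom σ) ≫ hV.fromSpec, inferInstance, inferInstance, inferInstance,
    ?_, ?_⟩
  · rw [Category.assoc, ← IsAffineOpen.SpecMap_appLE_fromSpec f hW hV e, ← Category.assoc,
      ← Spec.map_comp]
    congr 2
    ext a
    exact congrArg (fun F => F a) hσ
  · have hgu : IsUnit (h (φ g)) := isUnit_iff_ne_zero.mpr hg
    let evg : Ag →+* X.residueField x := IsLocalization.Away.lift g (g := h.comp φ) hgu
    have hJ : ∀ a ∈ J, evg a = 0 := by
      have : J ≤ RingHom.ker evg := by
        rw [Ideal.map_le_iff_le_comap]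
        intro a ha
        change evg (algebraMap _ _ a) = 0
        rw [IsLocalization.Away.lift_eq]
        exact hIev a ha
      exact fun a ha => this ha
    let τ : Ag ⧸ J →+* X.residueField x := Ideal.Quotient.lift J evg hJ
    have hτ : τ.comp ψ = h.comp φ := by
      ext a
      change evg (algebraMap _ _ a) = _
      rw [IsLocalization.Away.lift_eq]
    have e1 : Spec.map (CommRingCat.ofHom τ) ≫ z₀ ≫ hW.fromSpec =
        X.fromSpecResidueField x ≫ f := by
      have : Spec.map (CommRingCat.ofHom τ) ≫ z₀ =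
          Spec.map (X.evaluation V x hxV) ≫ Spec.map (f.appLE W V e) := by
        rw [← Spec.map_comp, ← Spec.map_comp]
        congr 1
        ext a
        exact congrArg (fun F => F a) hτ
      rw [← Category.assoc, this, Category.assoc, IsAffineOpen.SpecMap_appLE_fromSpec f hW hV e,
        ← Category.assoc]
      congr 1
      rw [Scheme.fromSpecResidueField, ← hV.fromSpecStalk_eq_fromSpecStalk hxV,
        IsAffineOpen.fromSpecStalk, ← Category.assoc, ← Spec.map_comp]
      rfl
    have pt : Spec (X.residueField x) := (inferInstance : Nonempty _).some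
    refine ⟨Spec.map (CommRingCat.ofHom τ) pt, ?_⟩
    rw [← Scheme.Hom.comp_apply, e1, Scheme.Hom.comp_apply, Scheme.fromSpecResidueField_apply]

/-- A completely decomposed morphism locally of finite presentation over a quasi-compact
quasi-separated base admits a finite family of finitely presented immersions, jointly surjective,
over each of which it has a section. -/
theorem exists_stratification_with_sections {X Y : Scheme.{u}} (f : X ⟶ Y)
    [LocallyOfFinitePresentation f] [CompactSpace ↑Y] [QuasiSeparatedSpace ↑Y]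
    (hcd : ∀ y : Y, ∃ x : X, f x = y ∧ Function.Bijective (f.residueFieldMap x)) :
    ∃ (n : ℕ) (Z : Fin n → Scheme.{u}) (z : ∀ i, Z i ⟶ Y),
      (∀ y : Y, ∃ i, y ∈ Set.range ⇑(z i)) ∧
      ∀ i, IsImmersion (z i) ∧ LocallyOfFinitePresentation (z i) ∧ QuasiCompact (z i) ∧
        QuasiSeparated (z i) ∧
        ∃ s : Z i ⟶ pullback f (z i), s ≫ pullback.snd f (z i) = 𝟙 (Z i) := by
  classical
  choose x hx hbij using hcd
  choose Z z σ hZaff himm hlfp hσ hmem using
    fun y => exists_immersion_lift f (x y) (hbij y).2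
  have hqc : ∀ y, QuasiCompact (z y) := fun y => by
    have := hZaff y
    infer_instance
  have hc : ∀ y, IsConstructible (Set.range (z y)) := by
    intro y
    have := hlfp y
    have := hqc y
    have h := (z y).isConstructible_image IsConstructible.univ
    rwa [Set.image_univ] at h
  have hcov : (⋃ y, Set.range (z y)) = Set.univ := by
    rw [Set.eq_univ_iff_forall]
    intro y
    exact Set.mem_iUnion.mpr ⟨y, by have := hmem y; rwa [hx y] at this⟩
  obtain ⟨t, ht⟩ := Groth.Agent.Lib.Seat29.Strata.exists_finset_cover_of_isConstructible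
    (fun y => Set.range (z y)) hc hcov
  let e : Fin t.card ≃ ↥t := t.equivFin.symm
  refine ⟨t.card, fun k => Z (e k).1, fun k => z (e k).1, fun y => ?_, fun k => ?_⟩
  · obtain ⟨i, hit, hy⟩ := ht y
    refine ⟨e.symm ⟨i, hit⟩, ?_⟩
    show y ∈ Set.range (z (e (e.symm ⟨i, hit⟩)).1)
    rw [Equiv.apply_symm_apply]
    exact hy
  · have := himm (e k).1
    refine ⟨himm _, hlfp _, hqc _, inferInstance, ?_⟩
    exact ⟨pullback.lift (σ (e k).1) (𝟙 _) (by rw [hσ, Category.id_comp]), pullback.lift_snd _ _ _⟩

end Groth.Agent.Lib.Seat94.CdStrat
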