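import Mathlib.RingTheory.Kaehler.Basic
import Mathlib.LinearAlgebra.TensorProduct.Associator
import Mathlib.Algebra.Algebra.Bilinear
import Mathlib.Algebra.CharZero.Defs
import Mathlib.Tactic

/-!
# Symmetric tensors in `A ⊗ A ⊗ A` restricted to a diagonal

For a commutative algebra `A` over a field `k` of characteristic zero, the image of the
`S₃`-invariants of `A ⊗ (A ⊗ A)` under `a ⊗ b ⊗ c ↦ ab ⊗ c` is the kernel of
`a ⊗ b ↦ 2a·db − b·da`. (No smoothness is needed.)
-/

set_option autoImplicit false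
universe u v

open TensorProduct

namespace Groth.Agent.Lib.Seat94.DiagSym3

variable {k : Type u} [Field k] {A : Type v} [CommRing A] [Algebra k A]

/-- The symmetrization of the pure tensor `P ⊗ Q ⊗ R`. -/
noncomputable def symT (P Q R : A) : A ⊗[k] (A ⊗[k] A) :=
  P ⊗ₜ[k] (Q ⊗ₜ[k] R) + P ⊗ₜ[k] (R ⊗ₜ[k] Q) + Q ⊗ₜ[k] (P ⊗ₜ[k] R) + Q ⊗ₜ[k] (R ⊗ₜ[k] P) +
    R ⊗ₜ[k] (P ⊗ₜ[k] Q) + R ⊗ₜ[k] (Q ⊗ₜ[k] P)

lemma leftComm_symT (P Q R : A) :
    TensorProduct.leftComm k A A A (symT (k := k) P Q R) = symT P Q R := by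
  simp only [symT, map_add, TensorProduct.leftComm_tmul]
  abel

lemma lTensor_comm_symT (P Q R : A) :
    LinearMap.lTensor A (TensorProduct.comm k A A).toLinearMap (symT (k := k) P Q R) =
      symT P Q R := by
  simp only [symT, map_add, LinearMap.lTensor_tmul, LinearEquiv.coe_coe, TensorProduct.comm_tmul]
  abel

/-- The submodule of tensors fixed by the two transpositions. -/
noncomputable def inv3 (k : Type u) [Field k] (A : Type v) [CommRing A] [Algebra k A] :
    Submodule k (A ⊗[k] (A ⊗[k] A)) where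
  carrier := {x | TensorProduct.leftComm k A A A x = x ∧
    LinearMap.lTensor A (TensorProduct.comm k A A).toLinearMap x = x}
  add_mem' := by
    rintro x y ⟨hx1, hx2⟩ ⟨hy1, hy2⟩
    exact ⟨by rw [map_add, hx1, hy1], by rw [map_add, hx2, hy2]⟩
  zero_mem' := ⟨map_zero _, map_zero _⟩
  smul_mem' := by
    rintro c x ⟨hx1, hx2⟩
    exact ⟨by rw [map_smul, hx1], by rw [map_smul, hx2]⟩

lemma mem_inv3 {x : A ⊗[k] (A ⊗[k] A)} : x ∈ inv3 k A ↔
    TensorProduct.leftComm k A A A x = x ∧
      LinearMap.lTensor A (TensorProduct.comm k A A).toLinearMap x = x := Iff.rfl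

lemma symT_mem_inv3 (P Q R : A) : symT (k := k) P Q R ∈ inv3 k A :=
  ⟨leftComm_symT P Q R, lTensor_comm_symT P Q R⟩

/-- The full symmetrizer. -/
noncomputable def symmetrizer (k : Type u) [Field k] (A : Type v) [CommRing A] [Algebra k A] :
    A ⊗[k] (A ⊗[k] A) →ₗ[k] A ⊗[k] (A ⊗[k] A) :=
  let s1 : A ⊗[k] (A ⊗[k] A) →ₗ[k] A ⊗[k] (A ⊗[k] A) :=
    (TensorProduct.leftComm k A A A).toLinearMap
  let s2 : A ⊗[k] (A ⊗[k] A) →ₗ[k] A ⊗[k] (A ⊗[k] A) :=
    LinearMap.lTensor A (TensorProduct.comm k A A).toLinearMap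
  LinearMap.id + s1 + s2 + s1 ∘ₗ s2 + s2 ∘ₗ s1 + s1 ∘ₗ s2 ∘ₗ s1

lemma symmetrizer_tmul (P Q R : A) :
    symmetrizer k A (P ⊗ₜ[k] (Q ⊗ₜ[k] R)) = symT P Q R := by
  simp only [symmetrizer, LinearMap.add_apply, LinearMap.id_coe, id_eq, LinearEquiv.coe_coe,
    TensorProduct.leftComm_tmul, LinearMap.lTensor_tmul, TensorProduct.comm_tmul,
    LinearMap.coe_comp, Function.comp_apply, symT]
  abel

lemma symmetrizer_of_mem {x : A ⊗[k] (A ⊗[k] A)} (hx : x ∈ inv3 k A) :
    symmetrizer k A x = (6 : k) • x := by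
  obtain ⟨h1, h2⟩ := hx
  simp only [symmetrizer, LinearMap.add_apply, LinearMap.id_coe, id_eq, LinearEquiv.coe_coe,
    LinearMap.coe_comp, Function.comp_apply, h1, h2]
  module

section Main

variable (r : A ⊗[k] (A ⊗[k] A) →ₗ[k] A ⊗[k] A)
  (hr : ∀ a b c : A, r (a ⊗ₜ[k] (b ⊗ₜ[k] c)) = (a * b) ⊗ₜ[k] c)

include hr

lemma r_symT (P Q R : A) :
    r (symT P Q R) = (2 : k) • ((P * Q) ⊗ₜ[k] R + (P * R) ⊗ₜ[k] Q + (Q * R) ⊗ₜ[k] P) := by
  simp only [symT, map_add, hr]
  rw [mul_comm Q P, mul_comm R P, mul_comm R Q]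
  module

/-- the universal identity: `(c ⊗ e)(1 ⊗ a − a ⊗ 1)(1 ⊗ b − b ⊗ 1)` is the restriction of a
symmetric tensor. -/
lemma mul_e_e_mem [CharZero k] (c e a b : A) :
    (c ⊗ₜ[k] e) * ((1 : A) ⊗ₜ[k] a - a ⊗ₜ[k] (1 : A)) * ((1 : A) ⊗ₜ[k] b - b ⊗ₜ[k] (1 : A)) ∈
      Submodule.map r (inv3 k A) := by
  refine ⟨(2⁻¹ : k) • (symT 1 c (a * b * e) - symT 1 (a * e) (b * c) - symT a c (b * e) +
    symT a e (b * c)), ?_, ?_⟩
  · exact Submodule.smul_mem _ _ (Submodule.add_mem _ (Submodule.sub_mem _ (Submodule.sub_mem _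
      (symT_mem_inv3 _ _ _) (symT_mem_inv3 _ _ _)) (symT_mem_inv3 _ _ _)) (symT_mem_inv3 _ _ _))
  · rw [map_smul, map_add, map_sub, map_sub, r_symT r hr, r_symT r hr, r_symT r hr, r_symT r hr]
    simp only [← smul_sub, ← smul_add, smul_smul]
    rw [inv_mul_cancel₀ (two_ne_zero), one_smul]
    simp only [mul_sub, sub_mul, Algebra.TensorProduct.tmul_mul_tmul, one_mul, mul_one]
    ring_nf

/-- The square of the diagonal ideal consists of restrictions of symmetric tensors. -/
lemma ideal_sq_le [CharZero k] (z : A ⊗[k] A) (hz : z ∈ KaehlerDifferential.ideal k A ^ 2) :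
    z ∈ Submodule.map r (inv3 k A) := by
  set W := Submodule.map r (inv3 k A) with hW
  -- step 1: `u * e a * e b ∈ W`
  have h1 : ∀ (u : A ⊗[k] A) (a b : A),
      u * ((1 : A) ⊗ₜ[k] a - a ⊗ₜ[k] (1 : A)) * ((1 : A) ⊗ₜ[k] b - b ⊗ₜ[k] (1 : A)) ∈ W := by
    intro u a b
    induction u using TensorProduct.induction_on with
    | zero => simp
    | tmul c e => exact mul_e_e_mem r hr c e a b
    | add x y hx hy =>
      rw [add_mul, add_mul]
      exact W.add_mem hx hy
  -- step 2: `(u * e a) * j ∈ W` for `j ∈ J`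
  have h2 : ∀ (a : A) (j : A ⊗[k] A), j ∈ KaehlerDifferential.ideal k A →
      ∀ u : A ⊗[k] A, u * ((1 : A) ⊗ₜ[k] a - a ⊗ₜ[k] (1 : A)) * j ∈ W := by
    intro a j hj
    rw [← KaehlerDifferential.span_range_eq_ideal] at hj
    induction hj using Submodule.span_induction with
    | mem x hx =>
      obtain ⟨b, rfl⟩ := hx
      intro u
      exact h1 u a b
    | zero => intro u; simp
    | add x y _ _ hx hy =>
      intro u
      rw [mul_add]
      exact W.add_mem (hx u) (hy u)
    | smul v x _ hx =>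
      intro u
      have : u * ((1 : A) ⊗ₜ[k] a - a ⊗ₜ[k] (1 : A)) * (v • x) =
          (u * v) * ((1 : A) ⊗ₜ[k] a - a ⊗ₜ[k] (1 : A)) * x := by
        rw [smul_eq_mul]; ring
      rw [this]
      exact hx (u * v)
  -- step 3: `j₁ * j₂ ∈ W`
  have h3 : ∀ j₁ : A ⊗[k] A, j₁ ∈ KaehlerDifferential.ideal k A →
      ∀ j₂ : A ⊗[k] A, j₂ ∈ KaehlerDifferential.ideal k A → j₁ * j₂ ∈ W := by
    intro j₁ hj₁
    rw [← KaehlerDifferential.span_range_eq_ideal] at hj₁
    induction hj₁ using Submodule.span_induction with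
    | mem x hx =>
      obtain ⟨a, rfl⟩ := hx
      intro j₂ hj₂
      have := h2 a j₂ hj₂ 1
      rwa [one_mul] at this
    | zero => intro j₂ _; simp
    | add x y _ _ hx hy =>
      intro j₂ hj₂
      rw [add_mul]
      exact W.add_mem (hx j₂ hj₂) (hy j₂ hj₂)
    | smul v x _ hx =>
      intro j₂ hj₂
      have : v • x * j₂ = x * (v * j₂) := by rw [smul_eq_mul]; ring
      rw [this]
      exact hx _ (Ideal.mul_mem_left _ v hj₂)
  rw [pow_two] at hz
  exact Submodule.mul_induction_on hz (fun a ha b hb => h3 a ha b hb)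
    (fun x y hx hy => W.add_mem hx hy)

/-- Main theorem: exactness of `Sym³ → A ⊗ A → Ω` at the last two places. -/
theorem kerD_iff_and_surjective [CharZero k] (D : A ⊗[k] A →ₗ[k] Ω[A⁄k])
    (hD : ∀ a b : A, D (a ⊗ₜ[k] b) =
      (2 : A) • (a • KaehlerDifferential.D k A b) - b • KaehlerDifferential.D k A a) :
    (∀ y : A ⊗[k] A, D y = 0 ↔ ∃ x : A ⊗[k] (A ⊗[k] A),
        TensorProduct.leftComm k A A A x = x ∧
        LinearMap.lTensor A (TensorProduct.comm k A A).toLinearMap x = x ∧ r x = y) ∧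
    Function.Surjective D := by
  have h2 : (2 : k) ≠ 0 := two_ne_zero
  have h3 : (3 : k) ≠ 0 := three_ne_zero
  have h6 : (6 : k) ≠ 0 := by norm_num
  -- `D = 3θ - d ∘ m`
  have hDform : ∀ y : A ⊗[k] A, D y = (3 : A) • (KaehlerDifferential.D k A).tensorProductTo y -
      KaehlerDifferential.D k A (Algebra.TensorProduct.lmul' k y) := by
    intro y
    induction y using TensorProduct.induction_on with
    | zero => simp
    | tmul a b =>
      rw [hD, Derivation.tensorProductTo_tmul, Algebra.TensorProduct.lmul'_apply_tmul, Derivation.leibniz]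
      module
    | add x y hx hy =>
      rw [map_add, hx, hy, map_add, map_add, map_add]
      module
  -- `D ∘ r` kills symmetrized tensors
  have hsymT : ∀ P Q R : A, D (r (symT P Q R)) = 0 := by
    intro P Q R
    rw [r_symT r hr, map_smul, map_add, map_add, hD, hD, hD, Derivation.leibniz,
      Derivation.leibniz, Derivation.leibniz]
    have : (2 : A) • ((P * Q) • (KaehlerDifferential.D k A) R) -
          R • (P • (KaehlerDifferential.D k A) Q + Q • (KaehlerDifferential.D k A) P) +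
        ((2 : A) • ((P * R) • (KaehlerDifferential.D k A) Q) -
          Q • (P • (KaehlerDifferential.D k A) R + R • (KaehlerDifferential.D k A) P)) +
        ((2 : A) • ((Q * R) • (KaehlerDifferential.D k A) P) -
          P • (Q • (KaehlerDifferential.D k A) R + R • (KaehlerDifferential.D k A) Q)) = 0 := by
      module
    rw [this, smul_zero]
  have hsym : ∀ x : A ⊗[k] (A ⊗[k] A), D (r (symmetrizer k A x)) = 0 := by
    intro x
    induction x using TensorProduct.induction_on with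
    | zero => simp
    | tmul a y =>
      induction y using TensorProduct.induction_on with
      | zero => simp
      | tmul b c => rw [symmetrizer_tmul]; exact hsymT a b c
      | add y z hy hz => rw [TensorProduct.tmul_add, map_add, map_add, map_add, hy, hz, add_zero]
    | add x y hx hy => rw [map_add, map_add, map_add, hx, hy, add_zero]
  have hinv : ∀ x ∈ inv3 k A, D (r x) = 0 := by
    intro x hx
    have h := hsym x
    rw [symmetrizer_of_mem hx, map_smul, map_smul] at h
    exact (smul_eq_zero.1 h).resolve_left h6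
  refine ⟨fun y => ⟨fun hy => ?_, ?_⟩, ?_⟩
  · -- `D y = 0 → y ∈ r(inv3)`
    set f : A := Algebra.TensorProduct.lmul' k y with hf
    set x₀ : A ⊗[k] (A ⊗[k] A) := (2⁻¹ : k) • symT ((3⁻¹ : k) • f) 1 1 with hx₀
    have hx₀mem : x₀ ∈ inv3 k A := Submodule.smul_mem _ _ (symT_mem_inv3 _ _ _)
    have hrx₀ : r x₀ = (2 : k) • (((3⁻¹ : k) • f) ⊗ₜ[k] (1 : A)) + (1 : A) ⊗ₜ[k] ((3⁻¹ : k) • f) := by
      rw [hx₀, map_smul, r_symT r hr, smul_smul, inv_mul_cancel₀ h2, one_smul]
      simp only [mul_one]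
      module
    have hm : Algebra.TensorProduct.lmul' k (y - r x₀) = 0 := by
      rw [map_sub, hrx₀, map_add, map_smul, Algebra.TensorProduct.lmul'_apply_tmul,
        Algebra.TensorProduct.lmul'_apply_tmul, ← hf, mul_one, one_mul]
      have : f = (2 : k) • (3⁻¹ : k) • f + (3⁻¹ : k) • f := by
        rw [smul_smul, ← add_smul]
        have : (2 : k) * 3⁻¹ + 3⁻¹ = 1 := by field_simp; norm_num
        rw [this, one_smul]
      rw [sub_eq_zero]
      exact this
    have hDy' : D (y - r x₀) = 0 := by rw [map_sub, hy, hinv x₀ hx₀mem, sub_zero]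
    have hθ : (KaehlerDifferential.D k A).tensorProductTo (y - r x₀) = 0 := by
      have h := hDform (y - r x₀)
      rw [hDy', hm, map_zero, sub_zero] at h
      have h' : (3 : k) • (KaehlerDifferential.D k A).tensorProductTo (y - r x₀) = 0 := by
        rw [h]
        rw [← Nat.cast_ofNat (R := k), ← Nat.cast_ofNat (R := A), Nat.cast_smul_eq_nsmul,
          Nat.cast_smul_eq_nsmul]
      exact (smul_eq_zero.1 h').resolve_left h3
    have hmem : y - r x₀ ∈ KaehlerDifferential.ideal k A := hm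
    have hsq : y - r x₀ ∈ KaehlerDifferential.ideal k A ^ 2 := by
      have := KaehlerDifferential.D_tensorProductTo (R := k) (S := A) ⟨y - r x₀, hmem⟩
      rw [hθ] at this
      exact (Ideal.toCotangent_eq_zero _ _).1 this.symm
    obtain ⟨x', hx'mem, hx'⟩ := ideal_sq_le r hr _ hsq
    refine ⟨x₀ + x', ?_, ?_, ?_⟩
    · rw [map_add, hx₀mem.1, hx'mem.1]
    · rw [map_add, hx₀mem.2, hx'mem.2]
    · rw [map_add, hx']; abel
  · rintro ⟨x, hx1, hx2, rfl⟩
    exact hinv x ⟨hx1, hx2⟩
  · -- surjectivity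
    have hform : ∀ a b : A, D ((3⁻¹ : k) • ((2 : k) • (a ⊗ₜ[k] b) + b ⊗ₜ[k] a)) =
        a • KaehlerDifferential.D k A b := by
      intro a b
      rw [map_smul, map_add, map_smul, hD, hD]
      have e2 : ∀ x : Ω[A⁄k], (2 : A) • x = (2 : ℕ) • x := fun x => ofNat_smul_eq_nsmul A 2 x
      have e2k : ∀ x : Ω[A⁄k], (2 : k) • x = (2 : ℕ) • x := fun x => ofNat_smul_eq_nsmul k 2 x
      have e3k : ∀ x : Ω[A⁄k], (3 : k) • x = (3 : ℕ) • x := fun x => ofNat_smul_eq_nsmul k 3 x
      have e4 : (2 : k) • ((2 : A) • a • (KaehlerDifferential.D k A) b -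
          b • (KaehlerDifferential.D k A) a) +
          ((2 : A) • b • (KaehlerDifferential.D k A) a - a • (KaehlerDifferential.D k A) b) =
          (3 : k) • (a • KaehlerDifferential.D k A b) := by
        rw [e2, e2, e2k, e3k]
        module
      rw [e4, smul_smul, inv_mul_cancel₀ h3, one_smul]
    have key : ∀ ω : Ω[A⁄k], ∀ c : A, c • ω ∈ LinearMap.range D := by
      intro ω
      have hω : ω ∈ Submodule.span A (Set.range (KaehlerDifferential.D k A)) := by
        rw [KaehlerDifferential.span_range_derivation k A]; trivial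
      induction hω using Submodule.span_induction with
      | mem x hx =>
        obtain ⟨b, rfl⟩ := hx
        intro c
        exact ⟨_, hform c b⟩
      | zero => intro c; rw [smul_zero]; exact Submodule.zero_mem _
      | add x y _ _ hx hy => intro c; rw [smul_add]; exact Submodule.add_mem _ (hx c) (hy c)
      | smul a x _ hx => intro c; rw [smul_smul]; exact hx (c * a)
    intro ω
    have := key ω 1
    rwa [one_smul] at this

end Main

end Groth.Agent.Lib.Seat94.DiagSym3
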