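import Mathlib.RingTheory.Kaehler.Basic
import Mathlib.LinearAlgebra.TensorProduct.Associator
import Mathlib.Algebra.Algebra.Bilinear
import Mathlib.Algebra.CharZero.Defs
import Mathlib.Tactic

/-!
# Tensors in `A ⊗ A ⊗ A` fixed by the swap of the last two factors, restricted to two diagonals

For a commutative algebra `A` over a field `k` of characteristic zero, the image of the
invariants of `A ⊗ (A ⊗ A)` under the swap of the last two factors under
`(a ⊗ u ⊗ v ↦ au ⊗ v, a ⊗ u ⊗ v ↦ uv ⊗ a)` is the kernel of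
`(a ⊗ u, b ⊗ v) ↦ 2a·du − v·db` on the pairs with equal products. (No smoothness is needed.)

The file also has two general criteria for a `k`-submodule of `A ⊗ A` to contain the diagonal
ideal, resp. its square.
-/

set_option autoImplicit false
universe u v

open TensorProduct

namespace Groth.Agent.Lib.Seat94.DiagTrans3

variable {k : Type u} [Field k] {A : Type v} [CommRing A] [Algebra k A]

/-- A `k`-submodule of `A ⊗ A` containing all `(c ⊗ e)(1 ⊗ a − a ⊗ 1)` contains the diagonal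
ideal. -/
lemma ideal_le_of_gen (S : Submodule k (A ⊗[k] A))
    (h : ∀ c e a : A, (c ⊗ₜ[k] e) * ((1 : A) ⊗ₜ[k] a - a ⊗ₜ[k] (1 : A)) ∈ S)
    (z : A ⊗[k] A) (hz : z ∈ KaehlerDifferential.ideal k A) : z ∈ S := by
  have h1 : ∀ (u : A ⊗[k] A) (a : A), u * ((1 : A) ⊗ₜ[k] a - a ⊗ₜ[k] (1 : A)) ∈ S := by
    intro u a
    induction u using TensorProduct.induction_on with
    | zero => simp
    | tmul c e => exact h c e a
    | add x y hx hy => rw [add_mul]; exact S.add_mem hx hy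
  have h2 : ∀ j : A ⊗[k] A, j ∈ KaehlerDifferential.ideal k A → ∀ u : A ⊗[k] A, u * j ∈ S := by
    intro j hj
    rw [← KaehlerDifferential.span_range_eq_ideal] at hj
    induction hj using Submodule.span_induction with
    | mem x hx =>
      obtain ⟨a, rfl⟩ := hx
      intro u
      exact h1 u a
    | zero => intro u; simp
    | add x y _ _ hx hy => intro u; rw [mul_add]; exact S.add_mem (hx u) (hy u)
    | smul v x _ hx =>
      intro u
      have : u * (v • x) = (u * v) * x := by rw [smul_eq_mul]; ring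
      rw [this]
      exact hx (u * v)
  have := h2 z hz 1
  rwa [one_mul] at this

/-- A `k`-submodule of `A ⊗ A` containing all `(c ⊗ e)(1 ⊗ a − a ⊗ 1)(1 ⊗ b − b ⊗ 1)` contains
the square of the diagonal ideal. -/
lemma ideal_sq_le_of_gen (S : Submodule k (A ⊗[k] A))
    (h : ∀ c e a b : A, (c ⊗ₜ[k] e) * ((1 : A) ⊗ₜ[k] a - a ⊗ₜ[k] (1 : A)) *
      ((1 : A) ⊗ₜ[k] b - b ⊗ₜ[k] (1 : A)) ∈ S)
    (z : A ⊗[k] A) (hz : z ∈ KaehlerDifferential.ideal k A ^ 2) : z ∈ S := by
  -- step 1: `u * e a * e b ∈ S`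
  have h1 : ∀ (u : A ⊗[k] A) (a b : A),
      u * ((1 : A) ⊗ₜ[k] a - a ⊗ₜ[k] (1 : A)) * ((1 : A) ⊗ₜ[k] b - b ⊗ₜ[k] (1 : A)) ∈ S := by
    intro u a b
    induction u using TensorProduct.induction_on with
    | zero => simp
    | tmul c e => exact h c e a b
    | add x y hx hy =>
      rw [add_mul, add_mul]
      exact S.add_mem hx hy
  -- step 2: `(u * e a) * j ∈ S` for `j ∈ J`
  have h2 : ∀ (a : A) (j : A ⊗[k] A), j ∈ KaehlerDifferential.ideal k A →
      ∀ u : A ⊗[k] A, u * ((1 : A) ⊗ₜ[k] a - a ⊗ₜ[k] (1 : A)) * j ∈ S := by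
    intro a j hj
    rw [← KaehlerDifferential.span_range_eq_ideal] at hj
    induction hj using Submodule.span_induction with
    | mem x hx =>
      obtain ⟨b, rfl⟩ := hx
      intro u
      exact h1 u a b
    | zero => intro u; simp
    | add x y _ _ hx hy =>
      intro u
      rw [mul_add]
      exact S.add_mem (hx u) (hy u)
    | smul v x _ hx =>
      intro u
      have : u * ((1 : A) ⊗ₜ[k] a - a ⊗ₜ[k] (1 : A)) * (v • x) =
          (u * v) * ((1 : A) ⊗ₜ[k] a - a ⊗ₜ[k] (1 : A)) * x := by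
        rw [smul_eq_mul]; ring
      rw [this]
      exact hx (u * v)
  -- step 3: `j₁ * j₂ ∈ S`
  have h3 : ∀ j₁ : A ⊗[k] A, j₁ ∈ KaehlerDifferential.ideal k A →
      ∀ j₂ : A ⊗[k] A, j₂ ∈ KaehlerDifferential.ideal k A → j₁ * j₂ ∈ S := by
    intro j₁ hj₁
    rw [← KaehlerDifferential.span_range_eq_ideal] at hj₁
    induction hj₁ using Submodule.span_induction with
    | mem x hx =>
      obtain ⟨a, rfl⟩ := hx
      intro j₂ hj₂
      have := h2 a j₂ hj₂ 1
      rwa [one_mul] at this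
    | zero => intro j₂ _; simp
    | add x y _ _ hx hy =>
      intro j₂ hj₂
      rw [add_mul]
      exact S.add_mem (hx j₂ hj₂) (hy j₂ hj₂)
    | smul v x _ hx =>
      intro j₂ hj₂
      have : v • x * j₂ = x * (v * j₂) := by rw [smul_eq_mul]; ring
      rw [this]
      exact hx _ (Ideal.mul_mem_left _ v hj₂)
  rw [pow_two] at hz
  exact Submodule.mul_induction_on hz (fun a ha b hb => h3 a ha b hb)
    (fun x y hx hy => S.add_mem hx hy)

/-- The symmetrization of `P ⊗ Q ⊗ R` in the last two factors. -/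
noncomputable def symP (P Q R : A) : A ⊗[k] (A ⊗[k] A) :=
  P ⊗ₜ[k] (Q ⊗ₜ[k] R) + P ⊗ₜ[k] (R ⊗ₜ[k] Q)

lemma lTensor_comm_symP (P Q R : A) :
    LinearMap.lTensor A (TensorProduct.comm k A A).toLinearMap (symP (k := k) P Q R) =
      symP P Q R := by
  simp only [symP, map_add, LinearMap.lTensor_tmul, LinearEquiv.coe_coe, TensorProduct.comm_tmul]
  abel

/-- The submodule of tensors fixed by the swap of the last two factors. -/
noncomputable def inv2 (k : Type u) [Field k] (A : Type v) [CommRing A] [Algebra k A] :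
    Submodule k (A ⊗[k] (A ⊗[k] A)) where
  carrier := {x | LinearMap.lTensor A (TensorProduct.comm k A A).toLinearMap x = x}
  add_mem' := by
    intro x y hx hy
    change _ = _ at hx hy
    change _ = _
    rw [map_add, hx, hy]
  zero_mem' := map_zero _
  smul_mem' := by
    intro c x hx
    change _ = _ at hx
    change _ = _
    rw [map_smul, hx]

lemma mem_inv2 {x : A ⊗[k] (A ⊗[k] A)} : x ∈ inv2 k A ↔
    LinearMap.lTensor A (TensorProduct.comm k A A).toLinearMap x = x := Iff.rfl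

lemma symP_mem_inv2 (P Q R : A) : symP (k := k) P Q R ∈ inv2 k A :=
  lTensor_comm_symP P Q R

/-- `id + swap`. -/
noncomputable def sym2 (k : Type u) [Field k] (A : Type v) [CommRing A] [Algebra k A] :
    A ⊗[k] (A ⊗[k] A) →ₗ[k] A ⊗[k] (A ⊗[k] A) :=
  LinearMap.id + LinearMap.lTensor A (TensorProduct.comm k A A).toLinearMap

lemma sym2_tmul (P Q R : A) : sym2 k A (P ⊗ₜ[k] (Q ⊗ₜ[k] R)) = symP P Q R := by
  simp only [sym2, LinearMap.add_apply, LinearMap.id_coe, id_eq, LinearMap.lTensor_tmul,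
    LinearEquiv.coe_coe, TensorProduct.comm_tmul, symP]

lemma sym2_of_mem {x : A ⊗[k] (A ⊗[k] A)} (hx : x ∈ inv2 k A) : sym2 k A x = (2 : k) • x := by
  have hx' : LinearMap.lTensor A (TensorProduct.comm k A A).toLinearMap x = x := hx
  simp only [sym2, LinearMap.add_apply, LinearMap.id_coe, id_eq, hx']
  module

section Main

variable (r₁₂ r₂₃ : A ⊗[k] (A ⊗[k] A) →ₗ[k] A ⊗[k] A)
  (h₁₂ : ∀ a u v : A, r₁₂ (a ⊗ₜ[k] (u ⊗ₜ[k] v)) = (a * u) ⊗ₜ[k] v)
  (h₂₃ : ∀ a u v : A, r₂₃ (a ⊗ₜ[k] (u ⊗ₜ[k] v)) = (u * v) ⊗ₜ[k] a)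

include h₁₂ in
lemma r₁₂_symP (P Q R : A) :
    r₁₂ (symP P Q R) = (P * Q) ⊗ₜ[k] R + (P * R) ⊗ₜ[k] Q := by
  simp only [symP, map_add, h₁₂]

include h₂₃ in
lemma r₂₃_symP (P Q R : A) :
    r₂₃ (symP P Q R) = (2 : k) • ((Q * R) ⊗ₜ[k] P) := by
  simp only [symP, map_add, h₂₃]
  rw [mul_comm R Q]
  module

/-- The pairs `(r₁₂ x, r₂₃ x)` with `x` invariant. -/
noncomputable def imPair : Submodule k ((A ⊗[k] A) × (A ⊗[k] A)) :=
  Submodule.map (r₁₂.prod r₂₃) (inv2 k A)

include h₁₂ h₂₃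

/-- Universal identity (a). -/
lemma pair_gen_mem (c e a : A) :
    ((c ⊗ₜ[k] e) * ((1 : A) ⊗ₜ[k] a - a ⊗ₜ[k] (1 : A)),
      (-2 : k) • ((c ⊗ₜ[k] e) * ((1 : A) ⊗ₜ[k] a - a ⊗ₜ[k] (1 : A)))) ∈ imPair r₁₂ r₂₃ := by
  refine ⟨symP 1 c (a * e) - symP 1 e (a * c) - symP (a * e) 1 c + symP e 1 (a * c), ?_, ?_⟩
  · exact Submodule.add_mem _ (Submodule.sub_mem _ (Submodule.sub_mem _
      (symP_mem_inv2 _ _ _) (symP_mem_inv2 _ _ _)) (symP_mem_inv2 _ _ _)) (symP_mem_inv2 _ _ _)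
  · rw [LinearMap.prod_apply, Function.prod_apply]
    refine Prod.ext ?_ ?_
    · simp only [map_add, map_sub, r₁₂_symP r₁₂ h₁₂, mul_sub, Algebra.TensorProduct.tmul_mul_tmul,
        one_mul, mul_one]
      ring_nf
    · simp only [map_add, map_sub, r₂₃_symP r₂₃ h₂₃, mul_sub, Algebra.TensorProduct.tmul_mul_tmul,
        one_mul, mul_one]
      ring_nf
      module

/-- Universal identity (b). -/
lemma zero_gen_mem [CharZero k] (c e a b : A) :
    ((0 : A ⊗[k] A), (c ⊗ₜ[k] e) * ((1 : A) ⊗ₜ[k] a - a ⊗ₜ[k] (1 : A)) *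
      ((1 : A) ⊗ₜ[k] b - b ⊗ₜ[k] (1 : A))) ∈ imPair r₁₂ r₂₃ := by
  refine ⟨(2⁻¹ : k) • (symP 1 (a * c) (b * e) - symP 1 e (a * b * c) - symP a c (b * e) +
    symP a e (b * c) + symP (a * b * e) 1 c - symP (a * e) 1 (b * c) - symP (b * e) 1 (a * c) +
    symP e 1 (a * b * c)), ?_, ?_⟩
  · refine Submodule.smul_mem _ _ ?_
    exact Submodule.add_mem _ (Submodule.sub_mem _ (Submodule.sub_mem _ (Submodule.add_mem _
      (Submodule.add_mem _ (Submodule.sub_mem _ (Submodule.sub_mem _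
      (symP_mem_inv2 _ _ _) (symP_mem_inv2 _ _ _)) (symP_mem_inv2 _ _ _)) (symP_mem_inv2 _ _ _))
      (symP_mem_inv2 _ _ _)) (symP_mem_inv2 _ _ _)) (symP_mem_inv2 _ _ _)) (symP_mem_inv2 _ _ _)
  · rw [LinearMap.prod_apply, Function.prod_apply]
    refine Prod.ext ?_ ?_
    · rw [map_smul]
      refine smul_eq_zero_of_right _ ?_
      simp only [map_add, map_sub, r₁₂_symP r₁₂ h₁₂, one_mul, mul_one]
      ring_nf
    · simp only [map_smul, map_add, map_sub, r₂₃_symP r₂₃ h₂₃, ← smul_add, ← smul_sub, smul_smul]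
      rw [inv_mul_cancel₀ (two_ne_zero), one_smul]
      simp only [mul_sub, sub_mul, Algebra.TensorProduct.tmul_mul_tmul, one_mul, mul_one]
      ring_nf

/-- `(p, -2p)` is in the image for `p` in the diagonal ideal. -/
lemma pair_mem_of_mem_ideal (p : A ⊗[k] A) (hp : p ∈ KaehlerDifferential.ideal k A) :
    (p, (-2 : k) • p) ∈ imPair r₁₂ r₂₃ := by
  have := ideal_le_of_gen (Submodule.comap
    ((LinearMap.id : A ⊗[k] A →ₗ[k] A ⊗[k] A).prod ((-2 : k) • LinearMap.id)) (imPair r₁₂ r₂₃))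
    (fun c e a => by
      rw [Submodule.mem_comap, LinearMap.prod_apply, Function.prod_apply, LinearMap.id_apply,
        LinearMap.smul_apply, LinearMap.id_apply]
      exact pair_gen_mem r₁₂ r₂₃ h₁₂ h₂₃ c e a) p hp
  rw [Submodule.mem_comap, LinearMap.prod_apply, Function.prod_apply, LinearMap.id_apply,
    LinearMap.smul_apply, LinearMap.id_apply] at this
  exact this

/-- `(0, j)` is in the image for `j` in the square of the diagonal ideal. -/
lemma zero_mem_of_mem_ideal_sq [CharZero k] (j : A ⊗[k] A)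
    (hj : j ∈ KaehlerDifferential.ideal k A ^ 2) :
    ((0 : A ⊗[k] A), j) ∈ imPair r₁₂ r₂₃ := by
  have := ideal_sq_le_of_gen (Submodule.comap
    (LinearMap.inr k (A ⊗[k] A) (A ⊗[k] A)) (imPair r₁₂ r₂₃))
    (fun c e a b => by
      rw [Submodule.mem_comap, LinearMap.inr_apply]
      exact zero_gen_mem r₁₂ r₂₃ h₁₂ h₂₃ c e a b) j hj
  rw [Submodule.mem_comap, LinearMap.inr_apply] at this
  exact this

/-- Main theorem: exactness at the last two places. -/
theorem ker_iff_and_surjective [CharZero k]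
    (ψ : (A ⊗[k] A) × (A ⊗[k] A) →ₗ[k] Ω[A⁄k])
    (hψ : ∀ a u b v : A, ψ (a ⊗ₜ[k] u, b ⊗ₜ[k] v) =
      (2 : A) • (a • KaehlerDifferential.D k A u) - v • KaehlerDifferential.D k A b) :
    (∀ p q : A ⊗[k] A, LinearMap.mul' k A p = LinearMap.mul' k A q →
      (ψ (p, q) = 0 ↔ ∃ x : A ⊗[k] (A ⊗[k] A),
        LinearMap.lTensor A (TensorProduct.comm k A A).toLinearMap x = x ∧
          r₁₂ x = p ∧ r₂₃ x = q)) ∧
    (∀ ω : Ω[A⁄k], ∃ p q : A ⊗[k] A,
      LinearMap.mul' k A p = LinearMap.mul' k A q ∧ ψ (p, q) = ω) := by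
  have h2 : (2 : k) ≠ 0 := two_ne_zero
  have e2 : ∀ x : Ω[A⁄k], (2 : A) • x = (2 : ℕ) • x := fun x => ofNat_smul_eq_nsmul A 2 x
  have e2k : ∀ x : Ω[A⁄k], (2 : k) • x = (2 : ℕ) • x := fun x => ofNat_smul_eq_nsmul k 2 x
  have hml : ∀ z : A ⊗[k] A, Algebra.TensorProduct.lmul' k z = LinearMap.mul' k A z :=
    fun z => rfl
  -- `ψ (p, 0) = 2 θ p`
  have hψ1 : ∀ p : A ⊗[k] A,
      ψ (p, 0) = (2 : ℕ) • (KaehlerDifferential.D k A).tensorProductTo p := by
    intro p
    induction p using TensorProduct.induction_on with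
    | zero => rw [Prod.mk_zero_zero, map_zero, map_zero, smul_zero]
    | tmul a u =>
      have := hψ a u 0 0
      rw [TensorProduct.zero_tmul, map_zero, smul_zero, sub_zero] at this
      rw [this, Derivation.tensorProductTo_tmul, e2]
    | add x y hx hy =>
      have : ((x + y, 0) : (A ⊗[k] A) × (A ⊗[k] A)) = (x, 0) + (y, 0) := by simp
      rw [this, map_add, hx, hy, map_add, smul_add]
  -- `ψ (0, q) = θ q - d (m q)`
  have hψ2 : ∀ q : A ⊗[k] A, ψ (0, q) = (KaehlerDifferential.D k A).tensorProductTo q -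
      KaehlerDifferential.D k A (LinearMap.mul' k A q) := by
    intro q
    induction q using TensorProduct.induction_on with
    | zero => rw [Prod.mk_zero_zero, map_zero, map_zero, map_zero, map_zero, sub_zero]
    | tmul b v =>
      have := hψ 0 0 b v
      rw [TensorProduct.zero_tmul, zero_smul, smul_zero, zero_sub] at this
      rw [this, Derivation.tensorProductTo_tmul, LinearMap.mul'_apply, Derivation.leibniz]
      module
    | add x y hx hy =>
      have : ((0, x + y) : (A ⊗[k] A) × (A ⊗[k] A)) = (0, x) + (0, y) := by simp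
      rw [this, map_add, hx, hy, map_add, map_add, map_add]
      abel
  have hψform : ∀ p q : A ⊗[k] A, ψ (p, q) =
      (2 : ℕ) • (KaehlerDifferential.D k A).tensorProductTo p +
        (KaehlerDifferential.D k A).tensorProductTo q -
        KaehlerDifferential.D k A (LinearMap.mul' k A q) := by
    intro p q
    have : ((p, q) : (A ⊗[k] A) × (A ⊗[k] A)) = (p, 0) + (0, q) := by simp
    rw [this, map_add, hψ1, hψ2]
    abel
  -- `ψ ∘ (r₁₂, r₂₃)` kills symmetrized tensors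
  have hsymP : ∀ P Q R : A, ψ (r₁₂ (symP P Q R), r₂₃ (symP P Q R)) = 0 := by
    intro P Q R
    rw [hψform, r₁₂_symP r₁₂ h₁₂, r₂₃_symP r₂₃ h₂₃, ofNat_smul_eq_nsmul k 2, map_add, map_nsmul,
      map_nsmul, Derivation.tensorProductTo_tmul, Derivation.tensorProductTo_tmul,
      Derivation.tensorProductTo_tmul, LinearMap.mul'_apply, map_nsmul, Derivation.leibniz,
      Derivation.leibniz]
    module
  set Ψ : A ⊗[k] (A ⊗[k] A) →ₗ[k] Ω[A⁄k] := ψ ∘ₗ (r₁₂.prod r₂₃) with hΨ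
  have hΨapp : ∀ x, Ψ x = ψ (r₁₂ x, r₂₃ x) := fun x => rfl
  have hsym : ∀ x : A ⊗[k] (A ⊗[k] A), Ψ (sym2 k A x) = 0 := by
    intro x
    induction x using TensorProduct.induction_on with
    | zero => simp
    | tmul a y =>
      induction y using TensorProduct.induction_on with
      | zero => simp
      | tmul b c => rw [sym2_tmul, hΨapp]; exact hsymP a b c
      | add y z hy hz => rw [TensorProduct.tmul_add, map_add, map_add, hy, hz, add_zero]
    | add x y hx hy => rw [map_add, map_add, hx, hy, add_zero]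
  have hinv : ∀ x ∈ inv2 k A, Ψ x = 0 := by
    intro x hx
    have h := hsym x
    rw [sym2_of_mem hx, map_smul] at h
    exact (smul_eq_zero.1 h).resolve_left h2
  refine ⟨fun p q hpq => ⟨fun hy => ?_, ?_⟩, ?_⟩
  · -- `ψ (p, q) = 0 → (p, q)` is in the image
    obtain ⟨f, hf⟩ : ∃ f : A, f = LinearMap.mul' k A p := ⟨_, rfl⟩
    set x₀ : A ⊗[k] (A ⊗[k] A) := f ⊗ₜ[k] ((1 : A) ⊗ₜ[k] (1 : A)) with hx₀
    have hx₀mem : x₀ ∈ inv2 k A := by
      rw [mem_inv2, hx₀, LinearMap.lTensor_tmul, LinearEquiv.coe_coe, TensorProduct.comm_tmul]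
    have hr1 : r₁₂ x₀ = f ⊗ₜ[k] (1 : A) := by rw [hx₀, h₁₂, mul_one]
    have hr2 : r₂₃ x₀ = (1 : A) ⊗ₜ[k] f := by rw [hx₀, h₂₃, mul_one]
    set p' : A ⊗[k] A := p - f ⊗ₜ[k] (1 : A) with hp'
    set q' : A ⊗[k] A := q - (1 : A) ⊗ₜ[k] f with hq'
    have hmp' : LinearMap.mul' k A p' = 0 := by
      rw [hp', map_sub, LinearMap.mul'_apply, mul_one, ← hf, sub_self]
    have hmq' : LinearMap.mul' k A q' = 0 := by
      rw [hq', map_sub, LinearMap.mul'_apply, one_mul, ← hpq, ← hf, sub_self]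
    have hp'mem : p' ∈ KaehlerDifferential.ideal k A := hmp'
    have hq'mem : q' ∈ KaehlerDifferential.ideal k A := hmq'
    have hψ' : ψ (p', q') = 0 := by
      have h0 : Ψ x₀ = 0 := hinv x₀ hx₀mem
      rw [hΨapp, hr1, hr2] at h0
      have : ((p', q') : (A ⊗[k] A) × (A ⊗[k] A)) =
          (p, q) - (f ⊗ₜ[k] (1 : A), (1 : A) ⊗ₜ[k] f) := by
        rw [Prod.mk_sub_mk]
      rw [this, map_sub, hy, h0, sub_zero]
    set z : A ⊗[k] A := (2 : ℕ) • p' + q' with hz
    have hzmem : z ∈ KaehlerDifferential.ideal k A :=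
      Ideal.add_mem _ (nsmul_mem hp'mem 2) hq'mem
    have hθ : (KaehlerDifferential.D k A).tensorProductTo z = 0 := by
      have h := hψform p' q'
      rw [hψ', hmq', map_zero, sub_zero] at h
      rw [hz, map_add, map_nsmul]
      exact h.symm
    have hsq : z ∈ KaehlerDifferential.ideal k A ^ 2 := by
      have := KaehlerDifferential.D_tensorProductTo (R := k) (S := A) ⟨z, hzmem⟩
      rw [hθ] at this
      exact (Ideal.toCotangent_eq_zero _ _).1 this.symm
    obtain ⟨x₁, hx₁mem, hx₁⟩ := pair_mem_of_mem_ideal r₁₂ r₂₃ h₁₂ h₂₃ p' hp'mem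
    obtain ⟨x₂, hx₂mem, hx₂⟩ := zero_mem_of_mem_ideal_sq r₁₂ r₂₃ h₁₂ h₂₃ z hsq
    have hx₁a : r₁₂ x₁ = p' := congrArg Prod.fst hx₁
    have hx₁b : r₂₃ x₁ = (-2 : k) • p' := congrArg Prod.snd hx₁
    have hx₂a : r₁₂ x₂ = 0 := congrArg Prod.fst hx₂
    have hx₂b : r₂₃ x₂ = z := congrArg Prod.snd hx₂
    refine ⟨x₀ + x₁ + x₂, ?_, ?_, ?_⟩
    · have := Submodule.add_mem _ (Submodule.add_mem _ hx₀mem hx₁mem) hx₂mem
      exact this
    · rw [map_add, map_add, hr1, hx₁a, hx₂a, hp']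
      abel
    · rw [map_add, map_add, hr2, hx₁b, hx₂b, hz, hq']
      module
  · rintro ⟨x, hx, rfl, rfl⟩
    exact hinv x hx
  · -- surjectivity
    have hform : ∀ a u : A, ψ ((2⁻¹ : k) • (a ⊗ₜ[k] u), (2⁻¹ : k) • ((1 : A) ⊗ₜ[k] (a * u))) =
        a • KaehlerDifferential.D k A u := by
      intro a u
      have : (((2⁻¹ : k) • (a ⊗ₜ[k] u), (2⁻¹ : k) • ((1 : A) ⊗ₜ[k] (a * u))) :
          (A ⊗[k] A) × (A ⊗[k] A)) = (2⁻¹ : k) • (a ⊗ₜ[k] u, (1 : A) ⊗ₜ[k] (a * u)) := by
        rw [Prod.smul_mk]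
      rw [this, map_smul, hψ, Derivation.map_one_eq_zero, smul_zero, sub_zero, e2, ← e2k,
        smul_smul, inv_mul_cancel₀ h2, one_smul]
    have key : ∀ ω : Ω[A⁄k], ∀ c : A, ∃ p q : A ⊗[k] A,
        LinearMap.mul' k A p = LinearMap.mul' k A q ∧ ψ (p, q) = c • ω := by
      intro ω
      have hω : ω ∈ Submodule.span A (Set.range (KaehlerDifferential.D k A)) := by
        rw [KaehlerDifferential.span_range_derivation k A]; trivial
      induction hω using Submodule.span_induction with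
      | mem x hx =>
        obtain ⟨b, rfl⟩ := hx
        intro c
        refine ⟨_, _, ?_, hform c b⟩
        rw [map_smul, map_smul, LinearMap.mul'_apply, LinearMap.mul'_apply, one_mul]
      | zero =>
        intro c
        exact ⟨0, 0, rfl, by rw [smul_zero]; exact map_zero ψ⟩
      | add x y _ _ hx hy =>
        intro c
        obtain ⟨p₁, q₁, h₁, h₁'⟩ := hx c
        obtain ⟨p₂, q₂, h₂, h₂'⟩ := hy c
        refine ⟨p₁ + p₂, q₁ + q₂, by rw [map_add, map_add, h₁, h₂], ?_⟩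
        have : ((p₁ + p₂, q₁ + q₂) : (A ⊗[k] A) × (A ⊗[k] A)) = (p₁, q₁) + (p₂, q₂) := by
          rw [Prod.mk_add_mk]
        rw [this, map_add, h₁', h₂', smul_add]
      | smul a x _ hx => intro c; rw [smul_smul]; exact hx (c * a)
    intro ω
    obtain ⟨p, q, h, h'⟩ := key ω 1
    exact ⟨p, q, h, by rw [h', one_smul]⟩

end Main

end Groth.Agent.Lib.Seat94.DiagTrans3
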