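import Mathlib
import Groth.Agent.Lib.Seat20EtFinitePart
import Groth.Agent.Lib.Seat29Strata5

/-!
# Stratifying a quasi-finite morphism into finite pieces (seat 94)

For `j : U ⟶ X` locally quasi-finite of finite type with `U`, `X` quasi-compact quasi-separated,
`X` is a finite disjoint union of constructible locally closed pieces over each of which `j`
becomes finite.
-/

set_option autoImplicit false
universe u
open CategoryTheory CategoryTheory.Limits AlgebraicGeometry Opposite TensorProduct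

namespace Groth.Agent.Lib.Seat94.EtStrat

section Ring

variable {A B : Type u} [CommRing A] [CommRing B] [Algebra A B] (p : Ideal A) [p.IsPrime]

/-- The kernel of `B → κ(p) ⊗ B`. -/
lemma exists_mul_mem_map_of_one_tmul_eq_zero (b : B)
    (hb : (1 : p.ResidueField) ⊗ₜ[A] b = 0) :
    ∃ s ∉ p, algebraMap A B s * b ∈ p.map (algebraMap A B) := by
  let _ : Algebra B (p.Fiber B) := Algebra.TensorProduct.rightAlgebra
  have h1 : algebraMap B (p.Fiber B) b = 0 := hb
  have h2 := congrArg (Ideal.Fiber.algEquivAux₁ p) h1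
  rw [AlgEquiv.commutes, map_zero] at h2
  rw [IsScalarTower.algebraMap_apply B
    (Localization (Algebra.algebraMapSubmonoid B p.primeCompl)) , Ideal.Quotient.algebraMap_eq,
    Ideal.Quotient.eq_zero_iff_mem,
    IsLocalization.algebraMap_mem_map_algebraMap_iff
      (Algebra.algebraMapSubmonoid B p.primeCompl)] at h2
  obtain ⟨m, hm, h⟩ := h2
  obtain ⟨s, hs, rfl⟩ := hm
  exact ⟨s, hs, h⟩

/-- Elements of `p.map (algebraMap A B)` lie in the extension of a finitely generated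
subideal of `p`. -/
lemma exists_fg_le_of_mem_map (b : B) (hb : b ∈ p.map (algebraMap A B)) :
    ∃ I : Ideal A, I.FG ∧ I ≤ p ∧ b ∈ I.map (algebraMap A B) := by
  classical
  obtain ⟨T, hT, hbT⟩ := Submodule.mem_span_finite_of_mem_span hb
  obtain ⟨T', hT', rfl⟩ := Finset.subset_set_image_iff.mp hT
  refine ⟨Ideal.span (T' : Set A), ⟨T', rfl⟩, Ideal.span_le.mpr hT', ?_⟩
  rw [Ideal.map_span]
  simpa using hbT

lemma exists_isIntegral_spread [Module.Finite p.ResidueField (p.Fiber B)] (y : B) :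
    ∃ g ∉ p, ∃ I : Ideal A, I.FG ∧ I ≤ p ∧ ∀ (C : Type u) [CommRing C] [Algebra A C],
      IsUnit (algebraMap A C g) → (∀ a ∈ I, algebraMap A C a = 0) →
      IsIntegral C ((1 : C) ⊗ₜ[A] y) := by
  have hint : IsIntegral p.ResidueField ((1 : p.ResidueField) ⊗ₜ[A] y) :=
    Algebra.IsIntegral.isIntegral _
  obtain ⟨⟨m, hm⟩, hm'⟩ := IsIntegral.exists_multiple_integral_of_isLocalization (R := A ⧸ p)
    (nonZeroDivisors (A ⧸ p)) _ hint
  obtain ⟨t, rfl⟩ := Ideal.Quotient.mk_surjective m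
  have htp : t ∉ p := by
    intro h
    rw [← Ideal.Quotient.eq_zero_iff_mem] at h
    exact nonZeroDivisors.ne_zero hm h
  have e1 : (⟨Ideal.Quotient.mk p t, hm⟩ : nonZeroDivisors (A ⧸ p)) •
      ((1 : p.ResidueField) ⊗ₜ[A] y) = 1 ⊗ₜ[A] (t • y) := by
    rw [Submonoid.smul_def, TensorProduct.tmul_smul]
    change (Ideal.Quotient.mk p t) • _ = _
    rw [← Ideal.Quotient.algebraMap_eq, algebraMap_smul]
  rw [e1] at hm'
  have : Algebra.IsIntegral A (A ⧸ p) :=
    Algebra.isIntegral_of_surjective Ideal.Quotient.mk_surjective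
  have hA : IsIntegral A ((1 : p.ResidueField) ⊗ₜ[A] (t • y)) := isIntegral_trans _ hm'
  obtain ⟨P, hP, hP'⟩ := hA
  have e2 : (1 : p.ResidueField) ⊗ₜ[A] (Polynomial.aeval (t • y) P) = 0 := by
    rw [← hP', ← Polynomial.aeval_def]
    exact (Polynomial.aeval_algHom_apply
      (Algebra.TensorProduct.includeRight : B →ₐ[A] p.Fiber B) (t • y) P).symm
  obtain ⟨s, hs, hsb⟩ := exists_mul_mem_map_of_one_tmul_eq_zero p _ e2
  obtain ⟨I, hI, hIp, hbI⟩ := exists_fg_le_of_mem_map p _ hsb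
  refine ⟨s * t, fun h => (Ideal.IsPrime.mem_or_mem inferInstance h).elim hs htp, I, hI, hIp, ?_⟩
  intro C _ _ hu hI0
  rw [map_mul] at hu
  have hs' : IsUnit (algebraMap A C s) := isUnit_of_mul_isUnit_left hu
  have ht' : IsUnit (algebraMap A C t) := isUnit_of_mul_isUnit_right hu
  -- the image of `I B` in `C ⊗ B` vanishes
  have hker : I.map (algebraMap A B) ≤
      RingHom.ker (Algebra.TensorProduct.includeRight : B →ₐ[A] C ⊗[A] B).toRingHom := by
    rw [Ideal.map_le_iff_le_comap]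
    intro a ha
    rw [Ideal.mem_comap, RingHom.mem_ker]
    change (1 : C) ⊗ₜ[A] (algebraMap A B a) = 0
    rw [Algebra.algebraMap_eq_smul_one, ← TensorProduct.smul_tmul, ← Algebra.algebraMap_eq_smul_one,
      hI0 a ha, TensorProduct.zero_tmul]
  have e3 : (1 : C) ⊗ₜ[A] (algebraMap A B s * Polynomial.aeval (t • y) P) = 0 := hker hbI
  have e4 : (1 : C) ⊗ₜ[A] (Polynomial.aeval (t • y) P) = 0 := by
    have : algebraMap A C s • ((1 : C) ⊗ₜ[A] (Polynomial.aeval (t • y) P)) = 0 := by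
      rw [← e3, ← Algebra.smul_def, TensorProduct.tmul_smul, algebraMap_smul]
    exact (hs'.smul_eq_zero).mp this
  have h5 : IsIntegral C ((1 : C) ⊗ₜ[A] (t • y)) := by
    refine ⟨P.map (algebraMap A C), hP.map _, ?_⟩
    rw [← Polynomial.aeval_def, Polynomial.aeval_map_algebraMap, ← e4]
    exact (Polynomial.aeval_algHom_apply
      (Algebra.TensorProduct.includeRight : B →ₐ[A] C ⊗[A] B) (t • y) P)
  have e6 : (1 : C) ⊗ₜ[A] y = (↑ht'.unit⁻¹ : C) • ((1 : C) ⊗ₜ[A] (t • y)) := by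
    rw [TensorProduct.tmul_smul, ← algebraMap_smul C t, smul_smul, IsUnit.val_inv_mul, one_smul]
  rw [e6]
  exact h5.smul _


lemma exists_finite_spread [Algebra.FiniteType A B] [Module.Finite p.ResidueField (p.Fiber B)] :
    ∃ g ∉ p, ∃ I : Ideal A, I.FG ∧ I ≤ p ∧ ∀ (C : Type u) [CommRing C] [Algebra A C],
      IsUnit (algebraMap A C g) → (∀ a ∈ I, algebraMap A C a = 0) →
      Module.Finite C (C ⊗[A] B) := by
  classical
  obtain ⟨s, hs⟩ := (Algebra.FiniteType.out : (⊤ : Subalgebra A B).FG)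
  choose g hg I hI hIp hint using exists_isIntegral_spread (B := B) p
  refine ⟨∏ y ∈ s, g y, ?_, ⨆ y ∈ s, I y, ?_, ?_, ?_⟩
  · intro h
    obtain ⟨y, -, hy⟩ := Ideal.IsPrime.prod_mem_iff.mp h
    exact hg y hy
  · exact Submodule.fg_biSup s _ (fun y _ => hI y)
  · exact iSup₂_le fun y _ => hIp y
  · intro C _ _ hu h0
    have hy : ∀ y ∈ s, IsIntegral C ((1 : C) ⊗ₜ[A] y) := by
      intro y hys
      refine hint y C ?_ (fun a ha => h0 a ?_)
      · rw [map_prod] at hu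
        exact (IsUnit.prod_iff.mp hu) y hys
      · exact (le_iSup₂ (f := fun y (_ : y ∈ s) => I y) y hys) ha
    have htop := Algebra.TensorProduct.adjoin_one_tmul_image_eq_top (A := C) (s : Set B) hs
    have hfg := fg_adjoin_of_finite (R := C) (s := ((1 : C) ⊗ₜ[A] ·) '' (s : Set B))
      (Set.Finite.image _ s.finite_toSet) (by rintro _ ⟨y, hy', rfl⟩; exact hy y hy')
    rw [htop] at hfg
    exact ⟨by simpa using hfg⟩

end Ring

section Glue

lemma exists_lift_opens {Y : Scheme.{u}} {R : Type u} [CommRing R] [IsLocalRing R]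
    (l : Spec (.of R) ⟶ Y) (V : Y.Opens) (h : l (IsLocalRing.closedPoint R) ∈ V) :
    ∃ l' : Spec (.of R) ⟶ V, l' ≫ V.ι = l := by
  refine ⟨IsOpenImmersion.lift V.ι l ?_, IsOpenImmersion.lift_fac _ _ _⟩
  rintro _ ⟨x, rfl⟩
  rw [Scheme.Opens.range_ι]
  have hx : x ⤳ IsLocalRing.closedPoint R := IsLocalRing.specializes_closedPoint x
  exact (hx.map l.continuous).mem_open V.isOpen h

/-- A quasi-separated morphism which is, locally on the source, finite, compatibly on overlaps,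
is separated. -/
theorem isSeparated_of_opens {Y P : Scheme.{u}} (f : Y ⟶ P) [QuasiSeparated f]
    (H : ∀ y₁ y₂ : Y, ∃ V₁ V₂ : Y.Opens, y₁ ∈ V₁ ∧ y₂ ∈ V₂ ∧ IsFinite (V₁.ι ≫ f) ∧
      IsFinite (V₂.ι ≫ f) ∧
      ∀ y ∈ V₁ ⊓ V₂, ∃ V₃ : Y.Opens, y ∈ V₃ ∧ V₃ ≤ V₁ ⊓ V₂ ∧ IsFinite (V₃.ι ≫ f)) :
    IsSeparated f := by
  apply IsSeparated.of_valuativeCriterion
  intro S
  constructor
  intro l₁ l₂
  ext1
  obtain ⟨V₁, V₂, h1, h2, hf1, hf2, h3⟩ :=
    H (l₁.l (IsLocalRing.closedPoint S.R)) (l₂.l (IsLocalRing.closedPoint S.R))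
  obtain ⟨l₁', e₁⟩ := exists_lift_opens l₁.l V₁ h1
  obtain ⟨l₂', e₂⟩ := exists_lift_opens l₂.l V₂ h2
  let η : Spec (.of S.K) := (⊥ : PrimeSpectrum S.K)
  have hη1 : S.i₁ η ∈ V₁ := by
    rw [← l₁.fac_left, ← e₁, Scheme.Hom.comp_apply, Scheme.Hom.comp_apply]
    exact (l₁' _).2
  have hη2 : S.i₁ η ∈ V₂ := by
    rw [← l₂.fac_left, ← e₂, Scheme.Hom.comp_apply, Scheme.Hom.comp_apply]
    exact (l₂' _).2
  obtain ⟨V₃, hη3, hle, hf3⟩ := h3 _ ⟨hη1, hη2⟩
  have hsub : ∀ x : Spec (.of S.K), x = η := fun x => Subsingleton.elim _ _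
  let i₃ : Spec (.of S.K) ⟶ V₃ := IsOpenImmersion.lift V₃.ι S.i₁ (by
    rintro _ ⟨x, rfl⟩
    rw [Scheme.Opens.range_ι, hsub x]
    exact hη3)
  have hi₃ : i₃ ≫ V₃.ι = S.i₁ := IsOpenImmersion.lift_fac _ _ _
  let S₃ : ValuativeCommSq (V₃.ι ≫ f) :=
    { R := S.R, K := S.K, i₁ := i₃, i₂ := S.i₂,
      commSq := ⟨by rw [← Category.assoc, hi₃, S.commSq.w]⟩ }
  have hex : ValuativeCriterion.Existence (V₃.ι ≫ f) := by
    have : UniversallyClosed (V₃.ι ≫ f) := inferInstance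
    rw [UniversallyClosed.eq_valuativeCriterion] at this
    exact this.1
  obtain ⟨⟨l₃⟩⟩ := hex S₃
  -- compare with `l₁`
  have key : ∀ (V : Y.Opens) (hV : V₃ ≤ V) [IsFinite (V.ι ≫ f)] (l : S.commSq.LiftStruct)
      (l' : Spec (.of S.R) ⟶ V) (e : l' ≫ V.ι = l.l), l.l = l₃.l ≫ V₃.ι := by
    intro V hV _ l l' e
    let SV : ValuativeCommSq (V.ι ≫ f) :=
      { R := S.R, K := S.K, i₁ := i₃ ≫ Y.homOfLE hV, i₂ := S.i₂,
        commSq := ⟨by
          rw [Category.assoc, Scheme.homOfLE_ι_assoc, ← Category.assoc, hi₃, S.commSq.w]⟩ }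
    have hsub := IsSeparated.valuativeCriterion (V.ι ≫ f) SV
    let a : SV.commSq.LiftStruct :=
      { l := l'
        fac_left := by
          rw [← cancel_mono V.ι, Category.assoc, e, l.fac_left, Category.assoc,
            Scheme.homOfLE_ι, hi₃]
        fac_right := by rw [← Category.assoc, e, l.fac_right] }
    let b : SV.commSq.LiftStruct :=
      { l := l₃.l ≫ Y.homOfLE hV
        fac_left := by
          have := l₃.fac_left
          rw [← Category.assoc, this]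
        fac_right := by
          have := l₃.fac_right
          rw [Category.assoc, Scheme.homOfLE_ι_assoc, this] }
    have hab : a = b := Subsingleton.elim _ _
    have := congrArg CommSq.LiftStruct.l hab
    change l' = l₃.l ≫ Y.homOfLE hV at this
    rw [← e, this, Category.assoc, Scheme.homOfLE_ι]
  rw [key V₁ (hle.trans inf_le_left) l₁ l₁' e₁, key V₂ (hle.trans inf_le_right) l₂ l₂' e₂]

/-- Gluing finiteness. -/
theorem isFinite_of_opens {Y P : Scheme.{u}} (f : Y ⟶ P) [QuasiSeparated f]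
    [LocallyOfFiniteType f] [CompactSpace Y]
    (H : ∀ y₁ y₂ : Y, ∃ V₁ V₂ : Y.Opens, y₁ ∈ V₁ ∧ y₂ ∈ V₂ ∧ IsFinite (V₁.ι ≫ f) ∧
      IsFinite (V₂.ι ≫ f) ∧
      ∀ y ∈ V₁ ⊓ V₂, ∃ V₃ : Y.Opens, y ∈ V₃ ∧ V₃ ≤ V₁ ⊓ V₂ ∧ IsFinite (V₃.ι ≫ f)) :
    IsFinite f := by
  have := isSeparated_of_opens f H
  have H' : ∀ y : Y, ∃ V : Y.Opens, y ∈ V ∧ IsFinite (V.ι ≫ f) := by
    intro y
    obtain ⟨V₁, -, h1, -, hf1, -⟩ := H y y
    exact ⟨V₁, h1, hf1⟩
  choose V hyV hV using H'
  obtain ⟨s, hs⟩ := isCompact_univ.elim_finite_subcover (fun y => ((V y : Y.Opens) : Set Y))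
    (fun y => (V y).isOpen) (fun y _ => Set.mem_iUnion.mpr ⟨y, hyV y⟩)
  have htop : s.sup V = ⊤ := by
    rw [eq_top_iff]
    intro y _
    obtain ⟨a, ha⟩ := Set.mem_iUnion.mp (hs (Set.mem_univ y))
    obtain ⟨has, hya⟩ := Set.mem_iUnion.mp ha
    exact (Finset.le_sup (f := V) has) hya
  have hfin := Groth.Agent.Lib.Seat20.EtFinitePart.isFinite_finset_sup f s V (fun a _ => hV a)
  rw [htop] at hfin
  have e : f = (Scheme.topIso Y).inv ≫ (⊤ : Y.Opens).ι ≫ f := by
    rw [← Category.assoc, Scheme.toIso_inv_ι, Category.id_comp]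
  rw [e]
  infer_instance

end Glue

section Chart

lemma isPullback_comp_mono {C : Type*} [Category C] {P X Y W Z : C} {fst : P ⟶ X} {snd : P ⟶ Y}
    {f : X ⟶ W} {g : Y ⟶ W} (h : IsPullback fst snd f g) (i : W ⟶ Z) [Mono i] :
    IsPullback fst snd (f ≫ i) (g ≫ i) :=
  ⟨⟨by rw [← Category.assoc, h.w, Category.assoc]⟩,
    ⟨PullbackCone.isLimitOfCompMono f g i _ h.isLimit⟩⟩

/-- finiteness of `Spec (C ⊗ B) ⟶ Spec C` -/
lemma isFinite_SpecMap_includeLeft {A B C : Type u} [CommRing A] [CommRing B] [CommRing C]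
    [Algebra A B] [Algebra A C] [Module.Finite C (C ⊗[A] B)] :
    IsFinite (Spec.map (CommRingCat.ofHom (S := C ⊗[A] B)
      (Algebra.TensorProduct.includeLeftRingHom : C →+* C ⊗[A] B))) := by
  rw [IsFinite.SpecMap_iff]
  change (algebraMap C (C ⊗[A] B)).Finite
  rw [RingHom.finite_algebraMap]
  infer_instance

theorem isFinite_chart {U X : Scheme.{u}} (j : U ⟶ X) {W : X.Opens} (hW : IsAffineOpen W)
    {V : U.Opens} (hV : IsAffineOpen V) (e : V ≤ j ⁻¹ᵁ W)
    {C : Type u} [CommRing C] (ψ : Γ(X, W) →+* C)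
    (hfin : letI := ψ.toAlgebra; letI := (j.appLE W V e).hom.toAlgebra
      Module.Finite C (C ⊗[Γ(X, W)] Γ(U, V))) :
    IsFinite ((pullback.fst j (Spec.map (CommRingCat.ofHom ψ) ≫ hW.fromSpec) ⁻¹ᵁ V).ι ≫
      pullback.snd j (Spec.map (CommRingCat.ofHom ψ) ≫ hW.fromSpec)) := by
  let _ := ψ.toAlgebra
  let _ := (j.appLE W V e).hom.toAlgebra
  set z := Spec.map (CommRingCat.ofHom ψ) ≫ hW.fromSpec with hz
  have hP1 := (isPullback_SpecMap_of_isPushout _ _ _ _
    (CommRingCat.isPushout_tensorProduct Γ(X, W) C Γ(U, V))).flip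
  have hP2 := isPullback_comp_mono hP1 hW.fromSpec
  have hP3 : IsPullback (Spec.map (CommRingCat.ofHom (S := C ⊗[Γ(X, W)] Γ(U, V))
      (Algebra.TensorProduct.includeRight : Γ(U, V) →ₐ[Γ(X, W)] C ⊗[Γ(X, W)] Γ(U, V)).toRingHom) ≫
        hV.isoSpec.inv)
      (Spec.map (CommRingCat.ofHom (S := C ⊗[Γ(X, W)] Γ(U, V))
        (Algebra.TensorProduct.includeLeftRingHom : C →+* C ⊗[Γ(X, W)] Γ(U, V))))
      (V.ι ≫ j) z := by
    refine hP2.of_iso (Iso.refl _) hV.isoSpec.symm (Iso.refl _) (Iso.refl _) ?_ ?_ ?_ ?_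
    · simp
    · simp
    · rw [Iso.refl_hom, Category.comp_id, Iso.symm_hom, ← Category.assoc, hV.isoSpec_inv_ι,
        ← IsAffineOpen.SpecMap_appLE_fromSpec j hW hV e]
      rfl
    · rw [Iso.refl_hom, Iso.refl_hom, Category.comp_id, Category.id_comp]
  have hP4 : IsPullback (pullback.fst j z ∣_ V) ((pullback.fst j z ⁻¹ᵁ V).ι ≫ pullback.snd j z)
      (V.ι ≫ j) z :=
    ((isPullback_morphismRestrict (pullback.fst j z) V).flip.paste_horiz
      (IsPullback.of_hasPullback j z).flip).flip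
  have hfinL := isFinite_SpecMap_includeLeft (A := Γ(X, W)) (B := Γ(U, V)) (C := C)
  have : (pullback.fst j z ⁻¹ᵁ V).ι ≫ pullback.snd j z = (hP4.isoIsPullback _ _ hP3).hom ≫
      Spec.map (CommRingCat.ofHom (S := C ⊗[Γ(X, W)] Γ(U, V))
        (Algebra.TensorProduct.includeLeftRingHom : C →+* C ⊗[Γ(X, W)] Γ(U, V))) :=
    (IsPullback.isoIsPullback_hom_snd _ _ hP4 hP3).symm
  rw [this]
  infer_instance

end Chart

section Local

variable {U X : Scheme.{u}}

theorem exists_spread_chart (j : U ⟶ X) [LocallyOfFiniteType j] [LocallyQuasiFinite j]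
    {W : X.Opens} (hW : IsAffineOpen W) {V : U.Opens} (hV : IsAffineOpen V) (e : V ≤ j ⁻¹ᵁ W)
    (p : Ideal Γ(X, W)) [p.IsPrime] :
    ∃ g ∉ p, ∃ I : Ideal Γ(X, W), I.FG ∧ I ≤ p ∧ ∀ (C : Type u) [CommRing C]
      (ψ : Γ(X, W) →+* C), IsUnit (ψ g) → (∀ a ∈ I, ψ a = 0) →
      IsFinite ((pullback.fst j (Spec.map (CommRingCat.ofHom ψ) ≫ hW.fromSpec) ⁻¹ᵁ V).ι ≫
        pullback.snd j (Spec.map (CommRingCat.ofHom ψ) ≫ hW.fromSpec)) := by
  let _ : Algebra Γ(X, W) Γ(U, V) := (j.appLE W V e).hom.toAlgebra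
  have h1 : Algebra.FiniteType Γ(X, W) Γ(U, V) := j.finiteType_appLE hW hV e
  have h2 : Algebra.QuasiFinite Γ(X, W) Γ(U, V) := LocallyQuasiFinite.quasiFinite_appLE hW hV e
  obtain ⟨g, hg, I, hI, hIp, H⟩ := exists_finite_spread (B := Γ(U, V)) p
  refine ⟨g, hg, I, hI, hIp, fun C _ ψ hu h0 => ?_⟩
  let _ : Algebra Γ(X, W) C := ψ.toAlgebra
  exact isFinite_chart j hW hV e ψ (H C hu h0)

/-- Around every point of `X` there is an affine, finitely presented, locally closed subscheme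
over which the quasi-finite morphism `j` becomes finite. -/
theorem exists_local_stratum [CompactSpace U] [QuasiSeparatedSpace U] [QuasiSeparatedSpace X]
    (j : U ⟶ X) [LocallyOfFiniteType j] [LocallyQuasiFinite j] (x : X) :
    ∃ (Z : Scheme.{u}) (z : Z ⟶ X), IsAffine Z ∧ IsImmersion z ∧
      LocallyOfFinitePresentation z ∧ x ∈ Set.range z ∧ IsFinite (pullback.snd j z) := by
  classical
  obtain ⟨W, hW, hxW, -⟩ := TopologicalSpace.Opens.isBasis_iff_nbhd.mp X.isBasis_affineOpens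
    (show x ∈ (⊤ : X.Opens) from trivial)
  have hcomp : IsCompact ((j ⁻¹ᵁ W : U.Opens) : Set U) := j.isCompact_preimage hW.isCompact
  obtain ⟨s₁, hs₁fin, hs₁⟩ := isCompact_iff_finite_and_eq_biUnion_affineOpens.mp hcomp
  have hs₂ : ∀ a b : U.affineOpens, ∃ s : Set U.affineOpens, s.Finite ∧
      a.1 ⊓ b.1 = ⨆ i ∈ s, (i : U.Opens) := fun a b =>
    isCompact_iff_finite_and_eq_biUnion_affineOpens.mp
      (QuasiSeparatedSpace.inter_isCompact _ _ a.1.isOpen a.2.isCompact b.1.isOpen b.2.isCompact)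
  choose s₂ hs₂fin hs₂ using hs₂
  have h𝒱fin : (s₁ ∪ ⋃ a ∈ s₁, ⋃ b ∈ s₁, s₂ a b).Finite :=
    hs₁fin.union (hs₁fin.biUnion fun a _ => hs₁fin.biUnion fun b _ => hs₂fin a b)
  set 𝒱 := h𝒱fin.toFinset with h𝒱
  have hle₁ : ∀ a ∈ s₁, a.1 ≤ j ⁻¹ᵁ W := fun a ha => by
    rw [hs₁]
    exact le_iSup₂ (f := fun (i : U.affineOpens) (_ : i ∈ s₁) => (i : U.Opens)) a ha
  have hle₂ : ∀ a b c, c ∈ s₂ a b → c.1 ≤ a.1 ⊓ b.1 := fun a b c hc => by
    rw [hs₂ a b]
    exact le_iSup₂ (f := fun (i : U.affineOpens) (_ : i ∈ s₂ a b) => (i : U.Opens)) c hc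
  have hle : ∀ V ∈ 𝒱, V.1 ≤ j ⁻¹ᵁ W := by
    intro V hV
    rw [h𝒱, Set.Finite.mem_toFinset] at hV
    rcases hV with hV | hV
    · exact hle₁ V hV
    · obtain ⟨a, ha, hV⟩ := Set.mem_iUnion₂.mp hV
      obtain ⟨b, hb, hV⟩ := Set.mem_iUnion₂.mp hV
      exact ((hle₂ a b V hV).trans inf_le_left).trans (hle₁ a ha)
  set p := (hW.primeIdealOf ⟨x, hxW⟩).asIdeal with hp
  have hG : ∀ V : U.affineOpens, ∃ g ∉ p, ∃ I : Ideal Γ(X, W), I.FG ∧ I ≤ p ∧
      (V ∈ 𝒱 → ∀ (C : Type u) [CommRing C] (ψ : Γ(X, W) →+* C), IsUnit (ψ g) →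
        (∀ a ∈ I, ψ a = 0) →
        IsFinite ((pullback.fst j (Spec.map (CommRingCat.ofHom ψ) ≫ hW.fromSpec) ⁻¹ᵁ V.1).ι ≫
          pullback.snd j (Spec.map (CommRingCat.ofHom ψ) ≫ hW.fromSpec))) := by
    intro V
    by_cases hV : V ∈ 𝒱
    · obtain ⟨g, hg, I, hI, hIp, H⟩ := exists_spread_chart j hW V.2 (hle V hV) p
      exact ⟨g, hg, I, hI, hIp, fun _ => H⟩
    · exact ⟨1, fun h => (inferInstance : p.IsPrime).ne_top (p.eq_top_iff_one.mpr h), ⊥,
        Submodule.fg_bot, bot_le, fun h => absurd h hV⟩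
  choose gV hgV IV hIVfg hIVp HV using hG
  set g := ∏ V ∈ 𝒱, gV V with hg
  set I := ⨆ V ∈ 𝒱, IV V with hI
  have hgp : g ∉ p := by
    intro h
    obtain ⟨V, -, hV⟩ := Ideal.IsPrime.prod_mem_iff.mp h
    exact hgV V hV
  have hIfg : I.FG := Submodule.fg_biSup 𝒱 _ (fun V _ => hIVfg V)
  have hIp : I ≤ p := iSup₂_le fun V _ => hIVp V
  let Ag := Localization.Away g
  let J : Ideal Ag := I.map (algebraMap Γ(X, W) Ag)
  let ψ : Γ(X, W) →+* Ag ⧸ J := (Ideal.Quotient.mk J).comp (algebraMap Γ(X, W) Ag)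
  let z₀ : Spec (CommRingCat.of (Ag ⧸ J)) ⟶ Spec Γ(X, W) := Spec.map (CommRingCat.ofHom ψ)
  have hz₀ : z₀ = Spec.map (CommRingCat.ofHom (Ideal.Quotient.mk J)) ≫
      Spec.map (CommRingCat.ofHom (algebraMap Γ(X, W) Ag)) := by
    rw [← Spec.map_comp]; rfl
  have himm : IsImmersion z₀ := by
    rw [hz₀]
    have : IsOpenImmersion (Spec.map (CommRingCat.ofHom (algebraMap Γ(X, W) Ag))) :=
      Scheme.isOpenImmersion_SpecMap_localizationAway (R := Γ(X, W)) g
    have : IsClosedImmersion (Spec.map (CommRingCat.ofHom (Ideal.Quotient.mk J))) :=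
      IsClosedImmersion.spec_of_surjective _ Ideal.Quotient.mk_surjective
    infer_instance
  have hlfp : LocallyOfFinitePresentation z₀ := by
    rw [HasRingHomProperty.Spec_iff (P := @LocallyOfFinitePresentation)]
    change ψ.FinitePresentation
    refine RingHom.FinitePresentation.comp ?_ ?_
    · exact RingHom.FinitePresentation.of_surjective _ Ideal.Quotient.mk_surjective
        (by rw [Ideal.mk_ker]; exact hIfg.map _)
    · exact RingHom.finitePresentation_algebraMap.mpr inferInstance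
  have hψg : IsUnit (ψ g) := by
    have : IsUnit (algebraMap Γ(X, W) Ag g) := IsLocalization.Away.algebraMap_isUnit g
    exact this.map (Ideal.Quotient.mk J)
  have hψI : ∀ a ∈ I, ψ a = 0 := fun a ha =>
    Ideal.Quotient.eq_zero_iff_mem.mpr (Ideal.mem_map_of_mem _ ha)
  have hfinV : ∀ V ∈ 𝒱, IsFinite ((pullback.fst j (z₀ ≫ hW.fromSpec) ⁻¹ᵁ V.1).ι ≫
      pullback.snd j (z₀ ≫ hW.fromSpec)) := by
    intro V hV
    refine HV V hV (Ag ⧸ J) ψ ?_ ?_
    · have hdvd : gV V ∣ g := Finset.dvd_prod_of_mem gV hV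
      obtain ⟨c, hc⟩ := hdvd
      have h3 : ψ g = ψ (gV V) * ψ c := by
        rw [← map_mul]
        exact congrArg ψ hc
      rw [h3] at hψg
      exact isUnit_of_mul_isUnit_left hψg
    · intro a ha
      exact hψI a ((le_iSup₂ (f := fun V (_ : V ∈ 𝒱) => IV V) V hV) ha)
  refine ⟨Spec (CommRingCat.of (Ag ⧸ J)), z₀ ≫ hW.fromSpec, inferInstance, inferInstance,
    inferInstance, ?_, ?_⟩
  · -- the point `x` lies in the range
    have hgu : IsUnit (algebraMap Γ(X, W) p.ResidueField g) := by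
      rw [isUnit_iff_ne_zero, ne_eq, Ideal.algebraMap_residueField_eq_zero]
      exact hgp
    let evg : Ag →+* p.ResidueField := IsLocalization.Away.lift g hgu
    have hJ : ∀ a ∈ J, evg a = 0 := by
      have : J ≤ RingHom.ker evg := by
        rw [Ideal.map_le_iff_le_comap]
        intro a ha
        change evg (algebraMap _ _ a) = 0
        rw [IsLocalization.Away.lift_eq]
        exact Ideal.algebraMap_residueField_eq_zero.mpr (hIp ha)
      exact fun a ha => this ha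
    let τ : Ag ⧸ J →+* p.ResidueField := Ideal.Quotient.lift J evg hJ
    have hτ : τ.comp ψ = algebraMap Γ(X, W) p.ResidueField := by
      ext a
      change evg (algebraMap _ _ a) = _
      rw [IsLocalization.Away.lift_eq]
    let q : PrimeSpectrum (Ag ⧸ J) := PrimeSpectrum.comap τ ⊥
    have hq : PrimeSpectrum.comap ψ q = hW.primeIdealOf ⟨x, hxW⟩ := by
      change PrimeSpectrum.comap ψ (PrimeSpectrum.comap τ ⊥) = _
      rw [← PrimeSpectrum.comap_comp_apply, hτ]
      ext1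
      change Ideal.comap (algebraMap Γ(X, W) p.ResidueField) ⊥ = p
      rw [← RingHom.ker_eq_comap_bot, Ideal.ker_algebraMap_residueField]
    refine ⟨q, ?_⟩
    rw [Scheme.Hom.comp_apply]
    have : z₀ q = hW.primeIdealOf ⟨x, hxW⟩ := hq
    rw [this, hW.fromSpec_primeIdealOf]
  · -- finiteness
    set z := z₀ ≫ hW.fromSpec with hz
    have hrange : ∀ y : ↑(pullback j z), pullback.fst j z y ∈ j ⁻¹ᵁ W := by
      intro y
      change j (pullback.fst j z y) ∈ W
      rw [← Scheme.Hom.comp_apply, pullback.condition, Scheme.Hom.comp_apply]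
      change hW.fromSpec (z₀ (pullback.snd j z y)) ∈ W
      have := hW.range_fromSpec
      have h2 : hW.fromSpec (z₀ (pullback.snd j z y)) ∈ Set.range hW.fromSpec := ⟨_, rfl⟩
      rw [this] at h2
      exact h2
    have hex₁ : ∀ y : ↑(pullback j z), ∃ a ∈ s₁, pullback.fst j z y ∈ a.1 := by
      intro y
      have := hrange y
      rw [hs₁] at this
      simpa using this
    apply isFinite_of_opens (pullback.snd j z)
    intro y₁ y₂
    obtain ⟨a, ha, hya⟩ := hex₁ y₁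
    obtain ⟨b, hb, hyb⟩ := hex₁ y₂
    have ha𝒱 : a ∈ 𝒱 := by
      rw [h𝒱, Set.Finite.mem_toFinset]; exact Or.inl ha
    have hb𝒱 : b ∈ 𝒱 := by
      rw [h𝒱, Set.Finite.mem_toFinset]; exact Or.inl hb
    refine ⟨pullback.fst j z ⁻¹ᵁ a.1, pullback.fst j z ⁻¹ᵁ b.1, hya, hyb, hfinV a ha𝒱,
      hfinV b hb𝒱, ?_⟩
    rintro y ⟨hy1, hy2⟩
    have hyab : pullback.fst j z y ∈ a.1 ⊓ b.1 := ⟨hy1, hy2⟩
    rw [hs₂ a b] at hyab
    obtain ⟨c, hc, hyc⟩ : ∃ c ∈ s₂ a b, pullback.fst j z y ∈ c.1 := by simpa using hyab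
    have hc𝒱 : c ∈ 𝒱 := by
      rw [h𝒱, Set.Finite.mem_toFinset]
      exact Or.inr (Set.mem_iUnion₂.mpr ⟨a, ha, Set.mem_iUnion₂.mpr ⟨b, hb, hc⟩⟩)
    refine ⟨pullback.fst j z ⁻¹ᵁ c.1, hyc, ?_, hfinV c hc𝒱⟩
    intro y' hy'
    have := hle₂ a b c hc hy'
    exact this

/-- Finiteness over a stratum is inherited by anything mapping to the stratum. -/
lemma isFinite_snd_comp (j : U ⟶ X) {Z P : Scheme.{u}} (z : Z ⟶ X) (s : P ⟶ Z)
    [IsFinite (pullback.snd j z)] : IsFinite (pullback.snd j (s ≫ z)) := by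
  have : pullback.snd j (s ≫ z) =
      (pullbackLeftPullbackSndIso j z s).inv ≫ pullback.snd (pullback.snd j z) s :=
    (pullbackLeftPullbackSndIso_inv_snd_snd j z s).symm
  rw [this]
  infer_instance

open Groth.Agent.Lib.Seat29.Strata in
/-- **Stratification of a quasi-finite morphism into finite pieces.** -/
theorem exists_stratification [CompactSpace U] [QuasiSeparatedSpace U] [CompactSpace X]
    [QuasiSeparatedSpace X] (j : U ⟶ X) [LocallyOfFiniteType j] [LocallyQuasiFinite j] :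
    ∃ (n : ℕ) (T : Fin n → Scheme.{u}) (g : ∀ i, T i ⟶ X),
      (∀ i, IsImmersion (g i)) ∧ (∀ i, Topology.IsConstructible (Set.range (g i))) ∧
      Pairwise (fun i i' => Disjoint (Set.range (g i)) (Set.range (g i'))) ∧
      (⋃ i, Set.range (g i)) = Set.univ ∧ ∀ i, IsFinite (pullback.snd j (g i)) := by
  choose Z z hZaff himm hlfp hmem hfin using exists_local_stratum j
  have hqc : ∀ x, QuasiCompact (z x) := fun x => by
    have := hZaff x
    infer_instance
  have hc : ∀ x, Topology.IsConstructible (Set.range (z x)) := by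
    intro x
    have := hlfp x
    have := hqc x
    have h := (z x).isConstructible_image Topology.IsConstructible.univ
    rwa [Set.image_univ] at h
  have hcov : (⋃ x, Set.range (z x)) = Set.univ := by
    rw [Set.eq_univ_iff_forall]
    intro x
    exact Set.mem_iUnion.mpr ⟨x, hmem x⟩
  have key := strat_univ_of_strata (X := X)
    (Q := fun T g => IsFinite (pullback.snd j g)) Z z hc hcov (by
      intro x P p hp s hs O C hO hOr hC hCr hrange
      refine ⟨Unit, inferInstance, fun _ => P, fun _ => p, fun _ => hp, fun _ => ?_, ?_, ?_,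
        fun _ => ?_⟩
      · rw [isConstructible_val_univ_iff, hrange]
        exact (hOr.isConstructible hO).inter (hCr.isConstructible hC.isOpen_compl).of_compl
      · exact Subsingleton.pairwise
      · exact Set.iUnion_const _
      · have := hfin x
        rw [← hs]
        exact isFinite_snd_comp j (z x) s)
  obtain ⟨n, T, g, h1, h2, h3, h4, h5⟩ := strat_iff_fin.mp key
  exact ⟨n, T, g, h1, fun i => isConstructible_val_univ_iff.mp (h2 i), h3, h4, h5⟩

theorem locallyQuasiFinite_of_unramified (f : U ⟶ X) [LocallyOfFiniteType f]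
    [FormallyUnramified f] : LocallyQuasiFinite f := by
  refine ⟨fun {U} hU {V} hV e => ?_⟩
  have h1 := f.formallyUnramified_appLE hU hV e
  have h2 := HasRingHomProperty.appLE (P := @LocallyOfFiniteType) f inferInstance ⟨U, hU⟩ ⟨V, hV⟩ e
  algebraize [(f.appLE U V e).hom]
  show Algebra.QuasiFinite _ _
  infer_instance

/-- The étale case. -/
theorem exists_stratification_of_etale [CompactSpace U] [QuasiSeparatedSpace U] [CompactSpace X]
    [QuasiSeparatedSpace X] (j : U ⟶ X) [Etale j] :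
    ∃ (n : ℕ) (T : Fin n → Scheme.{u}) (g : ∀ i, T i ⟶ X),
      (∀ i, IsImmersion (g i)) ∧ (∀ i, Topology.IsConstructible (Set.range (g i))) ∧
      Pairwise (fun i i' => Disjoint (Set.range (g i)) (Set.range (g i'))) ∧
      (⋃ i, Set.range (g i)) = Set.univ ∧ ∀ i, IsFinite (pullback.snd j (g i)) := by
  have := locallyQuasiFinite_of_unramified j
  exact exists_stratification j

end Local

end Groth.Agent.Lib.Seat94.EtStrat
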