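import Mathlib.LinearAlgebra.ExteriorAlgebra.Basic
import Mathlib.LinearAlgebra.ExteriorAlgebra.OfAlternating
import Mathlib.LinearAlgebra.Matrix.Determinant.Basic
import Mathlib.GroupTheory.Perm.Fin
import Mathlib.Algebra.CharZero.Defs
import Mathlib.Data.Int.Cast.Lemmas
import Mathlib.Tactic

/-!
# An integer computation for the cycle space of `K₄`

The integer matrix attached to a permutation `σ` of the vertices of `K₄`, obtained by evaluating
the four cycle vectors `z 0 σ0 σ1 σ2, z 1 σ0 σ1 σ2, z 0 σ0 σ2 σ3, z 1 σ0 σ2 σ3` at four coordinates.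
The sum of the determinants over all `σ` is `-4`.
-/

set_option autoImplicit false

namespace Groth.Agent.Lib.Seat94.ExtK4

/-- Integer version of the cycle vector. -/
def zZ (c : Fin 2) (i j l : Fin 4) (c' : Fin 2) (a b : Fin 4) : ℤ :=
  if c' = c then
    ((if a = i ∧ b = j then 1 else 0) + (if a = j ∧ b = l then 1 else 0) + (if a = l ∧ b = i then 1 else 0)
      - (if a = j ∧ b = i then 1 else 0) - (if a = l ∧ b = j then 1 else 0) - (if a = i ∧ b = l then 1 else 0))
  else 0

/-- Integer matrix of coordinates of the four cycle vectors of `σ Γ`. -/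
def MZ (σ : Equiv.Perm (Fin 4)) : Matrix (Fin 4) (Fin 4) ℤ :=
  Matrix.of fun s r =>
    zZ (![0, 1, 0, 1] s) (σ 0) (σ (![1, 1, 2, 2] s)) (σ (![2, 2, 3, 3] s))
      (![0, 0, 1, 1] r) (![0, 0, 1, 1] r) (![1, 2, 2, 3] r)

set_option maxRecDepth 1000000 in
theorem sum_det_MZ : ∑ σ : Equiv.Perm (Fin 4), (MZ σ).det = -4 := by
  simp only [Matrix.det_apply]
  decide

end Groth.Agent.Lib.Seat94.ExtK4
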