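import Mathlib.RingTheory.Smooth.Local
import Mathlib.RingTheory.Smooth.Locus
import Mathlib.RingTheory.Etale.Kaehler
import Mathlib.RingTheory.RingHom.Surjective
import Mathlib.RingTheory.Localization.Algebra
import Mathlib.RingTheory.Spectrum.Prime.FreeLocus
import Mathlib.LinearAlgebra.ExteriorPower.Basic
import Mathlib.LinearAlgebra.Determinant
import Mathlib.Tactic

/-!
# The singular locus of a hypersurface in a smooth scheme via exterior powers of differentials

Let `A → B` be smooth with `Ω_{B/A}` of constant rank `n`, `g ∈ B` a nonzerodivisor and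
`R = B / g B`. For a prime `p` of `R`, the annihilator of `⋀ⁿ Ω_{R/A}` is contained in `p` iff
`R` is not smooth over `A` at `p`.

The general lemmas are:

* `annihilator_exteriorPower_le_ker`: if an `R`-module `M` maps to an `n`-dimensional vector space
  over a field `K` (an `R`-algebra) with spanning image, then `Ann (⋀ⁿ M) ≤ ker (R → K)`.
* `exists_smul_mem_span_of_isLocalizedModule`, `exists_smul_exteriorPower_eq_zero`: if the
  localisation `M_P` of a finite module is generated by fewer than `n` elements, some `s ∉ P`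
  kills `⋀ⁿ M`.
* `formallySmooth_iff_tmul_D_ne_zero`: Jacobian criterion for a principal ideal generated by a
  regular element.
-/

set_option autoImplicit false
universe u

open TensorProduct KaehlerDifferential

namespace Groth.Agent.Lib.Seat94.ExtPowerAnn

theorem annihilator_exteriorPower_le_ker
    {R : Type*} [CommRing R] {M : Type*} [AddCommGroup M] [Module R M]
    {K : Type*} [Field K] [Algebra R K] {V : Type*} [AddCommGroup V] [Module K V] [Module R V]
    [IsScalarTower R K V] [Module.Finite K V] (n : ℕ) (hV : Module.finrank K V = n)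
    (f : M →ₗ[R] V) (hf : Submodule.span K (Set.range f) = ⊤) :
    (⋀[R]^n M).annihilator ≤ RingHom.ker (algebraMap R K) := by
  classical
  let b0 := Module.Basis.ofSpan hf.ge
  have : Fintype ((linearIndepOn_empty K id).extend (Set.empty_subset (Set.range f))) :=
    FiniteDimensional.fintypeBasisIndex b0
  have hcard : Fintype.card ((linearIndepOn_empty K id).extend
      (Set.empty_subset (Set.range f))) = n := by
    rw [← Module.finrank_eq_card_basis b0, hV]
  let e := Fintype.equivFinOfCardEq hcard
  let b : Module.Basis (Fin n) K V := b0.reindex e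
  have hb : ∀ i, b i ∈ Set.range f := fun i =>
    Module.Basis.ofSpan_subset hf.ge ⟨e.symm i, by simp [b, b0]⟩
  choose m hm using hb
  let Φ : M [⋀^Fin n]→ₗ[R] K :=
    { (b.det.toMultilinearMap.restrictScalars R).compLinearMap (fun _ => f) with
      map_eq_zero_of_eq' := fun v i j hij hne => by
        change b.det (fun k => f (v k)) = 0
        exact b.det.map_eq_zero_of_eq _ (by simp [hij]) hne }
  have hΦ : Φ m = 1 := by
    change b.det (fun k => f (m k)) = 1
    have : (fun k => f (m k)) = b := funext hm
    rw [this, Module.Basis.det_self]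
  intro r hr
  rw [Submodule.mem_annihilator] at hr
  have h0 : r • exteriorPower.ιMulti R n m = 0 := by
    apply Subtype.ext
    exact hr _ (exteriorPower.ιMulti R n m).2
  have h1 := congrArg (exteriorPower.alternatingMapLinearEquiv Φ) h0
  rw [map_smul, exteriorPower.alternatingMapLinearEquiv_apply_ιMulti, hΦ, map_zero,
    Algebra.smul_def, mul_one] at h1
  exact h1

theorem exists_smul_mem_span_of_isLocalizedModule
    {R : Type*} [CommRing R] (P : Ideal R) [P.IsPrime]
    {M : Type*} [AddCommGroup M] [Module R M]
    {Rp : Type*} [CommRing Rp] [Algebra R Rp] [IsLocalization.AtPrime Rp P]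
    {M' : Type*} [AddCommGroup M'] [Module R M'] [Module Rp M'] [IsScalarTower R Rp M']
    (ℓ : M →ₗ[R] M') [IsLocalizedModule P.primeCompl ℓ]
    {ι : Type*} (y : ι → M')
    (hy : Submodule.span Rp (Set.range y) = ⊤) :
    ∃ x : ι → M, ∀ m : M, ∃ s : R, s ∉ P ∧ s • m ∈ Submodule.span R (Set.range x) := by
  have hsurj := fun i => IsLocalizedModule.surj P.primeCompl ℓ (y i)
  choose xs hxs using hsurj
  refine ⟨fun i => (xs i).1, ?_⟩
  set N := Submodule.span R (Set.range fun i => (xs i).1) with hN
  have claim1 : ∀ z ∈ Submodule.span Rp (Set.range y),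
      ∃ s : R, s ∉ P ∧ ∃ w ∈ N, s • z = ℓ w := by
    intro z hz
    induction hz using Submodule.span_induction with
    | mem z hz =>
      obtain ⟨i, rfl⟩ := hz
      exact ⟨(xs i).2, (xs i).2.2, (xs i).1, Submodule.subset_span ⟨i, rfl⟩, hxs i⟩
    | zero => exact ⟨1, fun h => ‹P.IsPrime›.ne_top ((Ideal.eq_top_iff_one _).2 h), 0,
        N.zero_mem, by simp⟩
    | add z1 z2 _ _ h1 h2 =>
      obtain ⟨s1, hs1, w1, hw1, e1⟩ := h1
      obtain ⟨s2, hs2, w2, hw2, e2⟩ := h2
      refine ⟨s1 * s2, fun h => (‹P.IsPrime›.mem_or_mem h).elim hs1 hs2,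
        s2 • w1 + s1 • w2, N.add_mem (N.smul_mem _ hw1) (N.smul_mem _ hw2), ?_⟩
      rw [smul_add, map_add, map_smul, map_smul, ← e1, ← e2, mul_smul, mul_smul,
        smul_comm s1 s2 z1]
    | smul c z _ h =>
      obtain ⟨s, hs, w, hw, e⟩ := h
      obtain ⟨⟨r, t⟩, hrt⟩ := IsLocalization.surj P.primeCompl c
      refine ⟨s * t, fun h => (‹P.IsPrime›.mem_or_mem h).elim hs t.2, r • w, N.smul_mem _ hw, ?_⟩
      have h1 : (t : R) • (c • z) = r • z := by
        rw [← algebraMap_smul Rp (t : R), ← algebraMap_smul Rp r, smul_smul, mul_comm]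
        exact congrArg (· • z) hrt
      rw [mul_smul, h1, smul_comm, e, map_smul]
  intro m
  obtain ⟨s, hs, w, hw, e⟩ := claim1 (ℓ m) (by rw [hy]; trivial)
  rw [← map_smul] at e
  obtain ⟨u, hu⟩ := IsLocalizedModule.exists_of_eq (S := P.primeCompl) e
  refine ⟨u * s, fun h => (‹P.IsPrime›.mem_or_mem h).elim u.2 hs, ?_⟩
  rw [mul_smul]
  have : (u : R) • s • m = (u : R) • w := hu
  rw [this]
  exact N.smul_mem _ hw

/-- the `n`-th exterior power of the inclusion of a submodule generated by fewer than `n`
elements is zero. -/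
theorem exteriorPower_map_subtype_span_eq_zero
    {R : Type*} [CommRing R] {M : Type*} [AddCommGroup M] [Module R M]
    (n : ℕ) {ι : Type*} [Finite ι] (hι : Nat.card ι < n) (x : ι → M) :
    exteriorPower.map n (Submodule.span R (Set.range x)).subtype = 0 := by
  let e := Finite.equivFin ι
  let x' : Fin (Nat.card ι) → M := x ∘ e.symm
  have hx' : Set.range x' = Set.range x := by
    simp [x', Set.range_comp]
  have hempty : IsEmpty (Set.powersetCard (Fin (Nat.card ι)) n) := by
    constructor
    rintro ⟨s, hs⟩
    rw [Set.powersetCard.mem_iff] at hs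
    have := Finset.card_le_univ s
    rw [Fintype.card_fin] at this
    omega
  have h := exteriorPower.ιMulti_family_span (R := R) (n := n) x'
  rw [Set.range_eq_empty (exteriorPower.ιMulti_family R n x'), Submodule.span_empty,
    LinearMap.range_eq_bot, hx'] at h
  exact h

theorem exists_smul_exteriorPower_eq_zero
    {R : Type*} [CommRing R] (P : Ideal R) [P.IsPrime]
    {M : Type*} [AddCommGroup M] [Module R M] [Module.Finite R M]
    (n : ℕ) {ι : Type*} [Finite ι] (hι : Nat.card ι < n) (x : ι → M)
    (hx : ∀ m : M, ∃ s : R, s ∉ P ∧ s • m ∈ Submodule.span R (Set.range x)) :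
    ∃ s : R, s ∉ P ∧ ∀ w ∈ ⋀[R]^n M, s • w = 0 := by
  classical
  set N := Submodule.span R (Set.range x) with hN
  obtain ⟨T, hT⟩ := (Module.Finite.fg_top : (⊤ : Submodule R M).FG)
  choose σ hσ using hx
  let s : R := ∏ t ∈ T, σ t
  have hsP : s ∉ P := by
    intro h
    obtain ⟨t, _, ht⟩ := (‹P.IsPrime›.prod_mem_iff).1 h
    exact (hσ t).1 ht
  have hsT : ∀ t ∈ T, s • t ∈ N := by
    intro t ht
    obtain ⟨k, hk⟩ := Finset.dvd_prod_of_mem σ ht
    change (∏ t ∈ T, σ t) • t ∈ N
    rw [hk, mul_comm, mul_smul]
    exact N.smul_mem _ (hσ t).2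
  have hsM : ∀ m : M, s • m ∈ N := by
    intro m
    have hle : Submodule.span R (T : Set M) ≤ N.comap (LinearMap.lsmul R M s) :=
      Submodule.span_le.2 fun t ht => hsT t ht
    have : m ∈ Submodule.span R (T : Set M) := by rw [hT]; trivial
    exact hle this
  have h0 := exteriorPower_map_subtype_span_eq_zero (R := R) n hι x
  have hι : ∀ m : Fin n → M, s ^ n • exteriorPower.ιMulti R n m = 0 := by
    intro m
    have h1 : exteriorPower.ιMulti R n (fun i => s • m i) = s ^ n • exteriorPower.ιMulti R n m := by
      rw [AlternatingMap.map_smul_univ]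
      simp
    rw [← h1]
    have h2 : (fun i => s • m i) = N.subtype ∘ (fun i => (⟨s • m i, hsM (m i)⟩ : N)) := rfl
    rw [h2, ← exteriorPower.map_apply_ιMulti, h0, LinearMap.zero_apply]
  have hall : ∀ w : ⋀[R]^n M, s ^ n • w = 0 := by
    intro w
    have hw : w ∈ Submodule.span R (Set.range (exteriorPower.ιMulti R n (M := M))) := by
      rw [exteriorPower.ιMulti_span]; trivial
    induction hw using Submodule.span_induction with
    | mem w hw =>
      obtain ⟨m, rfl⟩ := hw
      exact hι m
    | zero => simp
    | add a b _ _ ha hb => rw [smul_add, ha, hb, add_zero]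
    | smul c a _ ha => rw [smul_comm, ha, smul_zero]
  refine ⟨s ^ n, fun h => hsP (‹P.IsPrime›.mem_of_pow_mem n h), ?_⟩
  intro w hw
  have := congrArg Subtype.val (hall ⟨w, hw⟩)
  exact this

theorem formallySmooth_iff_tmul_D_ne_zero
    {A B' R' : Type*} [CommRing A] [CommRing B'] [CommRing R'] [IsLocalRing R']
    [Algebra A B'] [Algebra B' R'] [Algebra A R'] [IsScalarTower A B' R']
    [Algebra.FormallySmooth A B'] [Module.Free B' Ω[B'⁄A]] [Module.Finite B' Ω[B'⁄A]]
    (h₁ : Function.Surjective (algebraMap B' R')) (g' : B') (hg' : IsSMulRegular B' g')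
    (hker : RingHom.ker (algebraMap B' R') = Ideal.span {g'}) :
    Algebra.FormallySmooth A R' ↔
      (1 : IsLocalRing.ResidueField R') ⊗ₜ[B'] KaehlerDifferential.D A B' g' ≠ 0 := by
  have h₂ : (RingHom.ker (algebraMap B' R')).FG := by
    rw [hker]; exact ⟨{g'}, by simp⟩
  rw [Algebra.FormallySmooth.iff_injective_cotangentComplexBaseChange_residueField B' h₁ h₂]
  have hgk : g' ∈ RingHom.ker (algebraMap B' R') := by
    rw [hker]; exact Ideal.mem_span_singleton_self g'
  set γ : ↥(RingHom.ker (algebraMap B' R')) := ⟨g', hgk⟩ with hγ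
  have himg : ∀ c : IsLocalRing.ResidueField R',
      KaehlerDifferential.cotangentComplexBaseChange A R' B' (IsLocalRing.ResidueField R')
        (c ⊗ₜ[B'] γ) = c • ((1 : IsLocalRing.ResidueField R') ⊗ₜ[B'] KaehlerDifferential.D A B' g') := by
    intro c
    rw [KaehlerDifferential.cotangentComplexBaseChange_tmul,
      KaehlerDifferential.kerToTensor_apply]
  constructor
  · intro hinj h0
    have hz : (1 : IsLocalRing.ResidueField R') ⊗ₜ[B'] γ = 0 := by
      apply hinj
      rw [himg, h0, smul_zero, map_zero]
    -- a functional which is `1` on `1 ⊗ γ`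
    let t : B' →ₗ[B'] ↥(RingHom.ker (algebraMap B' R')) := LinearMap.toSpanSingleton B' _ γ
    have htinj : Function.Injective t := by
      rw [injective_iff_map_eq_zero]
      intro r hr
      have : r * g' = 0 := congrArg Subtype.val hr
      apply hg'
      change g' * r = g' * 0
      rw [mul_zero, mul_comm, this]
    have htsurj : Function.Surjective t := by
      rintro ⟨x, hx⟩
      have hx' := hx
      rw [hker, Ideal.mem_span_singleton'] at hx'
      obtain ⟨r, rfl⟩ := hx'
      exact ⟨r, Subtype.ext rfl⟩
    let e := LinearEquiv.ofBijective t ⟨htinj, htsurj⟩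
    let lam : IsLocalRing.ResidueField R' ⊗[B'] ↥(RingHom.ker (algebraMap B' R')) →ₗ[IsLocalRing.ResidueField R']
        IsLocalRing.ResidueField R' :=
      LinearMap.liftBaseChange _ ((Algebra.linearMap B' (IsLocalRing.ResidueField R')) ∘ₗ e.symm.toLinearMap)
    have he1 : e.symm γ = 1 := by
      rw [LinearEquiv.symm_apply_eq]
      change γ = (1 : B') • γ
      rw [one_smul]
    have : lam ((1 : IsLocalRing.ResidueField R') ⊗ₜ[B'] γ) = 1 := by
      simp only [lam, LinearMap.liftBaseChange_tmul, LinearMap.comp_apply, LinearEquiv.coe_coe, he1,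
        Algebra.linearMap_apply, map_one, one_smul]
    rw [hz, map_zero] at this
    exact zero_ne_one this
  · intro hne
    have hform : ∀ z : IsLocalRing.ResidueField R' ⊗[B'] ↥(RingHom.ker (algebraMap B' R')),
        ∃ c : IsLocalRing.ResidueField R', z = c ⊗ₜ[B'] γ := by
      intro z
      induction z using TensorProduct.induction_on with
      | zero => exact ⟨0, (TensorProduct.zero_tmul _ _).symm⟩
      | tmul a x =>
        obtain ⟨x, hx⟩ := x
        have hx' := hx
        rw [hker, Ideal.mem_span_singleton'] at hx'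
        obtain ⟨r, rfl⟩ := hx'
        refine ⟨r • a, ?_⟩
        rw [TensorProduct.smul_tmul]
        rfl
      | add x y hx hy =>
        obtain ⟨c, rfl⟩ := hx
        obtain ⟨c', rfl⟩ := hy
        exact ⟨c + c', (TensorProduct.add_tmul _ _ _).symm⟩
    rw [injective_iff_map_eq_zero]
    intro z hz
    obtain ⟨c, rfl⟩ := hform z
    rw [himg, smul_eq_zero] at hz
    rcases hz with hc | h0
    · rw [hc, TensorProduct.zero_tmul]
    · exact absurd h0 hne

theorem exists_span_kaehler_eq_top
    {A B' R' : Type*} [CommRing A] [CommRing B'] [CommRing R'] [IsLocalRing B'] [IsLocalRing R']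
    [Algebra A B'] [Algebra B' R'] [Algebra A R'] [IsScalarTower A B' R']
    [IsLocalHom (algebraMap B' R')]
    [Module.Free B' Ω[B'⁄A]] [Module.Finite B' Ω[B'⁄A]]
    (n : ℕ) (hrank : Module.finrank B' Ω[B'⁄A] = n)
    (h₁ : Function.Surjective (algebraMap B' R')) (g' : B')
    (hg0 : algebraMap B' R' g' = 0)
    (hne : (1 : IsLocalRing.ResidueField R') ⊗ₜ[B'] KaehlerDifferential.D A B' g' ≠ 0) :
    ∃ (ι : Type) (_ : Finite ι) (_ : Nat.card ι < n) (y : ι → Ω[R'⁄A]),
      Submodule.span R' (Set.range y) = ⊤ := by
  classical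
  let e : Module.Basis (Fin n) B' Ω[B'⁄A] := Module.finBasisOfFinrankEq B' Ω[B'⁄A] hrank
  set c := e.repr (KaehlerDifferential.D A B' g') with hc
  have hsum : ∑ i, c i • e i = KaehlerDifferential.D A B' g' := e.sum_repr _
  obtain ⟨i0, hi0⟩ : ∃ i0, IsUnit (c i0) := by
    by_contra h
    simp only [not_exists] at h
    apply hne
    have hzero : ∀ i, algebraMap B' (IsLocalRing.ResidueField R') (c i) = 0 := by
      intro i
      rw [IsScalarTower.algebraMap_apply B' R' (IsLocalRing.ResidueField R'),
        IsLocalRing.ResidueField.algebraMap_eq, IsLocalRing.residue_eq_zero_iff,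
        IsLocalRing.mem_maximalIdeal, mem_nonunits_iff]
      intro hu
      exact h i (isUnit_of_map_unit (algebraMap B' R') _ hu)
    rw [← hsum, TensorProduct.tmul_sum]
    apply Finset.sum_eq_zero
    intro i _
    rw [TensorProduct.tmul_smul, TensorProduct.smul_tmul', Algebra.smul_def, mul_one, hzero,
      TensorProduct.zero_tmul]
  let μ : Ω[B'⁄A] →ₗ[B'] Ω[R'⁄A] := KaehlerDifferential.map A A B' R'
  have hμsurj : Function.Surjective μ :=
    KaehlerDifferential.map_surjective_of_surjective A A B' R' h₁
  have hμg : μ (KaehlerDifferential.D A B' g') = 0 := by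
    change KaehlerDifferential.map A A B' R' _ = 0
    rw [KaehlerDifferential.map_D, hg0, map_zero]
  refine ⟨{i : Fin n // i ≠ i0}, inferInstance, ?_, fun i => μ (e i.1), ?_⟩
  · rw [Nat.card_eq_fintype_card]
    have := Fintype.card_subtype_lt (p := fun i : Fin n => i ≠ i0) (x := i0) (by simp)
    simpa using this
  · set S := Submodule.span R' (Set.range fun i : {i : Fin n // i ≠ i0} => μ (e i.1)) with hS
    let S' : Submodule B' Ω[R'⁄A] := S.restrictScalars B'
    have hne0 : ∀ i : Fin n, i ≠ i0 → μ (e i) ∈ S' := fun i hi =>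
      Submodule.subset_span ⟨⟨i, hi⟩, rfl⟩
    have h0 : ∑ i, c i • μ (e i) = 0 := by
      rw [← hμg, ← hsum, map_sum]
      simp only [map_smul]
    have hi0mem : μ (e i0) ∈ S' := by
      have h1 : c i0 • μ (e i0) = - ∑ i ∈ Finset.univ.erase i0, c i • μ (e i) := by
        rw [← Finset.add_sum_erase _ _ (Finset.mem_univ i0)] at h0
        exact eq_neg_of_add_eq_zero_left h0
      have h2 : c i0 • μ (e i0) ∈ S' := by
        rw [h1]
        apply S'.neg_mem
        apply S'.sum_mem
        intro i hi
        exact S'.smul_mem _ (hne0 i (Finset.ne_of_mem_erase hi))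
      obtain ⟨u, hu⟩ := hi0
      have h3 : μ (e i0) = (↑u⁻¹ : B') • (c i0 • μ (e i0)) := by
        rw [smul_smul, ← hu, Units.inv_mul, one_smul]
      rw [h3]
      exact S'.smul_mem _ h2
    have hall : ∀ i : Fin n, μ (e i) ∈ S' := by
      intro i
      by_cases hi : i = i0
      · rw [hi]; exact hi0mem
      · exact hne0 i hi
    rw [eq_top_iff]
    rintro x -
    obtain ⟨ω, rfl⟩ := hμsurj x
    change μ ω ∈ S'
    rw [← e.sum_repr ω, map_sum]
    apply S'.sum_mem
    intro i _
    rw [map_smul]
    exact S'.smul_mem _ (hall i)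

theorem exists_linearMap_kaehler_of_tmul_D_eq_zero
    {A B' R' : Type*} [CommRing A] [CommRing B'] [CommRing R'] [IsLocalRing R']
    [Algebra A B'] [Algebra B' R'] [Algebra A R'] [IsScalarTower A B' R']
    (h₁ : Function.Surjective (algebraMap B' R')) (g' : B')
    (hker : RingHom.ker (algebraMap B' R') = Ideal.span {g'})
    (h0 : (1 : IsLocalRing.ResidueField R') ⊗ₜ[B'] KaehlerDifferential.D A B' g' = 0) :
    ∃ f' : Ω[R'⁄A] →ₗ[R'] (IsLocalRing.ResidueField R' ⊗[B'] Ω[B'⁄A]),
      ∀ b : B', f' (KaehlerDifferential.D A R' (algebraMap B' R' b)) =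
        (1 : IsLocalRing.ResidueField R') ⊗ₜ[B'] KaehlerDifferential.D A B' b := by
  let ψ : R' ⊗[B'] Ω[B'⁄A] →ₗ[R'] (IsLocalRing.ResidueField R' ⊗[B'] Ω[B'⁄A]) :=
    LinearMap.liftBaseChange R' (TensorProduct.mk B' (IsLocalRing.ResidueField R') Ω[B'⁄A] 1)
  let π : R' ⊗[B'] Ω[B'⁄A] →ₗ[R'] Ω[R'⁄A] := KaehlerDifferential.mapBaseChange A B' R'
  have hπ : Function.Surjective π := KaehlerDifferential.mapBaseChange_surjective A B' R' h₁
  have hex := KaehlerDifferential.exact_kerCotangentToTensor_mapBaseChange A B' R' h₁
  have hg0 : algebraMap B' (IsLocalRing.ResidueField R') g' = 0 := by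
    have : g' ∈ RingHom.ker (algebraMap B' R') := by
      rw [hker]; exact Ideal.mem_span_singleton_self g'
    rw [IsScalarTower.algebraMap_apply B' R' (IsLocalRing.ResidueField R'),
      (RingHom.mem_ker).1 this, map_zero]
  have hle : LinearMap.ker π ≤ LinearMap.ker ψ := by
    intro z hz
    rw [LinearMap.mem_ker] at hz
    obtain ⟨t, rfl⟩ := (hex z).1 hz
    obtain ⟨x, rfl⟩ := Ideal.toCotangent_surjective _ t
    rw [LinearMap.mem_ker, KaehlerDifferential.kerCotangentToTensor_toCotangent]
    obtain ⟨x, hx⟩ := x
    have hx' := hx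
    rw [hker, Ideal.mem_span_singleton'] at hx'
    obtain ⟨r, rfl⟩ := hx'
    simp only [ψ, LinearMap.liftBaseChange_tmul, one_smul, TensorProduct.mk_apply]
    rw [Derivation.leibniz, TensorProduct.tmul_add, TensorProduct.tmul_smul, h0, smul_zero,
      zero_add, TensorProduct.tmul_smul, TensorProduct.smul_tmul', Algebra.smul_def, mul_one, hg0,
      TensorProduct.zero_tmul]
  let f' : Ω[R'⁄A] →ₗ[R'] (IsLocalRing.ResidueField R' ⊗[B'] Ω[B'⁄A]) :=
    (LinearMap.ker π).liftQ ψ hle ∘ₗ (π.quotKerEquivOfSurjective hπ).symm.toLinearMap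
  have hf' : ∀ z, f' (π z) = ψ z := by
    intro z
    have : (π.quotKerEquivOfSurjective hπ).symm (π z) = Submodule.Quotient.mk z := by
      rw [LinearEquiv.symm_apply_eq]
      rfl
    change (LinearMap.ker π).liftQ ψ hle ((π.quotKerEquivOfSurjective hπ).symm (π z)) = _
    rw [this]
    rfl
  refine ⟨f', fun b => ?_⟩
  have : π ((1 : R') ⊗ₜ[B'] KaehlerDifferential.D A B' b) =
      KaehlerDifferential.D A R' (algebraMap B' R' b) := by
    change KaehlerDifferential.mapBaseChange A B' R' _ = _
    rw [KaehlerDifferential.mapBaseChange_tmul, one_smul, KaehlerDifferential.map_D]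
  rw [← this, hf']
  simp only [ψ, LinearMap.liftBaseChange_tmul, one_smul, TensorProduct.mk_apply]

/-- the singular locus of a hypersurface in a smooth `A`-scheme is cut out set-theoretically by
the annihilator of the top exterior power of differentials. -/
theorem annihilator_le_iff_not_mem_smoothLocus (A B R : Type u) [CommRing A] [CommRing B]
    [CommRing R]
    [Algebra A B] [Algebra B R] [Algebra A R] [IsScalarTower A B R] [Algebra.Smooth A B] (n : ℕ)
    (hn : ∀ p : PrimeSpectrum B, Module.rankAtStalk (Ω[B⁄A]) p = n)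
    (g : B) (hg : IsSMulRegular B g) (hsurj : Function.Surjective (algebraMap B R))
    (hker : RingHom.ker (algebraMap B R) = Ideal.span {g}) (p : PrimeSpectrum R) :
    (⋀[R]^n (Ω[R⁄A])).annihilator ≤ p.asIdeal ↔ p ∉ Algebra.smoothLocus A R := by
  obtain ⟨P, hP⟩ := p
  let Q : Ideal B := P.comap (algebraMap B R)
  have hQ : Q.IsPrime := Ideal.comap_isPrime _ _
  let f : Localization.AtPrime Q →+* Localization.AtPrime P :=
    Localization.localRingHom Q P (algebraMap B R) rfl
  let _ : Algebra (Localization.AtPrime Q) (Localization.AtPrime P) := f.toAlgebra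
  have hf : ∀ b : B, f (algebraMap B (Localization.AtPrime Q) b) =
      algebraMap R (Localization.AtPrime P) (algebraMap B R b) :=
    fun b => Localization.localRingHom_to_map Q P (algebraMap B R) rfl b
  have : IsScalarTower B (Localization.AtPrime Q) (Localization.AtPrime P) :=
    IsScalarTower.of_algebraMap_eq' (by
      ext b
      rw [RingHom.comp_apply, RingHom.algebraMap_toAlgebra, hf,
        ← IsScalarTower.algebraMap_apply B R (Localization.AtPrime P)])
  have : IsScalarTower A (Localization.AtPrime Q) (Localization.AtPrime P) :=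
    IsScalarTower.of_algebraMap_eq' (by
      ext r
      rw [RingHom.comp_apply, IsScalarTower.algebraMap_apply A B (Localization.AtPrime Q),
        ← IsScalarTower.algebraMap_apply B (Localization.AtPrime Q) (Localization.AtPrime P),
        ← IsScalarTower.algebraMap_apply A B (Localization.AtPrime P)])
  have hloc : IsLocalHom (algebraMap (Localization.AtPrime Q) (Localization.AtPrime P)) := by
    rw [RingHom.algebraMap_toAlgebra]
    exact Localization.isLocalHom_localRingHom _ _ _ _
  have hsm : Algebra.FormallySmooth A (Localization.AtPrime Q) := by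
    have h := Algebra.smoothLocus_eq_univ (R := A) (A := B)
    have hQ' : (⟨Q, inferInstance⟩ : PrimeSpectrum B) ∈ Algebra.smoothLocus A B := by
      rw [h]; trivial
    exact hQ'
  have : Algebra.EssFiniteType B (Localization.AtPrime Q) :=
    .of_isLocalization _ Q.primeCompl
  have : Algebra.EssFiniteType A (Localization.AtPrime Q) := .comp _ B _
  have : Module.Free (Localization.AtPrime Q) Ω[Localization.AtPrime Q⁄A] :=
    Module.free_of_flat_of_isLocalRing
  have h₁ : Function.Surjective (algebraMap (Localization.AtPrime Q) (Localization.AtPrime P)) :=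
    RingHom.surjective_localRingHom_of_surjective _ hsurj P
  have hT : Submonoid.map (algebraMap B R) Q.primeCompl = P.primeCompl := by
    ext y
    constructor
    · rintro ⟨x, hx, rfl⟩
      exact hx
    · intro hy
      obtain ⟨x, rfl⟩ := hsurj y
      exact ⟨x, hy, rfl⟩
  set g' : Localization.AtPrime Q := algebraMap B (Localization.AtPrime Q) g with hg'def
  have hker' : RingHom.ker (algebraMap (Localization.AtPrime Q) (Localization.AtPrime P)) =
      Ideal.span {g'} := by
    have h := IsLocalization.ker_map (S := Localization.AtPrime Q) (Localization.AtPrime P)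
      (algebraMap B R) hT
    rw [hker, Ideal.map_span, Set.image_singleton] at h
    exact h
  have hg' : IsSMulRegular (Localization.AtPrime Q) g' :=
    IsSMulRegular.of_isLocalization (Localization.AtPrime Q) Q.primeCompl hg
  have hg0 : algebraMap (Localization.AtPrime Q) (Localization.AtPrime P) g' = 0 := by
    have : g' ∈ RingHom.ker (algebraMap (Localization.AtPrime Q) (Localization.AtPrime P)) := by
      rw [hker']; exact Ideal.mem_span_singleton_self g'
    exact this
  -- the rank of `Ω[B_Q/A]`
  have hrank : Module.finrank (Localization.AtPrime Q) Ω[Localization.AtPrime Q⁄A] = n := by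
    rw [← hn ⟨Q, hQ⟩]
    let e : LocalizedModule Q.primeCompl Ω[B⁄A] ≃ₗ[Localization.AtPrime Q]
        Ω[Localization.AtPrime Q⁄A] :=
      (IsLocalizedModule.linearEquiv Q.primeCompl
        (LocalizedModule.mkLinearMap Q.primeCompl Ω[B⁄A])
        (KaehlerDifferential.map A A B (Localization.AtPrime Q))).extendScalarsOfIsLocalization
          Q.primeCompl (Localization.AtPrime Q)
    exact e.finrank_eq.symm
  have hsmooth_iff : (⟨P, hP⟩ : PrimeSpectrum R) ∈ Algebra.smoothLocus A R ↔
      (1 : IsLocalRing.ResidueField (Localization.AtPrime P)) ⊗ₜ[Localization.AtPrime Q]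
        KaehlerDifferential.D A (Localization.AtPrime Q) g' ≠ 0 :=
    formallySmooth_iff_tmul_D_ne_zero (A := A) h₁ g' hg' hker'
  have : Algebra.FiniteType A R := by
    have : Algebra.FiniteType A B := inferInstance
    exact Algebra.FiniteType.of_surjective (IsScalarTower.toAlgHom A B R) hsurj
  rw [hsmooth_iff, not_not]
  change (⋀[R]^n (Ω[R⁄A])).annihilator ≤ P ↔ _
  constructor
  · -- if the annihilator is in `P`, the Jacobian vanishes
    intro hle
    by_contra hne
    obtain ⟨ι, _, hι, y, hy⟩ := exists_span_kaehler_eq_top (A := A) n hrank h₁ g' hg0 hne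
    obtain ⟨x, hx⟩ := exists_smul_mem_span_of_isLocalizedModule P
      (Rp := Localization.AtPrime P)
      (KaehlerDifferential.map A A R (Localization.AtPrime P)) y hy
    obtain ⟨s, hsP, hs⟩ := exists_smul_exteriorPower_eq_zero P n hι x hx
    apply hsP
    apply hle
    rw [Submodule.mem_annihilator]
    exact hs
  · intro h0
    obtain ⟨f', hf'⟩ := exists_linearMap_kaehler_of_tmul_D_eq_zero (A := A) h₁ g' hker' h0
    let F : Ω[R⁄A] →ₗ[R] (IsLocalRing.ResidueField (Localization.AtPrime P)
        ⊗[Localization.AtPrime Q] Ω[Localization.AtPrime Q⁄A]) :=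
      (f'.restrictScalars R) ∘ₗ (KaehlerDifferential.map A A R (Localization.AtPrime P))
    have hF : ∀ b : B, F (KaehlerDifferential.D A R (algebraMap B R b)) =
        (1 : IsLocalRing.ResidueField (Localization.AtPrime P)) ⊗ₜ[Localization.AtPrime Q]
          (KaehlerDifferential.map A A B (Localization.AtPrime Q) (KaehlerDifferential.D A B b)) := by
      intro b
      change f' (KaehlerDifferential.map A A R (Localization.AtPrime P)
        (KaehlerDifferential.D A R (algebraMap B R b))) = _
      rw [KaehlerDifferential.map_D, KaehlerDifferential.map_D,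
        ← IsScalarTower.algebraMap_apply B R (Localization.AtPrime P),
        IsScalarTower.algebraMap_apply B (Localization.AtPrime Q) (Localization.AtPrime P), hf']
    have hspan : Submodule.span (IsLocalRing.ResidueField (Localization.AtPrime P))
        (Set.range F) = ⊤ := by
      have h1 := KaehlerDifferential.span_range_map_derivation_of_isLocalization A B
        (Localization.AtPrime Q) Q.primeCompl
      have h2 := Submodule.baseChange_span (R := Localization.AtPrime Q)
        (A := IsLocalRing.ResidueField (Localization.AtPrime P))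
        (Set.range (KaehlerDifferential.map A A B (Localization.AtPrime Q) ∘ KaehlerDifferential.D A B))
      rw [h1, Submodule.baseChange_top] at h2
      rw [eq_top_iff, h2]
      apply Submodule.span_mono
      rintro _ ⟨_, ⟨b, rfl⟩, rfl⟩
      exact ⟨_, hF b⟩
    have hfin : Module.finrank (IsLocalRing.ResidueField (Localization.AtPrime P))
        (IsLocalRing.ResidueField (Localization.AtPrime P)
          ⊗[Localization.AtPrime Q] Ω[Localization.AtPrime Q⁄A]) = n := by
      rw [Module.finrank_baseChange, hrank]
    have hann := annihilator_exteriorPower_le_ker n hfin F hspan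
    refine hann.trans ?_
    intro r hr
    rw [RingHom.mem_ker, IsScalarTower.algebraMap_apply R (Localization.AtPrime P),
      IsLocalRing.ResidueField.algebraMap_eq, IsLocalRing.residue_eq_zero_iff,
      IsLocalization.AtPrime.to_map_mem_maximal_iff (Localization.AtPrime P) P] at hr
    exact hr

end Groth.Agent.Lib.Seat94.ExtPowerAnn
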