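import Groth.Agent.Lib.Seat94ExtPowerAnn
import Mathlib.LinearAlgebra.CliffordAlgebra.Contraction
import Mathlib.LinearAlgebra.ExteriorAlgebra.Grading
import Mathlib.RingTheory.Finiteness.Projective

/-!
# The annihilator of the top exterior power of the differentials of a hypersurface (seat 94)

For `R = B/(g)` with `B` smooth over `A` of constant relative dimension `n`, the annihilator of
`⋀ⁿ Ω[R/A]` is the Jacobian ideal, generated by the images of `φ(dg)` for `φ` a linear form on
`Ω[B/A]`.
-/

set_option autoImplicit false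
universe u

open TensorProduct KaehlerDifferential

namespace Groth.Agent.Lib.Seat94.ExtPowerAnn2
open Groth.Agent.Lib.Seat94.ExtPowerAnn

/-- a basis of the differentials of a localisation of a smooth algebra of constant rank. -/
theorem nonempty_basis_kaehler_localization (A B : Type u) [CommRing A] [CommRing B] [Algebra A B]
    [Algebra.Smooth A B] (n : ℕ)
    (hn : ∀ p : PrimeSpectrum B, Module.rankAtStalk (Ω[B⁄A]) p = n) (Q : Ideal B) [hQ : Q.IsPrime] :
    Nonempty (Module.Basis (Fin n) (Localization.AtPrime Q) Ω[Localization.AtPrime Q⁄A]) := by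
  have hsm : Algebra.FormallySmooth A (Localization.AtPrime Q) := by
    have h := Algebra.smoothLocus_eq_univ (R := A) (A := B)
    have hQ' : (⟨Q, inferInstance⟩ : PrimeSpectrum B) ∈ Algebra.smoothLocus A B := by
      rw [h]; trivial
    exact hQ'
  have : Algebra.EssFiniteType B (Localization.AtPrime Q) :=
    .of_isLocalization _ Q.primeCompl
  have : Algebra.EssFiniteType A (Localization.AtPrime Q) := .comp _ B _
  have : Module.Free (Localization.AtPrime Q) Ω[Localization.AtPrime Q⁄A] :=
    Module.free_of_flat_of_isLocalRing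
  have hrank : Module.finrank (Localization.AtPrime Q) Ω[Localization.AtPrime Q⁄A] = n := by
    rw [← hn ⟨Q, hQ⟩]
    let e : LocalizedModule Q.primeCompl Ω[B⁄A] ≃ₗ[Localization.AtPrime Q]
        Ω[Localization.AtPrime Q⁄A] :=
      (IsLocalizedModule.linearEquiv Q.primeCompl
        (LocalizedModule.mkLinearMap Q.primeCompl Ω[B⁄A])
        (KaehlerDifferential.map A A B (Localization.AtPrime Q))).extendScalarsOfIsLocalization
          Q.primeCompl (Localization.AtPrime Q)
    exact e.finrank_eq.symm
  exact ⟨Module.finBasisOfFinrankEq _ _ hrank⟩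

/-- an element of an exterior power which is killed locally at every prime is zero. -/
theorem eq_zero_of_forall_prime_exists_smul_eq_zero
    {B : Type*} [CommRing B] {E : Type*} [AddCommGroup E] [Module B E] (w : E)
    (h : ∀ (Q : Ideal B) [Q.IsPrime], ∃ s : B, s ∉ Q ∧ s • w = 0) : w = 0 := by
  let I : Ideal B := LinearMap.ker (LinearMap.toSpanSingleton B E w)
  have hI : ∀ s, s ∈ I ↔ s • w = 0 := fun s => by
    rw [LinearMap.mem_ker, LinearMap.toSpanSingleton_apply]
  by_cases hI1 : I = ⊤
  · have : (1 : B) ∈ I := by rw [hI1]; trivial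
    rw [hI, one_smul] at this
    exact this
  · obtain ⟨Q, hQmax, hIQ⟩ := Ideal.exists_le_maximal I hI1
    obtain ⟨s, hsQ, hs⟩ := h Q
    exact absurd (hIQ ((hI s).2 hs)) hsQ

/-- the `(n+1)`-st exterior power of the differentials of a smooth algebra of rank `n` is zero. -/
theorem ιMulti_succ_eq_zero (A B : Type u) [CommRing A] [CommRing B] [Algebra A B]
    [Algebra.Smooth A B] (n : ℕ)
    (hn : ∀ p : PrimeSpectrum B, Module.rankAtStalk (Ω[B⁄A]) p = n)
    (v : Fin (n + 1) → Ω[B⁄A]) : ExteriorAlgebra.ιMulti B (n + 1) v = 0 := by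
  apply eq_zero_of_forall_prime_exists_smul_eq_zero (B := B)
  intro Q hQ
  obtain ⟨e⟩ := nonempty_basis_kaehler_localization A B n hn Q
  obtain ⟨x, hx⟩ := exists_smul_mem_span_of_isLocalizedModule Q
    (Rp := Localization.AtPrime Q)
    (KaehlerDifferential.map A A B (Localization.AtPrime Q)) e e.span_eq
  obtain ⟨s, hsQ, hs⟩ := exists_smul_exteriorPower_eq_zero Q (n + 1)
    (by simp : Nat.card (Fin n) < n + 1) x hx
  refine ⟨s, hsQ, hs _ ?_⟩
  exact ExteriorAlgebra.ιMulti_range B (n + 1) ⟨v, rfl⟩

/-- contraction with a linear form turns the vanishing of `v ∧ p₁ ∧ ⋯ ∧ pₙ` into the vanishing of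
`φ(v) • π(p₁) ∧ ⋯ ∧ π(pₙ)` for any linear map `π` killing `v`. -/
theorem smul_ιMulti_eq_zero_of_ιMulti_succ_eq_zero
    {B R : Type*} [CommRing B] [CommRing R] [Algebra B R]
    {M : Type*} [AddCommGroup M] [Module B M]
    {N : Type*} [AddCommGroup N] [Module R N] [Module B N] [IsScalarTower B R N]
    (π : M →ₗ[B] N) (v : M) (hv : π v = 0) (φ : M →ₗ[B] B) (n : ℕ) (p : Fin n → M)
    (hz : ExteriorAlgebra.ιMulti B (n + 1) (Matrix.vecCons v p) = 0) :
    algebraMap B R (φ v) • ExteriorAlgebra.ιMulti R n (fun i => π (p i)) = 0 := by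
  let G : ExteriorAlgebra B M →ₐ[B] ExteriorAlgebra R N :=
    ExteriorAlgebra.lift B ⟨((ExteriorAlgebra.ι R).restrictScalars B) ∘ₗ π, fun m => by
      simp only [LinearMap.coe_comp, LinearMap.coe_restrictScalars, Function.comp_apply]
      exact ExteriorAlgebra.ι_sq_zero _⟩
  have hGι : ∀ m, G (ExteriorAlgebra.ι B m) = ExteriorAlgebra.ι R (π m) := by
    intro m
    simp only [G, ExteriorAlgebra.lift_ι_apply]
    rfl
  have hGmulti : G (ExteriorAlgebra.ιMulti B n p) =
      ExteriorAlgebra.ιMulti R n (fun i => π (p i)) := by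
    rw [ExteriorAlgebra.ιMulti_apply, ExteriorAlgebra.ιMulti_apply, map_list_prod, List.map_ofFn]
    congr 2
    funext i
    exact hGι (p i)
  rw [ExteriorAlgebra.ιMulti_succ_apply] at hz
  simp only [Matrix.cons_val_zero, Matrix.tail_cons] at hz
  have h1 := congrArg (CliffordAlgebra.contractLeft (Q := (0 : QuadraticForm B M)) φ) hz
  rw [map_zero] at h1
  have h1' : φ v • ExteriorAlgebra.ιMulti B n p -
      ExteriorAlgebra.ι B v * CliffordAlgebra.contractLeft (Q := (0 : QuadraticForm B M)) φ
        (ExteriorAlgebra.ιMulti B n p) = 0 := by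
    rw [← h1]
    exact (CliffordAlgebra.contractLeft_ι_mul φ v _).symm
  have h2 := congrArg G h1'
  rw [map_zero, map_sub, map_smul, map_mul, hGι, hv, map_zero, zero_mul, sub_zero, hGmulti] at h2
  rw [algebraMap_smul]
  exact h2

theorem span_le_annihilator (A B R : Type u) [CommRing A] [CommRing B] [CommRing R]
    [Algebra A B] [Algebra B R] [Algebra A R] [IsScalarTower A B R] [Algebra.Smooth A B] (n : ℕ)
    (hn : ∀ p : PrimeSpectrum B, Module.rankAtStalk (Ω[B⁄A]) p = n)
    (g : B) (hsurj : Function.Surjective (algebraMap B R))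
    (hg0 : algebraMap B R g = 0) :
    Ideal.span (Set.range fun φ : Ω[B⁄A] →ₗ[B] B =>
      algebraMap B R (φ (KaehlerDifferential.D A B g))) ≤ (⋀[R]^n (Ω[R⁄A])).annihilator := by
  rw [Ideal.span_le]
  rintro _ ⟨φ, rfl⟩
  rw [SetLike.mem_coe, Submodule.mem_annihilator]
  intro w hw
  have hπsurj : Function.Surjective (KaehlerDifferential.map A A B R) :=
    KaehlerDifferential.map_surjective_of_surjective A A B R hsurj
  have hπg : KaehlerDifferential.map A A B R (KaehlerDifferential.D A B g) = 0 := by
    rw [KaehlerDifferential.map_D, hg0, map_zero]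
  rw [← ExteriorAlgebra.ιMulti_span_fixedDegree R n] at hw
  induction hw using Submodule.span_induction with
  | mem w hw =>
    obtain ⟨m, rfl⟩ := hw
    choose p hp using fun i => hπsurj (m i)
    have := smul_ιMulti_eq_zero_of_ιMulti_succ_eq_zero (R := R)
      (KaehlerDifferential.map A A B R) (KaehlerDifferential.D A B g) hπg φ n p
      (ιMulti_succ_eq_zero A B n hn _)
    simp only [hp] at this
    exact this
  | zero => exact smul_zero _
  | add a b _ _ ha hb => rw [smul_add, ha, hb, add_zero]
  | smul c a _ ha => rw [smul_comm, ha, smul_zero]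

/-- version of `exists_linearMap_kaehler_of_tmul_D_eq_zero` with an arbitrary coefficient algebra. -/
theorem exists_linearMap_kaehler_of_tmul_D_eq_zero'
    {A B' R' K : Type*} [CommRing A] [CommRing B'] [CommRing R'] [CommRing K]
    [Algebra A B'] [Algebra B' R'] [Algebra A R'] [IsScalarTower A B' R']
    [Algebra R' K] [Algebra B' K] [IsScalarTower B' R' K]
    (h₁ : Function.Surjective (algebraMap B' R')) (g' : B')
    (hker : RingHom.ker (algebraMap B' R') = Ideal.span {g'})
    (h0 : (1 : K) ⊗ₜ[B'] KaehlerDifferential.D A B' g' = 0) :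
    ∃ f' : Ω[R'⁄A] →ₗ[R'] (K ⊗[B'] Ω[B'⁄A]),
      ∀ ω : Ω[B'⁄A], f' (KaehlerDifferential.map A A B' R' ω) = (1 : K) ⊗ₜ[B'] ω := by
  let ψ : R' ⊗[B'] Ω[B'⁄A] →ₗ[R'] (K ⊗[B'] Ω[B'⁄A]) :=
    LinearMap.liftBaseChange R' (TensorProduct.mk B' K Ω[B'⁄A] 1)
  let π : R' ⊗[B'] Ω[B'⁄A] →ₗ[R'] Ω[R'⁄A] := KaehlerDifferential.mapBaseChange A B' R'
  have hπ : Function.Surjective π := KaehlerDifferential.mapBaseChange_surjective A B' R' h₁
  have hex := KaehlerDifferential.exact_kerCotangentToTensor_mapBaseChange A B' R' h₁
  have hg0 : algebraMap B' K g' = 0 := by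
    have : g' ∈ RingHom.ker (algebraMap B' R') := by
      rw [hker]; exact Ideal.mem_span_singleton_self g'
    rw [IsScalarTower.algebraMap_apply B' R' K, (RingHom.mem_ker).1 this, map_zero]
  have hle : LinearMap.ker π ≤ LinearMap.ker ψ := by
    intro z hz
    rw [LinearMap.mem_ker] at hz
    obtain ⟨t, rfl⟩ := (hex z).1 hz
    obtain ⟨x, rfl⟩ := Ideal.toCotangent_surjective _ t
    rw [LinearMap.mem_ker, KaehlerDifferential.kerCotangentToTensor_toCotangent]
    obtain ⟨x, hx⟩ := x
    have hx' := hx
    rw [hker, Ideal.mem_span_singleton'] at hx'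
    obtain ⟨r, rfl⟩ := hx'
    simp only [ψ, LinearMap.liftBaseChange_tmul, one_smul, TensorProduct.mk_apply]
    rw [Derivation.leibniz, TensorProduct.tmul_add, TensorProduct.tmul_smul, h0, smul_zero,
      zero_add, TensorProduct.tmul_smul, TensorProduct.smul_tmul', Algebra.smul_def, mul_one, hg0,
      TensorProduct.zero_tmul]
  let f' : Ω[R'⁄A] →ₗ[R'] (K ⊗[B'] Ω[B'⁄A]) :=
    (LinearMap.ker π).liftQ ψ hle ∘ₗ (π.quotKerEquivOfSurjective hπ).symm.toLinearMap
  have hf' : ∀ z, f' (π z) = ψ z := by
    intro z
    have : (π.quotKerEquivOfSurjective hπ).symm (π z) = Submodule.Quotient.mk z := by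
      rw [LinearEquiv.symm_apply_eq]
      rfl
    change (LinearMap.ker π).liftQ ψ hle ((π.quotKerEquivOfSurjective hπ).symm (π z)) = _
    rw [this]
    rfl
  refine ⟨f', fun ω => ?_⟩
  have : π ((1 : R') ⊗ₜ[B'] ω) = KaehlerDifferential.map A A B' R' ω := by
    change KaehlerDifferential.mapBaseChange A B' R' _ = _
    rw [KaehlerDifferential.mapBaseChange_tmul, one_smul]
  rw [← this, hf']
  simp only [ψ, LinearMap.liftBaseChange_tmul, one_smul, TensorProduct.mk_apply]

/-- if an `R`-module `M` maps to a free module of rank `n` over an `R`-algebra `K` such that some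
`n` elements have unit determinant, the annihilator of `⋀ⁿ M` dies in `K`. -/
theorem annihilator_exteriorPower_le_ker_of_isUnit_det
    {R : Type*} [CommRing R] {M : Type*} [AddCommGroup M] [Module R M]
    {K : Type*} [CommRing K] [Algebra R K] {V : Type*} [AddCommGroup V] [Module K V] [Module R V]
    [IsScalarTower R K V] (n : ℕ) (b : Module.Basis (Fin n) K V)
    (f : M →ₗ[R] V) (m : Fin n → M) (hu : IsUnit (b.det (fun i => f (m i)))) :
    (⋀[R]^n M).annihilator ≤ RingHom.ker (algebraMap R K) := by
  classical
  let Φ : M [⋀^Fin n]→ₗ[R] K :=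
    { (b.det.toMultilinearMap.restrictScalars R).compLinearMap (fun _ => f) with
      map_eq_zero_of_eq' := fun v i j hij hne => by
        change b.det (fun k => f (v k)) = 0
        exact b.det.map_eq_zero_of_eq _ (by simp [hij]) hne }
  have hΦ : Φ m = b.det (fun i => f (m i)) := rfl
  intro r hr
  rw [Submodule.mem_annihilator] at hr
  have h0 : r • exteriorPower.ιMulti R n m = 0 := by
    apply Subtype.ext
    exact hr _ (exteriorPower.ιMulti R n m).2
  have h1 := congrArg (exteriorPower.alternatingMapLinearEquiv Φ) h0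
  rw [map_smul, exteriorPower.alternatingMapLinearEquiv_apply_ιMulti, hΦ, map_zero,
    Algebra.smul_def] at h1
  rw [RingHom.mem_ker]
  exact (hu.mul_left_eq_zero).1 h1

/-- semilinear version -/
theorem annihilator_exteriorPower_le_ker_of_isUnit_det'
    {R : Type*} [CommRing R] {M : Type*} [AddCommGroup M] [Module R M]
    {K : Type*} [CommRing K] [Algebra R K] {V : Type*} [AddCommGroup V] [Module K V]
    (n : ℕ) (b : Module.Basis (Fin n) K V)
    (f : M →+ V) (hf : ∀ (c : R) (x : M), f (c • x) = algebraMap R K c • f x)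
    (m : Fin n → M) (hu : IsUnit (b.det (fun i => f (m i)))) :
    (⋀[R]^n M).annihilator ≤ RingHom.ker (algebraMap R K) := by
  let _ : Module R V := Module.compHom V (algebraMap R K)
  have : IsScalarTower R K V := ⟨fun c k v => by
    change (c • k) • v = algebraMap R K c • (k • v)
    rw [Algebra.smul_def, mul_smul]⟩
  let f' : M →ₗ[R] V :=
    { toFun := f
      map_add' := f.map_add
      map_smul' := fun c x => hf c x }
  exact annihilator_exteriorPower_le_ker_of_isUnit_det n b f' m hu

/-- functoriality of `KaehlerDifferential.map` in a commutative square of surjections/localizations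
-/
theorem map_map_eq_map_map (A B R B' R' : Type*) [CommRing A] [CommRing B] [CommRing R]
    [CommRing B'] [CommRing R'] [Algebra A B] [Algebra B R] [Algebra A R] [IsScalarTower A B R]
    [Algebra A B'] [Algebra B B'] [IsScalarTower A B B']
    [Algebra A R'] [Algebra R R'] [IsScalarTower A R R']
    [Algebra B' R'] [Algebra B R'] [IsScalarTower B R R'] [IsScalarTower B B' R']
    [IsScalarTower A B' R'] (ω : Ω[B⁄A]) :
    KaehlerDifferential.map A A R R' (KaehlerDifferential.map A A B R ω) =
      KaehlerDifferential.map A A B' R' (KaehlerDifferential.map A A B B' ω) := by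
  have hω : ω ∈ Submodule.span B (Set.range (KaehlerDifferential.D A B)) := by
    rw [KaehlerDifferential.span_range_derivation]; trivial
  induction hω using Submodule.span_induction with
  | mem x hx =>
    obtain ⟨x, rfl⟩ := hx
    simp only [KaehlerDifferential.map_D]
    rw [← IsScalarTower.algebraMap_apply B R R', ← IsScalarTower.algebraMap_apply B B' R']
  | zero => simp only [map_zero]
  | add x y _ _ hx hy => simp only [map_add, hx, hy]
  | smul c x _ hx =>
    have h1 : KaehlerDifferential.map A A B R (c • x) =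
        algebraMap B R c • KaehlerDifferential.map A A B R x := by
      rw [map_smul, algebraMap_smul]
    have h2 : KaehlerDifferential.map A A B B' (c • x) =
        algebraMap B B' c • KaehlerDifferential.map A A B B' x := by
      rw [map_smul, algebraMap_smul]
    rw [h1, h2, map_smul, map_smul, hx, ← algebraMap_smul R' (algebraMap B R c),
      ← algebraMap_smul R' (algebraMap B B' c),
      ← IsScalarTower.algebraMap_apply B R R', ← IsScalarTower.algebraMap_apply B B' R']

/-- the local statement: at a prime `P` of `R`, some `s ∉ P` multiplies the annihilator into the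
Jacobian ideal. -/
theorem exists_mul_mem_span_of_mem_annihilator (A B R : Type u) [CommRing A] [CommRing B]
    [CommRing R]
    [Algebra A B] [Algebra B R] [Algebra A R] [IsScalarTower A B R] [Algebra.Smooth A B] (n : ℕ)
    (hn : ∀ p : PrimeSpectrum B, Module.rankAtStalk (Ω[B⁄A]) p = n)
    (g : B) (hsurj : Function.Surjective (algebraMap B R))
    (hker : RingHom.ker (algebraMap B R) = Ideal.span {g}) (P : Ideal R) [hP : P.IsPrime]
    (r : R) (hr : r ∈ (⋀[R]^n (Ω[R⁄A])).annihilator) :
    ∃ s : R, s ∉ P ∧ s * r ∈ Ideal.span (Set.range fun φ : Ω[B⁄A] →ₗ[B] B =>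
      algebraMap B R (φ (KaehlerDifferential.D A B g))) := by
  classical
  set I : Ideal R := Ideal.span (Set.range fun φ : Ω[B⁄A] →ₗ[B] B =>
      algebraMap B R (φ (KaehlerDifferential.D A B g))) with hI
  let Q : Ideal B := P.comap (algebraMap B R)
  have hQ : Q.IsPrime := Ideal.comap_isPrime _ _
  let f : Localization.AtPrime Q →+* Localization.AtPrime P :=
    Localization.localRingHom Q P (algebraMap B R) rfl
  let _ : Algebra (Localization.AtPrime Q) (Localization.AtPrime P) := f.toAlgebra
  have hf : ∀ b : B, f (algebraMap B (Localization.AtPrime Q) b) =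
      algebraMap R (Localization.AtPrime P) (algebraMap B R b) :=
    fun b => Localization.localRingHom_to_map Q P (algebraMap B R) rfl b
  have : IsScalarTower B (Localization.AtPrime Q) (Localization.AtPrime P) :=
    IsScalarTower.of_algebraMap_eq' (by
      ext b
      rw [RingHom.comp_apply, RingHom.algebraMap_toAlgebra, hf,
        ← IsScalarTower.algebraMap_apply B R (Localization.AtPrime P)])
  have : IsScalarTower A (Localization.AtPrime Q) (Localization.AtPrime P) :=
    IsScalarTower.of_algebraMap_eq' (by
      ext r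
      rw [RingHom.comp_apply, IsScalarTower.algebraMap_apply A B (Localization.AtPrime Q),
        ← IsScalarTower.algebraMap_apply B (Localization.AtPrime Q) (Localization.AtPrime P),
        ← IsScalarTower.algebraMap_apply A B (Localization.AtPrime P)])
  have h₁ : Function.Surjective (algebraMap (Localization.AtPrime Q) (Localization.AtPrime P)) :=
    RingHom.surjective_localRingHom_of_surjective _ hsurj P
  have hT : Submonoid.map (algebraMap B R) Q.primeCompl = P.primeCompl := by
    ext y
    constructor
    · rintro ⟨x, hx, rfl⟩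
      exact hx
    · intro hy
      obtain ⟨x, rfl⟩ := hsurj y
      exact ⟨x, hy, rfl⟩
  set g' : Localization.AtPrime Q := algebraMap B (Localization.AtPrime Q) g with hg'def
  have hker' : RingHom.ker (algebraMap (Localization.AtPrime Q) (Localization.AtPrime P)) =
      Ideal.span {g'} := by
    have h := IsLocalization.ker_map (S := Localization.AtPrime Q) (Localization.AtPrime P)
      (algebraMap B R) hT
    rw [hker, Ideal.map_span, Set.image_singleton] at h
    exact h
  obtain ⟨e⟩ := nonempty_basis_kaehler_localization A B n hn Q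
  -- the coefficient ring
  let I' : Ideal (Localization.AtPrime P) := I.map (algebraMap R (Localization.AtPrime P))
  -- global dual basis of `Ω[B/A]`
  obtain ⟨N, pf, pg, -, -, hpfg⟩ := Module.Finite.exists_comp_eq_id_of_projective B Ω[B⁄A]
  have hdg : KaehlerDifferential.D A B g = ∑ k : Fin N,
      (pg (KaehlerDifferential.D A B g) k) • pf (Pi.single k 1) := by
    have h1 : pf (pg (KaehlerDifferential.D A B g)) = KaehlerDifferential.D A B g :=
      LinearMap.congr_fun hpfg _
    conv_lhs => rw [← h1, LinearMap.pi_apply_eq_sum_univ pf]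
    refine Finset.sum_congr rfl fun k _ => ?_
    congr 2
    funext j
    simp [Pi.single_apply, eq_comm]
  have hmemI : ∀ k : Fin N, algebraMap B R (pg (KaehlerDifferential.D A B g) k) ∈ I := by
    intro k
    apply Ideal.subset_span
    exact ⟨(LinearMap.proj k) ∘ₗ pg, rfl⟩
  have hzeroK : ∀ k : Fin N, algebraMap (Localization.AtPrime Q) (Localization.AtPrime P ⧸ I')
      (algebraMap B (Localization.AtPrime Q) (pg (KaehlerDifferential.D A B g) k)) = 0 := by
    intro k
    rw [IsScalarTower.algebraMap_apply (Localization.AtPrime Q) (Localization.AtPrime P)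
      (Localization.AtPrime P ⧸ I'), RingHom.algebraMap_toAlgebra, hf]
    exact Ideal.Quotient.eq_zero_iff_mem.2 (Ideal.mem_map_of_mem _ (hmemI k))
  have h0 : (1 : Localization.AtPrime P ⧸ I') ⊗ₜ[Localization.AtPrime Q]
      KaehlerDifferential.D A (Localization.AtPrime Q) g' = 0 := by
    have h2 : KaehlerDifferential.D A (Localization.AtPrime Q) g' =
        KaehlerDifferential.map A A B (Localization.AtPrime Q) (KaehlerDifferential.D A B g) := by
      rw [KaehlerDifferential.map_D]
    rw [h2, hdg, map_sum, TensorProduct.tmul_sum]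
    apply Finset.sum_eq_zero
    intro k _
    rw [map_smul, ← algebraMap_smul (Localization.AtPrime Q), TensorProduct.tmul_smul,
      TensorProduct.smul_tmul']
    have h3 : (algebraMap B (Localization.AtPrime Q) (pg (KaehlerDifferential.D A B g) k)) •
        (1 : Localization.AtPrime P ⧸ I') = 0 := by
      refine (Algebra.smul_def (R := Localization.AtPrime Q) (A := Localization.AtPrime P ⧸ I')
        _ _).trans ?_
      rw [mul_one, hzeroK]
    rw [h3, TensorProduct.zero_tmul]
  obtain ⟨f', hf'⟩ := exists_linearMap_kaehler_of_tmul_D_eq_zero' (A := A)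
    (K := Localization.AtPrime P ⧸ I') h₁ g' hker' h0
  -- the basis of the base change
  let b : Module.Basis (Fin n) (Localization.AtPrime P ⧸ I')
      ((Localization.AtPrime P ⧸ I') ⊗[Localization.AtPrime Q] Ω[Localization.AtPrime Q⁄A]) :=
    e.baseChange (Localization.AtPrime P ⧸ I')
  -- lifts of the basis
  have hsurjloc : ∀ i : Fin n, ∃ (ω : Ω[B⁄A]) (s : Q.primeCompl),
      KaehlerDifferential.map A A B (Localization.AtPrime Q) ω = s • e i := by
    intro i
    obtain ⟨⟨ω, s⟩, h⟩ := IsLocalizedModule.surj Q.primeCompl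
      (KaehlerDifferential.map A A B (Localization.AtPrime Q)) (e i)
    exact ⟨ω, s, h.symm⟩
  choose ω s hωs using hsurjloc
  -- the additive map
  let F : Ω[R⁄A] →+ ((Localization.AtPrime P ⧸ I') ⊗[Localization.AtPrime Q]
      Ω[Localization.AtPrime Q⁄A]) :=
    f'.toAddMonoidHom.comp (KaehlerDifferential.map A A R (Localization.AtPrime P)).toAddMonoidHom
  have hF : ∀ (c : R) (x : Ω[R⁄A]),
      F (c • x) = algebraMap R (Localization.AtPrime P ⧸ I') c • F x := by
    intro c x
    change f' (KaehlerDifferential.map A A R (Localization.AtPrime P) (c • x)) =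
      algebraMap R (Localization.AtPrime P ⧸ I') c •
        f' (KaehlerDifferential.map A A R (Localization.AtPrime P) x)
    rw [map_smul, ← algebraMap_smul (Localization.AtPrime P) c, map_smul,
      IsScalarTower.algebraMap_apply R (Localization.AtPrime P) (Localization.AtPrime P ⧸ I'),
      algebraMap_smul (Localization.AtPrime P ⧸ I')]
  have hFm : ∀ i : Fin n, F (KaehlerDifferential.map A A B R (ω i)) =
      algebraMap (Localization.AtPrime Q) (Localization.AtPrime P ⧸ I')
        (algebraMap B (Localization.AtPrime Q) (s i)) • b i := by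
    intro i
    change f' (KaehlerDifferential.map A A R (Localization.AtPrime P)
      (KaehlerDifferential.map A A B R (ω i))) = _
    rw [map_map_eq_map_map A B R (Localization.AtPrime Q) (Localization.AtPrime P), hf', hωs,
      Module.Basis.baseChange_apply]
    have h6 : (s i • e i : Ω[Localization.AtPrime Q⁄A]) =
        algebraMap B (Localization.AtPrime Q) (s i) • e i := by
      rw [Submonoid.smul_def, algebraMap_smul]
    rw [h6, TensorProduct.tmul_smul]
    exact (algebraMap_smul (Localization.AtPrime P ⧸ I') _ _).symm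
  have hu : IsUnit (b.det (fun i => F (KaehlerDifferential.map A A B R (ω i)))) := by
    have h5 : (fun i => F (KaehlerDifferential.map A A B R (ω i))) = fun i =>
        (algebraMap (Localization.AtPrime Q) (Localization.AtPrime P ⧸ I')
          (algebraMap B (Localization.AtPrime Q) (s i))) • b i := funext hFm
    rw [h5, AlternatingMap.map_smul_univ, Module.Basis.det_self, smul_eq_mul, mul_one,
      IsUnit.prod_univ_iff]
    intro i
    exact (IsLocalization.map_units (Localization.AtPrime Q) (s i)).map _
  have hle := annihilator_exteriorPower_le_ker_of_isUnit_det' n b F hF _ hu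
  have hrK : algebraMap R (Localization.AtPrime P ⧸ I') r = 0 := hle hr
  rw [IsScalarTower.algebraMap_apply R (Localization.AtPrime P) (Localization.AtPrime P ⧸ I'),
    Ideal.Quotient.algebraMap_eq, Ideal.Quotient.eq_zero_iff_mem,
    IsLocalization.mem_map_algebraMap_iff P.primeCompl] at hrK
  obtain ⟨⟨a, t⟩, h⟩ := hrK
  rw [← map_mul, IsLocalization.eq_iff_exists P.primeCompl] at h
  obtain ⟨c, hc⟩ := h
  refine ⟨c * t, (c * t).2, ?_⟩
  have : (c : R) * t * r = c * a := by
    rw [← hc]
    ring
  rw [this]
  exact I.mul_mem_left _ a.2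

/-- the annihilator is contained in the Jacobian ideal (local-global). -/
theorem annihilator_le_span (A B R : Type u) [CommRing A] [CommRing B] [CommRing R]
    [Algebra A B] [Algebra B R] [Algebra A R] [IsScalarTower A B R] [Algebra.Smooth A B] (n : ℕ)
    (hn : ∀ p : PrimeSpectrum B, Module.rankAtStalk (Ω[B⁄A]) p = n)
    (g : B) (hsurj : Function.Surjective (algebraMap B R))
    (hker : RingHom.ker (algebraMap B R) = Ideal.span {g}) :
    (⋀[R]^n (Ω[R⁄A])).annihilator ≤ Ideal.span (Set.range fun φ : Ω[B⁄A] →ₗ[B] B =>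
      algebraMap B R (φ (KaehlerDifferential.D A B g))) := by
  intro r hr
  set I : Ideal R := Ideal.span (Set.range fun φ : Ω[B⁄A] →ₗ[B] B =>
      algebraMap B R (φ (KaehlerDifferential.D A B g))) with hI
  let C : Ideal R := Submodule.comap (LinearMap.toSpanSingleton R R r) I
  have hC : ∀ s, s ∈ C ↔ s * r ∈ I := fun s => by
    rw [Submodule.mem_comap, LinearMap.toSpanSingleton_apply, smul_eq_mul]
  by_cases hC1 : C = ⊤
  · have : (1 : R) ∈ C := by rw [hC1]; trivial
    rw [hC, one_mul] at this
    exact this
  · obtain ⟨P, hPmax, hCP⟩ := Ideal.exists_le_maximal C hC1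
    have : P.IsPrime := hPmax.isPrime
    obtain ⟨s, hsP, hs⟩ := exists_mul_mem_span_of_mem_annihilator A B R n hn g hsurj hker P r hr
    exact absurd (hCP ((hC s).2 hs)) hsP

/-- **The annihilator of the top exterior power of the differentials of a hypersurface is the
Jacobian ideal.** -/
theorem annihilator_exteriorPower_eq_span (A B R : Type u) [CommRing A] [CommRing B] [CommRing R]
    [Algebra A B] [Algebra B R] [Algebra A R] [IsScalarTower A B R] [Algebra.Smooth A B] (n : ℕ)
    (hn : ∀ p : PrimeSpectrum B, Module.rankAtStalk (Ω[B⁄A]) p = n)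
    (g : B) (hsurj : Function.Surjective (algebraMap B R))
    (hker : RingHom.ker (algebraMap B R) = Ideal.span {g}) :
    (⋀[R]^n (Ω[R⁄A])).annihilator = Ideal.span (Set.range fun φ : Ω[B⁄A] →ₗ[B] B =>
      algebraMap B R (φ (KaehlerDifferential.D A B g))) := by
  refine le_antisymm (annihilator_le_span A B R n hn g hsurj hker) ?_
  refine span_le_annihilator A B R n hn g hsurj ?_
  have : g ∈ RingHom.ker (algebraMap B R) := by
    rw [hker]; exact Ideal.mem_span_singleton_self g
  exact (RingHom.mem_ker).1 this

end Groth.Agent.Lib.Seat94.ExtPowerAnn2
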