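import Mathlib

/-!
# F-finiteness

* `frobenius_powerSeries_finite`: for a perfect field `k` of characteristic `p`, the Frobenius of
  `k⟦X⟧` is finite.
* `frobenius_finite_of_finiteType`: a finite-type algebra over an F-finite ring is F-finite.
-/

set_option autoImplicit false
set_option linter.style.haveILetI false
universe u v

namespace Groth.Agent.Lib.Seat94.FFinite

section PS

open PowerSeries

variable {k : Type u} [Field k] (p : ℕ) [Fact p.Prime] [CharP k p]

lemma coeff_pow_char (c : k⟦X⟧) (n : ℕ) :
    coeff n (c ^ p) = if p ∣ n then (coeff (n / p) c) ^ p else 0 := by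
  haveI : ExpChar k p := ExpChar.prime Fact.out
  have hp : p ≠ 0 := (Fact.out : p.Prime).ne_zero
  have h := MvPowerSeries.map_frobenius_expand (σ := Unit) (R := k) p hp (f := c)
  have h' : c ^ p = PowerSeries.map (frobenius k p) (PowerSeries.expand p hp c) := h.symm
  rw [h', PowerSeries.coeff_map, PowerSeries.coeff_expand]
  split_ifs
  · rw [frobenius_def]
  · rw [map_zero]

theorem exists_repr [PerfectField k] (r : k⟦X⟧) :
    ∃ c : Fin p → k⟦X⟧, r = ∑ i : Fin p, X ^ (i : ℕ) * c i ^ p := by
  classical
  haveI : ExpChar k p := ExpChar.prime Fact.out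
  haveI : PerfectRing k p := PerfectField.toPerfectRing p
  have hp : 0 < p := (Fact.out : p.Prime).pos
  refine ⟨fun i => PowerSeries.mk fun n =>
    (frobeniusEquiv k p).symm (coeff (p * n + (i : ℕ)) r), ?_⟩
  ext m
  rw [map_sum]
  have hm : m % p < p := Nat.mod_lt _ hp
  rw [Finset.sum_eq_single (⟨m % p, hm⟩ : Fin p)]
  · rw [coeff_X_pow_mul', if_pos (Nat.mod_le m p), coeff_pow_char,
      if_pos (Nat.dvd_sub_mod m), coeff_mk, frobeniusEquiv_symm_pow_p]
    have h1 : (m - m % p) / p = m / p := by
      have h2 := Nat.div_add_mod m p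
      have h3 : m - m % p = p * (m / p) := by omega
      rw [h3, Nat.mul_div_cancel_left _ hp]
    rw [h1]
    exact congrArg (fun j => coeff j r) (Nat.div_add_mod m p).symm
  · intro i _ hi
    rw [coeff_X_pow_mul']
    split_ifs with h1
    · rw [coeff_pow_char]
      split_ifs with h2
      · exfalso
        apply hi
        apply Fin.ext
        obtain ⟨q, hq⟩ := h2
        have h3 : m = (i : ℕ) + p * q := by omega
        change (i : ℕ) = m % p
        rw [h3, Nat.add_mul_mod_self_left, Nat.mod_eq_of_lt i.2]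
      · rfl
    · rfl
  · intro h
    exact absurd (Finset.mem_univ _) h

/-- The Frobenius of `k⟦X⟧` is finite when `k` is a perfect field of characteristic `p`. -/
theorem frobenius_powerSeries_finite [PerfectField k] [CharP k⟦X⟧ p] :
    (frobenius k⟦X⟧ p).Finite := by
  classical
  letI alg : Algebra k⟦X⟧ k⟦X⟧ := (frobenius k⟦X⟧ p).toAlgebra
  show @Module.Finite k⟦X⟧ k⟦X⟧ _ _ alg.toModule
  refine @Module.Finite.of_fg_top _ _ _ _ alg.toModule
    ⟨Finset.image (fun i : Fin p => (X : k⟦X⟧) ^ (i : ℕ)) Finset.univ, ?_⟩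
  rw [eq_top_iff]
  rintro r -
  obtain ⟨c, hc⟩ := exists_repr p r
  rw [hc]
  refine Submodule.sum_mem _ fun i _ => ?_
  have h1 : (X : k⟦X⟧) ^ (i : ℕ) * c i ^ p =
      @HSMul.hSMul _ _ _ (@instHSMul _ _ alg.toSMul) (c i) ((X : k⟦X⟧) ^ (i : ℕ)) := by
    rw [mul_comm]
    rfl
  rw [h1]
  refine @Submodule.smul_mem _ _ _ _ alg.toModule _ _ _
    (@Submodule.subset_span _ _ _ _ alg.toModule _ _ ?_)
  simp

end PS

section FT

variable (p : ℕ) [Fact p.Prime] (R : Type u) (S : Type v) [CommRing R] [CommRing S]
  [CharP R p] [CharP S p] [Algebra R S]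

/-- a finite ring map has a finite generating family -/
theorem exists_generators_of_finite {R S : Type*} [CommRing R] [CommRing S] (f : R →+* S)
    (hf : f.Finite) :
    ∃ (N : ℕ) (c : Fin N → S), ∀ a : S, ∃ b : Fin N → R, a = ∑ j, f (b j) * c j := by
  letI : Algebra R S := f.toAlgebra
  haveI : Module.Finite R S := hf
  obtain ⟨N, c, hc⟩ := Module.Finite.exists_fin (R := R) (M := S)
  refine ⟨N, c, fun a => ?_⟩
  have ha : a ∈ Submodule.span R (Set.range c) := by rw [hc]; trivial
  obtain ⟨b, hb⟩ := (Submodule.mem_span_range_iff_exists_fun R).1 ha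
  refine ⟨b, ?_⟩
  rw [← hb]
  apply Finset.sum_congr rfl
  intro j _
  rw [Algebra.smul_def]
  rfl

/-- A finite-type algebra over an F-finite ring is F-finite. -/
theorem frobenius_finite_of_finiteType [Algebra.FiniteType R S] (hR : (frobenius R p).Finite) :
    (frobenius S p).Finite := by
  classical
  have hp : p ≠ 0 := (Fact.out : p.Prime).ne_zero
  apply RingHom.IsIntegral.to_finite
  · intro s
    refine ⟨Polynomial.X ^ p - Polynomial.C s, Polynomial.monic_X_pow_sub_C s hp, ?_⟩
    simp [frobenius_def]
  · obtain ⟨t, ht⟩ := (Algebra.FiniteType.out : (⊤ : Subalgebra R S).FG)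
    obtain ⟨N, c, hc⟩ := exists_generators_of_finite (frobenius R p) hR
    let G : Finset S := t ∪ Finset.image (fun j => algebraMap R S (c j)) Finset.univ
    let ψ : MvPolynomial G S →+* S := MvPolynomial.eval₂Hom (frobenius S p) (fun g : G => (g : S))
    have hψC : ψ.comp MvPolynomial.C = frobenius S p := by
      ext s
      simp [ψ]
    have hmemG : ∀ g ∈ G, g ∈ ψ.range := by
      intro g hg
      exact ⟨MvPolynomial.X ⟨g, hg⟩, by simp [ψ]⟩
    have hfrob : ∀ s : S, s ^ p ∈ ψ.range := by
      intro s
      exact ⟨MvPolynomial.C s, by simp [ψ, frobenius_def]⟩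
    have hsurj : Function.Surjective ψ := by
      rw [← RingHom.range_eq_top, eq_top_iff]
      rintro s -
      have hs : s ∈ Algebra.adjoin R (t : Set S) := by rw [ht]; trivial
      induction hs using Algebra.adjoin_induction with
      | mem x hx => exact hmemG x (Finset.mem_union_left _ hx)
      | algebraMap r =>
        obtain ⟨b, hb⟩ := hc r
        rw [hb, map_sum]
        refine Subring.sum_mem _ fun j _ => ?_
        rw [map_mul, frobenius_def, map_pow]
        refine Subring.mul_mem _ (hfrob _) (hmemG _ ?_)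
        exact Finset.mem_union_right _ (Finset.mem_image.2 ⟨j, Finset.mem_univ _, rfl⟩)
      | add x y _ _ hx hy => exact Subring.add_mem _ hx hy
      | mul x y _ _ hx hy => exact Subring.mul_mem _ hx hy
    rw [← hψC]
    refine (RingHom.FiniteType.of_surjective ψ hsurj).comp ?_
    have : (algebraMap S (MvPolynomial G S)).FiniteType :=
      RingHom.finiteType_algebraMap.mpr inferInstance
    exact this

end FT

end Groth.Agent.Lib.Seat94.FFinite
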