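import Mathlib
import Groth.Agent.Lib.Seat6FppfQF
import Groth.Agent.Lib.Helper20EtFinParts
import Groth.Agent.Lib.Seat20SplitEtale

/-!
# fppf covers are refined by Zariski / finite locally free towers

Stacks 05WN: around every point, an fppf covering is refined by
(Zariski open) ∘ (finite locally free surjective) ∘ (Zariski open) ∘ (finite locally free surjective).

* `exists_etale_finite_flat_factor'`: a flat lfp `g : S₁ ⟶ S` whose image contains `s` is dominated,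
  over an étale `e : S' ⟶ S` hitting `s`, by a finite flat finitely presented surjective `V ⟶ S'`.
* `exists_finite_flat_cover_locally_dominating`: an étale neighbourhood of `s` is dominated, Zariski
  locally at **all** points of a finite locally free cover of an open neighbourhood of `s`
  (shrinking the neighbourhood given by `Seat20.SplitEtale`).
* `exists_tower`: the assembled statement.
-/

set_option autoImplicit false
universe u
open CategoryTheory CategoryTheory.Limits AlgebraicGeometry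

namespace Groth.Agent.Lib.Seat94.FppfTower

theorem exists_etale_finite_flat_factor' {S₁ S : Scheme.{u}} (g : S₁ ⟶ S) [Flat g]
    [LocallyOfFinitePresentation g] (s : S) (hs : s ∈ Set.range ⇑g) :
    ∃ (S' V : Scheme.{u}) (e : S' ⟶ S) (π : V ⟶ S') (r : V ⟶ S₁) (s' : S'), Etale e ∧ e s' = s ∧
      Surjective π ∧ IsFinite π ∧ Flat π ∧ LocallyOfFinitePresentation π ∧ r ≫ g = π ≫ e := by
  obtain ⟨W, hW, a, hfl, hfp, hqf, ⟨w₀, hw₀⟩⟩ :=
    Groth.Agent.Lib.Seat6.FppfQF.exists_affine_flat_lqf g s (by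
      obtain ⟨x, hx⟩ := hs; exact ⟨x, hx⟩)
  set h : W ⟶ S := a ≫ g with hh
  have hq : h.QuasiFiniteAt w₀ := h.quasiFiniteAt w₀
  obtain ⟨U, e, u, he, hu, hbij, d⟩ :=
    Groth.Agent.Lib.Helper20.EtSections.hasFinParts_singleton (f := h) w₀ hq
  obtain ⟨V, hVfin, hV⟩ := d w₀ rfl
  obtain ⟨v₀, hv₀1, hv₀2⟩ := Scheme.Pullback.exists_preimage_pullback (f := h) (g := e) w₀ u hu.symm
  have hv₀V : v₀ ∈ V := (hV v₀ hv₀2).mpr hv₀1
  set π₀ : (V : Scheme.{u}) ⟶ U := V.ι ≫ pullback.snd h e with hπ₀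
  have hπ₀fl : Flat π₀ := inferInstance
  have hπ₀fp : LocallyOfFinitePresentation π₀ := inferInstance
  have hopen : IsOpen (Set.range ⇑π₀) := π₀.isOpenMap.isOpen_range
  let U' : U.Opens := ⟨Set.range ⇑π₀, hopen⟩
  have hpre : π₀ ⁻¹ᵁ U' = ⊤ := by
    ext x
    simp only [Scheme.Hom.coe_preimage, Set.mem_preimage, SetLike.mem_coe,
      TopologicalSpace.Opens.coe_top, Set.mem_univ, iff_true]
    exact ⟨x, rfl⟩
  have huU' : u ∈ U' := by
    refine ⟨⟨v₀, hv₀V⟩, ?_⟩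
    show (V.ι ≫ pullback.snd h e) ⟨v₀, hv₀V⟩ = u
    rw [Scheme.Hom.comp_apply]
    exact hv₀2
  refine ⟨U', (π₀ ⁻¹ᵁ U' : V.toScheme.Opens), U'.ι ≫ e, π₀ ∣_ U',
    (π₀ ⁻¹ᵁ U').ι ≫ V.ι ≫ pullback.fst h e ≫ a, ⟨u, huU'⟩, inferInstance, ?_, ?_, inferInstance,
    inferInstance, inferInstance, ?_⟩
  · rw [Scheme.Hom.comp_apply]
    show e u = s
    rw [hu, ← hw₀]
  · constructor
    rintro ⟨y, ⟨x, rfl⟩⟩
    refine ⟨⟨x, ?_⟩, ?_⟩
    · rw [hpre]; trivial
    · apply U'.ι.injective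
      rw [← Scheme.Hom.comp_apply, morphismRestrict_ι, Scheme.Hom.comp_apply]
      rfl
  · rw [← Category.assoc (π₀ ∣_ U'), morphismRestrict_ι, Category.assoc, Category.assoc,
      Category.assoc, Category.assoc, ← hh, pullback.condition, hπ₀, Category.assoc]

/-- An étale neighbourhood `(S', s') ⟶ (S, s)` is dominated, Zariski locally at every point, by a
finite locally free cover of an open neighbourhood of `s`. -/
theorem exists_finite_flat_cover_locally_dominating {S' S : Scheme.{u}} (e : S' ⟶ S) [Etale e]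
    (s' : S') (s : S) (hs' : e s' = s) :
    ∃ (U : S.Opens) (W : Scheme.{u}) (π : W ⟶ U.toScheme), s ∈ U ∧ Surjective π ∧ IsFinite π ∧
      Flat π ∧ LocallyOfFinitePresentation π ∧
      ∀ w : W, ∃ (W' : W.Opens) (h : W'.toScheme ⟶ S'), w ∈ W' ∧ h ≫ e = W'.ι ≫ π ≫ U.ι := by
  obtain ⟨V, T, π, hsV, -, hπs, hπf, hπfl, hπfp, hloc⟩ :=
    Groth.Agent.Lib.Seat20.SplitEtale.exists_finite_flat_cover_dominating_etale_nbhd e s' s hs'
  -- the open set of points admitting a local factorization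
  let G : Set T := {t | ∃ (W' : T.Opens) (h : W'.toScheme ⟶ S'), t ∈ W' ∧ h ≫ e = W'.ι ≫ π ≫ V.ι}
  have hGo : IsOpen G := by
    rw [isOpen_iff_forall_mem_open]
    rintro t ⟨W', h, htW', hh⟩
    exact ⟨W', fun t' ht' => ⟨W', h, ht', hh⟩, W'.2, htW'⟩
  have hGs : ∀ t : T, V.ι (π t) = s → t ∈ G := by
    intro t ht
    obtain ⟨W', h, htW', hh, -⟩ := hloc t ht
    exact ⟨W', h, htW', hh⟩
  have hCc : IsClosed (π '' Gᶜ) := π.isClosedMap _ hGo.isClosed_compl
  let U₀ : V.toScheme.Opens := ⟨(π '' Gᶜ)ᶜ, hCc.isOpen_compl⟩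
  have hsU₀ : (⟨s, hsV⟩ : V.toScheme) ∈ U₀ := by
    rintro ⟨t, htG, ht⟩
    exact htG (hGs t (by rw [ht]; rfl))
  have hWG : ∀ t : T, t ∈ π ⁻¹ᵁ U₀ → t ∈ G := by
    intro t ht
    by_contra htG
    exact ht ⟨t, htG, rfl⟩
  refine ⟨V.ι ''ᵁ U₀, (π ⁻¹ᵁ U₀ : T.Opens), (π ∣_ U₀) ≫ (V.ι.isoImage U₀).hom,
    ⟨⟨s, hsV⟩, hsU₀, rfl⟩, ?_, inferInstance, inferInstance, inferInstance, ?_⟩
  · have : Surjective (π ∣_ U₀) := by
      constructor
      rintro ⟨y, hy⟩
      obtain ⟨t, rfl⟩ := π.surjective y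
      refine ⟨⟨t, hy⟩, ?_⟩
      apply U₀.ι.injective
      rw [← Scheme.Hom.comp_apply, morphismRestrict_ι, Scheme.Hom.comp_apply]
      rfl
    infer_instance
  · rintro ⟨t, ht⟩
    obtain ⟨W', h, htW', hh⟩ := hWG t ht
    refine ⟨(π ⁻¹ᵁ U₀).ι ⁻¹ᵁ W', (π ⁻¹ᵁ U₀).ι ∣_ W' ≫ h, htW', ?_⟩
    rw [Category.assoc, hh, ← Category.assoc, morphismRestrict_ι]
    simp only [Category.assoc]
    rw [Scheme.Hom.isoImage_hom_ι, morphismRestrict_ι_assoc]

/-- Stacks 05WN, pointwise form: around `s`, a flat lfp `g : S₁ ⟶ S` whose image contains `s` is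
refined by a tower Zariski / finite locally free / Zariski / finite locally free. -/
theorem exists_tower {S₁ S : Scheme.{u}} (g : S₁ ⟶ S) [Flat g] [LocallyOfFinitePresentation g]
    (s : S) (hs : s ∈ Set.range ⇑g) :
    ∃ (U : S.Opens) (W : Scheme.{u}) (π : W ⟶ U.toScheme), s ∈ U ∧
      (IsFinite π ∧ Flat π ∧ LocallyOfFinitePresentation π) ∧ Surjective π ∧
      ∀ w : W, ∃ (W' : W.Opens) (T : Scheme.{u}) (ρ : T ⟶ W'.toScheme) (r : T ⟶ S₁),
        w ∈ W' ∧ (IsFinite ρ ∧ Flat ρ ∧ LocallyOfFinitePresentation ρ) ∧ Surjective ρ ∧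
          r ≫ g = ρ ≫ W'.ι ≫ π ≫ U.ι := by
  obtain ⟨S', V, e, π₁, r, s', he, hes', hπ₁s, hπ₁f, hπ₁fl, hπ₁fp, hr⟩ :=
    exists_etale_finite_flat_factor' g s hs
  obtain ⟨U, W, π, hsU, hπs, hπf, hπfl, hπfp, hloc⟩ :=
    exists_finite_flat_cover_locally_dominating e s' s hes'
  refine ⟨U, W, π, hsU, ⟨hπf, hπfl, hπfp⟩, hπs, fun w => ?_⟩
  obtain ⟨W', h, hwW', hh⟩ := hloc w
  refine ⟨W', pullback h π₁, pullback.fst h π₁, pullback.snd h π₁ ≫ r, hwW',
    ⟨inferInstance, inferInstance, inferInstance⟩, inferInstance, ?_⟩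
  rw [Category.assoc, hr, ← Category.assoc, ← pullback.condition, Category.assoc, hh]

end Groth.Agent.Lib.Seat94.FppfTower
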