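import Mathlib
import Groth.Agent.S1376
import Groth.Agent.Lib.Seat94FppfTower
import Groth.Prelude.Def_HTop

/-!
# Finite surjective covers locally dominating local finite surjective covers

Helper library (seat 94).  Over a quasi-compact quasi-separated scheme `B`, a family of finite
surjective morphisms onto the members of an open covering of `B` is dominated, Zariski locally
on the source, by one finite surjective morphism `Z ⟶ B` (`exists_finite_surjective_loc`).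
-/

set_option autoImplicit false
universe w u

open AlgebraicGeometry CategoryTheory Limits

namespace Groth.Agent.Lib.Seat94.FinCover

/-- A finite family of finite surjective morphisms is dominated by one finite surjective
morphism. -/
theorem exists_finite_surjective_dominating {B : Scheme.{u}} {ι : Type*} (V : ι → Scheme.{u})
    (π : ∀ j, V j ⟶ B) (hfin : ∀ j, IsFinite (π j)) (hsurj : ∀ j, Surjective (π j))
    (t : Finset ι) :
    ∃ (Z : Scheme.{u}) (q : Z ⟶ B), IsFinite q ∧ Surjective q ∧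
      ∀ j ∈ t, ∃ a : Z ⟶ V j, a ≫ π j = q := by
  classical
  induction t using Finset.induction_on with
  | empty => exact ⟨B, 𝟙 B, inferInstance, inferInstance, by simp⟩
  | insert j t hj ih =>
    obtain ⟨Z, q, hq, hqs, hfac⟩ := ih
    have := hfin j
    have := hsurj j
    refine ⟨pullback q (π j), pullback.fst q (π j) ≫ q, inferInstance, inferInstance, ?_⟩
    intro j' hj'
    rcases Finset.mem_insert.mp hj' with rfl | hj'
    · exact ⟨pullback.snd q (π j'), pullback.condition.symm⟩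
    · obtain ⟨a, ha⟩ := hfac j' hj'
      exact ⟨pullback.fst q (π j) ≫ a, by rw [Category.assoc, ha]⟩

/-- Restriction of a finite surjective morphism over an open subscheme (given as an open immersion)
to a smaller open. -/
theorem exists_restrict {B O Y : Scheme.{u}} (j : O ⟶ B) [IsOpenImmersion j] (p : Y ⟶ O)
    [IsFinite p] [Surjective p] (O' : B.Opens) (hO' : O' ≤ j.opensRange) :
    ∃ (Y' : Scheme.{u}) (p' : Y' ⟶ O'.toScheme) (c : Y' ⟶ Y), IsFinite p' ∧ Surjective p' ∧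
      c ≫ p ≫ j = p' ≫ O'.ι := by
  have hr : Set.range O'.ι ⊆ Set.range j := by
    rw [Scheme.Opens.range_ι]
    exact hO'
  let l : O'.toScheme ⟶ O := IsOpenImmersion.lift j O'.ι hr
  have hl : l ≫ j = O'.ι := IsOpenImmersion.lift_fac _ _ _
  refine ⟨pullback p l, pullback.snd p l, pullback.fst p l, inferInstance, inferInstance, ?_⟩
  rw [← hl, pullback.condition_assoc]

/-- Predicates on morphisms into `T` that are stable under precomposition. -/
def PrecompStable {T : Scheme.{u}} (P : ∀ {Y : Scheme.{u}}, (Y ⟶ T) → Prop) : Prop :=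
  ∀ {Y Y' : Scheme.{u}} (a : Y' ⟶ Y) (γ : Y ⟶ T), P γ → P (a ≫ γ)

/-- `Loc P γ`: Zariski locally on the source `W` of `γ`, after a finite surjective base change,
`P` holds. -/
def Loc {T : Scheme.{u}} (P : ∀ {Y : Scheme.{u}}, (Y ⟶ T) → Prop) {W : Scheme.{u}} (γ : W ⟶ T) :
    Prop :=
  ∀ w : W, ∃ (O : Scheme.{u}) (j : O ⟶ W) (_ : IsOpenImmersion j) (Y : Scheme.{u}) (p : Y ⟶ O),
    w ∈ Set.range j ∧ IsFinite p ∧ Surjective p ∧ P (p ≫ j ≫ γ)

theorem Loc.precompStable {T : Scheme.{u}} {P : ∀ {Y : Scheme.{u}}, (Y ⟶ T) → Prop}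
    (hP : PrecompStable (fun {Y} => @P Y)) : PrecompStable (fun {Y} => @Loc T (fun {Y} => @P Y) Y) := by
  intro W N a γ h n
  obtain ⟨O, j, hj, Y, p, hw, hp, hps, hPp⟩ := h (a n)
  refine ⟨pullback j a, pullback.snd j a, inferInstance, pullback p (pullback.fst j a),
    pullback.snd p (pullback.fst j a), ?_, inferInstance, inferInstance, ?_⟩
  · rw [Scheme.Pullback.range_snd]
    exact hw
  · have : pullback.snd p (pullback.fst j a) ≫ pullback.snd j a ≫ a ≫ γ =
        pullback.fst p (pullback.fst j a) ≫ p ≫ j ≫ γ := by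
      rw [← pullback.condition_assoc, ← pullback.condition_assoc]
    rw [this]
    exact hP _ _ hPp

/-- Over a quasi-compact quasi-separated scheme `B`: if Zariski locally on `B` the predicate `P`
(stable under precomposition) holds after a finite surjective base change, then there is one
finite surjective `q : Z ⟶ B` such that `P` holds Zariski locally on `Z`. -/
theorem exists_finite_surjective_loc {T : Scheme.{u}} {P : ∀ {Y : Scheme.{u}}, (Y ⟶ T) → Prop}
    (hP : PrecompStable (fun {Y} => @P Y)) {B : Scheme.{u}} [CompactSpace ↑B]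
    [QuasiSeparatedSpace ↑B] (β : B ⟶ T) (h : Loc (fun {Y} => @P Y) β) :
    ∃ (Z : Scheme.{u}) (q : Z ⟶ B), IsFinite q ∧ Surjective q ∧
      ∀ z : Z, ∃ N : Z.Opens, z ∈ N ∧ P (N.ι ≫ q ≫ β) := by
  classical
  choose O j hj Y p hmem hfin hsurj hPp using h
  -- shrink to affine opens
  have hex : ∀ b : B, ∃ O' : B.Opens, IsAffineOpen O' ∧ b ∈ O' ∧ O' ≤ (j b).opensRange := by
    intro b
    obtain ⟨O', hO', hbO', hle⟩ :=
      (TopologicalSpace.Opens.isBasis_iff_nbhd.mp B.isBasis_affineOpens)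
        (show b ∈ (j b).opensRange from hmem b)
    exact ⟨O', hO', hbO', hle⟩
  choose O' hO'aff hbO' hO'le using hex
  have hres : ∀ b : B, ∃ (Y' : Scheme.{u}) (p' : Y' ⟶ (O' b).toScheme) (c : Y' ⟶ Y b),
      IsFinite p' ∧ Surjective p' ∧ c ≫ p b ≫ j b = p' ≫ (O' b).ι := by
    intro b
    have := hfin b
    have := hsurj b
    exact exists_restrict (j b) (p b) (O' b) (hO'le b)
  choose Y' p' c hp'fin hp'surj hc using hres
  -- extend to all of `B`
  have hext : ∀ b : B, ∃ (V' : Scheme.{u}) (π : V' ⟶ B) (i : Y' b ⟶ V'), Surjective π ∧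
      IsFinite π ∧ IsPullback i (p' b) π (O' b).ι := by
    intro b
    have := hp'fin b
    have := hp'surj b
    exact Groth.Agent.S1376.result (O' b) (hO'aff b).isCompact (p' b)
  choose V' π i hπsurj hπfin hpb using hext
  -- finite subcover
  obtain ⟨t, ht⟩ := CompactSpace.elim_nhds_subcover (fun b : B => ((O' b : B.Opens) : Set B))
    (fun b => (O' b).isOpen.mem_nhds (hbO' b))
  obtain ⟨Z, q, hq, hqs, hfac⟩ := exists_finite_surjective_dominating V' π hπfin hπsurj t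
  refine ⟨Z, q, hq, hqs, fun z => ?_⟩
  have hz : q z ∈ ⋃ b ∈ t, ((O' b : B.Opens) : Set B) := by
    rw [ht]; trivial
  simp only [Set.mem_iUnion] at hz
  obtain ⟨b, hbt, hzb⟩ := hz
  obtain ⟨a, ha⟩ := hfac b hbt
  refine ⟨q ⁻¹ᵁ (O' b), hzb, ?_⟩
  have hcomm : ((q ⁻¹ᵁ (O' b)).ι ≫ a) ≫ π b = (q ∣_ (O' b)) ≫ (O' b).ι := by
    rw [Category.assoc, ha, morphismRestrict_ι]
  let l : (q ⁻¹ᵁ (O' b)).toScheme ⟶ Y' b := (hpb b).lift _ _ hcomm
  have hl : l ≫ p' b = q ∣_ (O' b) := (hpb b).lift_snd _ _ hcomm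
  have : (q ⁻¹ᵁ (O' b)).ι ≫ q ≫ β = (l ≫ c b) ≫ p b ≫ j b ≫ β := by
    calc (q ⁻¹ᵁ (O' b)).ι ≫ q ≫ β = ((q ∣_ (O' b)) ≫ (O' b).ι) ≫ β := by
          rw [morphismRestrict_ι, Category.assoc]
      _ = ((l ≫ p' b) ≫ (O' b).ι) ≫ β := by rw [hl]
      _ = (l ≫ (c b ≫ p b ≫ j b)) ≫ β := by rw [hc b]; simp only [Category.assoc]
      _ = _ := by simp only [Category.assoc]
  rw [this]
  exact hP _ _ (hPp b)

/-- Global factorization of a morphism to `T` through a member of the family `E`. -/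
def Fac {T : Scheme.{u}} (E : PreZeroHypercover.{w} T) {Y : Scheme.{u}} (γ : Y ⟶ T) : Prop :=
  ∃ (i : E.I₀) (h : Y ⟶ E.X i), h ≫ E.f i = γ

theorem Fac.precompStable {T : Scheme.{u}} (E : PreZeroHypercover.{w} T) :
    PrecompStable (fun {Y} => @Fac T E Y) := by
  rintro Y Y' a γ ⟨i, h, hh⟩
  exact ⟨i, a ≫ h, by rw [Category.assoc, hh]⟩

theorem mem_range_morphismRestrict {X T : Scheme.{u}} (f : X ⟶ T) (U : T.Opens)
    (t : ↥((U : T.Opens) : Scheme.{u})) (h : U.ι t ∈ Set.range f) : t ∈ Set.range (f ∣_ U) := by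
  obtain ⟨x, hx⟩ := h
  have hxU : x ∈ f ⁻¹ᵁ U := by
    change f x ∈ U
    rw [hx]; exact t.2
  obtain ⟨x', rfl⟩ : ∃ x' : ↥((f ⁻¹ᵁ U : X.Opens) : Scheme.{u}), (f ⁻¹ᵁ U).ι x' = x := by
    have : x ∈ Set.range (f ⁻¹ᵁ U).ι := by rw [Scheme.Opens.range_ι]; exact hxU
    exact this
  refine ⟨x', U.ι.isOpenEmbedding.injective ?_⟩
  rw [← Scheme.Hom.comp_apply, morphismRestrict_ι, Scheme.Hom.comp_apply, hx]

/-- The two-level tower of an fppf covering, in the form `Loc (Loc Fac)`. -/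
theorem loc_loc_fac_of_fppf {T : Scheme.{u}} (E : PreZeroHypercover.{w} T)
    (hflat : ∀ i, Flat (E.f i)) (hfp : ∀ i, LocallyOfFinitePresentation (E.f i))
    (hsurj : ∀ t : T, ∃ (i : E.I₀) (x : E.X i), E.f i x = t) (U : T.Opens) :
    Loc (fun {Y} => @Loc T (fun {Y} => @Fac T E Y) Y) U.ι := by
  intro t
  obtain ⟨i, x, hx⟩ := hsurj (U.ι t)
  have := hflat i
  have := hfp i
  have ht : t ∈ Set.range ⇑(E.f i ∣_ U) := mem_range_morphismRestrict (E.f i) U t ⟨x, hx⟩
  obtain ⟨O, W, π, htO, ⟨hπf, -, -⟩, hπs, hloc⟩ :=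
    Groth.Agent.Lib.Seat94.FppfTower.exists_tower (E.f i ∣_ U) t ht
  refine ⟨O.toScheme, O.ι, inferInstance, W, π, ?_, hπf, hπs, ?_⟩
  · rw [Scheme.Opens.range_ι]; exact htO
  intro w
  obtain ⟨W', T', ρ, r, hwW', ⟨hρf, -, -⟩, hρs, hr⟩ := hloc w
  refine ⟨W'.toScheme, W'.ι, inferInstance, T', ρ, ?_, hρf, hρs, i, r ≫ (E.f i ⁻¹ᵁ U).ι, ?_⟩
  · rw [Scheme.Opens.range_ι]; exact hwW'
  · rw [Category.assoc, ← morphismRestrict_ι, ← Category.assoc, hr]
    simp only [Category.assoc]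

/-- Gluing step: a local `Loc P` gives `Loc P`. -/
theorem loc_of_forall_exists_opens {T : Scheme.{u}} {P : ∀ {Y : Scheme.{u}}, (Y ⟶ T) → Prop}
    {Z : Scheme.{u}} (γ : Z ⟶ T)
    (h : ∀ z : Z, ∃ N : Z.Opens, z ∈ N ∧ Loc (fun {Y} => @P Y) (N.ι ≫ γ)) :
    Loc (fun {Y} => @P Y) γ := by
  intro z
  obtain ⟨N, hzN, hN⟩ := h z
  obtain ⟨O, j, hj, Y, p, hmem, hp, hps, hfac⟩ := hN ⟨z, hzN⟩
  refine ⟨O, j ≫ N.ι, inferInstance, Y, p, ?_, hp, hps, ?_⟩
  · obtain ⟨o, ho⟩ := hmem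
    exact ⟨o, by rw [Scheme.Hom.comp_apply, ho]; rfl⟩
  · simpa only [Category.assoc] using hfac

/-- Finite affine open cover of a quasi-compact scheme subordinate to a local property. -/
theorem exists_fin_affine_cover {T : Scheme.{u}} {P : ∀ {Y : Scheme.{u}}, (Y ⟶ T) → Prop}
    (hP : PrecompStable (fun {Y} => @P Y)) {Z : Scheme.{u}} [CompactSpace ↑Z] (γ : Z ⟶ T)
    (h : ∀ z : Z, ∃ N : Z.Opens, z ∈ N ∧ P (N.ι ≫ γ)) :
    ∃ (n : ℕ) (M : Fin n → Z.Opens), (∀ k, IsAffineOpen (M k)) ∧ (∀ k, P ((M k).ι ≫ γ)) ∧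
      ∀ z : Z, ∃ k, z ∈ M k := by
  classical
  choose N hzN hN using h
  have hex : ∀ z : Z, ∃ M : Z.Opens, IsAffineOpen M ∧ z ∈ M ∧ M ≤ N z := by
    intro z
    obtain ⟨M, hM, hzM, hle⟩ :=
      (TopologicalSpace.Opens.isBasis_iff_nbhd.mp Z.isBasis_affineOpens) (hzN z)
    exact ⟨M, hM, hzM, hle⟩
  choose M hMaff hzM hMle using hex
  obtain ⟨t, ht⟩ := CompactSpace.elim_nhds_subcover (fun z : Z => ((M z : Z.Opens) : Set Z))
    (fun z => (M z).isOpen.mem_nhds (hzM z))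
  let e : Fin t.card ≃ ↥t := t.equivFin.symm
  refine ⟨t.card, fun k => M (e k).1, fun k => hMaff _, fun k => ?_, fun z => ?_⟩
  · have : (M (e k).1).ι ≫ γ = Z.homOfLE (hMle (e k).1) ≫ (N (e k).1).ι ≫ γ := by
      rw [Scheme.homOfLE_ι_assoc]
    rw [this]
    exact hP _ _ (hN _)
  · have hz : z ∈ ⋃ b ∈ t, ((M b : Z.Opens) : Set Z) := by
      rw [ht]; trivial
    simp only [Set.mem_iUnion] at hz
    obtain ⟨b, hbt, hzb⟩ := hz
    refine ⟨e.symm ⟨b, hbt⟩, ?_⟩
    show z ∈ M (e (e.symm ⟨b, hbt⟩)).1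
    rw [Equiv.apply_symm_apply]
    exact hzb

/-- From the two-level local structure over an affine scheme `B` to a standard ph covering of `B`
refining `E` over `β : B ⟶ T`. -/
theorem exists_standardPh_of_loc {T : Scheme.{u}} (E : PreZeroHypercover.{w} T) {B : Scheme.{u}}
    [hB : IsAffine B] (β : B ⟶ T)
    (h : Loc (fun {Y} => @Loc T (fun {Y} => @Fac T E Y) Y) β) :
    ∃ F : PreZeroHypercover.{0} B, HTop.IsStandardPh F ∧ HTop.RefinesOver β F E := by
  have hF : PrecompStable (fun {Y} => @Fac T E Y) := Fac.precompStable E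
  have hLF : PrecompStable (fun {Y} => @Loc T (fun {Y} => @Fac T E Y) Y) :=
    Loc.precompStable hF
  obtain ⟨Z₁, q₁, hq₁, hq₁s, h₁⟩ := exists_finite_surjective_loc hLF β h
  have hZ₁ : IsAffine Z₁ := isAffine_of_isAffineHom q₁
  obtain ⟨Z₂, q₂, hq₂, hq₂s, h₂⟩ := exists_finite_surjective_loc hF (q₁ ≫ β)
    (loc_of_forall_exists_opens _ h₁)
  have hZ₂ : IsAffine Z₂ := isAffine_of_isAffineHom q₂
  obtain ⟨n, M, hMaff, hMfac, hMcov⟩ := exists_fin_affine_cover hF (q₂ ≫ q₁ ≫ β) h₂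
  let F : PreZeroHypercover.{0} B :=
    { I₀ := Fin n
      X := fun k => ((M k : Z₂.Opens) : Scheme.{u})
      f := fun k => (M k).ι ≫ q₂ ≫ q₁ }
  refine ⟨F, ⟨hB, inferInstanceAs (Finite (Fin n)), fun k => hMaff k, ?_⟩, ?_⟩
  · refine ⟨Z₂, q₂ ≫ q₁, fun k => (M k).ι, inferInstance, inferInstance, fun k => ?_, fun k => rfl,
      fun x => ?_⟩
    · exact inferInstanceAs (IsOpenImmersion (M k).ι)
    · obtain ⟨k, hk⟩ := hMcov x
      refine ⟨k, ?_⟩
      change x ∈ Set.range (M k).ι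
      rw [Scheme.Opens.range_ι]; exact hk
  · intro k
    obtain ⟨i, h, hh⟩ := hMfac k
    refine ⟨i, h, ?_⟩
    change h ≫ E.f i = ((M k).ι ≫ q₂ ≫ q₁) ≫ β
    rw [hh]
    simp only [Category.assoc]

/-- An fppf covering is a ph covering. -/
theorem isPhCover_of_fppf {T : Scheme.{u}} (E : PreZeroHypercover.{w} T)
    (hflat : ∀ i, Flat (E.f i)) (hfp : ∀ i, LocallyOfFinitePresentation (E.f i))
    (hsurj : ∀ t : T, ∃ (i : E.I₀) (x : E.X i), E.f i x = t) : HTop.IsPhCover E := by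
  refine ⟨fun i => ?_, fun U => ?_⟩
  · have := hfp i
    infer_instance
  have hU : IsAffine ((U : T.Opens) : Scheme.{u}) := U.2
  exact exists_standardPh_of_loc E (U : T.Opens).ι (loc_loc_fac_of_fppf E hflat hfp hsurj U)

/-- Affine variant: an fppf covering of an affine scheme is refined by a standard ph covering. -/
theorem exists_standardPh_of_fppf {T : Scheme.{u}} [IsAffine T] (E : PreZeroHypercover.{w} T)
    (hflat : ∀ i, Flat (E.f i)) (hfp : ∀ i, LocallyOfFinitePresentation (E.f i))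
    (hsurj : ∀ t : T, ∃ (i : E.I₀) (x : E.X i), E.f i x = t) :
    ∃ F : PreZeroHypercover.{0} T, HTop.IsStandardPh F ∧
      ∀ j : F.I₀, ∃ (i : E.I₀) (h : F.X j ⟶ E.X i), h ≫ E.f i = F.f j := by
  have hF : PrecompStable (fun {Y} => @Fac T E Y) := Fac.precompStable E
  have hLF : PrecompStable (fun {Y} => @Loc T (fun {Y} => @Fac T E Y) Y) :=
    Loc.precompStable hF
  have h1 : Loc (fun {Y} => @Loc T (fun {Y} => @Fac T E Y) Y) (𝟙 T) := by
    have h0 : Loc (fun {Y} => @Loc T (fun {Y} => @Fac T E Y) Y)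
        ((T.topIso).inv ≫ (⊤ : T.Opens).ι) :=
      Loc.precompStable hLF (T.topIso).inv (⊤ : T.Opens).ι
        (loc_loc_fac_of_fppf E hflat hfp hsurj ⊤)
    have e : (T.topIso).inv ≫ (⊤ : T.Opens).ι = 𝟙 T := by
      rw [← Scheme.topIso_hom, Iso.inv_hom_id]
    rwa [e] at h0
  obtain ⟨F, hFs, hFr⟩ := exists_standardPh_of_loc E (𝟙 T) h1
  refine ⟨F, hFs, fun j => ?_⟩
  obtain ⟨i, h, hh⟩ := hFr j
  exact ⟨i, h, by rw [hh, Category.comp_id]⟩

end Groth.Agent.Lib.Seat94.FinCover
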