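import Mathlib
import Groth.Agent.Lib.Seat94FinCover
import Groth.Agent.S7382

/-!
# fppf covers are dominated by finite finitely presented surjective morphisms (seat 94)

Over a quasi-compact quasi-separated base `S`, a surjective flat morphism `g : U ⟶ S` locally
of finite presentation is dominated, Zariski locally on the source, by a finite surjective
morphism `Z ⟶ S` (`Seat94FinCover`).  Writing `Z` as a limit of finite finitely presented
`S`-schemes (S7382) and descending the finitely many local factorizations through the limit,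
one can take `Z ⟶ S` of finite presentation.
-/

set_option autoImplicit false
universe u

open AlgebraicGeometry CategoryTheory Limits

namespace Groth.Agent.Lib.Seat94.FinFp

open Groth.Agent.Lib.Seat94.FinCover

/-- Step 1: a finite surjective cover with finitely many affine local factorizations. -/
theorem exists_finite_surjective_local_factor {U S : Scheme.{u}} (g : U ⟶ S) [Flat g]
    [LocallyOfFinitePresentation g] [Surjective g] [CompactSpace ↑S] [QuasiSeparatedSpace ↑S] :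
    ∃ (Z : Scheme.{u}) (q : Z ⟶ S), IsFinite q ∧ Surjective q ∧
      ∃ (n : ℕ) (M : Fin n → Z.Opens), (∀ k, IsAffineOpen (M k)) ∧ (∀ z : Z, ∃ k, z ∈ M k) ∧
        ∀ k, ∃ h : ((M k : Z.Opens) : Scheme.{u}) ⟶ U, h ≫ g = (M k).ι ≫ q := by
  let E : PreZeroHypercover.{0} S :=
    { I₀ := PUnit
      X := fun _ => U
      f := fun _ => g }
  have hF : PrecompStable (fun {Y} => @Fac S E Y) := Fac.precompStable E
  have hLF : PrecompStable (fun {Y} => @Loc S (fun {Y} => @Fac S E Y) Y) :=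
    Loc.precompStable hF
  have hsurj : ∀ t : S, ∃ (i : E.I₀) (x : E.X i), E.f i x = t := fun t => by
    obtain ⟨x, hx⟩ := g.surjective t
    exact ⟨PUnit.unit, x, hx⟩
  have h1 : Loc (fun {Y} => @Loc S (fun {Y} => @Fac S E Y) Y) (𝟙 S) := by
    have h0 : Loc (fun {Y} => @Loc S (fun {Y} => @Fac S E Y) Y)
        ((S.topIso).inv ≫ (⊤ : S.Opens).ι) :=
      Loc.precompStable hLF (S.topIso).inv (⊤ : S.Opens).ι
        (loc_loc_fac_of_fppf E (fun _ => inferInstanceAs (Flat g))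
          (fun _ => inferInstanceAs (LocallyOfFinitePresentation g)) hsurj ⊤)
    have e : (S.topIso).inv ≫ (⊤ : S.Opens).ι = 𝟙 S := by
      rw [← Scheme.topIso_hom, Iso.inv_hom_id]
    rwa [e] at h0
  obtain ⟨Z₁, q₁, hq₁, hq₁s, h₁⟩ := exists_finite_surjective_loc hLF (𝟙 S) h1
  have : CompactSpace ↑Z₁ := QuasiCompact.compactSpace_of_compactSpace q₁
  have : QuasiSeparatedSpace ↑Z₁ := quasiSeparatedSpace_of_quasiSeparated q₁
  obtain ⟨Z₂, q₂, hq₂, hq₂s, h₂⟩ := exists_finite_surjective_loc hF (q₁ ≫ 𝟙 S)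
    (loc_of_forall_exists_opens _ h₁)
  have : CompactSpace ↑Z₂ := QuasiCompact.compactSpace_of_compactSpace q₂
  obtain ⟨n, M, hMaff, hMfac, hMcov⟩ := exists_fin_affine_cover hF (q₂ ≫ q₁ ≫ 𝟙 S) h₂
  refine ⟨Z₂, q₂ ≫ q₁, inferInstance, inferInstance, n, M, hMaff, hMcov, fun k => ?_⟩
  obtain ⟨i, h, hh⟩ := hMfac k
  refine ⟨h, ?_⟩
  change h ≫ E.f i = _
  rw [hh, Category.comp_id]

/-- Step 2: descent of finitely many local factorizations to a finite, finitely presented
approximation. -/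
theorem exists_fp_approx {U S Z : Scheme.{u}} (g : U ⟶ S) [LocallyOfFinitePresentation g]
    [CompactSpace ↑S] [QuasiSeparatedSpace ↑S] (q : Z ⟶ S) [IsFinite q] (n : ℕ)
    (M : Fin n → Z.Opens) (hM : ∀ k, IsCompact ((M k : Z.Opens) : Set Z))
    (hcov : ∀ z : Z, ∃ k, z ∈ M k) (h : ∀ k, ((M k : Z.Opens) : Scheme.{u}) ⟶ U)
    (hh : ∀ k, h k ≫ g = (M k).ι ≫ q) :
    ∃ (Z' : Scheme.{u}) (q' : Z' ⟶ S) (r : Z ⟶ Z'), r ≫ q' = q ∧ IsFinite q' ∧
      LocallyOfFinitePresentation q' ∧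
      ∀ y : Z', ∃ (V : Z'.Opens) (h' : ((V : Z'.Opens) : Scheme.{u}) ⟶ U),
        y ∈ V ∧ h' ≫ g = V.ι ≫ q' := by
  classical
  obtain ⟨I, _, _, _, D, c, hc, hD, ⟨e⟩⟩ := Groth.Agent.S7382.result q
  haveI : IsConnected Iᵒᵖ := IsCofiltered.isConnected _
  have hc' : IsLimit ((Over.forget S).mapCone c) := isLimitOfPreserves (Over.forget S) hc
  have i1 : ∀ {i j : Iᵒᵖ} (a : i ⟶ j), IsAffineHom ((D ⋙ Over.forget S).map a) :=
    fun {i j} a => by
      show IsAffineHom (D.map a).left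
      haveI := (hD j).1
      haveI : IsAffineHom ((D.map a).left ≫ (D.obj j).hom) := by
        rw [Over.w]
        have := (hD i).1
        infer_instance
      exact IsAffineHom.of_comp (D.map a).left (D.obj j).hom
  have i2 : ∀ i, CompactSpace ((D ⋙ Over.forget S).obj i) := fun i => by
    show CompactSpace (D.obj i).left
    have := (hD i).1
    exact QuasiCompact.compactSpace_of_compactSpace (D.obj i).hom
  have i3 : ∀ i, QuasiSeparatedSpace ((D ⋙ Over.forget S).obj i) := fun i => by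
    show QuasiSeparatedSpace (D.obj i).left
    have := (hD i).1
    exact quasiSeparatedSpace_of_quasiSeparated (D.obj i).hom
  set D' : Iᵒᵖ ⥤ Scheme.{u} := D ⋙ Over.forget S with hD'
  set c' : Cone D' := (Over.forget S).mapCone c with hc'def
  -- the opens of the limit
  have hNc : ∀ k, IsCompact ((e.hom.left ⁻¹ᵁ M k : c'.pt.Opens) : Set c'.pt) := fun k =>
    (e.hom.left).isCompact_preimage (hM k)
  have hex := fun k => exists_preimage_eq D' c' hc' (e.hom.left ⁻¹ᵁ M k) (hNc k)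
  choose i V hVc hV using hex
  -- descend each factorization
  have hstage : ∀ k, ∃ (l : Iᵒᵖ) (ψ : l ⟶ i k) (gk : ((D'.map ψ ⁻¹ᵁ V k : (D'.obj l).Opens) :
      Scheme.{u}) ⟶ U), gk ≫ g = (D'.map ψ ⁻¹ᵁ V k).ι ≫ (D.obj l).hom := by
    intro k
    let tk : opensDiagram D' (i k) (V k) ⟶ (Functor.const _).obj S :=
      { app := fun j => (D'.map j.hom ⁻¹ᵁ V k).ι ≫ (D.obj j.left).hom
        naturality := fun j j' f => by
          simp only [Functor.const_obj_obj, Functor.const_obj_map, Category.comp_id]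
          change (D'.map f.left).resLE _ _ _ ≫ _ ≫ _ = _
          rw [Scheme.Hom.resLE_comp_ι_assoc]
          congr 1
          exact Over.w (D.map f.left) }
    let ak : (opensCone D' c' (i k) (V k)).pt ⟶ U :=
      (e.hom.left).resLE (M k) (c'.π.app (i k) ⁻¹ᵁ V k) (hV k).le ≫ h k
    have hck := isLimitOpensCone D' c' hc' (i k) (V k)
    haveI : ∀ j, CompactSpace ((opensDiagram D' (i k) (V k)).obj j) := fun j => by
      change CompactSpace ↥(D'.map j.hom ⁻¹ᵁ V k)
      exact isCompact_iff_compactSpace.mp ((D'.map j.hom).isCompact_preimage (hVc k))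
    haveI : ∀ j, QuasiSeparatedSpace ((opensDiagram D' (i k) (V k)).obj j) := fun j => by
      change QuasiSeparatedSpace ↥(D'.map j.hom ⁻¹ᵁ V k)
      have := i3 j.left
      exact quasiSeparatedSpace_of_quasiSeparated (D'.map j.hom ⁻¹ᵁ V k).ι
    have ha : (opensCone D' c' (i k) (V k)).π ≫ tk = (Functor.const _).map (ak ≫ g) := by
      ext j : 2
      simp only [NatTrans.comp_app, Functor.const_map_app]
      change (c'.π.app j.left).resLE _ _ _ ≫ _ ≫ _ = _
      rw [Scheme.Hom.resLE_comp_ι_assoc]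
      have e1 : c'.π.app j.left ≫ (D.obj j.left).hom = c.pt.hom := Over.w (c.π.app j.left)
      have e2 : e.hom.left ≫ q = c.pt.hom := Over.w e.hom
      rw [e1]
      change _ = ((e.hom.left).resLE _ _ _ ≫ h k) ≫ g
      rw [Category.assoc, hh k, Scheme.Hom.resLE_comp_ι_assoc, e2]
      rfl
    obtain ⟨j, gk, -, hgk⟩ := Scheme.exists_π_app_comp_eq_of_locallyOfFinitePresentation
      (opensDiagram D' (i k) (V k)) tk g (opensCone D' c' (i k) (V k)) hck ak ha
    exact ⟨j.left, j.hom, gk, hgk⟩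
  choose l ψ gk hgk using hstage
  -- a common stage
  obtain ⟨l₀, hl₀⟩ := IsCofiltered.inf_objs_exists (Finset.univ.image l)
  have φ : ∀ k, l₀ ⟶ l k := fun k => (hl₀ (Finset.mem_image_of_mem l (Finset.mem_univ k))).some
  -- covering at a later stage
  have htop : c'.π.app l₀ ⁻¹ᵁ (⨆ k, D'.map (φ k ≫ ψ k) ⁻¹ᵁ V k) = ⊤ := by
    rw [Scheme.Hom.preimage_iSup, eq_top_iff]
    intro z _
    obtain ⟨k, hk⟩ := hcov (e.hom.left z)
    refine TopologicalSpace.Opens.mem_iSup.mpr ⟨k, ?_⟩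
    rw [← Scheme.Hom.comp_preimage, c'.w, hV k]
    exact hk
  obtain ⟨m, fm, hm⟩ := exists_map_eq_top D' c' hc' _ htop
  refine ⟨D'.obj m, (D.obj m).hom, e.inv.left ≫ (c.π.app m).left, ?_, (hD m).1, (hD m).2,
    fun y => ?_⟩
  · have e4 : (c.π.app m).left ≫ (D.obj m).hom = c.pt.hom := Over.w (c.π.app m)
    have e5 : e.inv.left ≫ c.pt.hom = q := Over.w e.inv
    calc (e.inv.left ≫ (c.π.app m).left) ≫ (D.obj m).hom
        = e.inv.left ≫ (c.π.app m).left ≫ (D.obj m).hom := Category.assoc _ _ _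
      _ = e.inv.left ≫ c.pt.hom := by rw [e4]
      _ = q := e5
  · have hy : y ∈ D'.map fm ⁻¹ᵁ (⨆ k, D'.map (φ k ≫ ψ k) ⁻¹ᵁ V k) := by
      rw [hm]; trivial
    rw [Scheme.Hom.preimage_iSup] at hy
    obtain ⟨k, hk⟩ := TopologicalSpace.Opens.mem_iSup.mp hy
    have hle : D'.map fm ⁻¹ᵁ (D'.map (φ k ≫ ψ k) ⁻¹ᵁ V k) ≤
        D'.map (fm ≫ φ k) ⁻¹ᵁ (D'.map (ψ k) ⁻¹ᵁ V k) := by
      rw [← Scheme.Hom.comp_preimage, ← Scheme.Hom.comp_preimage, ← D'.map_comp, ← D'.map_comp,
        Category.assoc]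
    refine ⟨D'.map fm ⁻¹ᵁ (D'.map (φ k ≫ ψ k) ⁻¹ᵁ V k),
      (D'.map (fm ≫ φ k)).resLE (D'.map (ψ k) ⁻¹ᵁ V k) _ hle ≫ gk k, hk, ?_⟩
    have e3 : D'.map (fm ≫ φ k) ≫ (D.obj (l k)).hom = (D.obj m).hom :=
      Over.w (D.map (fm ≫ φ k))
    rw [Category.assoc, hgk k, Scheme.Hom.resLE_comp_ι_assoc, e3]

/-- **fppf covers of a qcqs scheme are dominated by finite finitely presented surjections.** -/
theorem exists_finite_fp_surjective {U S : Scheme.{u}} (g : U ⟶ S) [Flat g]
    [LocallyOfFinitePresentation g] [Surjective g] [CompactSpace ↑S] [QuasiSeparatedSpace ↑S] :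
    ∃ (S' : Scheme.{u}) (π : S' ⟶ S), Surjective π ∧ IsFinite π ∧ LocallyOfFinitePresentation π ∧
      ∀ y : ↑S', ∃ (V : S'.Opens) (h : ↑V ⟶ U), y ∈ V ∧ h ≫ g = V.ι ≫ π := by
  obtain ⟨Z, q, hq, hqs, n, M, hMaff, hMcov, hfac⟩ := exists_finite_surjective_local_factor g
  choose h hh using hfac
  obtain ⟨Z', q', r, hr, hq'fin, hq'fp, hloc⟩ :=
    exists_fp_approx g q n M (fun k => (hMaff k).isCompact) hMcov h hh
  refine ⟨Z', q', ?_, hq'fin, hq'fp, hloc⟩
  haveI : Surjective (r ≫ q') := by rw [hr]; exact hqs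
  exact Surjective.of_comp r q'

end Groth.Agent.Lib.Seat94.FinFp
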