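import Mathlib
import Groth.Agent.Lib.Seat47FibNoeth
import Groth.Agent.Lib.Helper19ComplNoeth
import Groth.Agent.Lib.Helper5LocalFlat
import Groth.Agent.Lib.Helper5StalkSpec

/-!
# Seat94: flatness of a proper morphism versus flatness of its base change to an adic completion

Setting: `V` a (Noetherian) local ring, `A` a Noetherian `V`-algebra, `I = m_V A`, `Â` the `I`-adic
completion, `h : X ⟶ Spec A`.

* `flat_stalkMap_of_specializes_of_flat`: flatness at a point is stable under generization.
* `exists_specializes_of_le_jacobson`: for a closed map to `Spec R` and `I ⊆ rad R`, every point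
  specializes to a point over `V(I)`.
* `exists_isPullback_of_factor`, `exists_fibre_squares`: fibres of `X ×_A Â` are base changes of the
  reduction `h₀` of `h` modulo `I`.
* `flat_completion_of_flat`: `X` flat over `V` and `h₀` flat imply `X ×_A Â → Spec Â` flat (for closed
  maps), via the fibrewise criterion of flatness.
* `flat_reduction_of_flat_completion`, `flat_over_dvr_of_flat_completion`: the converse.
-/

set_option autoImplicit false
set_option linter.style.haveILetI false
open CategoryTheory CategoryTheory.Limits AlgebraicGeometry TopologicalSpace TensorProduct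
universe u

namespace Groth.Agent.Lib.Seat94.FlatCompl

/-- Flatness at a point is stable under generization. -/
theorem flat_stalkMap_of_specializes_of_flat {X Y : Scheme.{u}} (f : X ⟶ Y) {x x₀ : X}
    (hx : x ⤳ x₀) (h₀ : (f.stalkMap x₀).hom.Flat) : (f.stalkMap x).hom.Flat := by
  have hy : f x ⤳ f x₀ := f.base.hom.map_specializes hx
  letI a0 : Algebra (Y.presheaf.stalk (f x₀)) (X.presheaf.stalk x₀) :=
    (f.stalkMap x₀).hom.toAlgebra
  letI a1 : Algebra (X.presheaf.stalk x₀) (X.presheaf.stalk x) :=
    (X.presheaf.stalkSpecializes hx).hom.toAlgebra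
  letI a2 : Algebra (Y.presheaf.stalk (f x₀)) (Y.presheaf.stalk (f x)) :=
    (Y.presheaf.stalkSpecializes hy).hom.toAlgebra
  letI a3 : Algebra (Y.presheaf.stalk (f x)) (X.presheaf.stalk x) :=
    (f.stalkMap x).hom.toAlgebra
  letI a4 : Algebra (Y.presheaf.stalk (f x₀)) (X.presheaf.stalk x) :=
    ((algebraMap (X.presheaf.stalk x₀) (X.presheaf.stalk x)).comp
      (algebraMap (Y.presheaf.stalk (f x₀)) (X.presheaf.stalk x₀))).toAlgebra
  haveI : IsScalarTower (Y.presheaf.stalk (f x₀)) (X.presheaf.stalk x₀) (X.presheaf.stalk x) :=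
    IsScalarTower.of_algebraMap_eq fun _ => rfl
  haveI : IsScalarTower (Y.presheaf.stalk (f x₀)) (Y.presheaf.stalk (f x))
      (X.presheaf.stalk x) :=
    IsScalarTower.of_algebraMap_eq fun a =>
      (Scheme.Hom.stalkSpecializes_stalkMap_apply f x x₀ hx a).symm
  obtain ⟨M, hM⟩ := Groth.Agent.Lib.Helper5.StalkSpec.exists_isLocalization_stalkSpecializes X hx
  obtain ⟨N, hN⟩ := Groth.Agent.Lib.Helper5.StalkSpec.exists_isLocalization_stalkSpecializes Y hy
  haveI : Module.Flat (Y.presheaf.stalk (f x₀)) (X.presheaf.stalk x₀) := h₀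
  haveI : Module.Flat (X.presheaf.stalk x₀) (X.presheaf.stalk x) := IsLocalization.flat _ M
  have h1 : Module.Flat (Y.presheaf.stalk (f x₀)) (X.presheaf.stalk x) :=
    Module.Flat.trans _ (X.presheaf.stalk x₀) _
  exact (Module.flat_iff_of_isLocalization (Y.presheaf.stalk (f x)) N (X.presheaf.stalk x)).mpr h1

/-- For a closed map to `Spec R` and an ideal `I` in the Jacobson radical, every point
specializes to a point lying over `V(I)`. -/
theorem exists_specializes_of_le_jacobson {R : Type u} [CommRing R] (I : Ideal R)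
    (hI : I ≤ (⊥ : Ideal R).jacobson) {X : Scheme.{u}}
    (f : X ⟶ Spec (CommRingCat.of R)) (hf : IsClosedMap f) (x : X) :
    ∃ x₀ : X, x ⤳ x₀ ∧ I ≤ (f x₀ : PrimeSpectrum R).asIdeal := by
  have hcl : IsClosed (f '' closure {x}) := hf _ isClosed_closure
  have h1 : f x ∈ f '' closure {x} := ⟨x, subset_closure rfl, rfl⟩
  obtain ⟨𝔫, h𝔫, hle⟩ := Ideal.exists_le_maximal (f x : PrimeSpectrum R).asIdeal
    (f x : PrimeSpectrum R).2.ne_top
  let n : PrimeSpectrum R := ⟨𝔫, h𝔫.isPrime⟩
  have h2 : (f x : PrimeSpectrum R) ⤳ n := (PrimeSpectrum.le_iff_specializes _ n).mp hle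
  obtain ⟨x₀, hx₀, hfx₀⟩ := h2.mem_closed hcl h1
  refine ⟨x₀, specializes_iff_mem_closure.mpr hx₀, ?_⟩
  rw [hfx₀]
  exact hI.trans (sInf_le ⟨bot_le, h𝔫⟩)

/-- If `T' → T → Spec A` factors through `Spec (A/I)`, then the base change of `X ×_A T → T` to
`T'` is the base change of the reduction `h₀ : X ×_A (A/I) → Spec (A/I)` to `T'`. -/
theorem exists_isPullback_of_factor {A : Type u} [CommRing A] (I : Ideal A) {X T T' : Scheme.{u}}
    (h : X ⟶ Spec (CommRingCat.of A)) (c : T ⟶ Spec (CommRingCat.of A)) (pT : T' ⟶ T)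
    (r : T' ⟶ Spec (CommRingCat.of (A ⧸ I)))
    (hr : r ≫ Spec.map (CommRingCat.ofHom (Ideal.Quotient.mk I)) = pT ≫ c) :
    ∃ pX : pullback (pullback.snd h (Spec.map (CommRingCat.ofHom (Ideal.Quotient.mk I)))) r ⟶
        pullback h c,
      IsPullback pX (pullback.snd (pullback.snd h
        (Spec.map (CommRingCat.ofHom (Ideal.Quotient.mk I)))) r) (pullback.snd h c) pT := by
  set k := Spec.map (CommRingCat.ofHom (Ideal.Quotient.mk I)) with hk
  set h₀ := pullback.snd h k with hh₀
  let φ := pullback.snd h₀ r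
  have hcomp : (pullback.fst h₀ r ≫ pullback.fst h k) ≫ h = (φ ≫ pT) ≫ c := by
    rw [Category.assoc, pullback.condition, ← Category.assoc, pullback.condition, Category.assoc,
      Category.assoc, hr]
  let pX : pullback h₀ r ⟶ pullback h c :=
    pullback.lift (pullback.fst h₀ r ≫ pullback.fst h k) (φ ≫ pT) hcomp
  have h1 : φ ≫ pT = pX ≫ pullback.snd h c := (pullback.lift_snd _ _ _).symm
  have hout : IsPullback (pullback.fst h₀ r ≫ pullback.fst h k) φ h (r ≫ k) :=
    (IsPullback.of_hasPullback h₀ r).paste_horiz (IsPullback.of_hasPullback h k)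
  have e1 : pullback.fst h₀ r ≫ pullback.fst h k = pX ≫ pullback.fst h c :=
    (pullback.lift_fst _ _ _).symm
  rw [e1, hr] at hout
  exact ⟨pX, IsPullback.of_right hout h1.symm (IsPullback.of_hasPullback h c)⟩

/-- Fibre squares: for `V → A → Â`, an ideal `m` of `V` killed by `ψ : V → κ`, and `h : X → Spec A`,
the fibres of `X ×_A Â` and `Spec Â` over `Spec κ → Spec V` are base changes of the reduction
`h₀` of `h` modulo `mA`. -/
theorem exists_fibre_squares (V A Â : Type u) [CommRing V] [CommRing A] [CommRing Â] [Algebra V A]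
    [Algebra A Â] (m : Ideal V) {X : Scheme.{u}} (h : X ⟶ Spec (CommRingCat.of A))
    (κ : CommRingCat.{u}) (ψ : CommRingCat.of V ⟶ κ) (hψ : ∀ a ∈ m, ψ.hom a = 0)
    (h0 : Flat (pullback.snd h (Spec.map (CommRingCat.ofHom
      (Ideal.Quotient.mk (m.map (algebraMap V A))))))) :
    ∃ (Xs Ys : Scheme.{u})
      (pX : Xs ⟶ pullback h (Spec.map (CommRingCat.ofHom (algebraMap A Â))))
      (qX : Xs ⟶ Spec κ) (pY : Ys ⟶ Spec (CommRingCat.of Â)) (qY : Ys ⟶ Spec κ) (φ : Xs ⟶ Ys),
      IsPullback pX qX (pullback.snd h (Spec.map (CommRingCat.ofHom (algebraMap A Â))) ≫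
        Spec.map (CommRingCat.ofHom (algebraMap A Â)) ≫
          Spec.map (CommRingCat.ofHom (algebraMap V A))) (Spec.map ψ) ∧
      IsPullback pY qY (Spec.map (CommRingCat.ofHom (algebraMap A Â)) ≫
          Spec.map (CommRingCat.ofHom (algebraMap V A))) (Spec.map ψ) ∧
      φ ≫ pY = pX ≫ pullback.snd h (Spec.map (CommRingCat.ofHom (algebraMap A Â))) ∧
      φ ≫ qY = qX ∧ Flat φ := by
  set I := m.map (algebraMap V A) with hI
  set c := Spec.map (CommRingCat.ofHom (algebraMap A Â)) with hc
  set b := Spec.map (CommRingCat.ofHom (algebraMap V A)) with hb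
  set k := Spec.map (CommRingCat.ofHom (Ideal.Quotient.mk I)) with hk
  letI : Algebra V Â := ((algebraMap A Â).comp (algebraMap V A)).toAlgebra
  letI : Algebra V κ := ψ.hom.toAlgebra
  have hpo := CommRingCat.isPushout_tensorProduct V Â κ
  have hY := isPullback_SpecMap_of_isPushout _ _ _ _ hpo
  have hcb : Spec.map (CommRingCat.ofHom (algebraMap V Â)) = c ≫ b := by
    rw [hc, hb, ← Spec.map_comp]
    rfl
  have hψ' : Spec.map (CommRingCat.ofHom (algebraMap V κ)) = Spec.map ψ := rfl
  rw [hcb, hψ'] at hY
  -- the map `A ⧸ I → Â ⊗ κ`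
  let ρ : A ⧸ I →+* Â ⊗[V] κ := Ideal.Quotient.lift I
    ((Algebra.TensorProduct.includeLeftRingHom (R := V) (A := Â) (B := κ)).comp (algebraMap A Â))
    (by
      intro a ha
      have : I ≤ RingHom.ker ((Algebra.TensorProduct.includeLeftRingHom
          (R := V) (A := Â) (B := κ)).comp (algebraMap A Â)) := by
        rw [hI, Ideal.map_le_iff_le_comap]
        intro v hv
        rw [Ideal.mem_comap, RingHom.mem_ker]
        change (algebraMap V Â v) ⊗ₜ[V] (1 : κ) = 0
        rw [Algebra.algebraMap_eq_smul_one, TensorProduct.smul_tmul, Algebra.smul_def]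
        change (1 : Â) ⊗ₜ[V] (ψ.hom v * 1) = 0
        rw [hψ v hv, zero_mul, TensorProduct.tmul_zero]
      exact this ha)
  let r : Spec (CommRingCat.of (Â ⊗[V] κ)) ⟶ Spec (CommRingCat.of (A ⧸ I)) :=
    Spec.map (CommRingCat.ofHom ρ)
  set pY := Spec.map (CommRingCat.ofHom (S := Â ⊗[V] κ)
    (Algebra.TensorProduct.includeLeftRingHom (R := V) (A := Â) (B := κ))) with hpY
  have hr : r ≫ k = pY ≫ c := by
    rw [hk, hc, hpY, ← Spec.map_comp, ← Spec.map_comp]
    rfl
  set h₀ := pullback.snd h k with hh₀
  let φ := pullback.snd h₀ r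
  have hcomp : (pullback.fst h₀ r ≫ pullback.fst h k) ≫ h = (φ ≫ pY) ≫ c := by
    rw [Category.assoc, pullback.condition, ← Category.assoc, pullback.condition, Category.assoc,
      Category.assoc, hr]
  let pX : pullback h₀ r ⟶ pullback h c :=
    pullback.lift (pullback.fst h₀ r ≫ pullback.fst h k) (φ ≫ pY) hcomp
  have h1 : φ ≫ pY = pX ≫ pullback.snd h c := (pullback.lift_snd _ _ _).symm
  have hL : IsPullback pX φ (pullback.snd h c) pY := by
    have hout : IsPullback (pullback.fst h₀ r ≫ pullback.fst h k) φ h (r ≫ k) :=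
      (IsPullback.of_hasPullback h₀ r).paste_horiz (IsPullback.of_hasPullback h k)
    have e1 : pullback.fst h₀ r ≫ pullback.fst h k = pX ≫ pullback.fst h c :=
      (pullback.lift_fst _ _ _).symm
    rw [e1, hr] at hout
    exact IsPullback.of_right hout h1.symm (IsPullback.of_hasPullback h c)
  refine ⟨pullback h₀ r, _, pX, φ ≫ _, pY, _, φ, hL.paste_vert hY, hY, h1, rfl, ?_⟩
  infer_instance

/-- The canonical map `V → κ(s)` kills the prime ideal of `s`. -/
theorem preimage_fromSpecResidueField_eq_zero (V : Type u) [CommRing V]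
    (s : ↥(Spec (CommRingCat.of V))) (a : V) (ha : a ∈ (s : PrimeSpectrum V).asIdeal) :
    (Spec.preimage ((Spec (CommRingCat.of V)).fromSpecResidueField s)).hom a = 0 := by
  set ψ := Spec.preimage ((Spec (CommRingCat.of V)).fromSpecResidueField s) with hψ
  have h1 : Spec.map ψ = (Spec (CommRingCat.of V)).fromSpecResidueField s := Spec.map_preimage _
  let pt : PrimeSpectrum ((Spec (CommRingCat.of V)).residueField s) := ⟨⊥, Ideal.isPrime_bot⟩
  have h2 : (Spec.map ψ) (show ↥(Spec ((Spec (CommRingCat.of V)).residueField s)) from pt) = s := by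
    rw [h1]
    exact Scheme.fromSpecResidueField_apply _ _
  have h3 : ((Spec.map ψ) (show ↥(Spec ((Spec (CommRingCat.of V)).residueField s)) from pt) :
      PrimeSpectrum V).asIdeal = Ideal.comap ψ.hom ⊥ := rfl
  rw [h2] at h3
  rw [h3] at ha
  exact ha

/-- A point of `Spec Â` whose prime contains `mÂ` lies over the closed point of `Spec V`. -/
theorem map_eq_closedPoint (V A Â : Type u) [CommRing V] [IsLocalRing V] [CommRing A] [CommRing Â]
    [Algebra V A] [Algebra A Â] (y : ↥(Spec (CommRingCat.of Â)))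
    (hy : ((IsLocalRing.maximalIdeal V).map (algebraMap V A)).map (algebraMap A Â) ≤
      (y : PrimeSpectrum Â).asIdeal) :
    (Spec.map (CommRingCat.ofHom (algebraMap A Â)) ≫
      Spec.map (CommRingCat.ofHom (algebraMap V A))) y = IsLocalRing.closedPoint V := by
  rw [Scheme.Hom.comp_apply]
  apply PrimeSpectrum.ext
  change Ideal.comap (algebraMap V A) (Ideal.comap (algebraMap A Â) (y : PrimeSpectrum Â).asIdeal)
    = IsLocalRing.maximalIdeal V
  symm
  apply (IsLocalRing.maximalIdeal.isMaximal V).eq_of_le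
  · haveI : (y : PrimeSpectrum Â).asIdeal.IsPrime := (y : PrimeSpectrum Â).2
    haveI : (Ideal.comap (algebraMap A Â) (y : PrimeSpectrum Â).asIdeal).IsPrime :=
      Ideal.IsPrime.comap _
    exact (Ideal.IsPrime.comap (algebraMap V A)).ne_top
  · rw [← Ideal.map_le_iff_le_comap, ← Ideal.map_le_iff_le_comap]
    exact hy

/-- Every ring map out of a field is flat. -/
theorem ringHom_flat_of_isField {K M : Type u} [CommRing K] [CommRing M] (hK : IsField K)
    (f : K →+* M) : f.Flat := by
  letI := hK.toField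
  letI := f.toAlgebra
  change Module.Flat K M
  infer_instance

/-- Flatness of the reduction modulo `I` from flatness of the base change to the completion. -/
theorem flat_reduction_of_flat_completion {A : Type u} [CommRing A] (I : Ideal A) {X : Scheme.{u}}
    (h : X ⟶ Spec (CommRingCat.of A))
    (hh : Flat (pullback.snd h
      (Spec.map (CommRingCat.ofHom (algebraMap A (AdicCompletion I A)))))) :
    Flat (pullback.snd h (Spec.map (CommRingCat.ofHom (Ideal.Quotient.mk I)))) := by
  set c := Spec.map (CommRingCat.ofHom (algebraMap A (AdicCompletion I A))) with hc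
  let ε : Spec (CommRingCat.of (A ⧸ I)) ⟶ Spec (CommRingCat.of (AdicCompletion I A)) :=
    Spec.map (CommRingCat.ofHom (AdicCompletion.evalOneₐ I).toRingHom)
  have e : Spec.map (CommRingCat.ofHom (Ideal.Quotient.mk I)) = ε ≫ c := by
    rw [hc, ← Spec.map_comp]
    rfl
  rw [e]
  have : pullback.snd h (ε ≫ c) =
      (pullbackLeftPullbackSndIso h c ε).inv ≫ pullback.snd (pullback.snd h c) ε := by
    rw [Iso.eq_inv_comp, pullbackLeftPullbackSndIso_hom_snd]
  rw [this]
  infer_instance

/-- Descent of flatness at a point along a flat morphism. -/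
theorem flat_stalkMap_of_flat_comp {X' X S : Scheme.{u}} (p : X' ⟶ X) (G : X ⟶ S) [Flat p]
    (x' : X') (h : ((p ≫ G).stalkMap x').hom.Flat) : (G.stalkMap (p x')).hom.Flat := by
  rw [Scheme.Hom.stalkMap_comp] at h
  have h2 : (p.stalkMap x').hom.Flat := Flat.stalkMap p x'
  letI a1 : Algebra (S.presheaf.stalk (G (p x'))) (X.presheaf.stalk (p x')) :=
    (G.stalkMap (p x')).hom.toAlgebra
  letI a2 : Algebra (X.presheaf.stalk (p x')) (X'.presheaf.stalk x') :=
    (p.stalkMap x').hom.toAlgebra
  letI a3 : Algebra (S.presheaf.stalk (G (p x'))) (X'.presheaf.stalk x') :=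
    ((algebraMap (X.presheaf.stalk (p x')) (X'.presheaf.stalk x')).comp
      (algebraMap (S.presheaf.stalk (G (p x'))) (X.presheaf.stalk (p x')))).toAlgebra
  haveI : IsScalarTower (S.presheaf.stalk (G (p x'))) (X.presheaf.stalk (p x'))
      (X'.presheaf.stalk x') := IsScalarTower.of_algebraMap_eq fun _ => rfl
  haveI : Module.Flat (X.presheaf.stalk (p x')) (X'.presheaf.stalk x') := h2
  haveI : IsLocalHom (algebraMap (X.presheaf.stalk (p x')) (X'.presheaf.stalk x')) :=
    inferInstanceAs (IsLocalHom (p.stalkMap x').hom)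
  haveI : Module.FaithfullyFlat (X.presheaf.stalk (p x')) (X'.presheaf.stalk x') :=
    Module.FaithfullyFlat.of_flat_of_isLocalHom
  haveI : Module.Flat (S.presheaf.stalk (G (p x'))) (X'.presheaf.stalk x') := h
  exact Groth.Agent.Lib.Helper5.flat_of_faithfullyFlat_of_flat
    (R := S.presheaf.stalk (G (p x'))) (S := X.presheaf.stalk (p x'))
    (M := X'.presheaf.stalk x')

/-- A point of `X` lying over `V(I)` lifts to `X ×_A Â`. -/
theorem exists_preimage_completion {A : Type u} [CommRing A] (I : Ideal A) {X : Scheme.{u}}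
    (h : X ⟶ Spec (CommRingCat.of A)) (x : X) (hx : I ≤ (h x : PrimeSpectrum A).asIdeal) :
    ∃ x' : ↥(pullback h (Spec.map (CommRingCat.ofHom (algebraMap A (AdicCompletion I A))))),
      pullback.fst h _ x' = x := by
  set c := Spec.map (CommRingCat.ofHom (algebraMap A (AdicCompletion I A))) with hc
  let ε : Spec (CommRingCat.of (A ⧸ I)) ⟶ Spec (CommRingCat.of (AdicCompletion I A)) :=
    Spec.map (CommRingCat.ofHom (AdicCompletion.evalOneₐ I).toRingHom)
  have e : Spec.map (CommRingCat.ofHom (Ideal.Quotient.mk I)) = ε ≫ c := by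
    rw [hc, ← Spec.map_comp]
    rfl
  -- a point of `Spec (A/I)` over `h x`
  have hmem : (h x : PrimeSpectrum A) ∈ Set.range (PrimeSpectrum.comap (Ideal.Quotient.mk I)) := by
    rw [range_comap_of_surjective _ _ Ideal.Quotient.mk_surjective,
      Ideal.mk_ker]
    exact hx
  obtain ⟨y₀, hy₀⟩ := hmem
  have h1 : h x = c (ε (show ↥(Spec (CommRingCat.of (A ⧸ I))) from y₀)) := by
    rw [← Scheme.Hom.comp_apply, ← e]
    exact hy₀.symm
  obtain ⟨z, hz, -⟩ := Scheme.Pullback.exists_preimage_pullback (f := h) (g := c) x _ h1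
  exact ⟨z, hz⟩

/-- If the base change of `h : X → Spec A` to the `mA`-adic completion is flat, where `A` is a flat
Noetherian algebra over the discrete valuation ring `V`, then `X` is flat over `V`. -/
theorem flat_over_dvr_of_flat_completion (V A : Type u) [CommRing V] [IsDomain V]
    [IsDiscreteValuationRing V] [CommRing A] [Algebra V A] [Module.Flat V A] [IsNoetherianRing A]
    {X : Scheme.{u}} (h : X ⟶ Spec (CommRingCat.of A))
    (hh : Flat (pullback.snd h (Spec.map (CommRingCat.ofHom (algebraMap A
      (AdicCompletion ((IsLocalRing.maximalIdeal V).map (algebraMap V A)) A)))))) :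
    Flat (h ≫ Spec.map (CommRingCat.ofHom (algebraMap V A))) := by
  set I := (IsLocalRing.maximalIdeal V).map (algebraMap V A) with hI
  set c := Spec.map (CommRingCat.ofHom (algebraMap A (AdicCompletion I A))) with hc
  set b := Spec.map (CommRingCat.ofHom (algebraMap V A)) with hb
  haveI : Flat c := Flat.SpecMap_iff.mpr (RingHom.flat_algebraMap_iff.mpr inferInstance)
  haveI : Flat b := Flat.SpecMap_iff.mpr (RingHom.flat_algebraMap_iff.mpr inferInstance)
  set p := pullback.fst h c with hp
  have hpG : Flat (p ≫ (h ≫ b)) := by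
    have : p ≫ (h ≫ b) = pullback.snd h c ≫ c ≫ b := by
      rw [hp, ← Category.assoc, pullback.condition, Category.assoc]
    rw [this]
    infer_instance
  apply Flat.of_stalkMap
  intro x
  by_cases hx : ∃ x', p x' = x
  · obtain ⟨x', rfl⟩ := hx
    exact flat_stalkMap_of_flat_comp p (h ≫ b) x' (Flat.stalkMap _ _)
  · apply ringHom_flat_of_isField
    let t : PrimeSpectrum V := (h ≫ b) x
    have ht : t.asIdeal = ⊥ := by
      by_contra hne
      have hmax : t.asIdeal.IsMaximal := Ring.DimensionLEOne.maximalOfPrime hne t.2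
      have h1 : t.asIdeal = IsLocalRing.maximalIdeal V := IsLocalRing.eq_maximalIdeal hmax
      apply hx
      apply exists_preimage_completion I h x
      rw [hI, Ideal.map_le_iff_le_comap, ← h1]
      exact le_rfl
    haveI := StructureSheaf.IsLocalization.to_stalk V t
    haveI : t.asIdeal.IsPrime := t.2
    haveI : IsLocalRing ((Spec.structureSheaf V).presheaf.stalk t) :=
      IsLocalization.AtPrime.isLocalRing _ t.asIdeal
    have h2 : IsLocalRing.maximalIdeal ((Spec.structureSheaf V).presheaf.stalk t) = ⊥ := by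
      rw [← IsLocalization.AtPrime.map_eq_maximalIdeal t.asIdeal, ht, Ideal.map_bot]
    exact IsLocalRing.isField_iff_maximalIdeal_eq.mpr h2

/-- If `X` is flat over the Noetherian local ring `V` and the reduction of `h : X → Spec A` modulo
`mA` is flat, then the base change of `h` to the `mA`-adic completion of `A` is flat, provided
that base change is a closed map (e.g. `h` proper). -/
theorem flat_completion_of_flat (V A : Type u) [CommRing V] [IsLocalRing V] [IsNoetherianRing V]
    [CommRing A] [Algebra V A] [IsNoetherianRing A]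
    {X : Scheme.{u}} (h : X ⟶ Spec (CommRingCat.of A)) [LocallyOfFiniteType h]
    (hcl : IsClosedMap (pullback.snd h (Spec.map (CommRingCat.ofHom (algebraMap A
      (AdicCompletion ((IsLocalRing.maximalIdeal V).map (algebraMap V A)) A))))))
    (hG : Flat (h ≫ Spec.map (CommRingCat.ofHom (algebraMap V A))))
    (h0 : Flat (pullback.snd h (Spec.map (CommRingCat.ofHom
      (Ideal.Quotient.mk ((IsLocalRing.maximalIdeal V).map (algebraMap V A))))))) :
    Flat (pullback.snd h (Spec.map (CommRingCat.ofHom (algebraMap A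
      (AdicCompletion ((IsLocalRing.maximalIdeal V).map (algebraMap V A)) A))))) := by
  set I := (IsLocalRing.maximalIdeal V).map (algebraMap V A) with hI
  haveI : IsNoetherianRing (AdicCompletion I A) :=
    Groth.Agent.Lib.Helper19.isNoetherianRing_adicCompletion I
  set c := Spec.map (CommRingCat.ofHom (algebraMap A (AdicCompletion I A))) with hc
  set b := Spec.map (CommRingCat.ofHom (algebraMap V A)) with hb
  haveI : Flat c := Flat.SpecMap_iff.mpr (RingHom.flat_algebraMap_iff.mpr inferInstance)
  apply Flat.of_stalkMap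
  intro x
  have hIfg : I.FG := IsNoetherian.noetherian I
  haveI := AdicCompletion.isAdicComplete_self I hIfg
  obtain ⟨x₀, hsp, hx₀⟩ := exists_specializes_of_le_jacobson
    (I.map (algebraMap A (AdicCompletion I A))) (IsAdicComplete.le_jacobson_bot _)
    (pullback.snd h c) hcl x
  refine flat_stalkMap_of_specializes_of_flat (pullback.snd h c) hsp ?_
  -- the base point
  let S : Scheme.{u} := Spec (CommRingCat.of V)
  let s : S := IsLocalRing.closedPoint V
  have hxs : (pullback.snd h c ≫ (c ≫ b)) x₀ = s := by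
    rw [Scheme.Hom.comp_apply]
    exact map_eq_closedPoint V A (AdicCompletion I A) _ hx₀
  haveI : IsLocallyNoetherian (Spec (CommRingCat.of (AdicCompletion I A))) := inferInstance
  haveI : IsLocallyNoetherian (pullback h c) :=
    LocallyOfFiniteType.isLocallyNoetherian (pullback.snd h c)
  have hflat : ((pullback.snd h c ≫ (c ≫ b)).stalkMap x₀).hom.Flat := by
    have : Flat (pullback.snd h c ≫ (c ≫ b)) := by
      have e : pullback.snd h c ≫ (c ≫ b) = pullback.fst h c ≫ (h ≫ b) := by
        rw [← Category.assoc, ← pullback.condition, Category.assoc]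
      rw [e]
      infer_instance
    exact Flat.stalkMap _ _
  let ψ : CommRingCat.of V ⟶ S.residueField s := Spec.preimage (S.fromSpecResidueField s)
  have hψ : Spec.map ψ = S.fromSpecResidueField s := Spec.map_preimage _
  obtain ⟨Xs, Ys, pX, qX, pY, qY, φ, hX, hY, h1, h2, hφ⟩ :=
    exists_fibre_squares V A (AdicCompletion I A) (IsLocalRing.maximalIdeal V) h
      (S.residueField s) ψ
      (fun a ha => preimage_fromSpecResidueField_eq_zero V s a ha) h0
  rw [hψ] at hX hY
  exact Groth.Agent.Lib.Seat47.FibNoeth.flat_stalkMap_of_isPullback (pullback.snd h c) (c ≫ b)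
    x₀ s hxs hflat pX qX pY qY φ hX hY h1 h2 hφ

end Groth.Agent.Lib.Seat94.FlatCompl
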