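import Mathlib
import Groth.Agent.Lib.Seat85SchDom

/-!
# Flat separated morphisms of finite type which are isomorphisms over a dense open

We prove (without any finite presentation hypothesis, hence without Raynaud--Gruson): a separated,
flat morphism `f : X ⟶ S` locally of finite type, which is an isomorphism over a quasi-compact
scheme-theoretically dense open `U ⊆ S`, is an open immersion.

Steps:
1. `mono_of_isIso_morphismRestrict`: `f` is a monomorphism (the two projections of the kernel pair
   agree on the scheme-theoretically dense preimage of `U`, and `f` is separated).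
2. `bijective_stalkMap_of_mono_of_flat`: stalk maps of a flat monomorphism are bijective (a
   faithfully flat ring epimorphism is an isomorphism).
3. `exists_affine_surjective_appLE`: surjectivity of the stalk map spreads out (finite type) to
   a chart `Spec B_g → Spec A_c` which is a closed immersion.
4. `isOpen_image_of_surjective_appLE`: the image of such a chart is closed in `Spec A_c`, stable
   under generalization (flatness) and open over the dense quasi-compact open `U`, hence open.
5. `isOpenImmersion_of_isIso_morphismRestrict`: assembly.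
-/

set_option autoImplicit false
universe u
open CategoryTheory CategoryTheory.Limits AlgebraicGeometry Topology

namespace Groth.Agent.Lib.Seat94.FlatOpenImm

/-- Key algebraic step: if `A → B` is of finite type and `A_p → B_q` is surjective
(stated elementwise), then there are `c ∉ p` and `g ∉ q` with `φ c ∣ g` such that
`A_c → B_g` is surjective (stated elementwise). -/
theorem exists_away_surjective {A B : Type*} [CommRing A] [CommRing B] [Algebra A B]
    [Algebra.FiniteType A B] (q : Ideal B) [q.IsPrime]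
    (hsurj : ∀ x : B, ∃ a s : A, algebraMap A B s ∉ q ∧ ∃ t : B, t ∉ q ∧
      t * (algebraMap A B s * x - algebraMap A B a) = 0) :
    ∃ (c : A) (g : B), g ∉ q ∧ algebraMap A B c ∣ g ∧
      (∀ x : B, ∃ (a : A) (m : ℕ), g * (algebraMap A B c ^ m * x - algebraMap A B a) = 0) ∧
      (∃ (a : A) (m : ℕ), g * (algebraMap A B c ^ m - g * algebraMap A B a) = 0) := by
  classical
  obtain ⟨G, hG⟩ := (Algebra.FiniteType.out : (⊤ : Subalgebra A B).FG)
  choose a s hs t ht h using hsurj
  let φ := algebraMap A B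
  let S : A := ∏ b ∈ G, s b
  let T : B := ∏ b ∈ G, t b
  have hS : φ S ∉ q := by
    rw [map_prod]
    intro hmem
    obtain ⟨b, -, hb⟩ := (Ideal.IsPrime.prod_mem_iff).mp hmem
    exact hs b hb
  have hT : T ∉ q := by
    intro hmem
    obtain ⟨b, -, hb⟩ := (Ideal.IsPrime.prod_mem_iff).mp hmem
    exact ht b hb
  -- every element of `B` is a fraction with denominator a power of `S`, after multiplying by `T`
  have hM : ∀ x : B, ∃ (a' : A) (m : ℕ), T * (φ S ^ m * x - φ a') = 0 := by
    intro x
    have hx : x ∈ Algebra.adjoin A (G : Set B) := by rw [hG]; trivial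
    induction hx using Algebra.adjoin_induction with
    | mem b hb =>
      refine ⟨a b * ∏ b' ∈ G.erase b, s b', 1, ?_⟩
      have h1 : S = s b * ∏ b' ∈ G.erase b, s b' := (Finset.mul_prod_erase G s hb).symm
      have h2 : T = t b * ∏ b' ∈ G.erase b, t b' := (Finset.mul_prod_erase G t hb).symm
      rw [h1, h2, map_mul, map_mul, pow_one]
      have := h b
      linear_combination ((∏ b' ∈ G.erase b, t b') * φ (∏ b' ∈ G.erase b, s b')) * this
    | algebraMap r => exact ⟨r, 0, by simp [φ]⟩
    | add x y _ _ hx hy =>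
      obtain ⟨a1, m1, h1⟩ := hx
      obtain ⟨a2, m2, h2⟩ := hy
      refine ⟨a1 * S ^ m2 + a2 * S ^ m1, m1 + m2, ?_⟩
      rw [map_add, map_mul, map_mul, map_pow, map_pow]
      linear_combination (φ S ^ m2) * h1 + (φ S ^ m1) * h2
    | mul x y _ _ hx hy =>
      obtain ⟨a1, m1, h1⟩ := hx
      obtain ⟨a2, m2, h2⟩ := hy
      refine ⟨a1 * a2, m1 + m2, ?_⟩
      rw [map_mul]
      linear_combination (φ S ^ m2 * y) * h1 + (φ a1) * h2
  obtain ⟨a0, m0, h0⟩ := hM T
  have ha0 : φ a0 ∉ q := by
    intro hmem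
    have h1 : T * (φ S ^ m0 * T) ∈ q := by
      have : T * (φ S ^ m0 * T) = T * φ a0 := by linear_combination h0
      rw [this]
      exact q.mul_mem_left _ hmem
    rcases (Ideal.IsPrime.mem_or_mem inferInstance h1) with h2 | h2
    · exact hT h2
    · rcases (Ideal.IsPrime.mem_or_mem inferInstance h2) with h3 | h3
      · exact hS (Ideal.IsPrime.mem_of_pow_mem inferInstance _ h3)
      · exact hT h3
  refine ⟨S * a0, T * φ (S * a0), ?_, Dvd.intro_left _ rfl, ?_, ?_⟩
  · intro hmem
    rcases (Ideal.IsPrime.mem_or_mem inferInstance hmem) with h2 | h2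
    · exact hT h2
    · rw [map_mul] at h2
      rcases (Ideal.IsPrime.mem_or_mem inferInstance h2) with h3 | h3
      · exact hS h3
      · exact ha0 h3
  · intro x
    obtain ⟨a1, m1, h1⟩ := hM x
    refine ⟨a1 * a0 ^ m1, m1, ?_⟩
    show T * φ (S * a0) * (φ (S * a0) ^ m1 * x - φ (a1 * a0 ^ m1)) = 0
    rw [map_mul, map_mul, map_pow, mul_pow]
    linear_combination (φ S * φ a0 * φ a0 ^ m1) * h1
  · refine ⟨S ^ (m0 + 1), 2, ?_⟩
    show T * φ (S * a0) * (φ (S * a0) ^ 2 - T * φ (S * a0) * φ (S ^ (m0 + 1))) = 0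
    rw [map_mul, map_pow, pow_succ]
    linear_combination (- φ S * φ S * φ S * φ a0 * φ a0) * h0

/-- From the elementwise description to surjectivity of the induced map of localizations. -/
theorem surjective_of_away {A B A' B' : Type*} [CommRing A] [CommRing B] [CommRing A']
    [CommRing B'] [Algebra A A'] [Algebra B B'] (φ : A →+* B) (ψ : A' →+* B') (c : A) (g : B)
    [IsLocalization.Away c A'] [IsLocalization.Away g B']
    (hcomm : ∀ a : A, ψ (algebraMap A A' a) = algebraMap B B' (φ a))
    (h1 : ∀ x : B, ∃ (a : A) (m : ℕ), g * (φ c ^ m * x - φ a) = 0)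
    (h2 : ∃ (a : A) (m : ℕ), g * (φ c ^ m - g * φ a) = 0) : Function.Surjective ψ := by
  have hg : IsUnit (algebraMap B B' g) := IsLocalization.Away.algebraMap_isUnit g
  have hc : IsUnit (algebraMap A A' c) := IsLocalization.Away.algebraMap_isUnit c
  obtain ⟨uc, huc⟩ := hc
  have hB : ∀ x : B, algebraMap B B' x ∈ ψ.range := by
    intro x
    obtain ⟨a, m, h⟩ := h1 x
    have h' := congrArg (algebraMap B B') h
    rw [map_mul, map_zero, hg.mul_right_eq_zero, map_sub, map_mul, map_pow, sub_eq_zero,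
      ← hcomm, ← hcomm, ← huc] at h'
    refine ⟨algebraMap A A' a * ((uc⁻¹ : A'ˣ) : A') ^ m, ?_⟩
    rw [map_mul, ← h', map_pow, mul_comm (ψ uc ^ m), mul_assoc, ← mul_pow, ← map_mul]
    simp
  have hginv : ∀ n : ℕ, ((hg.unit⁻¹ : B'ˣ) : B') ^ n ∈ ψ.range := by
    intro n
    apply Subring.pow_mem
    obtain ⟨a, m, h⟩ := h2
    have h' := congrArg (algebraMap B B') h
    rw [map_mul, map_zero, hg.mul_right_eq_zero, map_sub, map_mul, map_pow, sub_eq_zero,
      ← hcomm, ← hcomm, ← huc] at h'
    refine ⟨algebraMap A A' a * ((uc⁻¹ : A'ˣ) : A') ^ m, ?_⟩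
    have h3 : ((hg.unit⁻¹ : B'ˣ) : B') * ψ uc ^ m = ψ (algebraMap A A' a) := by
      rw [h', ← mul_assoc]
      simp
    rw [map_mul, ← h3, map_pow, mul_assoc, ← mul_pow, ← map_mul]
    simp
  intro z
  obtain ⟨n, x, hx⟩ := IsLocalization.Away.surj g z
  have : z = algebraMap B B' x * ((hg.unit⁻¹ : B'ˣ) : B') ^ n := by
    rw [← hx, mul_assoc, ← mul_pow]
    simp
  rw [this]
  exact Subring.mul_mem _ (hB x) (hginv n)

/-- A faithfully flat ring epimorphism is surjective. -/
theorem surjective_algebraMap_of_isEpi_of_faithfullyFlat (A B : Type*) [CommRing A] [CommRing B]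
    [Algebra A B] [Algebra.IsEpi A B] [Module.FaithfullyFlat A B] :
    Function.Surjective (algebraMap A B) := by
  have h : Function.Surjective ((Algebra.linearMap A B).lTensor B) := by
    intro x
    refine ⟨(TensorProduct.lift (LinearMap.mul A B) x) ⊗ₜ 1, ?_⟩
    apply Algebra.IsEpi.injective_lift_mul (R := A) (A := B)
    simp
  rw [Module.FaithfullyFlat.lTensor_surjective_iff_surjective] at h
  exact h

/-- From surjectivity of the local ring hom to the elementwise statement. -/
theorem elementwise_of_surjective_localRingHom {A B : Type*} [CommRing A] [CommRing B]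
    (φ : A →+* B) (p : Ideal A) [p.IsPrime] (q : Ideal B) [q.IsPrime] (hpq : p = q.comap φ)
    (hsurj : Function.Surjective (Localization.localRingHom p q φ hpq)) (x : B) :
    ∃ a s : A, φ s ∉ q ∧ ∃ t : B, t ∉ q ∧ t * (φ s * x - φ a) = 0 := by
  obtain ⟨α, hα⟩ := hsurj (algebraMap B (Localization.AtPrime q) x)
  obtain ⟨⟨a, s⟩, h⟩ := IsLocalization.surj p.primeCompl α
  have h' := congrArg (Localization.localRingHom p q φ hpq) h
  simp only [map_mul, Localization.localRingHom_to_map, hα] at h'
  have h0 : algebraMap B (Localization.AtPrime q) (φ s * x - φ a) = 0 := by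
    rw [map_sub, map_mul, sub_eq_zero, mul_comm]
    exact h'
  rw [IsLocalization.map_eq_zero_iff q.primeCompl] at h0
  obtain ⟨t, ht⟩ := h0
  refine ⟨a, s, ?_, t, t.2, ht⟩
  intro hmem
  have hs : (s : A) ∈ p := by
    have : (s : A) ∈ q.comap φ := hmem
    rwa [← hpq] at this
  exact s.2 hs

/-- A point in the closure of a constructible subset of a prime spectrum is a specialization
of a point of that subset. -/
theorem exists_specializes_of_mem_closure_of_isConstructible {R : Type*} [CommRing R]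
    {E : Set (PrimeSpectrum R)} (hE : IsConstructible E) {x : PrimeSpectrum R}
    (hx : x ∈ closure E) : ∃ e ∈ E, e ⤳ x := by
  obtain ⟨T, _, f, rfl⟩ := PrimeSpectrum.exists_range_eq_of_isConstructible hE
  rw [PrimeSpectrum.closure_range_comap, PrimeSpectrum.mem_zeroLocus] at hx
  obtain ⟨P, hP, hPx⟩ := Ideal.exists_minimalPrimes_le (show RingHom.ker f ≤ x.asIdeal from hx)
  have hP' : P ∈ ((⊥ : Ideal T).comap f).minimalPrimes := by
    rwa [← RingHom.ker_eq_comap_bot]
  obtain ⟨P', hP'prime, -, hP'P⟩ := Ideal.exists_comap_eq_of_mem_minimalPrimes f P hP'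
  refine ⟨PrimeSpectrum.comap f ⟨P', hP'prime⟩, ⟨_, rfl⟩, ?_⟩
  rw [← PrimeSpectrum.le_iff_specializes]
  show P'.comap f ≤ x.asIdeal
  rw [hP'P]
  exact hPx

/-- A closed, generalization-stable subset `Z` of a prime spectrum which is open on a dense
quasi-compact open `D` is open. -/
theorem isOpen_of_isClosed_of_stableUnderGeneralization {R : Type*} [CommRing R]
    {Z D : Set (PrimeSpectrum R)} (hZc : IsClosed Z) (hZg : StableUnderGeneralization Z)
    (hDo : IsOpen D) (hDc : IsCompact D) (hDd : Dense D) (hZD : IsOpen (Z ∩ D)) : IsOpen Z := by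
  rw [← isClosed_compl_iff]
  have hEo : IsOpen (Zᶜ ∩ D) := hZc.isOpen_compl.inter hDo
  have hEc : IsCompact (Zᶜ ∩ D) := by
    have : Zᶜ ∩ D = D ∩ (Z ∩ D)ᶜ := by
      ext y; simp only [Set.mem_inter_iff, Set.mem_compl_iff]; tauto
    rw [this]
    exact hDc.inter_right hZD.isClosed_compl
  have hEcons : IsConstructible (Zᶜ ∩ D) := hEc.isConstructible hEo
  have h1 : Zᶜ ⊆ closure (Zᶜ ∩ D) := hDd.open_subset_closure_inter hZc.isOpen_compl
  have h2 : closure (Zᶜ ∩ D) ⊆ Zᶜ := by
    intro x hx hxZ
    obtain ⟨e, he, hex⟩ := exists_specializes_of_mem_closure_of_isConstructible hEcons hx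
    exact he.1 (hZg hex hxZ)
  rw [← Set.Subset.antisymm h2 h1]
  exact isClosed_closure

/-- Step 1: a separated flat morphism which is an isomorphism over a quasi-compact
scheme-theoretically dense open is a monomorphism. -/
theorem mono_of_isIso_morphismRestrict {X S : Scheme.{u}} (f : X ⟶ S) [IsSeparated f] [Flat f]
    (U : S.Opens) [QuasiCompact U.ι] [IsSchemeTheoreticallyDominant U.ι] [IsIso (f ∣_ U)] :
    Mono f := by
  have hfs : pullback.fst f f = pullback.snd f f := by
    let q : pullback f f ⟶ S := pullback.fst f f ≫ f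
    have hq : Flat q := inferInstance
    have hV : IsSchemeTheoreticallyDominant (q ⁻¹ᵁ U).ι :=
      IsSchemeTheoreticallyDominant.of_isPullback (isPullback_morphismRestrict q U)
    have H := isPullback_morphismRestrict f U
    have e1 : (q ∣_ U) ≫ U.ι = ((q ⁻¹ᵁ U).ι ≫ pullback.fst f f) ≫ f := by
      rw [morphismRestrict_ι, Category.assoc]
    have e2 : (q ∣_ U) ≫ U.ι = ((q ⁻¹ᵁ U).ι ≫ pullback.snd f f) ≫ f := by
      rw [e1, Category.assoc, Category.assoc, pullback.condition]
    have hl : H.lift (q ∣_ U) ((q ⁻¹ᵁ U).ι ≫ pullback.fst f f) e1 =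
        H.lift (q ∣_ U) ((q ⁻¹ᵁ U).ι ≫ pullback.snd f f) e2 := by
      rw [← cancel_mono (f ∣_ U), H.lift_fst, H.lift_fst]
    have hagree : (q ⁻¹ᵁ U).ι ≫ pullback.fst f f = (q ⁻¹ᵁ U).ι ≫ pullback.snd f f := by
      calc (q ⁻¹ᵁ U).ι ≫ pullback.fst f f = H.lift _ _ e1 ≫ (f ⁻¹ᵁ U).ι := (H.lift_snd _ _ _).symm
        _ = H.lift _ _ e2 ≫ (f ⁻¹ᵁ U).ι := by rw [hl]
        _ = (q ⁻¹ᵁ U).ι ≫ pullback.snd f f := H.lift_snd _ _ _
    exact Groth.Agent.Lib.Seat85.SchDom.ext_of_isSchemeTheoreticallyDominant_of_isSeparated f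
      pullback.condition (q ⁻¹ᵁ U).ι hagree
  constructor
  intro Z g h hgh
  rw [← pullback.lift_fst g h hgh, hfs, pullback.lift_snd]

/-- Step 2: the stalk maps of a flat monomorphism are bijective. -/
theorem bijective_stalkMap_of_mono_of_flat {X S : Scheme.{u}} (f : X ⟶ S) [Mono f] [Flat f]
    (x : X) : Function.Bijective (f.stalkMap x).hom := by
  have h1 : Spec.map (f.stalkMap x) ≫ S.fromSpecStalk (f x) = X.fromSpecStalk x ≫ f :=
    Scheme.SpecMap_stalkMap_fromSpecStalk f
  have h2 : Mono (Spec.map (f.stalkMap x)) := by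
    have : Mono (Spec.map (f.stalkMap x) ≫ S.fromSpecStalk (f x)) := by
      rw [h1]; infer_instance
    exact mono_of_mono _ (S.fromSpecStalk (f x))
  have h3 : Epi (f.stalkMap x) := by
    have : Mono (f.stalkMap x).op := Scheme.Spec.mono_of_mono_map h2
    exact unop_epi_of_mono (f.stalkMap x).op
  algebraize [(f.stalkMap x).hom]
  have h4 : Algebra.IsEpi (S.presheaf.stalk (f x)) (X.presheaf.stalk x) :=
    CommRingCat.epi_iff_epi.mp h3
  have : Module.FaithfullyFlat (S.presheaf.stalk (f x)) (X.presheaf.stalk x) :=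
    @Module.FaithfullyFlat.of_flat_of_isLocalHom _ _ _ _ _ _ _
      (Flat.stalkMap f x) (f.toLRSHom.prop x)
  exact ⟨‹RingHom.FaithfullyFlat _›.injective,
    surjective_algebraMap_of_isEpi_of_faithfullyFlat _ _⟩

/-- Step 3: if `f` is locally of finite type and the stalk map at `x` is surjective, then
locally around `x` the morphism `f` is a closed immersion of affine schemes. -/
theorem exists_affine_surjective_appLE {X S : Scheme.{u}} (f : X ⟶ S) [LocallyOfFiniteType f]
    (x : X) (hx : Function.Surjective (f.stalkMap x).hom) (W : X.Opens) (hxW : x ∈ W) :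
    ∃ (T : S.Opens) (_ : IsAffineOpen T) (V : X.Opens) (_ : IsAffineOpen V) (e : V ≤ f ⁻¹ᵁ T),
      x ∈ V ∧ V ≤ W ∧ Function.Surjective (f.appLE T V e).hom := by
  obtain ⟨_, ⟨U, (hU : IsAffineOpen U), rfl⟩, hxU, -⟩ :=
    S.isBasis_affineOpens.exists_subset_of_mem_open (Set.mem_univ (f x)) isOpen_univ
  obtain ⟨_, ⟨V, (hV : IsAffineOpen V), rfl⟩, hxV, hVUW⟩ :=
    X.isBasis_affineOpens.exists_subset_of_mem_open (show x ∈ ((f ⁻¹ᵁ U) ⊓ W : X.Opens) from
      ⟨hxU, hxW⟩) ((f ⁻¹ᵁ U) ⊓ W).2
  have hVU : V ≤ f ⁻¹ᵁ U := fun y hy => (hVUW hy).1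
  have hVW : V ≤ W := fun y hy => (hVUW hy).2
  have hft := f.finiteType_appLE hU hV hVU
  let p := (hU.primeIdealOf ⟨f x, hVU hxV⟩).asIdeal
  let q := (hV.primeIdealOf ⟨x, hxV⟩).asIdeal
  have hpq : p = q.comap (f.appLE U V hVU).hom :=
    congr($(IsAffineOpen.comap_primeIdealOf_appLE U hU V hV hVU hxV).1).symm
  have hloc : Function.Surjective (Localization.localRingHom p q (f.appLE U V hVU).hom hpq) := by
    have := (RingHom.surjective_respectsIso.arrow_mk_iso_iff
      (IsAffineOpen.arrowStalkMapIso f U hU V hV hVU hxV)).mp hx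
    exact this
  algebraize [(f.appLE U V hVU).hom]
  obtain ⟨c, g, hgq, hcg, h1, h2⟩ := exists_away_surjective (A := Γ(S, U)) (B := Γ(X, V)) q
    (elementwise_of_surjective_localRingHom (f.appLE U V hVU).hom p q hpq hloc)
  have hle : X.basicOpen g ≤ f ⁻¹ᵁ (S.basicOpen c) := by
    obtain ⟨g', rfl⟩ := hcg
    rw [Scheme.basicOpen_mul]
    refine inf_le_left.trans ?_
    show X.basicOpen ((f.appLE U V hVU).hom c) ≤ _
    rw [Scheme.Hom.appLE, CommRingCat.hom_comp, RingHom.comp_apply, Scheme.basicOpen_res,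
      Scheme.Hom.preimage_basicOpen]
    exact inf_le_right
  refine ⟨S.basicOpen c, hU.basicOpen c, X.basicOpen g, hV.basicOpen g, hle, ?_,
    (X.basicOpen_le g).trans hVW, ?_⟩
  · have hy : hV.primeIdealOf ⟨x, hxV⟩ ∈ hV.fromSpec ⁻¹ᵁ X.basicOpen g := by
      rw [hV.fromSpec_preimage_basicOpen]
      exact hgq
    have hy' : hV.fromSpec (hV.primeIdealOf ⟨x, hxV⟩) ∈ X.basicOpen g := hy
    rwa [hV.fromSpec_primeIdealOf ⟨x, hxV⟩] at hy'
  · have := hU.isLocalization_basicOpen c
    have := hV.isLocalization_basicOpen g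
    refine surjective_of_away (A := Γ(S, U)) (B := Γ(X, V)) (f.appLE U V hVU).hom
      (f.appLE (S.basicOpen c) (X.basicOpen g) hle).hom c g ?_ h1 h2
    intro a
    simp only [RingHom.algebraMap_toAlgebra, ← CommRingCat.comp_apply, Scheme.Hom.appLE_map,
      Scheme.Hom.map_appLE]

/-- Step 4: the image of a "closed-immersion chart" of a flat morphism which is an isomorphism
over a dense quasi-compact open is open. -/
theorem isOpen_image_of_surjective_appLE {X S : Scheme.{u}} (f : X ⟶ S) [Flat f] (U : S.Opens)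
    [QuasiCompact U.ι] (hUd : Dense (U : Set S)) [IsIso (f ∣_ U)]
    (T : S.Opens) (hT : IsAffineOpen T) (V : X.Opens) (hV : IsAffineOpen V) (e : V ≤ f ⁻¹ᵁ T)
    (hsurj : Function.Surjective (f.appLE T V e).hom) : IsOpen (f '' (V : Set X)) := by
  have hcomm : Spec.map (f.appLE T V e) ≫ hT.fromSpec = hV.fromSpec ≫ f :=
    IsAffineOpen.SpecMap_appLE_fromSpec f hT hV e
  have hemb : Topology.IsOpenEmbedding hT.fromSpec := hT.fromSpec.isOpenEmbedding
  let Z : Set (PrimeSpectrum Γ(S, T)) := Set.range (PrimeSpectrum.comap (f.appLE T V e).hom)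
  let D : Set (PrimeSpectrum Γ(S, T)) := hT.fromSpec ⁻¹' (U : Set S)
  have hZc : IsClosed Z := PrimeSpectrum.isClosed_range_comap_of_surjective _ _ hsurj
  have hZg : StableUnderGeneralization Z :=
    (RingHom.Flat.generalizingMap_comap (f.flat_appLE hT hV e)).stableUnderGeneralization_range
  have hDo : IsOpen D := U.2.preimage hT.fromSpec.continuous
  have hDc : IsCompact D := by
    have h1 : IsCompact (U.ι ⁻¹' (T : Set S)) := U.ι.isCompact_preimage hT.isCompact
    have h2 : IsCompact ((T : Set S) ∩ (U : Set S)) := by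
      have := h1.image U.ι.continuous
      rwa [Set.image_preimage_eq_inter_range, Scheme.Opens.range_ι] at this
    have h3 : D = hT.fromSpec ⁻¹' ((T : Set S) ∩ (U : Set S)) := by
      ext y
      constructor
      · intro h
        refine ⟨?_, h⟩
        show hT.fromSpec y ∈ (T : Set S)
        rw [← hT.range_fromSpec]
        exact ⟨y, rfl⟩
      · intro h
        exact h.2
    rw [h3]
    refine hemb.isInducing.isCompact_preimage' h2 ?_
    rw [hT.range_fromSpec]
    exact Set.inter_subset_left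
  have hDd : Dense D := hUd.preimage hemb.isOpenMap
  -- the part of the image lying over `U` is open
  have hjo : IsOpen (f '' ((V : Set X) ∩ (f ⁻¹ᵁ U : Set X))) := by
    have hj : IsOpenImmersion ((f ⁻¹ᵁ U).ι ≫ f) := by
      rw [← morphismRestrict_ι]; infer_instance
    have := ((f ⁻¹ᵁ U).ι ≫ f).isOpenEmbedding.isOpenMap _
      (V.2.preimage (f ⁻¹ᵁ U).ι.continuous)
    rwa [Scheme.Hom.comp_base, TopCat.coe_comp, Set.image_comp,
      Set.image_preimage_eq_inter_range, Scheme.Opens.range_ι] at this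
  have hpt : ∀ z, hT.fromSpec (PrimeSpectrum.comap (f.appLE T V e).hom z) = f (hV.fromSpec z) := by
    intro z
    have := congr($(hcomm) z)
    rw [Scheme.Hom.comp_apply, Scheme.Hom.comp_apply] at this
    exact this
  have hZD : IsOpen (Z ∩ D) := by
    have : Z ∩ D = hT.fromSpec ⁻¹' (f '' ((V : Set X) ∩ (f ⁻¹ᵁ U : Set X))) := by
      ext y
      constructor
      · rintro ⟨⟨z, rfl⟩, hyD⟩
        refine ⟨hV.fromSpec z, ⟨?_, ?_⟩, (hpt z).symm⟩
        · rw [← hV.range_fromSpec]; exact ⟨z, rfl⟩
        · show f (hV.fromSpec z) ∈ U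
          rw [← hpt z]; exact hyD
      · rintro ⟨v, ⟨hvV, hvU⟩, hv⟩
        rw [← hV.range_fromSpec] at hvV
        obtain ⟨z, rfl⟩ := hvV
        have hz : PrimeSpectrum.comap (f.appLE T V e).hom z = y := by
          apply hemb.injective
          rw [hpt z, hv]
        refine ⟨⟨z, hz⟩, ?_⟩
        show hT.fromSpec y ∈ U
        rw [← hv]; exact hvU
    rw [this]
    exact hjo.preimage hT.fromSpec.continuous
  have hZo := isOpen_of_isClosed_of_stableUnderGeneralization hZc hZg hDo hDc hDd hZD
  have himg : f '' (V : Set X) = hT.fromSpec '' Z := by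
    ext s
    constructor
    · rintro ⟨v, hvV, rfl⟩
      rw [← hV.range_fromSpec] at hvV
      obtain ⟨z, rfl⟩ := hvV
      exact ⟨_, ⟨z, rfl⟩, hpt z⟩
    · rintro ⟨_, ⟨z, rfl⟩, rfl⟩
      refine ⟨hV.fromSpec z, ?_, (hpt z).symm⟩
      rw [← hV.range_fromSpec]; exact ⟨z, rfl⟩
  rw [himg]
  exact hemb.isOpenMap _ hZo

/-- Step 5: a separated, flat morphism locally of finite type which is an isomorphism over a
quasi-compact scheme-theoretically dense open is an open immersion. -/
theorem isOpenImmersion_of_isIso_morphismRestrict {X S : Scheme.{u}} (f : X ⟶ S) [IsSeparated f]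
    [LocallyOfFiniteType f] [Flat f] (U : S.Opens) [QuasiCompact U.ι]
    [IsSchemeTheoreticallyDominant U.ι] [IsIso (f ∣_ U)] : IsOpenImmersion f := by
  have hmono : Mono f := mono_of_isIso_morphismRestrict f U
  have hbij : ∀ x, Function.Bijective (f.stalkMap x).hom :=
    bijective_stalkMap_of_mono_of_flat f
  have hUd : Dense (U : Set S) := by
    have := U.ι.denseRange
    rwa [DenseRange, Scheme.Opens.range_ι] at this
  have hopen : IsOpenMap f := by
    intro W hW
    rw [isOpen_iff_mem_nhds]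
    rintro _ ⟨x, hxW, rfl⟩
    obtain ⟨T, hT, V, hV, e, hxV, hVW, hsurj⟩ :=
      exists_affine_surjective_appLE f x (hbij x).2 ⟨W, hW⟩ hxW
    have ho := isOpen_image_of_surjective_appLE f U hUd T hT V hV e hsurj
    exact Filter.mem_of_superset (ho.mem_nhds ⟨x, hxV, rfl⟩) (Set.image_mono hVW)
  have hemb : IsOpenEmbedding f :=
    .of_continuous_injective_isOpenMap f.continuous f.injective hopen
  have : ∀ x, IsIso (f.stalkMap x) := fun x =>
    (ConcreteCategory.isIso_iff_bijective _).mpr (hbij x)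
  exact IsOpenImmersion.of_isIso_stalkMap f hemb

end Groth.Agent.Lib.Seat94.FlatOpenImm
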