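import Mathlib
import Groth.Agent.Lib.Seat6FppfQF
import Groth.Agent.Lib.Helper20EtFinParts

/-!
# fppf covers are dominated, étale locally, by finite locally free covers

Stacks 05WN in the one-morphism form: for `g : S₁ ⟶ S` fppf and `s : S` there are an étale
`e : S' ⟶ S` hitting `s` and a surjective finite flat finitely presented `π : V ⟶ S'` such that
`V ⟶ S` factors through `S₁`.

Proof: slice `g` to a flat, locally quasi-finite, finitely presented `W ⟶ S` with `W` affine hitting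
`s` (`Seat6FppfQF.exists_affine_flat_lqf`), then split off the finite part étale locally
(`Helper20.EtSections.hasFinParts_singleton`, based on Mathlib's Stacks 00UJ), and shrink the
étale neighbourhood to the (open) image of the finite part.
-/

set_option autoImplicit false
universe u
open CategoryTheory CategoryTheory.Limits AlgebraicGeometry

namespace Groth.Agent.Lib.Seat94.FppfEtFin

theorem exists_etale_finite_flat_factor {S₁ S : Scheme.{u}} (g : S₁ ⟶ S) [Flat g]
    [LocallyOfFinitePresentation g] [Surjective g] (s : S) :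
    ∃ (S' V : Scheme.{u}) (e : S' ⟶ S) (π : V ⟶ S') (r : V ⟶ S₁), Etale e ∧ s ∈ Set.range ⇑e ∧
      Surjective π ∧ IsFinite π ∧ Flat π ∧ LocallyOfFinitePresentation π ∧ r ≫ g = π ≫ e := by
  obtain ⟨W, hW, a, hfl, hfp, hqf, ⟨w₀, hw₀⟩⟩ :=
    Groth.Agent.Lib.Seat6.FppfQF.exists_affine_flat_lqf g s (by
      obtain ⟨x, hx⟩ := g.surjective s; exact ⟨x, hx⟩)
  set h : W ⟶ S := a ≫ g with hh
  have hq : h.QuasiFiniteAt w₀ := h.quasiFiniteAt w₀
  obtain ⟨U, e, u, he, hu, hbij, d⟩ :=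
    Groth.Agent.Lib.Helper20.EtSections.hasFinParts_singleton (f := h) w₀ hq
  obtain ⟨V, hVfin, hV⟩ := d w₀ rfl
  -- the point of `V` over `u`
  obtain ⟨v₀, hv₀1, hv₀2⟩ := Scheme.Pullback.exists_preimage_pullback (f := h) (g := e) w₀ u hu.symm
  have hv₀V : v₀ ∈ V := (hV v₀ hv₀2).mpr hv₀1
  set π₀ : (V : Scheme.{u}) ⟶ U := V.ι ≫ pullback.snd h e with hπ₀
  have hπ₀fl : Flat π₀ := inferInstance
  have hπ₀fp : LocallyOfFinitePresentation π₀ := inferInstance
  have hopen : IsOpen (Set.range ⇑π₀) := π₀.isOpenMap.isOpen_range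
  let U' : U.Opens := ⟨Set.range ⇑π₀, hopen⟩
  have hpre : π₀ ⁻¹ᵁ U' = ⊤ := by
    ext x
    simp only [Scheme.Hom.coe_preimage, Set.mem_preimage, SetLike.mem_coe,
      TopologicalSpace.Opens.coe_top, Set.mem_univ, iff_true]
    exact ⟨x, rfl⟩
  refine ⟨U', (π₀ ⁻¹ᵁ U' : V.toScheme.Opens), U'.ι ≫ e, π₀ ∣_ U',
    (π₀ ⁻¹ᵁ U').ι ≫ V.ι ≫ pullback.fst h e ≫ a, inferInstance, ?_, ?_, inferInstance,
    inferInstance, inferInstance, ?_⟩
  · refine ⟨⟨u, ⟨⟨v₀, hv₀V⟩, ?_⟩⟩, ?_⟩
    · show (V.ι ≫ pullback.snd h e) ⟨v₀, hv₀V⟩ = u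
      rw [Scheme.Hom.comp_apply]
      exact hv₀2
    · rw [Scheme.Hom.comp_apply]
      show e u = s
      rw [hu, ← hw₀]
  · constructor
    rintro ⟨y, ⟨x, rfl⟩⟩
    refine ⟨⟨x, ?_⟩, ?_⟩
    · rw [hpre]; trivial
    · apply U'.ι.injective
      rw [← Scheme.Hom.comp_apply, morphismRestrict_ι, Scheme.Hom.comp_apply]
      rfl
  · rw [← Category.assoc (π₀ ∣_ U'), morphismRestrict_ι, Category.assoc, Category.assoc,
      Category.assoc, Category.assoc, ← hh, pullback.condition, hπ₀, Category.assoc]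

end Groth.Agent.Lib.Seat94.FppfEtFin
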