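import Mathlib
import Groth.Agent.Lib.Seat6FppfQF
import Groth.Agent.Lib.Helper20EtFinParts

/-!
# fppf covers are refined by (residually trivial étale) ∘ (finite flat surjective)

A sharpening of Stacks 05WN: the étale neighbourhood can be taken residually trivial at the chosen
point (this is what Mathlib's Stacks 00UJ gives).
-/

set_option autoImplicit false
universe u
open CategoryTheory CategoryTheory.Limits AlgebraicGeometry

namespace Groth.Agent.Lib.Seat94.FppfNis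

theorem exists_etale_finite_flat_factor_residue {S₁ S : Scheme.{u}} (g : S₁ ⟶ S) [Flat g]
    [LocallyOfFinitePresentation g] (s : S) (hs : s ∈ Set.range ⇑g) :
    ∃ (S' V : Scheme.{u}) (e : S' ⟶ S) (π : V ⟶ S') (r : V ⟶ S₁) (s' : S'), Etale e ∧ e s' = s ∧
      Function.Bijective (e.residueFieldMap s') ∧
      Surjective π ∧ IsFinite π ∧ Flat π ∧ LocallyOfFinitePresentation π ∧ r ≫ g = π ≫ e := by
  obtain ⟨W, hW, a, hfl, hfp, hqf, ⟨w₀, hw₀⟩⟩ :=
    Groth.Agent.Lib.Seat6.FppfQF.exists_affine_flat_lqf g s (by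
      obtain ⟨x, hx⟩ := hs; exact ⟨x, hx⟩)
  set h : W ⟶ S := a ≫ g with hh
  have hq : h.QuasiFiniteAt w₀ := h.quasiFiniteAt w₀
  obtain ⟨U, e, u, he, hu, hbij, d⟩ :=
    Groth.Agent.Lib.Helper20.EtSections.hasFinParts_singleton (f := h) w₀ hq
  obtain ⟨V, hVfin, hV⟩ := d w₀ rfl
  obtain ⟨v₀, hv₀1, hv₀2⟩ := Scheme.Pullback.exists_preimage_pullback (f := h) (g := e) w₀ u hu.symm
  have hv₀V : v₀ ∈ V := (hV v₀ hv₀2).mpr hv₀1
  set π₀ : (V : Scheme.{u}) ⟶ U := V.ι ≫ pullback.snd h e with hπ₀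
  have hπ₀fl : Flat π₀ := inferInstance
  have hπ₀fp : LocallyOfFinitePresentation π₀ := inferInstance
  have hopen : IsOpen (Set.range ⇑π₀) := π₀.isOpenMap.isOpen_range
  let U' : U.Opens := ⟨Set.range ⇑π₀, hopen⟩
  have hpre : π₀ ⁻¹ᵁ U' = ⊤ := by
    ext x
    simp only [Scheme.Hom.coe_preimage, Set.mem_preimage, SetLike.mem_coe,
      TopologicalSpace.Opens.coe_top, Set.mem_univ, iff_true]
    exact ⟨x, rfl⟩
  have huU' : u ∈ U' := by
    refine ⟨⟨v₀, hv₀V⟩, ?_⟩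
    show (V.ι ≫ pullback.snd h e) ⟨v₀, hv₀V⟩ = u
    rw [Scheme.Hom.comp_apply]
    exact hv₀2
  refine ⟨U', (π₀ ⁻¹ᵁ U' : V.toScheme.Opens), U'.ι ≫ e, π₀ ∣_ U',
    (π₀ ⁻¹ᵁ U').ι ≫ V.ι ≫ pullback.fst h e ≫ a, ⟨u, huU'⟩, inferInstance, ?_, ?_, ?_, inferInstance,
    inferInstance, inferInstance, ?_⟩
  · rw [Scheme.Hom.comp_apply]
    show e u = s
    rw [hu, ← hw₀]
  · exact Groth.Agent.Lib.Helper20.ResFld.bijective_residueFieldMap_comp U'.ι e ⟨u, huU'⟩
      (Groth.Agent.Lib.Helper20.ResFld.bijective_residueFieldMap_of_isOpenImmersion _ _) hbij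
  · constructor
    rintro ⟨y, ⟨x, rfl⟩⟩
    refine ⟨⟨x, ?_⟩, ?_⟩
    · rw [hpre]; trivial
    · apply U'.ι.injective
      rw [← Scheme.Hom.comp_apply, morphismRestrict_ι, Scheme.Hom.comp_apply]
      rfl
  · rw [← Category.assoc (π₀ ∣_ U'), morphismRestrict_ι, Category.assoc, Category.assoc,
      Category.assoc, Category.assoc, ← hh, pullback.condition, hπ₀, Category.assoc]

/-- Family version: an fppf covering family is refined by composites of finite flat surjective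
morphisms with étale morphisms, the étale ones forming a pointwise Nisnevich covering. -/
theorem exists_refinement {X : Scheme.{u}} {ι : Type u} (W : ι → Scheme.{u}) (w : ∀ j, W j ⟶ X)
    (hsurj : ∀ x : X, ∃ j, x ∈ Set.range ⇑(w j)) (hfl : ∀ j, Flat (w j))
    (hfp : ∀ j, LocallyOfFinitePresentation (w j)) :
    ∃ (κ : Type u) (U V : κ → Scheme.{u}) (u : ∀ k, U k ⟶ X) (v : ∀ k, V k ⟶ U k),
      (∀ k, Etale (u k)) ∧
        (∀ x : X, ∃ (k : κ) (y : U k), (u k).base y = x ∧ IsIso ((u k).residueFieldMap y)) ∧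
        (∀ k, IsFinite (v k) ∧ Flat (v k) ∧ Surjective (v k)) ∧
        ∀ k, ∃ (j : ι) (r : V k ⟶ W j), r ≫ w j = v k ≫ u k := by
  have key : ∀ x : X, ∃ (j : ι) (S' V : Scheme.{u}) (e : S' ⟶ X) (π : V ⟶ S') (r : V ⟶ W j)
      (s' : S'), Etale e ∧ e s' = x ∧ Function.Bijective (e.residueFieldMap s') ∧
      Surjective π ∧ IsFinite π ∧ Flat π ∧ LocallyOfFinitePresentation π ∧ r ≫ w j = π ≫ e := by
    intro x
    obtain ⟨j, hj⟩ := hsurj x
    have := hfl j
    have := hfp j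
    obtain ⟨S', V, e, π, r, s', h⟩ := exists_etale_finite_flat_factor_residue (w j) x hj
    exact ⟨j, S', V, e, π, r, s', h⟩
  choose j S' V e π r s' he hes' hbij hπs hπf hπfl hπfp hr using key
  refine ⟨X, S', V, e, π, he, fun x => ⟨x, s' x, hes' x, ?_⟩, fun x => ⟨hπf x, hπfl x, hπs x⟩,
    fun x => ⟨j x, r x, hr x⟩⟩
  exact (ConcreteCategory.isIso_iff_bijective _).mpr (hbij x)

end Groth.Agent.Lib.Seat94.FppfNis
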