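/-
Seat 94 helper library: fppf sheaves = Zariski sheaves with the sheaf property for single affine
quasi-finite fppf covers (uses the flat quasi-finite quasi-sections S2735 and the finest-topology
technique of Seat33SheafLocal).
-/
import Mathlib
import Groth.Agent.Lib.Seat33SheafLocal
import Groth.Agent.S2735

set_option autoImplicit false
universe w v u
open CategoryTheory CategoryTheory.Limits AlgebraicGeometry

namespace Groth.Agent.Lib.Seat94.FppfQF

open Groth.Agent.Lib.Seat33.SheafLocal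

variable {F : Scheme.{u}ᵒᵖ ⥤ Type w}

/-- The hypothesis: sheaf condition for single affine quasi-finite fppf covers. -/
def HSingle (F : Scheme.{u}ᵒᵖ ⥤ Type w) : Prop :=
  ∀ (T S : Scheme.{u}) [IsAffine T] [IsAffine S] (f : T ⟶ S)
    [Flat f] [Surjective f] [LocallyOfFinitePresentation f] [LocallyQuasiFinite f],
    Presieve.IsSheafFor F (Presieve.singleton f)

/-- The sieve generated by a single affine quasi-finite fppf cover is covering for `JF F`. -/
theorem generate_singleton_mem_JF (hzar : Presieve.IsSheaf Scheme.zariskiTopology F)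
    (hs : HSingle F) {T S : Scheme.{u}} [IsAffine T] [IsAffine S] (g : T ⟶ S)
    [Flat g] [Surjective g] [LocallyOfFinitePresentation g] [LocallyQuasiFinite g] :
    Sieve.generate (Presieve.singleton g) ∈ JF F S := by
  apply mem_JF_of_forall_isAffine hzar
  intro T' _ t
  rw [← Sieve.pullbackArrows_comm, ← Presieve.isSheafFor_iff_generate,
    Presieve.pullback_singleton]
  exact hs _ _ _

/-- For a Zariski sheaf with the sheaf property for single affine quasi-finite fppf covers,
every fppf covering family of an affine scheme generates a covering sieve of `JF F`. -/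
theorem generate_mem_JF_of_isAffine (hzar : Presieve.IsSheaf Scheme.zariskiTopology F)
    (hs : HSingle F) {T : Scheme.{u}} [IsAffine T]
    (𝒱 : Scheme.Cover.{u} (Scheme.precoverage (@Flat ⊓ @LocallyOfFinitePresentation)) T) :
    Sieve.generate (Presieve.ofArrows 𝒱.X 𝒱.f) ∈ JF F T := by
  classical
  let p : ∐ 𝒱.X ⟶ T := Sigma.desc 𝒱.f
  have hpfl : Flat p := IsZariskiLocalAtSource.sigmaDesc (fun i => (𝒱.map_prop i).1)
  have hpfp : LocallyOfFinitePresentation p :=
    IsZariskiLocalAtSource.sigmaDesc (fun i => (𝒱.map_prop i).2)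
  have hps : Surjective p := ⟨fun x => by
    obtain ⟨i, y, hy⟩ := 𝒱.exists_eq x
    exact ⟨Sigma.ι 𝒱.X i y, by rw [← Scheme.Hom.comp_apply, Sigma.ι_desc]; exact hy⟩⟩
  obtain ⟨S', g, h, hhg, hgfl, hgfp, hgqf, hgs, haff⟩ := Groth.Agent.S2735.result p
  have : IsAffine S' := haff inferInstance
  refine (JF F).transitive (generate_singleton_mem_JF hzar hs g) _ ?_
  rintro Z k ⟨Z', k', g', ⟨⟩, rfl⟩
  rw [Sieve.pullback_comp]
  apply (JF F).pullback_stable
  -- the Zariski cover of `S'` by the preimages of the summands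
  have hcov : TopologicalSpace.IsOpenCover
      (fun i : 𝒱.I₀ => h ⁻¹ᵁ (Sigma.ι 𝒱.X i).opensRange) := by
    have h1 := (sigmaOpenCover 𝒱.X).isOpenCover_opensRange
    rw [TopologicalSpace.IsOpenCover] at h1 ⊢
    rw [← Scheme.Hom.preimage_iSup]
    have h2 : (⨆ i, (Sigma.ι 𝒱.X i).opensRange) = ⊤ := h1
    rw [h2]
    rfl
  let 𝒲 : S'.OpenCover := S'.openCoverOfIsOpenCover _ hcov
  refine (JF F).superset_covering ?_ (zariski_le hzar _ 𝒲.mem_grothendieckTopology)
  rw [Sieve.ofArrows, Sieve.generate_le_iff]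
  rintro _ _ ⟨i⟩
  let l : (𝒲.X i) ⟶ 𝒱.X i := IsOpenImmersion.lift (Sigma.ι 𝒱.X i) (𝒲.f i ≫ h) (by
    rintro _ ⟨w, rfl⟩
    exact w.2)
  have hl : l ≫ Sigma.ι 𝒱.X i = 𝒲.f i ≫ h := IsOpenImmersion.lift_fac _ _ _
  refine ⟨𝒱.X i, l, 𝒱.f i, ⟨i⟩, ?_⟩
  rw [← hhg, ← Category.assoc, ← hl, Category.assoc, Sigma.ι_desc]

/-- The same for covers indexed in an arbitrary universe. -/
theorem generate_mem_JF_of_isAffine' (hzar : Presieve.IsSheaf Scheme.zariskiTopology F)
    (hs : HSingle F) {T : Scheme.{u}} [IsAffine T]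
    (𝒱 : Scheme.Cover.{v} (Scheme.precoverage (@Flat ⊓ @LocallyOfFinitePresentation)) T) :
    Sieve.generate (Presieve.ofArrows 𝒱.X 𝒱.f) ∈ JF F T := by
  refine (JF F).superset_covering ?_ (generate_mem_JF_of_isAffine hzar hs 𝒱.ulift)
  rw [Sieve.generate_le_iff]
  rintro _ _ ⟨x⟩
  exact Sieve.le_generate _ _ _ (Presieve.ofArrows.mk (𝒱.idx x))

/-- A presheaf of sets on schemes is an fppf sheaf iff it is a Zariski sheaf with the sheaf
property for single affine quasi-finite fppf covers. -/
theorem isSheaf_fppf_iff (F : Scheme.{u}ᵒᵖ ⥤ Type w) :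
    Presheaf.IsSheaf Scheme.fppfTopology F ↔
      Presheaf.IsSheaf Scheme.zariskiTopology F ∧ HSingle F := by
  constructor
  · intro hF
    refine ⟨Presheaf.IsSheaf.of_le
      (Precoverage.toGrothendieck_mono Scheme.zariskiPrecoverage_le_fppfPrecoverage) hF, ?_⟩
    intro T S _ _ f _ _ _ _
    rw [isSheaf_iff_isSheaf_of_type] at hF
    rw [Presieve.isSheafFor_iff_generate]
    exact hF _ (Precoverage.generate_mem_toGrothendieck f.singleton_mem_fppfPrecoverage)
  · rintro ⟨hzar, hs⟩
    rw [isSheaf_iff_isSheaf_of_type] at hzar ⊢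
    rw [Precoverage.isSheaf_toGrothendieck_iff_of_isStableUnderBaseChange]
    intro X R hR
    obtain ⟨𝒰, rfl⟩ := Precoverage.mem_iff_exists_zeroHypercover.mp hR
    apply isSheafFor_of_generate_mem
    apply mem_JF_of_forall_isAffine hzar
    intro T' _ t
    rw [← Sieve.pullbackArrows_comm]
    have h1 : Presieve.pullbackArrows t (Presieve.ofArrows 𝒰.X 𝒰.f) =
        (𝒰.toPreZeroHypercover.pullback₂ t).presieve₀ :=
      (PreZeroHypercover.presieve₀_pullback₁ t 𝒰.toPreZeroHypercover).symm
    rw [h1]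
    exact isSheafFor_of_mem F (generate_mem_JF_of_isAffine' hzar hs
      (Precoverage.ZeroHypercover.pullback₂ t 𝒰))

end Groth.Agent.Lib.Seat94.FppfQF
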