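import Mathlib.RepresentationTheory.Homological.GroupCohomology.LongExactSequence
import Groth.Agent.S7725

/-!
# A surjection of `G`-modules with uniquely `|G|`-divisible kernel induces isomorphisms on `Hⁿ`,
`n ≥ 1`.
-/

set_option autoImplicit false
set_option linter.style.haveILetI false

namespace Groth.Agent.Lib.Seat94.GrpCohDiv

open CategoryTheory CategoryTheory.Limits

universe u

/-- Exactness of a short exact sequence of representations, on elements. -/
lemma exists_of_g_eq_zero {k G : Type u} [CommRing k] [Group G] {X : ShortComplex (Rep k G)}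
    (hX : X.ShortExact) (x : X.X₂) (hx : X.g.hom x = 0) : ∃ y, X.f.hom y = x := by
  have h := (hX.exact.map (forget₂ (Rep k G) (ModuleCat k))).moduleCat_range_eq_ker
  have : x ∈ LinearMap.ker (X.map (forget₂ (Rep k G) (ModuleCat k))).g.hom := hx
  rw [← h] at this
  exact this

theorem bijective_map_of_kernel_uniquely_divisible {G : Type} [Group G] [Finite G]
    {A B : Rep.{0} ℤ G} (φ : A ⟶ B) (hsurj : Function.Surjective φ.hom)
    (hinj : ∀ a : A, φ.hom a = 0 → Nat.card G • a = 0 → a = 0)
    (hdiv : ∀ a : A, φ.hom a = 0 → ∃ b : A, φ.hom b = 0 ∧ Nat.card G • b = a)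
    (n : ℕ) (hn : 1 ≤ n) :
    Function.Bijective ((groupCohomology.functor ℤ G n).map φ).hom := by
  classical
  let X : ShortComplex (Rep.{0} ℤ G) := ShortComplex.mk (kernel.ι φ) φ (kernel.condition φ)
  have hX : X.ShortExact := by
    haveI : Epi X.g := (Rep.epi_iff_surjective φ).2 hsurj
    haveI : Mono X.f := inferInstanceAs (Mono (kernel.ι φ))
    exact ShortComplex.ShortExact.mk (ShortComplex.exact_of_f_is_kernel X (kernelIsKernel φ))
  have hι : Function.Injective (kernel.ι φ).hom :=
    (Rep.mono_iff_injective (kernel.ι φ)).1 inferInstance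
  have hker : ∀ x : A, φ.hom x = 0 → ∃ y, (kernel.ι φ).hom y = x := by
    intro x hx
    exact exists_of_g_eq_zero hX x hx
  have hzero : ∀ y, φ.hom ((kernel.ι φ).hom y) = 0 := by
    intro y
    have := kernel.condition φ
    exact congrArg (fun f : kernel φ ⟶ _ => f.hom y) this
  have hdivK : Function.Bijective fun a : (kernel φ : Rep.{0} ℤ G) => Nat.card G • a := by
    constructor
    · intro a b hab
      have hsub : Nat.card G • (a - b) = 0 := by
        rw [smul_sub]; exact sub_eq_zero.2 hab
      have h1 : Nat.card G • (kernel.ι φ).hom (a - b) = 0 := by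
        rw [← map_nsmul, hsub, map_zero]
      have h4 := hinj _ (hzero (a - b)) h1
      have h5 : a - b = 0 := hι (by rw [h4, map_zero])
      exact sub_eq_zero.1 h5
    · intro y
      obtain ⟨b, hb0, hb⟩ := hdiv _ (hzero y)
      obtain ⟨y', hy'⟩ := hker b hb0
      refine ⟨y', ?_⟩
      apply hι
      show (kernel.ι φ).hom (Nat.card G • y') = _
      rw [map_nsmul, hy', hb]
  have hvan : ∀ i : ℕ, 0 < i → IsZero (groupCohomology (kernel φ : Rep.{0} ℤ G) i) := by
    intro i hi
    haveI := Groth.Agent.S7725.result ℤ G (kernel φ : Rep.{0} ℤ G) hdivK i hi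
    exact ModuleCat.isZero_of_subsingleton _
  have hn0 : 0 < n := hn
  have e2 := groupCohomology.mapShortComplex₂_exact hX n
  have e3 := groupCohomology.mapShortComplex₃_exact hX (i := n) (j := n + 1) rfl
  haveI hmono : Mono ((groupCohomology.functor ℤ G n).map φ) :=
    e2.mono_g ((hvan n hn0).eq_of_src _ _)
  haveI hepi : Epi ((groupCohomology.functor ℤ G n).map φ) :=
    e3.epi_f ((hvan (n + 1) (Nat.succ_pos n)).eq_of_tgt _ _)
  exact ⟨(ModuleCat.mono_iff_injective _).1 hmono, (ModuleCat.epi_iff_surjective _).1 hepi⟩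

end Groth.Agent.Lib.Seat94.GrpCohDiv
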