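import Mathlib
import Groth.Agent.Lib.Seat85SchDom3
import Groth.Agent.Lib.Seat35StalkDVR

/-!
# Seat94: a proper morphism that is generically an isomorphism is an isomorphism near normal
codimension one points (over a DVR, flat source)

* `isIso_morphismRestrict_of_section`: separated `g`, section over `V`, iso over `U₀`, and a
  schematically dominant map into `g⁻¹ V` lying over `U₀` ⇒ `g ∣_ V` is an isomorphism.
* `exists_schDominant_generic`: generic fibre of a flat scheme over a domain.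
* `exists_section_nhd`: valuative criterion at a valuation-ring stalk + spreading out.
* `generic_mem_of_flat`: the generic point of a DVR stalk of a flat `R`-scheme lies over `D(ϖ)`.
* `exists_nhd_isIso`: the assembled statement (S19198).
-/

set_option autoImplicit false
set_option linter.style.haveILetI false
open CategoryTheory CategoryTheory.Limits AlgebraicGeometry TopologicalSpace
universe u

namespace Groth.Agent.Lib.Seat94.NbhdIso

/-- If a separated `g : Z ⟶ C` has a section `τ` over the open `V`, is an isomorphism over the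
open `U₀`, and `g⁻¹ V` receives a schematically dominant morphism landing over `U₀`, then `g` is
an isomorphism over `V`. -/
theorem isIso_morphismRestrict_of_section {Z C : Scheme.{u}} (g : Z ⟶ C) [IsSeparated g]
    (V U₀ : C.Opens) (τ : V.toScheme ⟶ Z) (hτ : τ ≫ g = V.ι) [IsIso (g ∣_ U₀)]
    {W' : Scheme.{u}} (j : W' ⟶ (g ⁻¹ᵁ V).toScheme) [IsSchemeTheoreticallyDominant j]
    (hj : ∀ p : W', g ((g ⁻¹ᵁ V).ι (j p)) ∈ U₀) :
    IsIso (g ∣_ V) := by
  have hrange : Set.range τ ⊆ Set.range (g ⁻¹ᵁ V).ι := by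
    rintro _ ⟨v, rfl⟩
    rw [Scheme.Opens.range_ι]
    change g (τ v) ∈ V
    rw [← Scheme.Hom.comp_apply, hτ]
    exact v.2
  let τ' : V.toScheme ⟶ (g ⁻¹ᵁ V).toScheme := IsOpenImmersion.lift (g ⁻¹ᵁ V).ι τ hrange
  have hτ' : τ' ≫ (g ⁻¹ᵁ V).ι = τ := IsOpenImmersion.lift_fac _ _ _
  have h1 : τ' ≫ (g ∣_ V) = 𝟙 _ := by
    rw [← cancel_mono V.ι, Category.assoc, morphismRestrict_ι, ← Category.assoc, hτ', hτ,
      Category.id_comp]
  -- the two maps `W' → Z`
  have key : j ≫ (g ∣_ V) ≫ τ = j ≫ (g ⁻¹ᵁ V).ι := by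
    have hag : (j ≫ (g ∣_ V) ≫ τ) ≫ g = (j ≫ (g ⁻¹ᵁ V).ι) ≫ g := by
      rw [Category.assoc, Category.assoc, hτ, Category.assoc, morphismRestrict_ι]
    have hra : Set.range (j ≫ (g ⁻¹ᵁ V).ι) ⊆ Set.range (g ⁻¹ᵁ U₀).ι := by
      rintro _ ⟨p, rfl⟩
      rw [Scheme.Opens.range_ι]
      exact hj p
    have hrb : Set.range (j ≫ (g ∣_ V) ≫ τ) ⊆ Set.range (g ⁻¹ᵁ U₀).ι := by
      rintro _ ⟨p, rfl⟩
      rw [Scheme.Opens.range_ι]
      change g ((j ≫ (g ∣_ V) ≫ τ) p) ∈ U₀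
      rw [← Scheme.Hom.comp_apply, hag, Scheme.Hom.comp_apply]
      exact hj p
    let a₀ := IsOpenImmersion.lift (g ⁻¹ᵁ U₀).ι (j ≫ (g ⁻¹ᵁ V).ι) hra
    let b₀ := IsOpenImmersion.lift (g ⁻¹ᵁ U₀).ι (j ≫ (g ∣_ V) ≫ τ) hrb
    have ha₀ : a₀ ≫ (g ⁻¹ᵁ U₀).ι = j ≫ (g ⁻¹ᵁ V).ι := IsOpenImmersion.lift_fac _ _ _
    have hb₀ : b₀ ≫ (g ⁻¹ᵁ U₀).ι = j ≫ (g ∣_ V) ≫ τ := IsOpenImmersion.lift_fac _ _ _
    have hab : b₀ = a₀ := by
      rw [← cancel_mono (g ∣_ U₀), ← cancel_mono U₀.ι, Category.assoc, Category.assoc,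
        morphismRestrict_ι, ← Category.assoc, ← Category.assoc, ha₀, hb₀]
      exact hag
    rw [← hb₀, hab, ha₀]
  have h2 : (g ∣_ V) ≫ τ' = 𝟙 _ := by
    refine Groth.Agent.Lib.Seat85.SchDom.ext_of_isSchemeTheoreticallyDominant_of_isSeparated (g ∣_ V) ?_ j ?_
    · rw [Category.assoc, h1, Category.comp_id, Category.id_comp]
    · rw [← cancel_mono (g ⁻¹ᵁ V).ι, Category.assoc, Category.assoc, hτ', Category.comp_id]
      exact key
  exact ⟨τ', h2, h1⟩

/-- The generic fibre of a flat scheme over a domain is schematically dominant, and lies over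
`D(ϖ)` for every nonzero `ϖ`. -/
theorem exists_schDominant_generic (R : Type u) [CommRing R] [IsDomain R] (ϖ : R) (hϖ : ϖ ≠ 0)
    {W C : Scheme.{u}} (πC : C ⟶ Spec (CommRingCat.of R)) (q : W ⟶ C) [Flat (q ≫ πC)] :
    ∃ (W' : Scheme.{u}) (j : W' ⟶ W), IsSchemeTheoreticallyDominant j ∧
      ∀ p : W', q (j p) ∈ πC ⁻¹ᵁ (PrimeSpectrum.basicOpen ϖ) := by
  let φ : CommRingCat.of R ⟶ CommRingCat.of (FractionRing R) :=
    CommRingCat.ofHom (algebraMap R (FractionRing R))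
  have hφ : Function.Injective φ.hom := IsFractionRing.injective R (FractionRing R)
  refine ⟨_, pullback.fst (q ≫ πC) (Spec.map φ),
    Groth.Agent.Lib.Seat85.SchDom.isSchemeTheoreticallyDominant_pullback_fst φ hφ (q ≫ πC), ?_⟩
  intro p
  change πC (q ((pullback.fst (q ≫ πC) (Spec.map φ)) p)) ∈ PrimeSpectrum.basicOpen ϖ
  have h1 : πC (q ((pullback.fst (q ≫ πC) (Spec.map φ)) p)) =
      (Spec.map φ) ((pullback.snd (q ≫ πC) (Spec.map φ)) p) := by
    rw [← Scheme.Hom.comp_apply, ← Scheme.Hom.comp_apply, ← Scheme.Hom.comp_apply,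
      pullback.condition]
  rw [h1]
  set y := (pullback.snd (q ≫ πC) (Spec.map φ)) p with hy
  change ϖ ∉ Ideal.comap φ.hom (y : PrimeSpectrum (FractionRing R)).asIdeal
  intro hmem
  rw [Ideal.mem_comap] at hmem
  have hu : IsUnit (φ.hom ϖ) := by
    have : φ.hom ϖ ≠ 0 := fun h0 => hϖ (hφ (by rw [h0, map_zero]))
    exact this.isUnit
  exact (y : PrimeSpectrum (FractionRing R)).2.ne_top
    (Ideal.eq_top_of_isUnit_mem _ hmem hu)

/-- Valuative criterion + spreading out: a proper `g : Z ⟶ C` which is an isomorphism over an open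
`U₀` containing the generic point of the valuation ring `O_{C,c}` has a section over a
neighbourhood of `c`. -/
theorem exists_section_nhd {Z C : Scheme.{u}} [IsLocallyNoetherian C] (g : Z ⟶ C) [IsProper g]
    (U₀ : C.Opens) [IsIso (g ∣_ U₀)] (c : C) [IsDomain (C.presheaf.stalk c)]
    [ValuationRing (C.presheaf.stalk c)]
    (hξ : (C.fromSpecStalk c) (show ↥(Spec (C.presheaf.stalk c)) from
      (⟨⊥, Ideal.isPrime_bot⟩ : PrimeSpectrum (C.presheaf.stalk c))) ∈ U₀) :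
    ∃ (V : C.Opens) (τ : V.toScheme ⟶ Z), c ∈ V ∧ τ ≫ g = V.ι := by
  let R' := C.presheaf.stalk c
  let K' := FractionRing R'
  let i₂ : Spec (CommRingCat.of R') ⟶ C := C.fromSpecStalk c
  let e : Spec (CommRingCat.of K') ⟶ Spec (CommRingCat.of R') :=
    Spec.map (CommRingCat.ofHom (algebraMap R' K'))
  have hrange : Set.range (e ≫ i₂) ⊆ Set.range U₀.ι := by
    rintro _ ⟨p, rfl⟩
    rw [Scheme.Opens.range_ι, Scheme.Hom.comp_apply]
    have hp : e p = (⟨⊥, Ideal.isPrime_bot⟩ : PrimeSpectrum R') := by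
      apply PrimeSpectrum.ext
      change Ideal.comap (algebraMap R' K') (p : PrimeSpectrum K').asIdeal = ⊥
      have hbot : (p : PrimeSpectrum K').asIdeal = ⊥ :=
        ((Ideal.eq_bot_or_top _).resolve_right (p : PrimeSpectrum K').2.ne_top)
      rw [hbot]
      exact (RingHom.injective_iff_ker_eq_bot _).mp (IsFractionRing.injective R' K')
    rw [hp]
    exact hξ
  let l₀ : Spec (CommRingCat.of K') ⟶ U₀.toScheme := IsOpenImmersion.lift U₀.ι (e ≫ i₂) hrange
  have hl₀ : l₀ ≫ U₀.ι = e ≫ i₂ := IsOpenImmersion.lift_fac _ _ _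
  let i₁ : Spec (CommRingCat.of K') ⟶ Z := l₀ ≫ inv (g ∣_ U₀) ≫ (g ⁻¹ᵁ U₀).ι
  have hsq : i₁ ≫ g = e ≫ i₂ := by
    change (l₀ ≫ inv (g ∣_ U₀) ≫ (g ⁻¹ᵁ U₀).ι) ≫ g = _
    rw [Category.assoc, Category.assoc, ← morphismRestrict_ι, IsIso.inv_hom_id_assoc, hl₀]
  let S' : ValuativeCommSq g :=
    { R := R', K := K', i₁ := i₁, i₂ := i₂, commSq := ⟨hsq⟩ }
  have hex : ValuativeCriterion.Existence g := by
    have : UniversallyClosed g := inferInstance
    rw [UniversallyClosed.eq_valuativeCriterion] at this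
    exact this.1
  obtain ⟨l, hl₁, hl₂⟩ := (hex S').exists_lift
  have hl : l ≫ g = C.fromSpecStalk c ≫ 𝟙 C := by
    rw [Category.comp_id]
    exact hl₂
  obtain ⟨V, hcV, τ, -, hτ⟩ := spread_out_of_isGermInjective' (𝟙 C) g l hl
  exact ⟨V, τ, hcV, by rw [hτ, Category.comp_id]⟩

/-- For `C` flat over a domain `R` and `c` a point whose local ring is a DVR, lying outside
`D(ϖ)`, the generic point of `Spec O_{C,c}` lies over `D(ϖ)`. -/
theorem generic_mem_of_flat (R : Type u) [CommRing R] [IsDomain R] (ϖ : R) (hϖ : ϖ ≠ 0)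
    {C : Scheme.{u}} (πC : C ⟶ Spec (CommRingCat.of R)) [Flat πC] (c : C)
    [IsDomain (C.presheaf.stalk c)] [IsDiscreteValuationRing (C.presheaf.stalk c)]
    (hc : c ∉ πC ⁻¹ᵁ (PrimeSpectrum.basicOpen ϖ)) :
    (C.fromSpecStalk c) (show ↥(Spec (C.presheaf.stalk c)) from
      (⟨⊥, Ideal.isPrime_bot⟩ : PrimeSpectrum (C.presheaf.stalk c))) ∈
      πC ⁻¹ᵁ (PrimeSpectrum.basicOpen ϖ) := by
  let η : PrimeSpectrum R := ⟨⊥, Ideal.isPrime_bot⟩
  have hηmem : η ∈ PrimeSpectrum.basicOpen ϖ := by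
    change ϖ ∉ (⊥ : Ideal R)
    simpa using hϖ
  have hsp : (show ↥(Spec (CommRingCat.of R)) from η) ⤳ πC c :=
    (PrimeSpectrum.le_iff_specializes η (πC c)).mp bot_le
  obtain ⟨c', hc'c, hc'η⟩ := Flat.generalizingMap πC hsp
  have hmem : c' ∈ Set.range (C.fromSpecStalk c) := by
    rw [Scheme.range_fromSpecStalk]
    exact hc'c
  obtain ⟨p, rfl⟩ := hmem
  by_cases hp : (p : PrimeSpectrum (C.presheaf.stalk c)).asIdeal = ⊥
  · have hpe : p = (⟨⊥, Ideal.isPrime_bot⟩ : PrimeSpectrum (C.presheaf.stalk c)) :=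
      PrimeSpectrum.ext hp
    rw [← hpe]
    change πC ((C.fromSpecStalk c) p) ∈ PrimeSpectrum.basicOpen ϖ
    rw [hc'η]
    exact hηmem
  · exfalso
    apply hc
    have hmax : (p : PrimeSpectrum (C.presheaf.stalk c)).asIdeal.IsMaximal :=
      Ideal.IsPrime.isMaximal (p : PrimeSpectrum (C.presheaf.stalk c)).2 hp
    have hpe : p = IsLocalRing.closedPoint (C.presheaf.stalk c) :=
      PrimeSpectrum.ext (IsLocalRing.eq_maximalIdeal hmax)
    rw [hpe, Scheme.fromSpecStalk_closedPoint] at hc'η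
    change πC c ∈ PrimeSpectrum.basicOpen ϖ
    rw [hc'η]
    exact hηmem

/-- Over a domain `R` with `ϖ ≠ 0`: `C` flat and locally of finite type over a Noetherian `R`,
`g : Z ⟶ C` proper with `Z` flat over `R`, an isomorphism over `D(ϖ)`; then `g` is an isomorphism
over a neighbourhood of every point `c` whose local ring is a normal domain of dimension one. -/
theorem exists_nhd_isIso (R : Type u) [CommRing R] [IsDomain R] [IsNoetherianRing R]
    {C Z : Scheme.{u}} (πC : C ⟶ Spec (CommRingCat.of R)) [Flat πC] [LocallyOfFiniteType πC]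
    (g : Z ⟶ C) [IsProper g] [Flat (g ≫ πC)] (ϖ : R) (hϖ : ϖ ≠ 0)
    (hgen : IsIso (g ∣_ (πC ⁻¹ᵁ (PrimeSpectrum.basicOpen ϖ))))
    (c : C) (hdom : IsDomain (C.presheaf.stalk c))
    (hnorm : IsIntegrallyClosed (C.presheaf.stalk c))
    (hdim : ringKrullDim (C.presheaf.stalk c) = 1) :
    ∃ V : C.Opens, c ∈ V ∧ IsIso (g ∣_ V) := by
  haveI : IsLocallyNoetherian (Spec (CommRingCat.of R)) := inferInstance
  haveI : IsLocallyNoetherian C := LocallyOfFiniteType.isLocallyNoetherian πC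
  by_cases hc : c ∈ πC ⁻¹ᵁ (PrimeSpectrum.basicOpen ϖ)
  · exact ⟨_, hc, hgen⟩
  haveI : IsNoetherianRing (C.presheaf.stalk c) := inferInstance
  haveI : IsDiscreteValuationRing (C.presheaf.stalk c) :=
    Groth.Agent.Lib.Seat35.StalkDVR.isDiscreteValuationRing_of_dim_one _ hdim
  haveI : ValuationRing (C.presheaf.stalk c) := inferInstance
  have hξ := generic_mem_of_flat R ϖ hϖ πC c hc
  obtain ⟨V, τ, hcV, hτ⟩ := exists_section_nhd g (πC ⁻¹ᵁ (PrimeSpectrum.basicOpen ϖ)) c hξ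
  haveI : Flat (((g ⁻¹ᵁ V).ι ≫ g) ≫ πC) := by
    rw [Category.assoc]
    infer_instance
  obtain ⟨W', j, hjd, hj⟩ := exists_schDominant_generic R ϖ hϖ πC ((g ⁻¹ᵁ V).ι ≫ g)
  exact ⟨V, hcV, isIso_morphismRestrict_of_section g V _ τ hτ j hj⟩

end Groth.Agent.Lib.Seat94.NbhdIso
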