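import Mathlib
import Groth.Agent.S7384
import Groth.Agent.S0591
import Groth.Agent.S2075
import Groth.Agent.S9190
import Groth.Agent.S9194
import Groth.Agent.Lib.Seat83FibDegStrat

/-!
# Noetherian models of flat quasi-finite separated morphisms of finite presentation (seat 94)

* `exists_noetherian_model`: a flat, separated, quasi-finite morphism of finite presentation over a quasi-compact
  quasi-separated base is the base change of such a morphism over a Noetherian scheme (prior limit results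
  S7384, S0591, S2075, S9190, S9194).
* `isRetrocompact_setOf_fdeg_eq`: the level sets of the fibre degree (seat 83) of such a morphism are retrocompact.
-/

set_option autoImplicit false
set_option linter.style.haveILetI false
universe u

open CategoryTheory CategoryTheory.Limits AlgebraicGeometry Topology TopologicalSpace Opposite

namespace Groth.Agent.Lib.Seat94.NoethModel

section Step

variable {I : Type u} [SmallCategory I]
    (D : I ⥤ Scheme.{u}) (c : Cone D)

/-- repackaging of the conclusions of the descent statements S2075/S9190/S9194 (specialised to `Y₀ = S_{i₀}`):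
a model of `f` at a later stage `i` with the property `P`, which is a base change of the given model. -/
theorem step (P : MorphismProperty Scheme.{u}) [P.RespectsIso]
    (i₀ : I) {X₀ X : Scheme.{u}} (f₀ : X₀ ⟶ D.obj i₀) (f : X ⟶ c.pt) (q₀ : X ⟶ X₀)
    (hX : IsPullback q₀ f f₀ (c.π.app i₀))
    (h : ∃ (i : I) (φ : i ⟶ i₀) (Xi Yi : Scheme.{u}) (fi : Xi ⟶ Yi) (gi : Yi ⟶ D.obj i) (pY : Yi ⟶ D.obj i₀)
      (pX : Xi ⟶ X₀), IsPullback pY gi (𝟙 (D.obj i₀)) (D.map φ) ∧ IsPullback pX fi f₀ pY ∧ P fi) :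
    ∃ (i : I) (φ : i ⟶ i₀) (X₁ : Scheme.{u}) (f₁ : X₁ ⟶ D.obj i) (p : X₁ ⟶ X₀) (q₁ : X ⟶ X₁),
      IsPullback p f₁ f₀ (D.map φ) ∧ IsPullback q₁ f f₁ (c.π.app i) ∧ P f₁ := by
  obtain ⟨i, φ, Xi, Yi, fi, gi, pY, pX, h1, h2, hP⟩ := h
  haveI : IsIso gi := h1.isIso_snd_of_isIso
  have hbig : IsPullback pX (fi ≫ gi) f₀ (D.map φ) := by
    have := h2.paste_vert h1
    rwa [Category.comp_id] at this
  have hw : q₀ ≫ f₀ = (f ≫ c.π.app i) ≫ D.map φ := by
    rw [hX.w, Category.assoc, c.w φ]
  refine ⟨i, φ, Xi, fi ≫ gi, pX, hbig.lift q₀ (f ≫ c.π.app i) hw, hbig, ?_, ?_⟩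
  · refine IsPullback.of_right ?_ (hbig.lift_snd _ _ _) hbig
    rw [hbig.lift_fst, c.w φ]
    exact hX
  · exact (P.cancel_right_of_respectsIso fi gi).2 hP

end Step

/-- a flat, separated, quasi-finite morphism of finite presentation over a quasi-compact quasi-separated base
is the base change of such a morphism over a Noetherian scheme. -/
theorem exists_noetherian_model {U X : Scheme.{u}} (f : X ⟶ U) [CompactSpace U] [QuasiSeparatedSpace U]
    [Flat f] [LocallyOfFinitePresentation f] [QuasiCompact f] [IsSeparated f] [LocallyQuasiFinite f] :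
    ∃ (S₀ X₀ : Scheme.{u}) (π : U ⟶ S₀) (f₀ : X₀ ⟶ S₀) (g : X ⟶ X₀), IsPullback g f f₀ π ∧
      CompactSpace S₀ ∧ IsLocallyNoetherian S₀ ∧ Flat f₀ ∧ LocallyOfFinitePresentation f₀ ∧ QuasiCompact f₀ ∧
      IsSeparated f₀ ∧ LocallyQuasiFinite f₀ := by
  obtain ⟨I, _, _, _, DX, DS, φ, cX, cS, hcX, hcS, eX, eS, haff, hfin, hcomm⟩ := Groth.Agent.S7384.result (𝟙 U)
  haveI : IsCofiltered Iᵒᵖ := inferInstance
  haveI : ∀ (i j : Iᵒᵖ) (a : i ⟶ j), IsAffineHom (DS.map a) := fun i j a => (haff i j a).2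
  haveI : ∀ i, CompactSpace (DS.obj i) := fun i => (hfin i).2.1
  have hN : ∀ i, IsLocallyNoetherian (DS.obj i) := fun i => by
    haveI := (hfin i).2.2.2
    exact Groth.Agent.Lib.Helper22.NA4.isLocallyNoetherian_of_lft _
  haveI : ∀ i, QuasiSeparatedSpace (DS.obj i) := fun i => by
    haveI := hN i
    infer_instance
  let f' : X ⟶ cS.pt := f ≫ eS.inv
  haveI : Flat f' := by dsimp only [f']; infer_instance
  haveI : LocallyOfFinitePresentation f' := by dsimp only [f']; infer_instance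
  haveI : QuasiCompact f' := by dsimp only [f']; infer_instance
  haveI : IsSeparated f' := by dsimp only [f']; infer_instance
  haveI : LocallyQuasiFinite f' := by dsimp only [f']; infer_instance
  obtain ⟨i₀, X₀, f₀, q₀, h1, h2, h3, hpb⟩ := Groth.Agent.S0591.result DS cS hcS X f'
  haveI := h1; haveI := h2; haveI := h3
  haveI : CompactSpace X₀ := QuasiCompact.compactSpace_of_compactSpace f₀
  haveI : QuasiSeparatedSpace X₀ := quasiSeparatedSpace_of_quasiSeparated f₀
  have hid : ∀ i, IsPullback (cS.π.app i) (𝟙 cS.pt) (𝟙 (DS.obj i)) (cS.π.app i) := fun i =>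
    IsPullback.id_vert (cS.π.app i)
  -- flatness
  obtain ⟨i₁, φ₁, X₁, f₁, p₁, q₁, hp₁, hq₁, hfl₁⟩ := step DS cS (@Flat) i₀ f₀ f' q₀ hpb
    (Groth.Agent.S2075.result DS cS hcS i₀ f₀ (𝟙 _) f' (𝟙 _) (cS.π.app i₀) q₀ (hid i₀) hpb)
  haveI : LocallyOfFinitePresentation f₁ := MorphismProperty.of_isPullback (P := @LocallyOfFinitePresentation) hp₁ h1
  haveI : QuasiCompact f₁ := MorphismProperty.of_isPullback (P := @QuasiCompact) hp₁ h2
  haveI : QuasiSeparated f₁ := MorphismProperty.of_isPullback (P := @QuasiSeparated) hp₁ h3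
  haveI : CompactSpace X₁ := QuasiCompact.compactSpace_of_compactSpace f₁
  haveI : QuasiSeparatedSpace X₁ := quasiSeparatedSpace_of_quasiSeparated f₁
  -- separatedness
  obtain ⟨i₂, φ₂, X₂, f₂, p₂, q₂, hp₂, hq₂, hsep₂⟩ := step DS cS (@IsSeparated) i₁ f₁ f' q₁ hq₁
    (Groth.Agent.S9190.result DS cS hcS i₁ f₁ (𝟙 _) f' (𝟙 _) (cS.π.app i₁) q₁ (hid i₁) hq₁)
  have hfl₂ : Flat f₂ := MorphismProperty.of_isPullback (P := @Flat) hp₂ hfl₁
  haveI : LocallyOfFinitePresentation f₂ :=
    MorphismProperty.of_isPullback (P := @LocallyOfFinitePresentation) hp₂ inferInstance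
  haveI : QuasiCompact f₂ := MorphismProperty.of_isPullback (P := @QuasiCompact) hp₂ inferInstance
  haveI : QuasiSeparated f₂ := MorphismProperty.of_isPullback (P := @QuasiSeparated) hp₂ inferInstance
  haveI : CompactSpace X₂ := QuasiCompact.compactSpace_of_compactSpace f₂
  haveI : QuasiSeparatedSpace X₂ := quasiSeparatedSpace_of_quasiSeparated f₂
  -- quasi-finiteness
  obtain ⟨i₃, φ₃, X₃, f₃, p₃, q₃, hp₃, hq₃, hqf₃⟩ := step DS cS (@LocallyQuasiFinite) i₂ f₂ f' q₂ hq₂
    (Groth.Agent.S9194.result DS cS hcS i₂ f₂ (𝟙 _) f' (𝟙 _) (cS.π.app i₂) q₂ (hid i₂) hq₂)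
  have hfl₃ : Flat f₃ := MorphismProperty.of_isPullback (P := @Flat) hp₃ hfl₂
  have hsep₃ : IsSeparated f₃ := MorphismProperty.of_isPullback (P := @IsSeparated) hp₃ hsep₂
  have hfp₃ : LocallyOfFinitePresentation f₃ :=
    MorphismProperty.of_isPullback (P := @LocallyOfFinitePresentation) hp₃ inferInstance
  have hqc₃ : QuasiCompact f₃ := MorphismProperty.of_isPullback (P := @QuasiCompact) hp₃ inferInstance
  refine ⟨DS.obj i₃, X₃, eS.inv ≫ cS.π.app i₃, f₃, q₃, ?_, inferInstance, hN i₃, hfl₃, hfp₃, hqc₃, hsep₃, hqf₃⟩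
  have hiso : IsPullback (𝟙 X) f f' eS.inv := IsPullback.of_horiz_isIso ⟨by simp [f']⟩
  have := hiso.paste_horiz hq₃
  rwa [Category.id_comp] at this

open Groth.Agent.Lib.Seat83.FibDeg

/-- over a quasi-compact quasi-separated base, the level sets of the fibre degree are quasi-compact. -/
theorem isCompact_setOf_fdeg_eq {U X : Scheme.{u}} (f : X ⟶ U) [CompactSpace U] [QuasiSeparatedSpace U]
    [Flat f] [LocallyOfFinitePresentation f] [QuasiCompact f] [IsSeparated f] [LocallyQuasiFinite f] (r : ℕ) :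
    IsCompact {s : U | fdeg f s = r} := by
  obtain ⟨S₀, X₀, π, f₀, g, hpb, hS₀c, hS₀n, hfl, hfp, hqc, hsep, hlqf⟩ := exists_noetherian_model f
  have hdeg : ∀ s : U, fdeg f s = fdeg f₀ (π s) := fun s => fdeg_of_isPullback hpb s
  have hcl : ∀ r, IsClosed {s : S₀ | fdeg f₀ s ≤ r} := isClosed_setOf_fdeg_le f₀ (fun s => inferInstance)
  haveI : IsNoetherian S₀ := {}
  haveI : QuasiCompact π := inferInstance
  have hlt : IsClosed {s : S₀ | fdeg f₀ s < r} := by
    cases r with
    | zero => simp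
    | succ k => simpa [Nat.lt_succ_iff] using hcl k
  have heq : {s : U | fdeg f s = r} = π ⁻¹' {s | fdeg f₀ s < r}ᶜ ∩ π ⁻¹' {s | fdeg f₀ s ≤ r} := by
    ext s
    simp only [Set.mem_ofPred_eq, Set.mem_inter_iff, Set.mem_preimage, Set.mem_compl_iff, hdeg s]
    omega
  rw [heq]
  refine IsCompact.inter_right ?_ ((hcl r).preimage π.continuous)
  exact QuasiCompact.isCompact_preimage (f := π) _ hlt.isOpen_compl (NoetherianSpace.isCompact _)

/-- the level sets of the fibre degree of a flat, separated, quasi-finite morphism of finite presentation are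
retrocompact. -/
theorem isRetrocompact_setOf_fdeg_eq {S X : Scheme.{u}} (f : X ⟶ S)
    [Flat f] [LocallyOfFinitePresentation f] [QuasiCompact f] [IsSeparated f] [LocallyQuasiFinite f] (r : ℕ) :
    IsRetrocompact {s : S | fdeg f s = r} := by
  intro V hVc hVo
  obtain ⟨t, ht, rfl⟩ := isCompact_and_isOpen_iff_finite_and_eq_biUnion_affineOpens.mp ⟨hVc, hVo⟩
  rw [Set.inter_iUnion₂]
  refine ht.isCompact_biUnion fun W _ => ?_
  haveI : IsAffine (W.1 : Scheme.{u}) := W.2
  have hpb : IsPullback (f ⁻¹ᵁ W.1).ι (f ∣_ W.1) f W.1.ι := (isPullback_morphismRestrict f W.1).flip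
  haveI : Flat (f ∣_ W.1) := MorphismProperty.of_isPullback (P := @Flat) hpb inferInstance
  haveI : LocallyOfFinitePresentation (f ∣_ W.1) :=
    MorphismProperty.of_isPullback (P := @LocallyOfFinitePresentation) hpb inferInstance
  haveI : QuasiCompact (f ∣_ W.1) := MorphismProperty.of_isPullback (P := @QuasiCompact) hpb inferInstance
  haveI : IsSeparated (f ∣_ W.1) := MorphismProperty.of_isPullback (P := @IsSeparated) hpb inferInstance
  haveI : LocallyQuasiFinite (f ∣_ W.1) :=
    MorphismProperty.of_isPullback (P := @LocallyQuasiFinite) hpb inferInstance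
  have hc := isCompact_setOf_fdeg_eq (f ∣_ W.1) r
  have heq : {s : S | fdeg f s = r} ∩ (W : Set S) = W.1.ι '' {u | fdeg (f ∣_ W.1) u = r} := by
    ext s
    constructor
    · rintro ⟨hs, hsW⟩
      refine ⟨⟨s, hsW⟩, ?_, rfl⟩
      simp only [Set.mem_ofPred_eq]
      rw [fdeg_of_isPullback hpb]
      exact hs
    · rintro ⟨u, hu, rfl⟩
      refine ⟨?_, u.2⟩
      simp only [Set.mem_ofPred_eq] at hu ⊢
      rw [← fdeg_of_isPullback hpb]
      exact hu
  rw [heq]
  exact hc.image W.1.ι.continuous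

end Groth.Agent.Lib.Seat94.NoethModel
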