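import Mathlib.RingTheory.PiTensorProduct
import Mathlib.RingTheory.Ideal.Operations
import Mathlib.RingTheory.Ideal.Quotient.Operations

/-!
# Permutation action on a tensor power `⨂[k] _ : ι, A` and diagonal ideals

For a commutative `k`-algebra `A` and a finite index type `ι`, the reindexing linear equivalence
`PiTensorProduct.reindex k (fun _ => A) σ` is a `k`-algebra automorphism of `⨂[k] _ : ι, A`.
For `i ≠ j` and the transposition `σ = swap i j` it acts trivially modulo the diagonal ideal
`I_{ij} = (a_i - a_j)` and by `(-1)^s` on `I_{ij}^s / I_{ij}^{s+1}`.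
-/

set_option autoImplicit false
open TensorProduct

namespace Groth.Agent.Lib.Seat94.PiTensorSwap

universe u v w

variable {k : Type u} [CommRing k] {A : Type v} [CommRing A] [Algebra k A]
variable {ι : Type w} [Fintype ι] [DecidableEq ι]

/-- The reindexing map as an algebra homomorphism. -/
noncomputable def reindexAlgHom (σ : Equiv.Perm ι) :
    (⨂[k] _ : ι, A) →ₐ[k] (⨂[k] _ : ι, A) :=
  AlgHom.ofLinearMap (PiTensorProduct.reindex k (fun _ : ι => A) σ).toLinearMap
    (by
      show PiTensorProduct.reindex k (fun _ : ι => A) σ (1 : ⨂[k] _ : ι, A) = 1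
      rw [PiTensorProduct.one_def, PiTensorProduct.reindex_tprod]
      rfl)
    (by
      rw [LinearMap.map_mul_iff]
      ext x y
      simp only [LinearMap.compMultilinearMap_apply, LinearMap.compr₂_apply,
        LinearMap.mul_apply', LinearMap.coe_comp, Function.comp_apply,
        LinearMap.compl₂_apply, LinearEquiv.coe_coe, PiTensorProduct.tprod_mul_tprod,
        PiTensorProduct.reindex_tprod]
      rfl)

omit [Fintype ι] [DecidableEq ι] in
@[simp] lemma reindexAlgHom_apply (σ : Equiv.Perm ι) (x : ⨂[k] _ : ι, A) :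
    reindexAlgHom (k := k) (A := A) σ x = PiTensorProduct.reindex k (fun _ : ι => A) σ x := rfl

omit [Fintype ι] in
lemma reindex_single (σ : Equiv.Perm ι) (l : ι) (a : A) :
    PiTensorProduct.reindex k (fun _ : ι => A) σ
      (PiTensorProduct.singleAlgHom (R := k) (A := fun _ : ι => A) l a) =
      PiTensorProduct.singleAlgHom (R := k) (A := fun _ : ι => A) (σ l) a := by
  simp only [PiTensorProduct.singleAlgHom_apply, PiTensorProduct.reindex_tprod]
  congr 1
  funext t
  simp only [MonoidHom.mulSingle_apply, Pi.mulSingle_apply]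
  by_cases h : t = σ l
  · subst h; simp
  · have : σ.symm t ≠ l := fun h' => h (by rw [← h', Equiv.apply_symm_apply])
    simp [h, this]

/-- The diagonal ideal of the factors `i` and `j`. -/
noncomputable def diagIdeal (k : Type u) [CommRing k] (A : Type v) [CommRing A] [Algebra k A]
    {ι : Type w} [Fintype ι] [DecidableEq ι] (i j : ι) : Ideal (⨂[k] _ : ι, A) :=
  Ideal.span (Set.range fun a : A =>
    PiTensorProduct.singleAlgHom (R := k) (A := fun _ : ι => A) i a -
    PiTensorProduct.singleAlgHom (R := k) (A := fun _ : ι => A) j a)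

/-- The transposition of `i` and `j` acts trivially modulo the diagonal ideal `I_{ij}`. -/
lemma reindex_swap_sub_mem (i j : ι) (r : ⨂[k] _ : ι, A) :
    PiTensorProduct.reindex k (fun _ : ι => A) (Equiv.swap i j) r - r ∈ diagIdeal k A i j := by
  have h : ((Ideal.Quotient.mkₐ k (diagIdeal k A i j)).comp
      (reindexAlgHom (k := k) (A := A) (Equiv.swap i j))) =
      Ideal.Quotient.mkₐ k (diagIdeal k A i j) := by
    apply PiTensorProduct.algHom_ext
    intro l
    ext a
    simp only [AlgHom.coe_comp, Function.comp_apply, reindexAlgHom_apply, reindex_single,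
      Ideal.Quotient.mkₐ_eq_mk]
    rw [Ideal.Quotient.eq]
    by_cases hl : l = i
    · subst hl
      rw [Equiv.swap_apply_left]
      have : PiTensorProduct.singleAlgHom (R := k) (A := fun _ : ι => A) j a -
          PiTensorProduct.singleAlgHom (R := k) (A := fun _ : ι => A) l a =
          -(PiTensorProduct.singleAlgHom (R := k) (A := fun _ : ι => A) l a -
          PiTensorProduct.singleAlgHom (R := k) (A := fun _ : ι => A) j a) := by ring
      rw [this]
      exact (diagIdeal k A l j).neg_mem (Ideal.subset_span ⟨a, rfl⟩)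
    · by_cases hj : l = j
      · subst hj
        rw [Equiv.swap_apply_right]
        exact Ideal.subset_span ⟨a, rfl⟩
      · rw [Equiv.swap_apply_of_ne_of_ne hl hj, sub_self]
        exact Ideal.zero_mem _
  have := DFunLike.congr_fun h r
  simp only [AlgHom.coe_comp, Function.comp_apply, reindexAlgHom_apply,
    Ideal.Quotient.mkₐ_eq_mk] at this
  rwa [Ideal.Quotient.eq] at this

/-- The transposition acts by `-1` on `I_{ij} / I_{ij}^2`. -/
lemma reindex_swap_add_mem (i j : ι) (a : ⨂[k] _ : ι, A) (ha : a ∈ diagIdeal k A i j) :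
    PiTensorProduct.reindex k (fun _ : ι => A) (Equiv.swap i j) a + a ∈ diagIdeal k A i j ^ 2 := by
  set τ := reindexAlgHom (k := k) (A := A) (Equiv.swap i j) with hτ
  change τ a + a ∈ _
  unfold diagIdeal at ha
  induction ha using Submodule.span_induction with
  | mem x hx =>
    obtain ⟨c, rfl⟩ := hx
    have : τ (PiTensorProduct.singleAlgHom (R := k) (A := fun _ : ι => A) i c -
        PiTensorProduct.singleAlgHom (R := k) (A := fun _ : ι => A) j c) +
        (PiTensorProduct.singleAlgHom (R := k) (A := fun _ : ι => A) i c -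
        PiTensorProduct.singleAlgHom (R := k) (A := fun _ : ι => A) j c) = 0 := by
      rw [map_sub, hτ, reindexAlgHom_apply, reindexAlgHom_apply, reindex_single, reindex_single,
        Equiv.swap_apply_left, Equiv.swap_apply_right]
      ring
    rw [this]
    exact Ideal.zero_mem _
  | zero => simp
  | add x y _ _ hx hy =>
    have : τ (x + y) + (x + y) = (τ x + x) + (τ y + y) := by rw [map_add]; ring
    rw [this]
    exact Ideal.add_mem _ hx hy
  | smul r x hx ih =>
    have : τ (r • x) + r • x = (τ r - r) * τ x + r * (τ x + x) := by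
      rw [smul_eq_mul, map_mul]; ring
    rw [this]
    have h1 : τ r - r ∈ diagIdeal k A i j := reindex_swap_sub_mem i j r
    have hx' : x ∈ diagIdeal k A i j := hx
    have h2 : τ x + x ∈ diagIdeal k A i j := Ideal.pow_le_self (by norm_num) ih
    have h3 : τ x ∈ diagIdeal k A i j := by
      have : τ x = (τ x + x) - x := by ring
      rw [this]
      exact Ideal.sub_mem _ h2 hx'
    refine Ideal.add_mem _ ?_ ?_
    · rw [pow_two]; exact Ideal.mul_mem_mul h1 h3
    · exact Ideal.mul_mem_left _ _ ih

/-- The transposition acts by `(-1)^s` on `I_{ij}^s / I_{ij}^{s+1}`. -/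
lemma reindex_swap_sub_pow_mem (i j : ι) (s : ℕ) (y : ⨂[k] _ : ι, A)
    (hy : y ∈ diagIdeal k A i j ^ s) :
    PiTensorProduct.reindex k (fun _ : ι => A) (Equiv.swap i j) y - (-1) ^ s * y ∈
      diagIdeal k A i j ^ (s + 1) := by
  set τ := reindexAlgHom (k := k) (A := A) (Equiv.swap i j) with hτ
  change τ y - (-1) ^ s * y ∈ _
  induction s generalizing y with
  | zero =>
    simp only [pow_zero, one_mul, zero_add, pow_one]
    exact reindex_swap_sub_mem i j y
  | succ s ih =>
    rw [pow_succ'] at hy
    induction hy using Submodule.mul_induction_on' with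
    | mem_mul_mem a ha b hb =>
      have hb' := ih b hb
      have ha' := reindex_swap_add_mem i j a ha
      change τ a + a ∈ _ at ha'
      have hτb : τ b ∈ diagIdeal k A i j ^ s := by
        have : τ b = (τ b - (-1) ^ s * b) + (-1) ^ s * b := by ring
        rw [this]
        exact Ideal.add_mem _ (Ideal.pow_le_pow_right (Nat.le_succ s) hb')
          (Ideal.mul_mem_left _ _ hb)
      have : τ (a * b) - (-1) ^ (s + 1) * (a * b) =
          (τ a + a) * τ b - a * (τ b - (-1) ^ s * b) := by
        rw [map_mul]; ring
      rw [this]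
      refine Ideal.sub_mem _ ?_ ?_
      · have : s + 1 + 1 = 2 + s := by ring
        rw [this, pow_add]
        exact Ideal.mul_mem_mul ha' hτb
      · rw [pow_succ' _ (s + 1)]
        exact Ideal.mul_mem_mul ha hb'
    | add x _ y _ hx hy =>
      have : τ (x + y) - (-1) ^ (s + 1) * (x + y) =
          (τ x - (-1) ^ (s + 1) * x) + (τ y - (-1) ^ (s + 1) * y) := by
        rw [map_add]; ring
      rw [this]
      exact Ideal.add_mem _ hx hy

/-- An element of an odd power `I_{ij}^(2m-1)` fixed by the transposition of `i` and `j` lies in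
`I_{ij}^(2m)`, provided `2` is invertible. -/
lemma mem_pow_even_of_swap_fixed (i j : ι) (m : ℕ) (hm : 1 ≤ m) (h2 : IsUnit (2 : k))
    (x : ⨂[k] _ : ι, A)
    (hfix : PiTensorProduct.reindex k (fun _ : ι => A) (Equiv.swap i j) x = x)
    (hx : x ∈ diagIdeal k A i j ^ (2 * m - 1)) :
    x ∈ diagIdeal k A i j ^ (2 * m) := by
  have h := reindex_swap_sub_pow_mem i j (2 * m - 1) x hx
  rw [hfix] at h
  have hodd : Odd (2 * m - 1) := by
    refine ⟨m - 1, ?_⟩
    omega
  rw [hodd.neg_one_pow] at h
  have e : 2 * m - 1 + 1 = 2 * m := by omega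
  rw [e] at h
  have h' : (2 : k) • x ∈ diagIdeal k A i j ^ (2 * m) := by
    have : (2 : k) • x = x - -1 * x := by
      rw [two_smul]; ring
    rw [this]; exact h
  obtain ⟨u, hu⟩ := h2
  have : x = (↑u⁻¹ : k) • ((2 : k) • x) := by
    rw [smul_smul, ← hu, Units.inv_mul, one_smul]
  rw [this]
  exact Submodule.smul_of_tower_mem _ _ h'

end Groth.Agent.Lib.Seat94.PiTensorSwap
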