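import Mathlib.RingTheory.Smooth.Basic
import Mathlib.RingTheory.Kaehler.Polynomial
import Mathlib.RingTheory.Polynomial.Resultant.Basic
import Mathlib.RingTheory.FinitePresentation
import Mathlib.FieldTheory.IsAlgClosed.AlgebraicClosure
import Mathlib.Algebra.Polynomial.Reverse
import Mathlib.Tactic

/-!
# Jacobian criterion for plane curves and the charts of a curve on a Hirzebruch surface

* `jac_of_formallySmooth`, `smooth_of_jac`: for `F ≠ 0` in `k[X_σ]`, the hypersurface algebra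
  `k[X_σ]/(F)` is smooth over the field `k` iff `(F, ∂F/∂X_i) = (1)`.
* `isCoprime_of_jacIdeal`, `jacIdeal_chartA_of_isCoprime`, `jacIdeal_chartB_of_isCoprime`:
  for the plane curves `P(t) + R(t) w` and `P(t) w + R(t)`, both Jacobian ideals are the unit
  ideal iff `P` and `R` are coprime.
* `isCoprime_of_resultant_ne_zero`, `resultant_ne_zero_of_isCoprime`: the Sylvester resultant with
  size parameters `(2, n)` is nonzero iff the two polynomials and their reversals are coprime.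
-/

set_option autoImplicit false

open TensorProduct Polynomial

namespace Groth.Agent.Lib.Seat94.PlaneJac

section General

variable {k : Type*} [Field k] {σ : Type*} [Fintype σ]

lemma cotangent_smul_eq_zero {R : Type*} [CommRing R] (I : Ideal R) (x : R) (hx : x ∈ I)
    (c : I.Cotangent) : x • c = 0 := by
  obtain ⟨y, rfl⟩ := Ideal.toCotangent_surjective I c
  rw [← map_smul, Ideal.toCotangent_eq_zero]
  change x • (y : R) ∈ I ^ 2
  rw [smul_eq_mul, pow_two]
  exact Ideal.mul_mem_mul hx y.2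

theorem jac_of_formallySmooth (F : MvPolynomial σ k) (hF : F ≠ 0)
    (h : Algebra.FormallySmooth k (MvPolynomial σ k ⧸ Ideal.span {F})) :
    Ideal.span ({F} ∪ Set.range (fun i : σ => MvPolynomial.pderiv i F)) = ⊤ := by
  have hsurj : Function.Surjective
      (algebraMap (MvPolynomial σ k) (MvPolynomial σ k ⧸ Ideal.span {F})) :=
    Ideal.Quotient.mk_surjective
  set I := RingHom.ker (algebraMap (MvPolynomial σ k) (MvPolynomial σ k ⧸ Ideal.span {F}))
    with hIdef
  obtain ⟨l, hl⟩ := (Algebra.FormallySmooth.iff_split_injection hsurj).1 h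
  have hI : I = Ideal.span {F} := Ideal.mk_ker
  have hFI : F ∈ I := by rw [hI]; exact Ideal.mem_span_singleton_self F
  set cF : I.Cotangent := I.toCotangent ⟨F, hFI⟩ with hcF
  have hgen : ∀ c : I.Cotangent, ∃ p : MvPolynomial σ k, c = p • cF := by
    intro c
    obtain ⟨⟨x, hx⟩, rfl⟩ := Ideal.toCotangent_surjective I c
    have hx' : x ∈ Ideal.span {F} := hI ▸ hx
    obtain ⟨p, hp⟩ := Ideal.mem_span_singleton'.1 hx'
    refine ⟨p, ?_⟩
    rw [hcF, ← map_smul]
    congr 1
    exact Subtype.ext hp.symm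
  choose a ha using fun i : σ => hgen (l ((1 : MvPolynomial σ k ⧸ Ideal.span {F}) ⊗ₜ[MvPolynomial σ k]
    KaehlerDifferential.D k (MvPolynomial σ k) (MvPolynomial.X i)))
  have hDF : KaehlerDifferential.D k (MvPolynomial σ k) F =
      ∑ i, MvPolynomial.pderiv i F • KaehlerDifferential.D k (MvPolynomial σ k) (MvPolynomial.X i) := by
    have := (KaehlerDifferential.mvPolynomialBasis k σ).sum_repr
      (KaehlerDifferential.D k (MvPolynomial σ k) F)
    simp only [KaehlerDifferential.mvPolynomialBasis_repr_apply,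
      KaehlerDifferential.mvPolynomialBasis_apply] at this
    exact this.symm
  have h1 : l (1 ⊗ₜ KaehlerDifferential.D k (MvPolynomial σ k) F) = cF := by
    have := LinearMap.congr_fun hl cF
    rw [LinearMap.comp_apply, hcF, KaehlerDifferential.kerCotangentToTensor_toCotangent,
      LinearMap.id_apply] at this
    exact this
  rw [hDF, TensorProduct.tmul_sum, map_sum] at h1
  simp only [TensorProduct.tmul_smul, map_smul, ha] at h1
  have h2 : (1 - ∑ i, MvPolynomial.pderiv i F * a i) • cF = 0 := by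
    rw [sub_smul, one_smul, Finset.sum_smul, sub_eq_zero]
    simp only [mul_smul]
    exact h1.symm
  have h3 : (1 - ∑ i, MvPolynomial.pderiv i F * a i) * F ∈ I ^ 2 := by
    rw [← Ideal.toCotangent_eq_zero I ⟨_, I.mul_mem_left _ hFI⟩]
    rw [hcF, ← map_smul] at h2
    exact h2
  rw [hI, Ideal.span_singleton_pow, Ideal.mem_span_singleton'] at h3
  obtain ⟨c, hc⟩ := h3
  have h4 : c * F = 1 - ∑ i, MvPolynomial.pderiv i F * a i := by
    apply mul_right_cancel₀ hF
    rw [← hc]
    ring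
  rw [Ideal.eq_top_iff_one]
  have : (1 : MvPolynomial σ k) = c * F + ∑ i, MvPolynomial.pderiv i F * a i := by
    rw [h4]; ring
  rw [this]
  refine Ideal.add_mem _ (Ideal.mul_mem_left _ _ (Ideal.subset_span (Or.inl rfl)))
    (Ideal.sum_mem _ fun i _ => Ideal.mul_mem_right _ _ (Ideal.subset_span (Or.inr ⟨i, rfl⟩)))

theorem formallySmooth_of_jac (F : MvPolynomial σ k)
    (h : Ideal.span ({F} ∪ Set.range (fun i : σ => MvPolynomial.pderiv i F)) = ⊤) :
    Algebra.FormallySmooth k (MvPolynomial σ k ⧸ Ideal.span {F}) := by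
  have hsurj : Function.Surjective
      (algebraMap (MvPolynomial σ k) (MvPolynomial σ k ⧸ Ideal.span {F})) :=
    Ideal.Quotient.mk_surjective
  set I := RingHom.ker (algebraMap (MvPolynomial σ k) (MvPolynomial σ k ⧸ Ideal.span {F}))
    with hIdef
  rw [Algebra.FormallySmooth.iff_split_injection hsurj]
  have hI : I = Ideal.span {F} := Ideal.mk_ker
  have hFI : F ∈ I := by rw [hI]; exact Ideal.mem_span_singleton_self F
  set cF : I.Cotangent := I.toCotangent ⟨F, hFI⟩ with hcF
  have h1 : (1 : MvPolynomial σ k) ∈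
      Ideal.span {F} ⊔ Ideal.span (Set.range fun i : σ => MvPolynomial.pderiv i F) := by
    rw [← Ideal.span_union, h]
    trivial
  obtain ⟨y, hy, z, hz, hyz⟩ := Submodule.mem_sup.1 h1
  obtain ⟨c, rfl⟩ := Ideal.mem_span_singleton'.1 hy
  obtain ⟨a, rfl⟩ := (Ideal.mem_span_range_iff_exists_fun).1 hz
  let ℓ₀ : Ω[MvPolynomial σ k⁄k] →ₗ[MvPolynomial σ k] I.Cotangent :=
    (KaehlerDifferential.mvPolynomialBasis k σ).constr (MvPolynomial σ k) (fun i => a i • cF)
  have hℓ₀ : ∀ i, ℓ₀ (KaehlerDifferential.D k (MvPolynomial σ k) (MvPolynomial.X i)) = a i • cF := by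
    intro i
    rw [← KaehlerDifferential.mvPolynomialBasis_apply, Module.Basis.constr_basis]
  have hFℓ₀ : F • ℓ₀ = 0 := by
    ext ω
    exact cotangent_smul_eq_zero I F hFI _
  let f : MvPolynomial σ k →ₗ[MvPolynomial σ k]
      (Ω[MvPolynomial σ k⁄k] →ₗ[MvPolynomial σ k] I.Cotangent) :=
    LinearMap.toSpanSingleton (MvPolynomial σ k) _ ℓ₀
  have hf : Ideal.span {F} ≤ LinearMap.ker f := by
    rw [Ideal.span_le]
    intro x hx
    obtain rfl := Set.mem_singleton_iff.1 hx
    rw [SetLike.mem_coe, LinearMap.mem_ker, LinearMap.toSpanSingleton_apply]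
    exact hFℓ₀
  let l : (MvPolynomial σ k ⧸ Ideal.span {F}) ⊗[MvPolynomial σ k] Ω[MvPolynomial σ k⁄k]
      →ₗ[MvPolynomial σ k] I.Cotangent :=
    TensorProduct.lift (Submodule.liftQ (Ideal.span {F}) f hf)
  have hl1 : ∀ ω, l (1 ⊗ₜ ω) = ℓ₀ ω := by
    intro ω
    change (Submodule.liftQ (Ideal.span {F}) f hf) (Submodule.Quotient.mk 1) ω = _
    rw [Submodule.liftQ_apply, LinearMap.toSpanSingleton_apply, one_smul]
  have hDF : KaehlerDifferential.D k (MvPolynomial σ k) F =
      ∑ i, MvPolynomial.pderiv i F • KaehlerDifferential.D k (MvPolynomial σ k) (MvPolynomial.X i) := by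
    have := (KaehlerDifferential.mvPolynomialBasis k σ).sum_repr
      (KaehlerDifferential.D k (MvPolynomial σ k) F)
    simp only [KaehlerDifferential.mvPolynomialBasis_repr_apply,
      KaehlerDifferential.mvPolynomialBasis_apply] at this
    exact this.symm
  have hlcF : l (KaehlerDifferential.kerCotangentToTensor k (MvPolynomial σ k)
      (MvPolynomial σ k ⧸ Ideal.span {F}) cF) = cF := by
    rw [hcF, KaehlerDifferential.kerCotangentToTensor_toCotangent, hl1, hDF, map_sum]
    simp only [map_smul, hℓ₀]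
    have e : ∑ i, MvPolynomial.pderiv i F • a i • cF =
        (∑ i, a i * MvPolynomial.pderiv i F) • cF := by
      rw [Finset.sum_smul]
      apply Finset.sum_congr rfl
      intro i _
      rw [mul_smul, smul_comm]
    rw [e]
    have e2 : ∑ i, a i * MvPolynomial.pderiv i F = 1 - c * F := by
      rw [← hyz]; ring
    rw [e2, sub_smul, one_smul, mul_smul, cotangent_smul_eq_zero I F hFI, smul_zero, sub_zero]
  refine ⟨l, ?_⟩
  apply LinearMap.ext
  intro x
  obtain ⟨⟨x, hx⟩, rfl⟩ := Ideal.toCotangent_surjective I x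
  have hx' : x ∈ Ideal.span {F} := hI ▸ hx
  obtain ⟨p, hp⟩ := Ideal.mem_span_singleton'.1 hx'
  have : I.toCotangent ⟨x, hx⟩ = p • cF := by
    rw [hcF, ← map_smul]
    congr 1
    exact Subtype.ext hp.symm
  rw [this, LinearMap.comp_apply, map_smul, map_smul, hlcF, LinearMap.id_apply]

theorem smooth_of_jac (F : MvPolynomial σ k)
    (h : Ideal.span ({F} ∪ Set.range (fun i : σ => MvPolynomial.pderiv i F)) = ⊤) :
    Algebra.Smooth k (MvPolynomial σ k ⧸ Ideal.span {F}) :=
  ⟨formallySmooth_of_jac F h, Algebra.FinitePresentation.quotient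
    ⟨{F}, by simp⟩⟩


end General

variable {k : Type*} [Field k]

/-- the embedding `k[t] → k[X₀, X₁]`, `t ↦ X₀` -/
noncomputable def ι : k[X] →ₐ[k] MvPolynomial (Fin 2) k := Polynomial.aeval (MvPolynomial.X 0)

/-- the Jacobian ideal of a plane curve -/
noncomputable def jacIdeal (F : MvPolynomial (Fin 2) k) : Ideal (MvPolynomial (Fin 2) k) :=
  Ideal.span ({F} ∪ Set.range (fun i : Fin 2 => MvPolynomial.pderiv i F))

lemma pderiv_zero_ι (P : k[X]) : MvPolynomial.pderiv (0 : Fin 2) (ι P) = ι (derivative P) := by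
  unfold ι
  rw [Derivation.map_aeval, MvPolynomial.pderiv_X_self, smul_eq_mul, mul_one]

lemma pderiv_one_ι (P : k[X]) : MvPolynomial.pderiv (1 : Fin 2) (ι P) = 0 := by
  unfold ι
  rw [Derivation.map_aeval, MvPolynomial.pderiv_X_of_ne (by decide), smul_zero]

/-- evaluation at a point of an extension field -/
noncomputable def evalAt {K : Type*} [Field K] [Algebra k K] (t w : K) :
    MvPolynomial (Fin 2) k →ₐ[k] K := MvPolynomial.aeval ![t, w]

lemma evalAt_ι {K : Type*} [Field K] [Algebra k K] (t w : K) (P : k[X]) :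
    evalAt t w (ι P) = Polynomial.aeval t P := by
  unfold evalAt ι
  rw [← Polynomial.aeval_algHom_apply]
  simp

lemma evalAt_X1 {K : Type*} [Field K] [Algebra k K] (t w : K) :
    evalAt (k := k) t w (MvPolynomial.X 1) = w := by
  unfold evalAt
  simp

/-- chart of the first kind -/
noncomputable def chartA (P R : k[X]) : MvPolynomial (Fin 2) k := ι P + ι R * MvPolynomial.X 1

/-- chart of the second kind -/
noncomputable def chartB (P R : k[X]) : MvPolynomial (Fin 2) k := ι P * MvPolynomial.X 1 + ι R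

lemma pderiv_one_chartA (P R : k[X]) : MvPolynomial.pderiv (1 : Fin 2) (chartA P R) = ι R := by
  unfold chartA
  rw [map_add, Derivation.leibniz, pderiv_one_ι, pderiv_one_ι, MvPolynomial.pderiv_X_self]
  simp

lemma pderiv_zero_chartA (P R : k[X]) : MvPolynomial.pderiv (0 : Fin 2) (chartA P R) =
    ι (derivative P) + ι (derivative R) * MvPolynomial.X 1 := by
  unfold chartA
  rw [map_add, Derivation.leibniz, pderiv_zero_ι, pderiv_zero_ι,
    MvPolynomial.pderiv_X_of_ne (by decide)]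
  simp [mul_comm]

lemma pderiv_one_chartB (P R : k[X]) : MvPolynomial.pderiv (1 : Fin 2) (chartB P R) = ι P := by
  unfold chartB
  rw [map_add, Derivation.leibniz, pderiv_one_ι, pderiv_one_ι, MvPolynomial.pderiv_X_self]
  simp

lemma pderiv_zero_chartB (P R : k[X]) : MvPolynomial.pderiv (0 : Fin 2) (chartB P R) =
    ι (derivative P) * MvPolynomial.X 1 + ι (derivative R) := by
  unfold chartB
  rw [map_add, Derivation.leibniz, pderiv_zero_ι, pderiv_zero_ι,
    MvPolynomial.pderiv_X_of_ne (by decide)]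
  simp [mul_comm]

lemma jacIdeal_chartA_of_isCoprime (P R : k[X]) (h : IsCoprime P R) :
    jacIdeal (chartA P R) = ⊤ := by
  obtain ⟨u, v, huv⟩ := h
  have hR : ι R ∈ jacIdeal (chartA P R) := by
    rw [← pderiv_one_chartA P R]
    exact Ideal.subset_span (Or.inr ⟨1, rfl⟩)
  have hF : chartA P R ∈ jacIdeal (chartA P R) := Ideal.subset_span (Or.inl rfl)
  have hP : ι P ∈ jacIdeal (chartA P R) := by
    have : ι P = chartA P R - ι R * MvPolynomial.X 1 := by unfold chartA; ring
    rw [this]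
    exact Ideal.sub_mem _ hF (Ideal.mul_mem_right _ _ hR)
  rw [Ideal.eq_top_iff_one]
  have : (1 : MvPolynomial (Fin 2) k) = ι u * ι P + ι v * ι R := by
    rw [← map_mul, ← map_mul, ← map_add, huv, map_one]
  rw [this]
  exact Ideal.add_mem _ (Ideal.mul_mem_left _ _ hP) (Ideal.mul_mem_left _ _ hR)

lemma jacIdeal_chartB_of_isCoprime (P R : k[X]) (h : IsCoprime P R) :
    jacIdeal (chartB P R) = ⊤ := by
  obtain ⟨u, v, huv⟩ := h
  have hP : ι P ∈ jacIdeal (chartB P R) := by
    rw [← pderiv_one_chartB P R]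
    exact Ideal.subset_span (Or.inr ⟨1, rfl⟩)
  have hF : chartB P R ∈ jacIdeal (chartB P R) := Ideal.subset_span (Or.inl rfl)
  have hR : ι R ∈ jacIdeal (chartB P R) := by
    have : ι R = chartB P R - ι P * MvPolynomial.X 1 := by unfold chartB; ring
    rw [this]
    exact Ideal.sub_mem _ hF (Ideal.mul_mem_right _ _ hP)
  rw [Ideal.eq_top_iff_one]
  have : (1 : MvPolynomial (Fin 2) k) = ι u * ι P + ι v * ι R := by
    rw [← map_mul, ← map_mul, ← map_add, huv, map_one]
  rw [this]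
  exact Ideal.add_mem _ (Ideal.mul_mem_left _ _ hP) (Ideal.mul_mem_left _ _ hR)

/-- if the Jacobian ideal is the unit ideal, some generator does not vanish at a given point -/
lemma exists_ne_zero_of_jacIdeal_eq_top {K : Type*} [Field K] [Algebra k K]
    (F : MvPolynomial (Fin 2) k) (h : jacIdeal F = ⊤) (t w : K)
    (hF : evalAt t w F = 0) (h1 : evalAt t w (MvPolynomial.pderiv 1 F) = 0) :
    evalAt t w (MvPolynomial.pderiv 0 F) ≠ 0 := by
  intro h0
  have hle : jacIdeal F ≤ RingHom.ker (evalAt (k := k) t w).toRingHom := by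
    unfold jacIdeal
    rw [Ideal.span_le]
    rintro x (hx | ⟨i, rfl⟩)
    · rw [Set.mem_singleton_iff.1 hx]
      exact hF
    · fin_cases i
      · exact h0
      · exact h1
  rw [h] at hle
  have : (1 : MvPolynomial (Fin 2) k) ∈ RingHom.ker (evalAt (k := k) t w).toRingHom :=
    hle trivial
  rw [RingHom.mem_ker] at this
  simp at this

lemma isCoprime_of_jacIdeal (P R : k[X]) (hA : jacIdeal (chartA P R) = ⊤)
    (hB : jacIdeal (chartB P R) = ⊤) : IsCoprime P R := by
  refine (Polynomial.isCoprime_iff_aeval_ne_zero_of_isAlgClosed k (AlgebraicClosure k) P R).2 ?_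
  intro t
  by_contra hcon
  push Not at hcon
  obtain ⟨hP, hR⟩ := hcon
  -- chart A
  have hA' : ∀ w : AlgebraicClosure k,
      Polynomial.aeval t (derivative P) + Polynomial.aeval t (derivative R) * w ≠ 0 := by
    intro w
    have := exists_ne_zero_of_jacIdeal_eq_top (chartA P R) hA t w
      (by unfold chartA; rw [map_add, map_mul, evalAt_ι, evalAt_ι, hP, hR]; simp)
      (by rw [pderiv_one_chartA, evalAt_ι, hR])
    rwa [pderiv_zero_chartA, map_add, map_mul, evalAt_ι, evalAt_ι, evalAt_X1] at this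
  have hB' : ∀ w : AlgebraicClosure k,
      Polynomial.aeval t (derivative P) * w + Polynomial.aeval t (derivative R) ≠ 0 := by
    intro w
    have := exists_ne_zero_of_jacIdeal_eq_top (chartB P R) hB t w
      (by unfold chartB; rw [map_add, map_mul, evalAt_ι, evalAt_ι, hP, hR]; simp)
      (by rw [pderiv_one_chartB, evalAt_ι, hP])
    rwa [pderiv_zero_chartB, map_add, map_mul, evalAt_ι, evalAt_ι, evalAt_X1] at this
  have hR' : Polynomial.aeval t (derivative R) ≠ 0 := by
    have := hB' 0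
    simpa using this
  apply hA' (-(Polynomial.aeval t (derivative P)) / Polynomial.aeval t (derivative R))
  field_simp
  ring

lemma isCoprime_X_pow_of_coeff_zero_ne_zero (f : k[X]) (hf : f.coeff 0 ≠ 0) (N : ℕ) :
    IsCoprime f (X ^ N) := by
  apply IsCoprime.pow_right
  refine ⟨C (f.coeff 0)⁻¹, -(C (f.coeff 0)⁻¹ * f.divX), ?_⟩
  have h := divX_mul_X_add f
  have h1 : C (f.coeff 0)⁻¹ * C (f.coeff 0) = (1 : k[X]) := by
    rw [← C_mul, inv_mul_cancel₀ hf, C_1]
  calc C (f.coeff 0)⁻¹ * f + -(C (f.coeff 0)⁻¹ * f.divX) * X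
      = C (f.coeff 0)⁻¹ * (f - f.divX * X) := by ring
    _ = C (f.coeff 0)⁻¹ * C (f.coeff 0) := by
        congr 1
        nth_rewrite 1 [← h]
        ring
    _ = 1 := h1

lemma coeff_ne_zero_of_resultant_ne_zero (Q Ξ : k[X]) (n : ℕ) (hQ : Q.natDegree ≤ 2)
    (hΞ : Ξ.natDegree ≤ n) (hn : 1 ≤ n) (hres : Q.resultant Ξ 2 n ≠ 0) :
    Q.coeff 2 ≠ 0 ∨ Ξ.coeff n ≠ 0 := by
  by_contra h
  push Not at h
  apply hres
  apply resultant_eq_zero_of_lt_lt
  · have := natDegree_le_pred hQ h.1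
    omega
  · have := natDegree_le_pred hΞ h.2
    omega

theorem isCoprime_of_resultant_ne_zero (Q Ξ : k[X]) (n : ℕ) (hQ : Q.natDegree ≤ 2)
    (hΞ : Ξ.natDegree ≤ n) (hn : 1 ≤ n) (hres : Q.resultant Ξ 2 n ≠ 0) :
    IsCoprime Q Ξ ∧ IsCoprime (reflect 2 Q) (reflect n Ξ) := by
  obtain ⟨p, q, hp, hq, e⟩ := exists_mul_add_mul_eq_C_resultant Q Ξ hQ hΞ (Or.inl two_ne_zero)
  set r := Q.resultant Ξ 2 n with hr
  have hCr : C r⁻¹ * C r = (1 : k[X]) := by rw [← C_mul, inv_mul_cancel₀ hres, C_1]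
  constructor
  · refine ⟨C r⁻¹ * p, C r⁻¹ * q, ?_⟩
    calc C r⁻¹ * p * Q + C r⁻¹ * q * Ξ = C r⁻¹ * (Q * p + Ξ * q) := by ring
      _ = 1 := by rw [e, hCr]
  · -- reflected Bezout identity
    have hpdeg : p.natDegree ≤ n - 1 := by
      by_cases hp0 : p = 0
      · simp [hp0]
      · have := (natDegree_lt_iff_degree_lt hp0).2 hp
        omega
    have hqdeg : q.natDegree ≤ 1 := by
      by_cases hq0 : q = 0
      · simp [hq0]
      · have := (natDegree_lt_iff_degree_lt hq0).2 hq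
        omega
    have e1 : reflect (2 + (n - 1)) (Q * p) = reflect 2 Q * reflect (n - 1) p :=
      reflect_mul Q p hQ hpdeg
    have hn1 : 2 + (n - 1) = n + 1 := by omega
    rw [hn1] at e1
    have e2 : reflect (n + 1) (Ξ * q) = reflect n Ξ * reflect 1 q :=
      reflect_mul Ξ q hΞ hqdeg
    have e3 : reflect 2 Q * reflect (n - 1) p + reflect n Ξ * reflect 1 q =
        C r * X ^ (n + 1) := by
      rw [← e1, ← e2, ← reflect_add, e, reflect_C]
    rcases coeff_ne_zero_of_resultant_ne_zero Q Ξ n hQ hΞ hn hres with h2 | h2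
    · -- constant coefficient of reflect 2 Q is nonzero
      have hc : (reflect 2 Q).coeff 0 ≠ 0 := by
        rw [coeff_reflect, revAt_le (by omega)]
        exact h2
      have h3 : IsCoprime (reflect 2 Q) (C r * X ^ (n + 1)) :=
        (isCoprime_mul_unit_left_right (isUnit_C.2 (IsUnit.mk0 r hres)) _ _).2
          (isCoprime_X_pow_of_coeff_zero_ne_zero _ hc (n + 1))
      rw [← e3, add_comm] at h3
      exact (IsCoprime.of_add_mul_left_right h3).of_mul_right_left
    · have hc : (reflect n Ξ).coeff 0 ≠ 0 := by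
        rw [coeff_reflect, revAt_le (by omega)]
        exact h2
      have h3 : IsCoprime (reflect n Ξ) (C r * X ^ (n + 1)) :=
        (isCoprime_mul_unit_left_right (isUnit_C.2 (IsUnit.mk0 r hres)) _ _).2
          (isCoprime_X_pow_of_coeff_zero_ne_zero _ hc (n + 1))
      rw [← e3] at h3
      exact ((IsCoprime.of_add_mul_left_right h3).of_mul_right_left).symm

theorem resultant_ne_zero_of_isCoprime (Q Ξ : k[X]) (n : ℕ) (hQ : Q.natDegree ≤ 2)
    (hΞ : Ξ.natDegree ≤ n) (h1 : IsCoprime Q Ξ)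
    (h2 : IsCoprime (reflect 2 Q) (reflect n Ξ)) : Q.resultant Ξ 2 n ≠ 0 := by
  have hcoef : Q.coeff 2 ≠ 0 ∨ Ξ.coeff n ≠ 0 := by
    by_contra h
    push Not at h
    obtain ⟨a, b, hab⟩ := h2
    have := congrArg (fun f => f.coeff 0) hab
    simp only [coeff_add, mul_coeff_zero, coeff_reflect, coeff_one_zero] at this
    rw [revAt_le (by omega), revAt_le (by omega)] at this
    simp only [Nat.sub_zero, h.1, h.2, mul_zero, add_zero] at this
    exact zero_ne_one this
  rcases hcoef with hc | hc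
  · have hd : Q.natDegree = 2 := le_antisymm hQ (le_natDegree_of_ne_zero hc)
    have hn : n = Ξ.natDegree + (n - Ξ.natDegree) := by omega
    rw [hn, resultant_add_right_deg Q Ξ 2 Ξ.natDegree _ le_rfl]
    apply mul_ne_zero (pow_ne_zero _ hc)
    have := resultant_ne_zero Q Ξ h1
    rwa [hd] at this
  · have hd : Ξ.natDegree = n := le_antisymm hΞ (le_natDegree_of_ne_zero hc)
    have h2' : 2 = Q.natDegree + (2 - Q.natDegree) := by omega
    rw [h2', resultant_add_left_deg Q Ξ Q.natDegree n _ le_rfl]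
    apply mul_ne_zero (mul_ne_zero (pow_ne_zero _ (by norm_num)) (pow_ne_zero _ hc))
    have := resultant_ne_zero Q Ξ h1
    rwa [hd] at this

/-- back to one variable: `X₀ ↦ X`, `X₁ ↦ c` -/
noncomputable def ρ (c : k) : MvPolynomial (Fin 2) k →ₐ[k] k[X] :=
  MvPolynomial.aeval ![X, C c]

lemma ρ_ι (c : k) (P : k[X]) : ρ c (ι P) = P := by
  unfold ρ ι
  rw [← Polynomial.aeval_algHom_apply]
  simp

lemma ρ_X1 (c : k) : ρ c (MvPolynomial.X 1) = C c := by
  unfold ρ
  simp

lemma chartA_ne_zero (P R : k[X]) (h : P ≠ 0 ∨ R ≠ 0) : chartA P R ≠ 0 := by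
  intro h0
  have h1 : P = 0 := by
    have := congrArg (ρ 0) h0
    simpa [chartA, ρ_ι, ρ_X1] using this
  have h2 : P + R = 0 := by
    have := congrArg (ρ 1) h0
    simpa [chartA, ρ_ι, ρ_X1] using this
  rw [h1, zero_add] at h2
  rcases h with h | h
  · exact h h1
  · exact h h2

lemma chartB_ne_zero (P R : k[X]) (h : P ≠ 0 ∨ R ≠ 0) : chartB P R ≠ 0 := by
  intro h0
  have h1 : R = 0 := by
    have := congrArg (ρ 0) h0
    simpa [chartB, ρ_ι, ρ_X1] using this
  have h2 : P + R = 0 := by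
    have := congrArg (ρ 1) h0
    simpa [chartB, ρ_ι, ρ_X1] using this
  rw [h1, add_zero] at h2
  rcases h with h | h
  · exact h h2
  · exact h h1

/-- the polynomial with given coefficient vector -/
noncomputable def polyOf {N : ℕ} (c : Fin N → k) : k[X] := ∑ j : Fin N, C (c j) * X ^ (j : ℕ)

lemma natDegree_polyOf_le {N : ℕ} (c : Fin N → k) : (polyOf c).natDegree ≤ N - 1 := by
  unfold polyOf
  apply natDegree_sum_le_of_forall_le
  intro j _
  refine (natDegree_C_mul_X_pow_le _ _).trans ?_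
  have := j.2
  omega

lemma coeff_polyOf {N : ℕ} (c : Fin N → k) (j : Fin N) : (polyOf c).coeff j = c j := by
  unfold polyOf
  rw [finsetSum_coeff]
  simp only [coeff_C_mul_X_pow]
  rw [Finset.sum_eq_single j]
  · simp
  · intro i _ hij
    rw [if_neg]
    intro h
    exact hij (Fin.ext h.symm)
  · intro h
    exact absurd (Finset.mem_univ j) h

lemma polyOf_ne_zero {N : ℕ} (c : Fin N → k) (hc : c ≠ 0) : polyOf c ≠ 0 := by
  intro h
  apply hc
  funext j
  rw [← coeff_polyOf c j, h]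
  simp

lemma ι_polyOf {N : ℕ} (c : Fin N → k) :
    ι (polyOf c) = ∑ j : Fin N, MvPolynomial.C (c j) * MvPolynomial.X 0 ^ (j : ℕ) := by
  unfold polyOf ι
  rw [map_sum]
  apply Finset.sum_congr rfl
  intro j _
  rw [map_mul, map_pow, aeval_C, aeval_X]
  rfl

lemma reflect_polyOf {N : ℕ} (c : Fin N → k) (m : ℕ) (hm : N ≤ m + 1) :
    reflect m (polyOf c) = ∑ j : Fin N, C (c j) * X ^ (m - (j : ℕ)) := by
  unfold polyOf
  have : ∀ (s : Finset (Fin N)), reflect m (∑ j ∈ s, C (c j) * X ^ (j : ℕ)) =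
      ∑ j ∈ s, C (c j) * X ^ (m - (j : ℕ)) := by
    intro s
    induction s using Finset.induction_on with
    | empty => simp
    | insert a s ha ih =>
      rw [Finset.sum_insert ha, Finset.sum_insert ha, reflect_add, ih, reflect_C_mul_X_pow,
        revAt_le (by have := a.2; omega)]
  exact this Finset.univ

lemma ι_reflect_polyOf {N : ℕ} (c : Fin N → k) (m : ℕ) (hm : N ≤ m + 1) :
    ι (reflect m (polyOf c)) =
      ∑ j : Fin N, MvPolynomial.C (c j) * MvPolynomial.X 0 ^ (m - (j : ℕ)) := by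
  rw [reflect_polyOf c m hm]
  unfold ι
  rw [map_sum]
  apply Finset.sum_congr rfl
  intro j _
  rw [map_mul, map_pow, aeval_C, aeval_X]
  rfl


lemma smooth_iff_jacIdeal (F : MvPolynomial (Fin 2) k) (hF : F ≠ 0) :
    Algebra.Smooth k (MvPolynomial (Fin 2) k ⧸ Ideal.span {F}) ↔ jacIdeal F = ⊤ :=
  ⟨fun h => jac_of_formallySmooth F hF h.1, fun h => smooth_of_jac F h⟩

/-- the four charts are smooth iff the resultant does not vanish. -/
theorem charts_smooth_iff_resultant_ne_zero (n : ℕ) (hn : 1 ≤ n) (q : Fin 3 → k)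
    (ξ : Fin (n + 1) → k) (hqξ : q ≠ 0 ∨ ξ ≠ 0) :
    (Algebra.Smooth k (MvPolynomial (Fin 2) k ⧸ Ideal.span ({(∑ i : Fin 3, MvPolynomial.C (q i) * MvPolynomial.X 0 ^ (i : ℕ)) + (∑ j : Fin (n + 1), MvPolynomial.C (ξ j) * MvPolynomial.X 0 ^ (j : ℕ)) * MvPolynomial.X 1} : Set (MvPolynomial (Fin 2) k))) ∧
      Algebra.Smooth k (MvPolynomial (Fin 2) k ⧸ Ideal.span ({(∑ i : Fin 3, MvPolynomial.C (q i) * MvPolynomial.X 0 ^ (i : ℕ)) * MvPolynomial.X 1 + (∑ j : Fin (n + 1), MvPolynomial.C (ξ j) * MvPolynomial.X 0 ^ (j : ℕ))} : Set (MvPolynomial (Fin 2) k))) ∧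
      Algebra.Smooth k (MvPolynomial (Fin 2) k ⧸ Ideal.span ({(∑ i : Fin 3, MvPolynomial.C (q i) * MvPolynomial.X 0 ^ (2 - (i : ℕ))) + (∑ j : Fin (n + 1), MvPolynomial.C (ξ j) * MvPolynomial.X 0 ^ (n - (j : ℕ))) * MvPolynomial.X 1} : Set (MvPolynomial (Fin 2) k))) ∧
      Algebra.Smooth k (MvPolynomial (Fin 2) k ⧸ Ideal.span ({(∑ i : Fin 3, MvPolynomial.C (q i) * MvPolynomial.X 0 ^ (2 - (i : ℕ))) * MvPolynomial.X 1 + (∑ j : Fin (n + 1), MvPolynomial.C (ξ j) * MvPolynomial.X 0 ^ (n - (j : ℕ)))} : Set (MvPolynomial (Fin 2) k)))) ↔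
    Polynomial.resultant (∑ i : Fin 3, Polynomial.C (q i) * Polynomial.X ^ (i : ℕ))
      (∑ j : Fin (n + 1), Polynomial.C (ξ j) * Polynomial.X ^ (j : ℕ)) 2 n ≠ 0 := by
  have hQdeg : (polyOf q).natDegree ≤ 2 := natDegree_polyOf_le q
  have hΞdeg : (polyOf ξ).natDegree ≤ n := by simpa using natDegree_polyOf_le ξ
  have e1 : (∑ i : Fin 3, MvPolynomial.C (q i) * MvPolynomial.X 0 ^ (i : ℕ)) +
      (∑ j : Fin (n + 1), MvPolynomial.C (ξ j) * MvPolynomial.X 0 ^ (j : ℕ)) * MvPolynomial.X 1 =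
      chartA (polyOf q) (polyOf ξ) := by
    unfold chartA
    rw [ι_polyOf, ι_polyOf]
  have e2 : (∑ i : Fin 3, MvPolynomial.C (q i) * MvPolynomial.X 0 ^ (i : ℕ)) * MvPolynomial.X 1 +
      (∑ j : Fin (n + 1), MvPolynomial.C (ξ j) * MvPolynomial.X 0 ^ (j : ℕ)) =
      chartB (polyOf q) (polyOf ξ) := by
    unfold chartB
    rw [ι_polyOf, ι_polyOf]
  have e3 : (∑ i : Fin 3, MvPolynomial.C (q i) * MvPolynomial.X 0 ^ (2 - (i : ℕ))) +
      (∑ j : Fin (n + 1), MvPolynomial.C (ξ j) * MvPolynomial.X 0 ^ (n - (j : ℕ))) *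
        MvPolynomial.X 1 =
      chartA (reflect 2 (polyOf q)) (reflect n (polyOf ξ)) := by
    unfold chartA
    rw [ι_reflect_polyOf q 2 le_rfl, ι_reflect_polyOf ξ n le_rfl]
  have e4 : (∑ i : Fin 3, MvPolynomial.C (q i) * MvPolynomial.X 0 ^ (2 - (i : ℕ))) *
        MvPolynomial.X 1 +
      (∑ j : Fin (n + 1), MvPolynomial.C (ξ j) * MvPolynomial.X 0 ^ (n - (j : ℕ))) =
      chartB (reflect 2 (polyOf q)) (reflect n (polyOf ξ)) := by
    unfold chartB
    rw [ι_reflect_polyOf q 2 le_rfl, ι_reflect_polyOf ξ n le_rfl]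
  rw [e1, e2, e3, e4]
  change _ ↔ (polyOf q).resultant (polyOf ξ) 2 n ≠ 0
  have hne : polyOf q ≠ 0 ∨ polyOf ξ ≠ 0 := hqξ.imp (polyOf_ne_zero q) (polyOf_ne_zero ξ)
  have hne' : reflect 2 (polyOf q) ≠ 0 ∨ reflect n (polyOf ξ) ≠ 0 :=
    hne.imp (fun h => by rwa [Ne, reflect_eq_zero_iff]) (fun h => by rwa [Ne, reflect_eq_zero_iff])
  rw [smooth_iff_jacIdeal _ (chartA_ne_zero _ _ hne), smooth_iff_jacIdeal _ (chartB_ne_zero _ _ hne),
    smooth_iff_jacIdeal _ (chartA_ne_zero _ _ hne'),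
    smooth_iff_jacIdeal _ (chartB_ne_zero _ _ hne')]
  constructor
  · rintro ⟨h1, h2, h3, h4⟩
    exact resultant_ne_zero_of_isCoprime _ _ n hQdeg hΞdeg (isCoprime_of_jacIdeal _ _ h1 h2)
      (isCoprime_of_jacIdeal _ _ h3 h4)
  · intro hres
    obtain ⟨hc1, hc2⟩ := isCoprime_of_resultant_ne_zero _ _ n hQdeg hΞdeg hn hres
    exact ⟨jacIdeal_chartA_of_isCoprime _ _ hc1, jacIdeal_chartB_of_isCoprime _ _ hc1,
      jacIdeal_chartA_of_isCoprime _ _ hc2, jacIdeal_chartB_of_isCoprime _ _ hc2⟩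

end Groth.Agent.Lib.Seat94.PlaneJac
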