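import Mathlib

/-!
# Seat94: global sections of a proper variety

* `minpoly_one_tmul`: minimal polynomials are stable under base change of fields.
* `isSeparable_of_isReduced_tensor`, `isPurelyInseparable_of_tensor`: criteria for an algebraic
  field extension `A/F` to be separable / purely inseparable in terms of `L ⊗_F A`.
* `exists_injective_tensor`: flat base change of global sections (injectivity), tensor form.
* `main`: `Γ(X, O_X)` of a proper integral `k`-scheme is a finite field extension of `k`, separable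
  if `X` is geometrically reduced, purely inseparable if `X` is geometrically irreducible.
-/

set_option autoImplicit false
set_option linter.style.haveILetI false
open CategoryTheory CategoryTheory.Limits AlgebraicGeometry TensorProduct Polynomial
universe u

namespace Groth.Agent.Lib.Seat94.ProperVar

/-- minimal polynomials are stable under base change of fields. -/
theorem minpoly_one_tmul {F A L : Type*} [Field F] [Field L] [CommRing A] [Algebra F A]
    [Algebra F L] (x : A) (hx : IsIntegral F x) :
    minpoly L ((1 : L) ⊗ₜ[F] x) = (minpoly F x).map (algebraMap F L) := by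
  symm
  have hmonic : ((minpoly F x).map (algebraMap F L)).Monic := (minpoly.monic hx).map _
  have hdeg : ((minpoly F x).map (algebraMap F L)).natDegree = (minpoly F x).natDegree :=
    natDegree_map _
  apply minpoly.unique' L _ hmonic
  · rw [aeval_map_algebraMap]
    have : (1 : L) ⊗ₜ[F] x = (Algebra.TensorProduct.includeRight : A →ₐ[F] L ⊗[F] A) x := rfl
    rw [this, aeval_algHom_apply, minpoly.aeval, map_zero]
  · intro q hq
    by_contra hcon
    push Not at hcon
    obtain ⟨hq0, hq1⟩ := hcon
    apply hq0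
    have hlt : q.natDegree < (minpoly F x).natDegree := by
      rw [← hdeg]
      exact natDegree_lt_natDegree hq0 hq
    have hli : LinearIndependent L fun i : Fin (minpoly F x).natDegree =>
        (1 : L) ⊗ₜ[F] (x ^ (i : ℕ)) :=
      Module.Flat.linearIndependent_one_tmul (linearIndependent_pow x)
    rw [aeval_eq_sum_range' hlt, Finset.sum_range] at hq1
    have hq2 : ∑ i : Fin (minpoly F x).natDegree, q.coeff i • ((1 : L) ⊗ₜ[F] (x ^ (i : ℕ))) = 0 := by
      rw [← hq1]
      refine Finset.sum_congr rfl fun i _ => ?_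
      rw [Algebra.TensorProduct.tmul_pow, one_pow]
    have hc := Fintype.linearIndependent_iff.mp hli (fun i => q.coeff i) hq2
    ext n
    rw [coeff_zero]
    by_cases hn : n < (minpoly F x).natDegree
    · exact hc ⟨n, hn⟩
    · exact coeff_eq_zero_of_natDegree_lt (lt_of_lt_of_le hlt (not_lt.mp hn))

/-- an algebraic field extension `A/F` such that `L ⊗_F A` is reduced for some perfect field
extension `L/F` is separable. -/
theorem isSeparable_of_isReduced_tensor {F A L : Type*} [Field F] [Field L] [Field A]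
    [Algebra F A] [Algebra F L] [Algebra.IsAlgebraic F A] [PerfectField L]
    [IsReduced (L ⊗[F] A)] : Algebra.IsSeparable F A := by
  refine ⟨fun x => ?_⟩
  have hx : IsIntegral F x := Algebra.IsIntegral.isIntegral x
  have h1 : IsRadical (minpoly L ((1 : L) ⊗ₜ[F] x)) := minpoly.isRadical L _
  rw [minpoly_one_tmul x hx] at h1
  have hne : (minpoly F x).map (algebraMap F L) ≠ 0 :=
    ((minpoly.monic hx).map _).ne_zero
  have h2 : ((minpoly F x).map (algebraMap F L)).Separable :=
    PerfectField.separable_iff_squarefree.mpr ((isRadical_iff_squarefree_of_ne_zero hne).mp h1)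
  exact (separable_map (algebraMap F L)).mp h2

/-- an algebraic field extension `A/F` such that `L ⊗_F A` has "irreducible spectrum" (a product is
zero only if one factor is nilpotent) for some algebraically closed extension `L/F` is purely
inseparable. -/
theorem isPurelyInseparable_of_tensor {F A L : Type*} [Field F] [Field L] [Field A]
    [Algebra F A] [Algebra F L] [Algebra.IsAlgebraic F A] [IsAlgClosed L]
    (hirr : ∀ a b : L ⊗[F] A, a * b = 0 → IsNilpotent a ∨ IsNilpotent b) :
    IsPurelyInseparable F A := by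
  rw [isPurelyInseparable_iff]
  intro x
  have hx : IsIntegral F x := Algebra.IsIntegral.isIntegral x
  refine ⟨hx, fun hsep => ?_⟩
  -- the minimal polynomial over `L`
  set m := minpoly F x with hm
  set b : L ⊗[F] A := (1 : L) ⊗ₜ[F] x with hb
  have hmb : minpoly L b = m.map (algebraMap F L) := minpoly_one_tmul x hx
  have hsepL : (m.map (algebraMap F L)).Separable := Polynomial.Separable.map hsep
  have hmonic : (m.map (algebraMap F L)).Monic := (minpoly.monic hx).map _
  have hdegpos : 0 < (m.map (algebraMap F L)).degree := by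
    rw [degree_map]; exact minpoly.degree_pos hx
  obtain ⟨r, hr⟩ := IsAlgClosed.exists_root (m.map (algebraMap F L)) hdegpos.ne'
  obtain ⟨q, hq⟩ := dvd_iff_isRoot.mpr hr
  -- (X - r) and q are coprime
  have hcop : IsCoprime (X - C r) q := by
    rw [hq] at hsepL
    exact hsepL.isCoprime
  have hzero : aeval b (X - C r) * aeval b q = 0 := by
    rw [← map_mul, ← hq, ← hmb, minpoly.aeval]
  have hXr : ¬ IsUnit (X - C r : L[X]) := not_isUnit_X_sub_C r
  have hqunit : IsUnit q := by
    rcases hirr _ _ hzero with ⟨n, hn⟩ | ⟨n, hn⟩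
    · rw [← map_pow] at hn
      have hdvd : (X - C r) * q ∣ (X - C r) ^ n := by
        rw [← hq, ← hmb]; exact minpoly.dvd L b hn
      exact (hcop.pow_left (m := n)).isUnit_of_dvd' (dvd_of_mul_left_dvd hdvd) dvd_rfl
    · rw [← map_pow] at hn
      have hdvd : (X - C r) * q ∣ q ^ n := by
        rw [← hq, ← hmb]; exact minpoly.dvd L b hn
      exact absurd ((hcop.pow_right (n := n)).isUnit_of_dvd' dvd_rfl
        (dvd_of_mul_right_dvd hdvd)) hXr
  have hdeg : m.degree = 1 := by
    have h1 : (m.map (algebraMap F L)).degree = 1 := by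
      rw [hq, degree_mul, degree_X_sub_C, degree_eq_zero_of_isUnit hqunit, add_zero]
    rwa [degree_map] at h1
  exact minpoly.mem_range_of_degree_eq_one F x hdeg

theorem isSeparable_of_injective_tensor {F A L C : Type*} [Field F] [Field L] [Field A]
    [CommRing C] [Algebra F A] [Algebra F L] [Algebra.IsAlgebraic F A] [PerfectField L]
    (ψ : A ⊗[F] L →+* C) (hψ : Function.Injective ψ) [IsReduced C] :
    Algebra.IsSeparable F A := by
  have h1 : IsReduced (A ⊗[F] L) := isReduced_of_injective ψ hψ
  have h2 : IsReduced (L ⊗[F] A) :=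
    isReduced_of_injective (Algebra.TensorProduct.comm F L A).toRingEquiv.toRingHom
      (Algebra.TensorProduct.comm F L A).injective
  exact isSeparable_of_isReduced_tensor (L := L)

theorem isPurelyInseparable_of_injective_tensor {F A L C : Type*} [Field F] [Field L] [Field A]
    [CommRing C] [Algebra F A] [Algebra F L] [Algebra.IsAlgebraic F A] [IsAlgClosed L]
    (ψ : A ⊗[F] L →+* C) (hψ : Function.Injective ψ)
    (hC : ∀ a b : C, a * b = 0 → IsNilpotent a ∨ IsNilpotent b) :
    IsPurelyInseparable F A := by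
  apply isPurelyInseparable_of_tensor (L := L)
  intro a b hab
  let χ : L ⊗[F] A →+* C := ψ.comp (Algebra.TensorProduct.comm F L A).toRingEquiv.toRingHom
  have hχ : Function.Injective χ := hψ.comp (Algebra.TensorProduct.comm F L A).injective
  have h0 : χ a * χ b = 0 := by rw [← map_mul, hab, map_zero]
  rcases hC _ _ h0 with ⟨n, hn⟩ | ⟨n, hn⟩
  · left; exact ⟨n, hχ (by rw [map_pow, hn, map_zero])⟩
  · right; exact ⟨n, hχ (by rw [map_pow, hn, map_zero])⟩

theorem appLE_top_top {X Y : Scheme.{u}} (f : X ⟶ Y) (e : (⊤ : X.Opens) ≤ f ⁻¹ᵁ ⊤) :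
    f.appLE ⊤ ⊤ e = f.appTop :=
  Scheme.Hom.appLE_eq_app f

/-- flat base change for global sections, injectivity, in tensor product form. -/
theorem exists_injective_tensor {S T X Z : Scheme.{u}} {p : X ⟶ S} {y : T ⟶ S} {fst : Z ⟶ X}
    {snd : Z ⟶ T} (H : IsPullback fst snd p y) [Flat y] [IsAffine S] [IsAffine T]
    [CompactSpace X] :
    letI := p.appTop.hom.toAlgebra
    letI := y.appTop.hom.toAlgebra
    ∃ ψ : (Γ(X, ⊤) ⊗[Γ(S, ⊤)] Γ(T, ⊤)) →+* Γ(Z, ⊤), Function.Injective ψ ∧
      (∀ a : Γ(X, ⊤), ψ (a ⊗ₜ 1) = fst.appTop.hom a) ∧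
      (∀ b : Γ(T, ⊤), ψ (1 ⊗ₜ b) = snd.appTop.hom b) := by
  letI := p.appTop.hom.toAlgebra
  letI := y.appTop.hom.toAlgebra
  have hmono := mono_pushoutSection_of_isCompact_of_flat_right H (US := ⊤) (UT := ⊤) (UX := ⊤)
    (UY := ⊤) (by simp) (by simp) (by simp) (isAffineOpen_top S) (isAffineOpen_top T)
    CompactSpace.isCompact_univ
  have P := CommRingCat.isPushout_tensorProduct Γ(S, ⊤) Γ(X, ⊤) Γ(T, ⊤)
  have hα : CommRingCat.ofHom (algebraMap Γ(S, ⊤) Γ(X, ⊤)) = p.appLE ⊤ ⊤ (by simp) :=
    (appLE_top_top p _).symm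
  have hβ : CommRingCat.ofHom (algebraMap Γ(S, ⊤) Γ(T, ⊤)) = y.appLE ⊤ ⊤ (by simp) :=
    (appLE_top_top y _).symm
  rw [hα, hβ] at P
  let θ := P.isoPushout
  let Ψ : CommRingCat.of (Γ(X, ⊤) ⊗[Γ(S, ⊤)] Γ(T, ⊤)) ⟶ Γ(Z, ⊤) :=
    θ.hom ≫ pushoutSection H (by simp) (by simp) (by simp)
  have hΨ : Mono Ψ := mono_comp _ _
  refine ⟨Ψ.hom, ConcreteCategory.injective_of_mono_of_preservesPullback Ψ, fun a => ?_,
    fun b => ?_⟩
  · have h1 : CommRingCat.ofHom (Algebra.TensorProduct.includeLeftRingHom
        (R := Γ(S, ⊤)) (A := Γ(X, ⊤)) (B := Γ(T, ⊤))) ≫ Ψ = fst.appTop := by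
      simp only [Ψ, θ]
      rw [P.inl_isoPushout_hom_assoc, pushout.inl_desc, appLE_top_top]
    exact congr($(h1).hom a)
  · have h1 : CommRingCat.ofHom (Algebra.TensorProduct.includeRight
        (R := Γ(S, ⊤)) (A := Γ(X, ⊤)) (B := Γ(T, ⊤))).toRingHom ≫ Ψ = snd.appTop := by
      simp only [Ψ, θ]
      rw [P.inr_isoPushout_hom_assoc, pushout.inr_desc, appLE_top_top]
    exact congr($(h1).hom b)

/-- on a quasi-compact irreducible scheme, a product of global sections vanishes only if one of
the factors is nilpotent. -/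
theorem isNilpotent_or_of_mul_eq_zero {Z : Scheme.{u}} [IrreducibleSpace Z] [CompactSpace Z]
    (a b : Γ(Z, ⊤)) (hab : a * b = 0) : IsNilpotent a ∨ IsNilpotent b := by
  rw [Scheme.isNilpotent_iff_basicOpen_eq_bot, Scheme.isNilpotent_iff_basicOpen_eq_bot]
  by_contra hcon
  push Not at hcon
  obtain ⟨ha, hb⟩ := hcon
  have h1 : ((Z.basicOpen a : Set Z) ∩ (Z.basicOpen b : Set Z)).Nonempty :=
    nonempty_preirreducible_inter (Z.basicOpen a).isOpen (Z.basicOpen b).isOpen
      ((TopologicalSpace.Opens.coe_eq_empty.not.mpr ha) |> Set.nonempty_iff_ne_empty.mpr)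
      ((TopologicalSpace.Opens.coe_eq_empty.not.mpr hb) |> Set.nonempty_iff_ne_empty.mpr)
  have h2 : Z.basicOpen a ⊓ Z.basicOpen b = ⊥ := by
    rw [← Scheme.basicOpen_mul, hab, Scheme.basicOpen_zero]
  rw [← TopologicalSpace.Opens.coe_inf, h2] at h1
  simp at h1

/-- the base change data -/
theorem main_aux (k : Type u) [Field k] (X : Scheme.{u}) (p : X ⟶ Spec (CommRingCat.of k))
    [IsIntegral X] [IsProper p] :
    letI := p.appTop.hom.toAlgebra
    letI := ((Scheme.ΓSpecIso (.of k)).commRingCatIsoToRingEquiv.toMulEquiv.isField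
      (Field.toIsField k)).toField
    letI := (isField_of_universallyClosed k p).toField
    (GeometricallyReduced p → Algebra.IsSeparable Γ(Spec (CommRingCat.of k), ⊤) Γ(X, ⊤)) ∧
    (GeometricallyIrreducible p → IsPurelyInseparable Γ(Spec (CommRingCat.of k), ⊤) Γ(X, ⊤)) := by
  letI algA := p.appTop.hom.toAlgebra
  letI fR := ((Scheme.ΓSpecIso (.of k)).commRingCatIsoToRingEquiv.toMulEquiv.isField
      (Field.toIsField k)).toField
  letI fA := (isField_of_universallyClosed k p).toField
  let L := AlgebraicClosure k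
  let T := Spec (CommRingCat.of L)
  let y : T ⟶ Spec (CommRingCat.of k) := Spec.map (CommRingCat.ofHom (algebraMap k L))
  letI fB : Field Γ(T, ⊤) := ((Scheme.ΓSpecIso (.of L)).commRingCatIsoToRingEquiv.toMulEquiv.isField
      (Field.toIsField L)).toField
  haveI acB : IsAlgClosed Γ(T, ⊤) :=
    IsAlgClosed.of_ringEquiv L Γ(T, ⊤) (Scheme.ΓSpecIso (.of L)).commRingCatIsoToRingEquiv.symm
  letI algB : Algebra Γ(Spec (CommRingCat.of k), ⊤) Γ(T, ⊤) := y.appTop.hom.toAlgebra
  have hfin : Module.Finite Γ(Spec (CommRingCat.of k), ⊤) Γ(X, ⊤) :=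
    finite_appTop_of_universallyClosed k p
  haveI : Algebra.IsAlgebraic Γ(Spec (CommRingCat.of k), ⊤) Γ(X, ⊤) := Algebra.IsAlgebraic.of_finite _ _
  haveI : Flat y := by
    rw [HasRingHomProperty.Spec_iff (P := @Flat)]
    delta RingHom.Flat
    infer_instance
  haveI : CompactSpace X := QuasiCompact.compactSpace_of_compactSpace p
  let Z := pullback p y
  have H : IsPullback (pullback.fst p y) (pullback.snd p y) p y := .of_hasPullback p y
  obtain ⟨ψ, hψ, -, -⟩ := exists_injective_tensor H
  haveI : CompactSpace Z := QuasiCompact.compactSpace_of_compactSpace (pullback.snd p y)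
  refine ⟨fun hred => ?_, fun hirr => ?_⟩
  · haveI : IsReduced Z := hred.geometrically_isReduced y _ _ H
    exact isSeparable_of_injective_tensor ψ hψ
  · haveI : IrreducibleSpace Z := hirr.geometrically_irreducibleSpace y _ _ H
    exact isPurelyInseparable_of_injective_tensor ψ hψ isNilpotent_or_of_mul_eq_zero

/-- `Γ(X, O_X)` of a proper integral `k`-scheme is a finite field extension of `k`, separable if `X`
is geometrically reduced, purely inseparable if `X` is geometrically irreducible. -/
theorem main (k : Type u) [Field k] (X : Scheme.{u}) (p : X ⟶ Spec (CommRingCat.of k))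
    [IsIntegral X] [IsProper p] :
    letI := (p.appTop.hom.comp (Scheme.ΓSpecIso (CommRingCat.of k)).inv.hom :
      k →+* Γ(X, ⊤)).toAlgebra
    IsField ↑Γ(X, ⊤) ∧ Module.Finite k ↑Γ(X, ⊤) ∧
      (GeometricallyReduced p → Algebra.IsSeparable k ↑Γ(X, ⊤)) ∧
      (GeometricallyIrreducible p → IsPurelyInseparable k ↑Γ(X, ⊤)) := by
  letI algk := (p.appTop.hom.comp (Scheme.ΓSpecIso (CommRingCat.of k)).inv.hom :
      k →+* Γ(X, ⊤)).toAlgebra
  have hF : IsField Γ(X, ⊤) := isField_of_universallyClosed k p
  have hfin : Module.Finite k Γ(X, ⊤) := by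
    have h1 : p.appTop.hom.Finite := finite_appTop_of_universallyClosed k p
    have h2 : (Scheme.ΓSpecIso (CommRingCat.of k)).inv.hom.Finite :=
      RingHom.Finite.of_surjective _
        (ConcreteCategory.bijective_of_isIso (Scheme.ΓSpecIso (CommRingCat.of k)).inv).2
    exact h1.comp h2
  refine ⟨hF, hfin, ?_, ?_⟩
  · intro hred
    letI algA := p.appTop.hom.toAlgebra
    letI fR := ((Scheme.ΓSpecIso (.of k)).commRingCatIsoToRingEquiv.toMulEquiv.isField
      (Field.toIsField k)).toField
    letI fA := (isField_of_universallyClosed k p).toField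
    have h3 := (main_aux k X p).1 hred
    refine Algebra.IsSeparable.of_equiv_equiv
      (Scheme.ΓSpecIso (.of k)).commRingCatIsoToRingEquiv (RingEquiv.refl Γ(X, ⊤)) ?_
    ext x
    simp only [RingHom.algebraMap_toAlgebra, RingHom.coe_comp, RingHom.coe_coe, Function.comp_apply,
      RingEquiv.refl_apply]
    congr 1
    exact (Scheme.ΓSpecIso (CommRingCat.of k)).commRingCatIsoToRingEquiv.symm_apply_apply x
  · intro hirr
    letI algA := p.appTop.hom.toAlgebra
    letI fR := ((Scheme.ΓSpecIso (.of k)).commRingCatIsoToRingEquiv.toMulEquiv.isField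
      (Field.toIsField k)).toField
    letI fA := (isField_of_universallyClosed k p).toField
    have h4 := (main_aux k X p).2 hirr
    have : Algebra.IsIntegral k Γ(X, ⊤) := Algebra.IsIntegral.of_finite k _
    rw [isPurelyInseparable_iff]
    intro x
    refine ⟨Algebra.IsIntegral.isIntegral x, fun hsep => ?_⟩
    have hsepR : IsSeparable Γ(Spec (CommRingCat.of k), ⊤) x := by
      refine IsSeparable.of_equiv_equiv
        (Scheme.ΓSpecIso (.of k)).commRingCatIsoToRingEquiv.symm (RingEquiv.refl Γ(X, ⊤)) ?_ hsep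
      ext x
      simp only [RingHom.algebraMap_toAlgebra, RingHom.coe_comp, RingHom.coe_coe,
        Function.comp_apply, RingEquiv.refl_apply]
      rfl
    obtain ⟨r, hr⟩ := h4.inseparable' x hsepR
    refine ⟨(Scheme.ΓSpecIso (.of k)).commRingCatIsoToRingEquiv r, ?_⟩
    rw [← hr]
    simp only [RingHom.algebraMap_toAlgebra, RingHom.coe_comp, Function.comp_apply]
    congr 1
    exact (Scheme.ΓSpecIso (CommRingCat.of k)).commRingCatIsoToRingEquiv.symm_apply_apply r

end Groth.Agent.Lib.Seat94.ProperVar
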