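import Mathlib
import Groth.Agent.Lib.Seat94EtStrat

/-!
# Decomposing a quasi-finite morphism after a surjective affine base change (seat 94)

For `f : Y ⟶ X` quasi-finite of finite presentation between affine schemes there is an affine
`X' ⟶ X`, surjective, such that `X' ×_X Y` contains a closed subscheme with the same underlying
space that is finite étale over `X'`.  We take `X' = Spec ∏ κ̄(x)` over a finite family of strata
over which `f` becomes finite.
-/

set_option autoImplicit false
universe u
open CategoryTheory CategoryTheory.Limits AlgebraicGeometry Opposite TensorProduct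

namespace Groth.Agent.Lib.Seat94.QfDecomp

section PiTensor

variable (A : Type u) [CommRing A] {Λ : Type u} (K : Λ → Type u) [∀ x, CommRing (K x)]
  [∀ x, Algebra A (K x)]

/-- The comparison map `(∏ K x) ⊗ M → ∏ (K x ⊗ M)`. -/
noncomputable def piTensorHom (M : Type u) [AddCommGroup M] [Module A M] :
    (∀ x, K x) ⊗[A] M →ₗ[A] ∀ x, K x ⊗[A] M :=
  LinearMap.pi fun x => LinearMap.rTensor M (LinearMap.proj x)

@[simp]
lemma piTensorHom_tmul (M : Type u) [AddCommGroup M] [Module A M] (r : ∀ x, K x) (m : M)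
    (x : Λ) : piTensorHom A K M (r ⊗ₜ m) x = r x ⊗ₜ m := rfl

lemma piTensorHom_lTensor {M M' : Type u} [AddCommGroup M] [Module A M] [AddCommGroup M']
    [Module A M'] (f : M →ₗ[A] M') (z : (∀ x, K x) ⊗[A] M) (x : Λ) :
    piTensorHom A K M' (LinearMap.lTensor _ f z) x =
      LinearMap.lTensor (K x) f (piTensorHom A K M z x) := by
  induction z using TensorProduct.induction_on with
  | zero => simp
  | tmul r m => simp
  | add a b ha hb => simp only [map_add, Pi.add_apply, ha, hb]

lemma piScalarRight_piTensorHom (k : ℕ) (z : (∀ x, K x) ⊗[A] (Fin k → A)) (x : Λ) (j : Fin k) :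
    TensorProduct.piScalarRight A A (K x) (Fin k) (piTensorHom A K (Fin k → A) z x) j =
      TensorProduct.piScalarRight A A (∀ x, K x) (Fin k) z j x := by
  induction z using TensorProduct.induction_on with
  | zero => simp
  | tmul r m => simp
  | add a b ha hb => simp only [map_add, Pi.add_apply, ha, hb]

lemma piTensorHom_fin_bijective (k : ℕ) :
    Function.Bijective (piTensorHom A K (Fin k → A)) := by
  constructor
  · rw [injective_iff_map_eq_zero]
    intro z hz
    apply (TensorProduct.piScalarRight A A (∀ x, K x) (Fin k)).injective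
    rw [map_zero]
    ext j x
    rw [← piScalarRight_piTensorHom, hz]
    simp
  · intro w
    refine ⟨(TensorProduct.piScalarRight A A (∀ x, K x) (Fin k)).symm
      (fun j x => TensorProduct.piScalarRight A A (K x) (Fin k) (w x) j), ?_⟩
    ext1 x
    apply (TensorProduct.piScalarRight A A (K x) (Fin k)).injective
    ext j
    rw [piScalarRight_piTensorHom, LinearEquiv.apply_symm_apply]

theorem piTensorHom_injective (M : Type u) [AddCommGroup M] [Module A M]
    [Module.FinitePresentation A M] : Function.Injective (piTensorHom A K M) := by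
  obtain ⟨n, m, f, g, hf, hgf⟩ := Module.FinitePresentation.exists_fin' A M
  rw [injective_iff_map_eq_zero]
  intro t ht
  obtain ⟨v, rfl⟩ := LinearMap.lTensor_surjective (∀ x, K x) hf t
  have hx : ∀ x, ∃ w : K x ⊗[A] (Fin m → A),
      LinearMap.lTensor (K x) g w = piTensorHom A K (Fin n → A) v x := by
    intro x
    have hex := lTensor_exact (K x) hgf hf
    have : LinearMap.lTensor (K x) f (piTensorHom A K (Fin n → A) v x) = 0 := by
      rw [← piTensorHom_lTensor A K, ht]
      rfl
    exact (hex _).mp this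
  choose w hw using hx
  obtain ⟨w', hw'⟩ := (piTensorHom_fin_bijective A K m).2 w
  have hv : LinearMap.lTensor (∀ x, K x) g w' = v := by
    apply (piTensorHom_fin_bijective A K n).1
    ext1 x
    rw [piTensorHom_lTensor, hw', hw]
  rw [← hv, ← LinearMap.comp_apply, ← LinearMap.lTensor_comp, hgf.linearMap_comp_eq_zero]
  simp


theorem piTensorHom_surjective (M : Type u) [AddCommGroup M] [Module A M]
    [Module.Finite A M] : Function.Surjective (piTensorHom A K M) := by
  obtain ⟨n, f, hf⟩ := Module.Finite.exists_fin' A M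
  intro w
  have hx : ∀ x, ∃ v : K x ⊗[A] (Fin n → A), LinearMap.lTensor (K x) f v = w x :=
    fun x => LinearMap.lTensor_surjective (K x) hf (w x)
  choose v hv using hx
  obtain ⟨v', hv'⟩ := (piTensorHom_fin_bijective A K n).2 v
  refine ⟨LinearMap.lTensor (∀ x, K x) f v', ?_⟩
  ext1 x
  rw [piTensorHom_lTensor, hv', hv]

end PiTensor

section AlgClosed

variable (K F : Type u) [Field K] [IsAlgClosed K] [CommRing F] [Algebra K F] [Module.Finite K F]

/-- The residue field at a maximal ideal of a finite algebra over an algebraically closed field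
is the base field. -/
noncomputable def ptEquiv (I : MaximalSpectrum F) : K ≃+* F ⧸ I.asIdeal :=
  RingEquiv.ofBijective (algebraMap K (F ⧸ I.asIdeal)) (by
    haveI := I.isMaximal
    letI : Field (F ⧸ I.asIdeal) := Ideal.Quotient.field _
    exact IsAlgClosed.algebraMap_bijective_of_isIntegral (k := K) (K := F ⧸ I.asIdeal))

lemma ptEquiv_apply (I : MaximalSpectrum F) (a : K) :
    ptEquiv K F I a = algebraMap K (F ⧸ I.asIdeal) a := rfl

/-- The `K`-point of a finite `K`-algebra attached to a maximal ideal (`K` algebraically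
closed). -/
noncomputable def pt (I : MaximalSpectrum F) : F →ₐ[K] K :=
  { toRingHom := ((ptEquiv K F I).symm : (F ⧸ I.asIdeal) →+* K).comp
      (Ideal.Quotient.mk I.asIdeal)
    commutes' := fun a => by
      change (ptEquiv K F I).symm (Ideal.Quotient.mk I.asIdeal (algebraMap K F a)) = a
      rw [RingEquiv.symm_apply_eq, ptEquiv_apply]
      rfl }

lemma pt_spec (I : MaximalSpectrum F) (u : F) :
    algebraMap K (F ⧸ I.asIdeal) (pt K F I u) = Ideal.Quotient.mk I.asIdeal u :=
  (ptEquiv K F I).apply_symm_apply _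

lemma pt_eq_iff (I : MaximalSpectrum F) (u : F) (a : K) :
    pt K F I u = a ↔ Ideal.Quotient.mk I.asIdeal u = algebraMap K (F ⧸ I.asIdeal) a := by
  rw [← pt_spec K F I u]
  constructor
  · intro h; rw [h]
  · intro h
    exact (ptEquiv K F I).injective h

lemma pt_eq_zero_iff (I : MaximalSpectrum F) (u : F) : pt K F I u = 0 ↔ u ∈ I.asIdeal := by
  rw [pt_eq_iff, map_zero, Ideal.Quotient.eq_zero_iff_mem]

lemma quotNil_mk [IsArtinianRing F] (u : F) (I : MaximalSpectrum F) :
    IsArtinianRing.quotNilradicalEquivPi F (Ideal.Quotient.mk _ u) I =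
      Ideal.Quotient.mk I.asIdeal u := rfl

lemma exists_pt_eq (v : MaximalSpectrum F → K) : ∃ u : F, ∀ I, pt K F I u = v I := by
  have : IsArtinianRing F := IsArtinianRing.of_finite K F
  obtain ⟨u, hu⟩ := Ideal.Quotient.mk_surjective
    ((IsArtinianRing.quotNilradicalEquivPi F).symm
      (fun I => algebraMap K (F ⧸ I.asIdeal) (v I)))
  refine ⟨u, fun I => ?_⟩
  rw [pt_eq_iff, ← quotNil_mk, hu, AlgEquiv.apply_symm_apply]

lemma isNilpotent_of_pt_eq_zero (u : F) (h : ∀ I, pt K F I u = 0) : IsNilpotent u := by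
  have : IsArtinianRing F := IsArtinianRing.of_finite K F
  have h1 : IsArtinianRing.quotNilradicalEquivPi F (Ideal.Quotient.mk _ u) = 0 := by
    ext I
    rw [quotNil_mk, Pi.zero_apply, Ideal.Quotient.eq_zero_iff_mem]
    exact (pt_eq_zero_iff K F I u).mp (h I)
  have h2 : Ideal.Quotient.mk (nilradical F) u = 0 := by
    simpa using h1
  rw [Ideal.Quotient.eq_zero_iff_mem] at h2
  exact mem_nilradical.mp h2

lemma pow_eq_zero_of_isNilpotent {N : ℕ} (hN : Module.finrank K F ≤ N) (u : F)
    (h : IsNilpotent u) : u ^ N = 0 := by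
  have hφ : IsNilpotent (Algebra.lmul K F u) := h.map (Algebra.lmul K F)
  have h1 := LinearMap.aeval_self_charpoly (Algebra.lmul K F u)
  rw [hφ.charpoly_eq_X_pow_finrank, map_pow, Polynomial.aeval_X] at h1
  have h2 : (Algebra.lmul K F u) ^ N = 0 := by
    rw [← Nat.sub_add_cancel hN, pow_add, h1, mul_zero]
  rw [← map_pow] at h2
  have h3 := congrArg (fun φ : Module.End K F => φ 1) h2
  simpa using h3

lemma card_maximalSpectrum_le : Nat.card (MaximalSpectrum F) ≤ Module.finrank K F := by
  classical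
  have : IsArtinianRing F := IsArtinianRing.of_finite K F
  have : Finite (MaximalSpectrum F) := inferInstance
  have : Fintype (MaximalSpectrum F) := Fintype.ofFinite _
  let ev : F →ₗ[K] (MaximalSpectrum F → K) := LinearMap.pi fun I => (pt K F I).toLinearMap
  have hs : Function.Surjective ev := by
    intro v
    obtain ⟨u, hu⟩ := exists_pt_eq K F v
    exact ⟨u, funext hu⟩
  have := LinearMap.finrank_le_finrank_of_surjective hs
  rwa [Module.finrank_fintype_fun_eq_card, ← Nat.card_eq_fintype_card] at this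

end AlgClosed

noncomputable section Main

variable (A B : Type u) [CommRing A] [CommRing B] [Algebra A B]

/-- The algebraic closure of the residue field at `x`. -/
abbrev Kx (x : PrimeSpectrum A) : Type u := AlgebraicClosure x.asIdeal.ResidueField

/-- The product of all the `Kx`. -/
abbrev RR : Type u := ∀ x : PrimeSpectrum A, Kx A x

/-- The geometric fibre ring at `x`. -/
abbrev Fx (x : PrimeSpectrum A) : Type u := Kx A x ⊗[A] B

theorem comap_surjective :
    Function.Surjective (PrimeSpectrum.comap (algebraMap A (RR A))) := by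
  intro x
  refine ⟨PrimeSpectrum.comap (Pi.evalRingHom (Kx A) x) ⊥, ?_⟩
  rw [← PrimeSpectrum.comap_comp_apply]
  ext1
  change Ideal.comap ((Pi.evalRingHom (Kx A) x).comp (algebraMap A (RR A))) ⊥ = x.asIdeal
  have e1 : (Pi.evalRingHom (Kx A) x).comp (algebraMap A (RR A)) =
      (algebraMap x.asIdeal.ResidueField (Kx A x)).comp
        (algebraMap A x.asIdeal.ResidueField) := by
    rw [← IsScalarTower.algebraMap_eq]
    rfl
  rw [e1, ← RingHom.ker_eq_comap_bot,
    RingHom.ker_comp_of_injective _ (algebraMap x.asIdeal.ResidueField (Kx A x)).injective,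
    Ideal.ker_algebraMap_residueField]

/-- The projection `(∏ K) ⊗ B → K x ⊗ B` as an algebra map. -/
def πx (x : PrimeSpectrum A) : RR A ⊗[A] B →ₐ[A] Fx A B x :=
  Algebra.TensorProduct.map (Pi.evalAlgHom A (Kx A) x) (AlgHom.id A B)

lemma piTensorHom_eq (t : RR A ⊗[A] B) (x : PrimeSpectrum A) :
    piTensorHom A (Kx A) B t x = πx A B x t := by
  induction t using TensorProduct.induction_on with
  | zero => simp
  | tmul r b => simp [πx]
  | add a b ha hb => simp only [map_add, Pi.add_apply, ha, hb]

variable [Module.Finite A B]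

lemma finite_maximalSpectrum (x : PrimeSpectrum A) : Finite (MaximalSpectrum (Fx A B x)) := by
  have : IsArtinianRing (Fx A B x) := IsArtinianRing.of_finite (Kx A x) (Fx A B x)
  infer_instance

/-- The number of geometric points of the fibre at `x`. -/
def mx (x : PrimeSpectrum A) : ℕ := Nat.card (MaximalSpectrum (Fx A B x))

/-- An enumeration of the geometric points of the fibre. -/
def en (x : PrimeSpectrum A) : Fin (mx A B x) ≃ MaximalSpectrum (Fx A B x) :=
  haveI := finite_maximalSpectrum A B x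
  (Finite.equivFin _).symm

/-- The `k`-th geometric point of the fibre at `x`, as a map out of `B`. -/
def ptB (x : PrimeSpectrum A) (k : Fin (mx A B x)) : B →ₐ[A] Kx A x :=
  ((pt (Kx A x) (Fx A B x) (en A B x k)).restrictScalars A).comp
    Algebra.TensorProduct.includeRight

lemma finrank_Fx_le {n : ℕ} (f : (Fin n → A) →ₗ[A] B) (hf : Function.Surjective f)
    (x : PrimeSpectrum A) : Module.finrank (Kx A x) (Fx A B x) ≤ n := by
  have hs : Function.Surjective (f.baseChange (Kx A x)) := by
    rw [LinearMap.baseChange_eq_ltensor]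
    exact LinearMap.lTensor_surjective _ hf
  have h1 := LinearMap.finrank_le_finrank_of_surjective (R := Kx A x)
    (f := f.baseChange (Kx A x)) hs
  have : Nontrivial A := (algebraMap A (Kx A x)).domain_nontrivial
  have e : Module.finrank (Kx A x) (Kx A x ⊗[A] (Fin n → A)) = n := by
    rw [Module.finrank_baseChange, Module.finrank_fin_fun]
  exact h1.trans e.le

lemma mx_le {n : ℕ} (f : (Fin n → A) →ₗ[A] B) (hf : Function.Surjective f)
    (x : PrimeSpectrum A) : mx A B x ≤ n :=
  (card_maximalSpectrum_le (Kx A x) (Fx A B x)).trans (finrank_Fx_le A B f hf x)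

/-- The `k`-th piece: the product of the `K x` over those `x` having more than `k` geometric
points in the fibre. -/
abbrev Piece (k : ℕ) : Type u := ∀ x : {x : PrimeSpectrum A // k < mx A B x}, Kx A x.1

/-- Restriction to a piece. -/
def resHom (k : ℕ) : RR A →+* Piece A B k :=
  RingHom.pi fun x => Pi.evalRingHom (Kx A) x.1

instance (k : ℕ) : Algebra (RR A) (Piece A B k) := (resHom A B k).toAlgebra

lemma algebraMap_piece_apply (k : ℕ) (r : RR A) (x : {x : PrimeSpectrum A // k < mx A B x}) :
    algebraMap (RR A) (Piece A B k) r x = r x.1 := rfl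

instance (k : ℕ) : IsScalarTower A (RR A) (Piece A B k) :=
  IsScalarTower.of_algebraMap_eq fun _ => rfl

open Classical in
/-- The idempotent cutting out a piece. -/
def ind (k : ℕ) : RR A := fun x => if k < mx A B x then 1 else 0

open Classical in
lemma isLocalization_piece (k : ℕ) : IsLocalization.Away (ind A B k) (Piece A B k) := by
  refine IsLocalization.away_of_isIdempotentElem_of_mul ?_ ?_ ?_
  · ext x
    simp only [ind, Pi.mul_apply]
    split_ifs <;> simp
  · intro r s
    constructor
    · intro h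
      ext x
      simp only [ind, Pi.mul_apply]
      split_ifs with hx
      · have := congrFun h ⟨x, hx⟩
        simpa [algebraMap_piece_apply] using this
      · simp
    · intro h
      ext x
      have := congrFun h x.1
      simp only [ind, Pi.mul_apply, if_pos x.2, one_mul] at this
      exact this
  · intro σ
    refine ⟨fun x => if hx : k < mx A B x then σ ⟨x, hx⟩ else 0, ?_⟩
    ext x
    rw [algebraMap_piece_apply]
    simp [x.2]

instance (k : ℕ) : Algebra.Etale (RR A) (Piece A B k) :=
  haveI := isLocalization_piece A B k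
  Algebra.Etale.of_isLocalizationAway (ind A B k)

instance (k : ℕ) : Module.Finite (RR A) (Piece A B k) := by
  haveI := isLocalization_piece A B k
  exact Module.Finite.of_surjective (Algebra.linearMap (RR A) (Piece A B k))
    (IsLocalization.Away.algebraMap_surjective_of_isIdempotentElem (ind A B k) (by
      ext x
      simp only [ind, Pi.mul_apply]
      split_ifs <;> simp))

/-- The target: a finite product of pieces. -/
abbrev SS (N : ℕ) : Type u := ∀ k : Fin N, Piece A B k.1

/-- The evaluation of elements of `B` at all geometric points of all fibres. -/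
def chiB (N : ℕ) : B →ₐ[A] SS A B N :=
  AlgHom.pi fun k => AlgHom.pi fun x => ptB A B x.1 ⟨k.1, x.2⟩

/-- The evaluation map. -/
def chi (N : ℕ) : RR A ⊗[A] B →ₐ[RR A] SS A B N :=
  Algebra.TensorProduct.lift (Algebra.ofId (RR A) (SS A B N)) (chiB A B N)
    (fun _ _ => Commute.all _ _)

lemma chi_eq (N : ℕ) (t : RR A ⊗[A] B) (k : Fin N)
    (x : {x : PrimeSpectrum A // k.1 < mx A B x}) :
    chi A B N t k x = pt (Kx A x.1) (Fx A B x.1) (en A B x.1 ⟨k.1, x.2⟩) (πx A B x.1 t) := by
  induction t using TensorProduct.induction_on with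
  | zero => simp
  | tmul r b =>
    simp only [chi, Algebra.TensorProduct.lift_tmul, πx, Algebra.TensorProduct.map_tmul,
      AlgHom.coe_id, id_eq]
    change r x.1 * ptB A B x.1 ⟨k.1, x.2⟩ b = _
    have e : (r x.1 ⊗ₜ[A] b : Fx A B x.1) = r x.1 • ((1 : Kx A x.1) ⊗ₜ[A] b) := by
      rw [TensorProduct.smul_tmul', smul_eq_mul, mul_one]
    change _ = pt (Kx A x.1) (Fx A B x.1) (en A B x.1 ⟨k.1, x.2⟩) (r x.1 ⊗ₜ[A] b)
    rw [e, map_smul, smul_eq_mul]
    rfl
  | add a b ha hb =>
    simp only [map_add, Pi.add_apply, ha, hb]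

/-- **Ring-level decomposition**: for a finite, finitely presented `A`-algebra `B` the
evaluation map from `(∏ κ̄(x)) ⊗ B` to a finite product of localizations of `∏ κ̄(x)` at
idempotents is surjective with nil kernel. -/
theorem exists_decomposition [Algebra.FinitePresentation A B] :
    ∃ N : ℕ, Function.Surjective (chi A B N) ∧ ∀ t, chi A B N t = 0 → IsNilpotent t := by
  obtain ⟨N, f, hf⟩ := Module.Finite.exists_fin' A B
  have hb : ∀ x, mx A B x ≤ N := mx_le A B f hf
  have hfr : ∀ x, Module.finrank (Kx A x) (Fx A B x) ≤ N := finrank_Fx_le A B f hf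
  have : Module.FinitePresentation A B :=
    Module.FinitePresentation.of_finite_of_finitePresentation A B
  refine ⟨N, ?_, ?_⟩
  · intro σ
    have hu : ∀ x : PrimeSpectrum A, ∃ u : Fx A B x, ∀ I : MaximalSpectrum (Fx A B x),
        pt (Kx A x) (Fx A B x) I u =
          σ ⟨((en A B x).symm I).1, lt_of_lt_of_le ((en A B x).symm I).2 (hb x)⟩
            ⟨x, ((en A B x).symm I).2⟩ := fun x => exists_pt_eq (Kx A x) (Fx A B x) _
    choose u hu using hu
    obtain ⟨t, ht⟩ := piTensorHom_surjective A (Kx A) B u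
    refine ⟨t, ?_⟩
    ext k x
    rw [chi_eq, ← piTensorHom_eq, ht, hu]
    have key : ∀ (j : Fin (mx A B x.1)) (hj : j = ⟨k.1, x.2⟩),
        σ ⟨j.1, lt_of_lt_of_le j.2 (hb x.1)⟩ ⟨x.1, j.2⟩ = σ k x := by
      intro j hj
      subst hj
      rfl
    exact key _ (Equiv.symm_apply_apply _ _)
  · intro t ht
    have hnil : ∀ x, IsNilpotent (πx A B x t) := by
      intro x
      apply isNilpotent_of_pt_eq_zero (Kx A x) (Fx A B x)
      intro I
      have h1 := chi_eq A B N t ⟨((en A B x).symm I).1,
        lt_of_lt_of_le ((en A B x).symm I).2 (hb x)⟩ ⟨x, ((en A B x).symm I).2⟩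
      rw [ht] at h1
      have h2 : en A B x ⟨((en A B x).symm I).1, ((en A B x).symm I).2⟩ = I :=
        Equiv.apply_symm_apply _ _
      rw [h2] at h1
      exact h1.symm
    refine ⟨N, ?_⟩
    apply piTensorHom_injective A (Kx A) B
    rw [map_zero]
    ext1 x
    rw [piTensorHom_eq, map_pow, Pi.zero_apply]
    exact pow_eq_zero_of_isNilpotent (Kx A x) (Fx A B x) (hfr x) _ (hnil x)

end Main

section Scheme

lemma comap_surjective_of_nil {T S : Type u} [CommRing T] [CommRing S] (χ : T →+* S)
    (hs : Function.Surjective χ) (hn : ∀ t, χ t = 0 → IsNilpotent t) :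
    Function.Surjective (PrimeSpectrum.comap χ) := by
  intro q
  have : q ∈ Set.range (PrimeSpectrum.comap χ) := by
    rw [range_comap_of_surjective _ χ hs, PrimeSpectrum.mem_zeroLocus]
    intro t ht
    obtain ⟨n, hn'⟩ := hn t ht
    exact q.2.mem_of_pow_mem n (by rw [hn']; exact zero_mem _)
  exact this

/-- The finite case. -/
theorem decompose_finite {Y X : Scheme.{u}} [IsAffine X] (f : Y ⟶ X) [IsFinite f]
    [LocallyOfFinitePresentation f] :
    ∃ (X' : Scheme.{u}) (_ : IsAffine X') (a : X' ⟶ X) (_ : Surjective a) (Z' : Scheme.{u})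
      (c : Z' ⟶ pullback a f) (_ : IsClosedImmersion c) (_ : Surjective c),
      IsFinite (c ≫ pullback.fst a f) ∧ Etale (c ≫ pullback.fst a f) := by
  have hY : IsAffine Y := isAffine_of_isAffineHom f
  let _ : Algebra Γ(X, ⊤) Γ(Y, ⊤) := f.appTop.hom.toAlgebra
  have h1 : Module.Finite Γ(X, ⊤) Γ(Y, ⊤) :=
    ((HasAffineProperty.iff_of_isAffine (P := @IsFinite)).mp ‹IsFinite f›).2
  have h2 : Algebra.FinitePresentation Γ(X, ⊤) Γ(Y, ⊤) :=
    (HasRingHomProperty.iff_of_isAffine (P := @LocallyOfFinitePresentation)).mp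
      ‹LocallyOfFinitePresentation f›
  obtain ⟨N, hsurj, hnil⟩ := exists_decomposition Γ(X, ⊤) Γ(Y, ⊤)
  let R := RR Γ(X, ⊤)
  let T := R ⊗[Γ(X, ⊤)] Γ(Y, ⊤)
  let S := SS Γ(X, ⊤) Γ(Y, ⊤) N
  let a₀ : Spec (CommRingCat.of R) ⟶ Spec Γ(X, ⊤) :=
    Spec.map (CommRingCat.ofHom (algebraMap Γ(X, ⊤) R))
  have ha₀ : Surjective a₀ := ⟨fun p => by
    obtain ⟨q, hq⟩ := comap_surjective Γ(X, ⊤) p
    exact ⟨q, hq⟩⟩
  let a : Spec (CommRingCat.of R) ⟶ X := a₀ ≫ X.isoSpec.inv
  have hP1 := isPullback_SpecMap_of_isPushout _ _ _ _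
    (CommRingCat.isPushout_tensorProduct Γ(X, ⊤) R Γ(Y, ⊤))
  have hP2 : IsPullback (Spec.map (CommRingCat.ofHom (S := T)
      (Algebra.TensorProduct.includeLeftRingHom : R →+* T)))
      (Spec.map (CommRingCat.ofHom (S := T)
        (Algebra.TensorProduct.includeRight : Γ(Y, ⊤) →ₐ[Γ(X, ⊤)] T).toRingHom) ≫ Y.isoSpec.inv)
      a f := by
    refine hP1.of_iso (Iso.refl _) (Iso.refl _) Y.isoSpec.symm X.isoSpec.symm ?_ ?_ ?_ ?_
    · simp
    · simp
    · simp [a, a₀]
    · rw [Iso.symm_hom, Iso.symm_hom, ← Scheme.isoSpec_inv_naturality f]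
      rfl
  let θ := hP2.isoPullback
  have hθ : θ.hom ≫ pullback.fst a f = Spec.map (CommRingCat.ofHom (S := T)
      (Algebra.TensorProduct.includeLeftRingHom : R →+* T)) := hP2.isoPullback_hom_fst
  let c₀ : Spec (CommRingCat.of S) ⟶ Spec (CommRingCat.of T) :=
    Spec.map (CommRingCat.ofHom (chi Γ(X, ⊤) Γ(Y, ⊤) N).toRingHom)
  have hc₀ : IsClosedImmersion c₀ := IsClosedImmersion.spec_of_surjective _ hsurj
  have hc₀s : Surjective c₀ := ⟨fun q => by
    obtain ⟨q', hq'⟩ := comap_surjective_of_nil (chi Γ(X, ⊤) Γ(Y, ⊤) N).toRingHom hsurj hnil q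
    exact ⟨q', hq'⟩⟩
  have hcomp : (c₀ ≫ θ.hom) ≫ pullback.fst a f =
      Spec.map (CommRingCat.ofHom (algebraMap R S)) := by
    rw [Category.assoc, hθ, ← Spec.map_comp]
    congr 1
    apply CommRingCat.hom_ext
    apply RingHom.ext
    intro r
    exact (chi Γ(X, ⊤) Γ(Y, ⊤) N).commutes r
  refine ⟨Spec (CommRingCat.of R), inferInstance, a, inferInstance, Spec (CommRingCat.of S),
    c₀ ≫ θ.hom, inferInstance, inferInstance, ?_, ?_⟩
  · rw [hcomp, IsFinite.SpecMap_iff]
    exact RingHom.finite_algebraMap.mpr inferInstance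
  · rw [hcomp, HasRingHomProperty.Spec_iff (P := @Etale)]
    exact RingHom.etale_algebraMap.mpr inferInstance

/-- Finiteness over a finite disjoint union of pieces. -/
lemma isFinite_fst_sigmaDesc {X Y : Scheme.{u}} (g : Y ⟶ X) {n : ℕ} (Z : Fin n → Scheme.{u})
    (z : ∀ i, Z i ⟶ X) (h : ∀ i, IsFinite (pullback.snd g (z i))) :
    IsFinite (pullback.fst (Sigma.desc z) g) := by
  apply IsZariskiLocalAtTarget.of_openCover (P := @IsFinite) (sigmaOpenCover Z)
  intro i
  change IsFinite (pullback.snd (pullback.fst (Sigma.desc z) g) (Sigma.ι Z i))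
  have e1 : pullback.snd (pullback.fst (Sigma.desc z) g) (Sigma.ι Z i) =
      (pullbackSymmetry _ _).hom ≫ pullback.fst (Sigma.ι Z i) (pullback.fst (Sigma.desc z) g) := by
    simp
  have e2 : pullback.fst (Sigma.ι Z i) (pullback.fst (Sigma.desc z) g) =
      (pullbackRightPullbackFstIso (Sigma.desc z) g (Sigma.ι Z i)).hom ≫
        pullback.fst (Sigma.ι Z i ≫ Sigma.desc z) g := by
    simp
  have key : ∀ (w : Z i ⟶ X), w = z i → IsFinite (pullback.fst w g) := by
    rintro _ rfl
    have := h i
    rw [show pullback.fst (z i) g = (pullbackSymmetry _ _).hom ≫ pullback.snd g (z i) by simp]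
    infer_instance
  have := key (Sigma.ι Z i ≫ Sigma.desc z) (Sigma.ι_desc _ _)
  rw [e1, e2]
  infer_instance

/-- **Decomposition of a quasi-finite morphism** after a surjective affine base change. -/
theorem decompose_quasi_finite {Y X : Scheme.{u}} [IsAffine X] [IsAffine Y] (f : Y ⟶ X)
    [LocallyQuasiFinite f] [LocallyOfFinitePresentation f] :
    ∃ (X' : Scheme.{u}) (_ : IsAffine X') (a : X' ⟶ X) (_ : Surjective a) (Z' : Scheme.{u})
      (c : Z' ⟶ pullback a f) (_ : IsClosedImmersion c) (_ : Surjective c),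
      IsFinite (c ≫ pullback.fst a f) ∧ Etale (c ≫ pullback.fst a f) := by
  classical
  choose Z z hZaff himm hlfp hmem hfin using
    Groth.Agent.Lib.Seat94.EtStrat.exists_local_stratum f
  have hqc : ∀ x, QuasiCompact (z x) := fun x => by
    have := hZaff x
    infer_instance
  have hc : ∀ x, Topology.IsConstructible (Set.range (z x)) := by
    intro x
    have := hlfp x
    have := hqc x
    have h := (z x).isConstructible_image Topology.IsConstructible.univ
    rwa [Set.image_univ] at h
  have hcov : (⋃ x, Set.range (z x)) = Set.univ := by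
    rw [Set.eq_univ_iff_forall]
    intro x
    exact Set.mem_iUnion.mpr ⟨x, hmem x⟩
  obtain ⟨t, ht⟩ := Groth.Agent.Lib.Seat29.Strata.exists_finset_cover_of_isConstructible
    (fun x => Set.range (z x)) hc hcov
  let e : Fin t.card ≃ ↥t := t.equivFin.symm
  let Z₁ : Fin t.card → Scheme.{u} := fun k => Z (e k).1
  let z₁ : ∀ k, Z₁ k ⟶ X := fun k => z (e k).1
  have hZ₁ : ∀ k, IsAffine (Z₁ k) := fun k => hZaff _
  let a₁ : (∐ Z₁) ⟶ X := Sigma.desc z₁
  have ha₁ : Surjective a₁ := ⟨fun x => by
    obtain ⟨i, hit, y, hy⟩ := ht x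
    refine ⟨Sigma.ι Z₁ (e.symm ⟨i, hit⟩) (by
      change ↑(Z (e (e.symm ⟨i, hit⟩)).1)
      rw [Equiv.apply_symm_apply]
      exact y), ?_⟩
    rw [← Scheme.Hom.comp_apply, Sigma.ι_desc]
    change z (e (e.symm ⟨i, hit⟩)).1 _ = x
    have : ∀ (j : ↥t) (hj : j = ⟨i, hit⟩) (y' : ↑(Z j.1)), HEq y' y → z j.1 y' = x := by
      rintro j rfl y' hy'
      rw [eq_of_heq hy']
      exact hy
    exact this _ (Equiv.apply_symm_apply _ _) _ (by simp)⟩
  have hfin₁ : IsFinite (pullback.fst a₁ f) :=
    isFinite_fst_sigmaDesc f Z₁ z₁ (fun k => hfin _)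
  obtain ⟨X', hX', a', ha', Z', c₁, hc₁, hc₁s, hfinc, hetc⟩ :=
    decompose_finite (pullback.fst a₁ f)
  let θ := pullbackRightPullbackFstIso a₁ f a'
  refine ⟨X', hX', a' ≫ a₁, inferInstance, Z', c₁ ≫ θ.hom, inferInstance, inferInstance, ?_, ?_⟩
  · have : (c₁ ≫ θ.hom) ≫ pullback.fst (a' ≫ a₁) f = c₁ ≫ pullback.fst a' (pullback.fst a₁ f) := by
      rw [Category.assoc, pullbackRightPullbackFstIso_hom_fst]
    rw [this]
    exact hfinc
  · have : (c₁ ≫ θ.hom) ≫ pullback.fst (a' ≫ a₁) f = c₁ ≫ pullback.fst a' (pullback.fst a₁ f) := by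
      rw [Category.assoc, pullbackRightPullbackFstIso_hom_fst]
    rw [this]
    exact hetc

end Scheme

end Groth.Agent.Lib.Seat94.QfDecomp
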