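import Mathlib.Analysis.Convex.StdSimplex
import Mathlib.Analysis.SpecialFunctions.Sqrt
import Mathlib.LinearAlgebra.Matrix.ToLin
import Mathlib.LinearAlgebra.FiniteDimensional.Basic
import Mathlib.Topology.Instances.Matrix
import Mathlib.Tactic

/-!
# Rational maximizers of `ℓ·y / √q(y)` on the orthant

For a rational quadratic form `q` positive on the nonzero points of the orthant and a rational
linear form `ℓ` positive somewhere on the orthant, `ℓ·y / √q(y)` has a rational maximizer.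

Proof: a maximizer exists by compactness of the simplex; one with minimal support `S` satisfies the
KKT linear system `C y = λ d` where the rational matrix `C` (rows of the symmetrized matrix on `S`,
identity rows off `S`) is injective by minimality of the support; so `y/λ = C⁻¹ d` is rational.
-/

set_option autoImplicit false

open Matrix

namespace Groth.Agent.Lib.Seat94.RatMax

variable {n : ℕ}

/-- the quadratic form of a real matrix -/
noncomputable def Q (Bs : Matrix (Fin n) (Fin n) ℝ) (y : Fin n → ℝ) : ℝ := y ⬝ᵥ Bs *ᵥ y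

/-- polynomial form of "`y` maximizes `L·z / √Q z` over the orthant" -/
def IsMax (Bs : Matrix (Fin n) (Fin n) ℝ) (L : Fin n → ℝ) (y : Fin n → ℝ) : Prop :=
  (∀ i, 0 ≤ y i) ∧ 0 < L ⬝ᵥ y ∧ ∀ z : Fin n → ℝ, (∀ i, 0 ≤ z i) → 0 ≤ L ⬝ᵥ z →
    (L ⬝ᵥ z) ^ 2 * Q Bs y ≤ (L ⬝ᵥ y) ^ 2 * Q Bs z

lemma Q_smul (Bs : Matrix (Fin n) (Fin n) ℝ) (c : ℝ) (y : Fin n → ℝ) :
    Q Bs (c • y) = c ^ 2 * Q Bs y := by
  simp only [Q, Matrix.mulVec_smul, dotProduct_smul, smul_dotProduct, smul_eq_mul]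
  ring

lemma Q_zero (Bs : Matrix (Fin n) (Fin n) ℝ) : Q Bs 0 = 0 := by
  simp [Q]

lemma Q_add_smul (Bs : Matrix (Fin n) (Fin n) ℝ)
    (hsym : ∀ u v : Fin n → ℝ, u ⬝ᵥ Bs *ᵥ v = v ⬝ᵥ Bs *ᵥ u) (u v : Fin n → ℝ) (t : ℝ) :
    Q Bs (u + t • v) = Q Bs u + 2 * t * (u ⬝ᵥ Bs *ᵥ v) + t ^ 2 * Q Bs v := by
  simp only [Q, Matrix.mulVec_add, Matrix.mulVec_smul, dotProduct_add, add_dotProduct,
    dotProduct_smul, smul_dotProduct, smul_eq_mul]
  rw [hsym v u]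
  ring

lemma exists_isMax (Bs : Matrix (Fin n) (Fin n) ℝ) (L : Fin n → ℝ)
    (hpos : ∀ y : Fin n → ℝ, (∀ i, 0 ≤ y i) → y ≠ 0 → 0 < Q Bs y)
    (hℓ : ∃ y : Fin n → ℝ, (∀ i, 0 ≤ y i) ∧ 0 < L ⬝ᵥ y) :
    ∃ y, IsMax Bs L y := by
  obtain ⟨y₀, hy₀, hLy₀⟩ := hℓ
  -- normalisation to the simplex
  have hnorm : ∀ z : Fin n → ℝ, (∀ i, 0 ≤ z i) → z ≠ 0 →
      0 < ∑ i, z i ∧ (∑ i, z i)⁻¹ • z ∈ stdSimplex ℝ (Fin n) := by
    intro z hz hz0
    have hσ : 0 < ∑ i, z i := by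
      rcases (Finset.sum_nonneg (fun i _ => hz i)).lt_or_eq with h | h
      · exact h
      · exfalso
        apply hz0
        funext i
        exact (Finset.sum_eq_zero_iff_of_nonneg (fun i _ => hz i)).1 h.symm i (Finset.mem_univ i)
    refine ⟨hσ, fun i => ?_, ?_⟩
    · simp only [Pi.smul_apply, smul_eq_mul]
      exact mul_nonneg (inv_nonneg.2 hσ.le) (hz i)
    · simp only [Pi.smul_apply, smul_eq_mul, ← Finset.mul_sum]
      exact inv_mul_cancel₀ hσ.ne'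
  have hy₀0 : y₀ ≠ 0 := by
    rintro rfl
    simp at hLy₀
  let g : (Fin n → ℝ) → ℝ := fun y => (max (L ⬝ᵥ y) 0) ^ 2 / Q Bs y
  have hQpos : ∀ y ∈ stdSimplex ℝ (Fin n), 0 < Q Bs y := by
    intro y hy
    apply hpos y hy.1
    rintro rfl
    have := hy.2
    simp at this
  have hcont : ContinuousOn g (stdSimplex ℝ (Fin n)) := by
    apply ContinuousOn.div
    · unfold dotProduct; fun_prop
    · unfold Q dotProduct mulVec dotProduct; fun_prop
    · intro y hy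
      exact (hQpos y hy).ne'
  obtain ⟨ys, hys, hmax⟩ := (isCompact_stdSimplex ℝ (Fin n)).exists_isMaxOn
    ⟨_, (hnorm y₀ hy₀ hy₀0).2⟩ hcont
  have hLsmul : ∀ (c : ℝ) (z : Fin n → ℝ), L ⬝ᵥ (c • z) = c * (L ⬝ᵥ z) := by
    intro c z
    rw [dotProduct_smul, smul_eq_mul]
  have hgpos : 0 < g ys := by
    obtain ⟨hσ, hmem⟩ := hnorm y₀ hy₀ hy₀0
    have h1 : 0 < g ((∑ i, y₀ i)⁻¹ • y₀) := by
      simp only [g]
      apply div_pos _ (hQpos _ hmem)
      rw [hLsmul, max_eq_left (mul_nonneg (inv_nonneg.2 hσ.le) hLy₀.le)]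
      exact pow_pos (mul_pos (inv_pos.2 hσ) hLy₀) 2
    exact lt_of_lt_of_le h1 (hmax hmem)
  have hLys : 0 < L ⬝ᵥ ys := by
    by_contra h
    rw [not_lt] at h
    have : g ys = 0 := by
      simp only [g, max_eq_right h]
      simp
    rw [this] at hgpos
    exact lt_irrefl _ hgpos
  refine ⟨ys, hys.1, hLys, ?_⟩
  intro z hz hLz
  by_cases hz0 : z = 0
  · subst hz0
    simp [Q_zero]
  obtain ⟨hσ, hmem⟩ := hnorm z hz hz0
  have h1 : g ((∑ i, z i)⁻¹ • z) ≤ g ys := hmax hmem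
  simp only [g] at h1
  rw [hLsmul, Q_smul, max_eq_left (mul_nonneg (inv_nonneg.2 hσ.le) hLz), max_eq_left hLys.le,
    div_le_div_iff₀ (by rw [← Q_smul]; exact hQpos _ hmem) (hQpos ys hys)] at h1
  have hσ2 : 0 < ((∑ i, z i)⁻¹) ^ 2 := by positivity
  have h2 : ((∑ i, z i)⁻¹) ^ 2 * ((L ⬝ᵥ z) ^ 2 * Q Bs ys) ≤
      ((∑ i, z i)⁻¹) ^ 2 * ((L ⬝ᵥ ys) ^ 2 * Q Bs z) := by
    calc ((∑ i, z i)⁻¹) ^ 2 * ((L ⬝ᵥ z) ^ 2 * Q Bs ys)
        = ((∑ i, z i)⁻¹ * L ⬝ᵥ z) ^ 2 * Q Bs ys := by ring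
      _ ≤ (L ⬝ᵥ ys) ^ 2 * ((∑ i, z i)⁻¹ ^ 2 * Q Bs z) := h1
      _ = _ := by ring
  exact le_of_mul_le_mul_left h2 hσ2

lemma lin_coeff_zero (α β ε : ℝ) (hε : 0 < ε)
    (h : ∀ t : ℝ, |t| < ε → 0 ≤ α * t + β * t ^ 2) : α = 0 := by
  by_contra hα
  have hα' : 0 < |α| := abs_pos.2 hα
  set δ : ℝ := min (ε / 2) (|α| / (2 * (|β| + 1))) with hδ
  have hβ1 : 0 < |β| + 1 := by positivity
  have hδpos : 0 < δ := lt_min (by linarith) (by positivity)
  have hδε : δ < ε := lt_of_le_of_lt (min_le_left _ _) (by linarith)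
  have hδβ : (|β| + 1) * δ ≤ |α| / 2 := by
    have : δ ≤ |α| / (2 * (|β| + 1)) := min_le_right _ _
    calc (|β| + 1) * δ ≤ (|β| + 1) * (|α| / (2 * (|β| + 1))) :=
          mul_le_mul_of_nonneg_left this hβ1.le
      _ = |α| / 2 := by field_simp
  have hβδ2 : |β * δ ^ 2| ≤ |α| / 2 * δ := by
    rw [abs_mul, abs_pow, abs_of_pos hδpos]
    nlinarith [abs_nonneg β]
  rcases lt_or_gt_of_ne hα with hneg | hpos
  · have h1 := h δ (by rw [abs_of_pos hδpos]; exact hδε)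
    have : |α| = -α := abs_of_neg hneg
    nlinarith [le_abs_self (β * δ ^ 2)]
  · have h1 := h (-δ) (by rw [abs_neg, abs_of_pos hδpos]; exact hδε)
    have : |α| = α := abs_of_pos hpos
    have e : β * (-δ) ^ 2 = β * δ ^ 2 := by ring
    rw [e] at h1
    nlinarith [le_abs_self (β * δ ^ 2)]

lemma exists_eps (y v : Fin n → ℝ) (hy : ∀ i, 0 ≤ y i) (hv : ∀ i, y i = 0 → v i = 0)
    (c a : ℝ) (hc : 0 < c) :
    ∃ ε : ℝ, 0 < ε ∧ ∀ t : ℝ, |t| < ε → (∀ i, 0 ≤ y i + t * v i) ∧ 0 ≤ c + t * a := by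
  have hev : ∀ᶠ t in nhds (0 : ℝ), (∀ i, 0 ≤ y i + t * v i) ∧ 0 ≤ c + t * a := by
    apply Filter.Eventually.and
    · rw [Filter.eventually_all]
      intro i
      by_cases hi : y i = 0
      · apply Filter.Eventually.of_forall
        intro t
        rw [hi, hv i hi, mul_zero, add_zero]
      · have hpos : 0 < y i := lt_of_le_of_ne (hy i) (Ne.symm hi)
        have ht : Filter.Tendsto (fun t : ℝ => y i + t * v i) (nhds 0) (nhds (y i + 0 * v i)) :=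
          (Continuous.tendsto (by fun_prop) 0)
        have := ht.eventually (lt_mem_nhds (by rw [zero_mul, add_zero]; exact hpos))
        exact this.mono (fun t h => h.le)
    · have ht : Filter.Tendsto (fun t : ℝ => c + t * a) (nhds 0) (nhds (c + 0 * a)) :=
        (Continuous.tendsto (by fun_prop) 0)
      have := ht.eventually (lt_mem_nhds (by rw [zero_mul, add_zero]; exact hc))
      exact this.mono (fun t h => h.le)
  obtain ⟨ε, hε, H⟩ := Metric.eventually_nhds_iff.1 hev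
  refine ⟨ε, hε, fun t ht => H ?_⟩
  rw [Real.dist_eq, sub_zero]
  exact ht

lemma kkt (Bs : Matrix (Fin n) (Fin n) ℝ)
    (hsym : ∀ u v : Fin n → ℝ, u ⬝ᵥ Bs *ᵥ v = v ⬝ᵥ Bs *ᵥ u) (L y : Fin n → ℝ)
    (hmax : IsMax Bs L y) (v : Fin n → ℝ) (hv : ∀ i, y i = 0 → v i = 0) :
    (L ⬝ᵥ y) * (y ⬝ᵥ Bs *ᵥ v) = Q Bs y * (L ⬝ᵥ v) := by
  obtain ⟨hy, hc, hM⟩ := hmax
  obtain ⟨ε, hε, H⟩ := exists_eps y v hy hv (L ⬝ᵥ y) (L ⬝ᵥ v) hc
  have key : ∀ t : ℝ, |t| < ε →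
      0 ≤ (2 * (L ⬝ᵥ y) * ((L ⬝ᵥ y) * (y ⬝ᵥ Bs *ᵥ v) - Q Bs y * (L ⬝ᵥ v))) * t +
        ((L ⬝ᵥ y) ^ 2 * Q Bs v - Q Bs y * (L ⬝ᵥ v) ^ 2) * t ^ 2 := by
    intro t ht
    obtain ⟨h1, h2⟩ := H t ht
    have hL : L ⬝ᵥ (y + t • v) = L ⬝ᵥ y + t * (L ⬝ᵥ v) := by
      rw [dotProduct_add, dotProduct_smul, smul_eq_mul]
    have := hM (y + t • v) (by intro i; simpa using h1 i) (by rw [hL]; exact h2)
    rw [hL, Q_add_smul Bs hsym] at this
    nlinarith [this]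
  have h0 := lin_coeff_zero _ _ ε hε key
  have hc' : (2 * (L ⬝ᵥ y)) ≠ 0 := by positivity
  have := (mul_eq_zero.1 h0).resolve_left hc'
  linarith

/-- the support -/
noncomputable def supp (y : Fin n → ℝ) : Finset (Fin n) := Finset.univ.filter (fun i => y i ≠ 0)

lemma boundary_neg (y v : Fin n → ℝ) (hy : ∀ i, 0 ≤ y i) (hv : ∀ i, y i = 0 → v i = 0)
    (hneg : ∃ i, v i < 0) :
    ∃ t : ℝ, (∀ i, 0 ≤ y i + t * v i) ∧ (supp (y + t • v)).card < (supp y).card := by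
  classical
  set s : Finset (Fin n) := Finset.univ.filter (fun i => v i < 0) with hs
  have hsne : s.Nonempty := by
    obtain ⟨i, hi⟩ := hneg
    exact ⟨i, by simp [hs, hi]⟩
  obtain ⟨i₀, hi₀s, hmin⟩ := Finset.exists_min_image s (fun i => y i / (-v i)) hsne
  have hvi₀ : v i₀ < 0 := by simpa [hs] using hi₀s
  have hyi₀ : 0 < y i₀ := by
    rcases (hy i₀).lt_or_eq with h | h
    · exact h
    · exact absurd (hv i₀ h.symm) hvi₀.ne
  set t₀ : ℝ := y i₀ / (-v i₀) with ht₀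
  have ht₀pos : 0 < t₀ := div_pos hyi₀ (by linarith)
  have hnonneg : ∀ i, 0 ≤ y i + t₀ * v i := by
    intro i
    by_cases hvi : v i < 0
    · have h1 : t₀ ≤ y i / (-v i) := hmin i (by simp [hs, hvi])
      have h2 : 0 < -v i := by linarith
      rw [le_div_iff₀ h2] at h1
      linarith
    · have : 0 ≤ v i := not_lt.1 hvi
      have := mul_nonneg ht₀pos.le this
      linarith [hy i]
  have hzero : y i₀ + t₀ * v i₀ = 0 := by
    rw [ht₀]
    have h1 : v i₀ ≠ 0 := hvi₀.ne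
    rw [div_neg, neg_mul, div_mul_cancel₀ _ h1]
    ring
  refine ⟨t₀, hnonneg, ?_⟩
  apply Finset.card_lt_card
  rw [Finset.ssubset_iff_of_subset]
  · refine ⟨i₀, ?_, ?_⟩
    · simp [supp, hyi₀.ne']
    · simp [supp, hzero]
  · intro i hi
    simp only [supp, Finset.mem_filter, Finset.mem_univ, true_and, Pi.add_apply, Pi.smul_apply,
      smul_eq_mul] at hi ⊢
    intro h0
    apply hi
    rw [h0, hv i h0, mul_zero, add_zero]

lemma boundary (y v : Fin n → ℝ) (hy : ∀ i, 0 ≤ y i) (hv : ∀ i, y i = 0 → v i = 0)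
    (hv0 : v ≠ 0) :
    ∃ t : ℝ, (∀ i, 0 ≤ y i + t * v i) ∧ (supp (y + t • v)).card < (supp y).card := by
  by_cases hneg : ∃ i, v i < 0
  · exact boundary_neg y v hy hv hneg
  · push Not at hneg
    have hpos : ∃ i, (-v) i < 0 := by
      by_contra h
      push Not at h
      apply hv0
      funext i
      have h1 := h i
      have h2 := hneg i
      simp only [Pi.neg_apply] at h1
      simp only [Pi.zero_apply]
      linarith
    obtain ⟨t, ht1, ht2⟩ := boundary_neg y (-v) hy (by intro i hi; simp [hv i hi]) hpos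
    refine ⟨-t, ?_, ?_⟩
    · intro i
      have := ht1 i
      simp only [Pi.neg_apply] at this
      linarith
    · have e : y + (-t) • v = y + t • (-v) := by
        simp
      rw [e]
      exact ht2

/-- the KKT matrix -/
def Cmat {F : Type*} [Zero F] [One F] (Bs : Matrix (Fin n) (Fin n) F) (P : Fin n → Prop)
    [DecidablePred P] : Matrix (Fin n) (Fin n) F :=
  fun i j => if P i then Bs i j else if i = j then 1 else 0

lemma Cmat_mulVec {F : Type*} [Field F] (Bs : Matrix (Fin n) (Fin n) F) (P : Fin n → Prop)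
    [DecidablePred P] (v : Fin n → F) (i : Fin n) :
    (Cmat Bs P *ᵥ v) i = if P i then (Bs *ᵥ v) i else v i := by
  by_cases h : P i
  · simp only [Matrix.mulVec, dotProduct, Cmat, h, if_true]
  · simp only [Matrix.mulVec, dotProduct, Cmat, h, if_false]
    simp

lemma isMax_ne_zero (Bs : Matrix (Fin n) (Fin n) ℝ) (L y : Fin n → ℝ) (hmax : IsMax Bs L y) :
    y ≠ 0 := by
  rintro rfl
  have := hmax.2.1
  simp at this

open Classical in
lemma cmat_ker (Bs : Matrix (Fin n) (Fin n) ℝ)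
    (hsym : ∀ u v : Fin n → ℝ, u ⬝ᵥ Bs *ᵥ v = v ⬝ᵥ Bs *ᵥ u) (L y : Fin n → ℝ)
    (hpos : ∀ y : Fin n → ℝ, (∀ i, 0 ≤ y i) → y ≠ 0 → 0 < Q Bs y)
    (hmax : IsMax Bs L y)
    (hmin : ∀ z, IsMax Bs L z → (supp y).card ≤ (supp z).card)
    (v : Fin n → ℝ) (hCv : Cmat Bs (fun i => y i ≠ 0) *ᵥ v = 0) : v = 0 := by
  have hv : ∀ i, y i = 0 → v i = 0 := by
    intro i hi
    have := congrFun hCv i
    rw [Cmat_mulVec] at this
    simpa [hi] using this
  have hBv : ∀ i, y i ≠ 0 → (Bs *ᵥ v) i = 0 := by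
    intro i hi
    have := congrFun hCv i
    rw [Cmat_mulVec] at this
    simpa [hi] using this
  have hw : ∀ w : Fin n → ℝ, (∀ i, y i = 0 → w i = 0) → w ⬝ᵥ Bs *ᵥ v = 0 := by
    intro w hw
    unfold dotProduct
    apply Finset.sum_eq_zero
    intro i _
    by_cases hi : y i = 0
    · rw [hw i hi, zero_mul]
    · rw [hBv i hi, mul_zero]
  have hqv : Q Bs v = 0 := hw v hv
  have hbyv : y ⬝ᵥ Bs *ᵥ v = 0 := hw y (fun i hi => hi)
  have hq : 0 < Q Bs y := hpos y hmax.1 (isMax_ne_zero Bs L y hmax)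
  have hLv : L ⬝ᵥ v = 0 := by
    have := kkt Bs hsym L y hmax v hv
    rw [hbyv, mul_zero] at this
    exact (mul_eq_zero.1 this.symm).resolve_left hq.ne'
  by_contra hv0
  obtain ⟨t, ht1, ht2⟩ := boundary y v hmax.1 hv hv0
  have hLt : L ⬝ᵥ (y + t • v) = L ⬝ᵥ y := by
    rw [dotProduct_add, dotProduct_smul, hLv, smul_zero, add_zero]
  have hQt : Q Bs (y + t • v) = Q Bs y := by
    rw [Q_add_smul Bs hsym, hbyv, hqv]
    ring
  have hmax' : IsMax Bs L (y + t • v) := by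
    refine ⟨fun i => by simpa using ht1 i, by rw [hLt]; exact hmax.2.1, ?_⟩
    intro z hz hLz
    rw [hLt, hQt]
    exact hmax.2.2 z hz hLz
  exact absurd (hmin _ hmax') (not_le.2 ht2)

open Classical in
lemma cmat_eq (Bs : Matrix (Fin n) (Fin n) ℝ)
    (hsym : ∀ u v : Fin n → ℝ, u ⬝ᵥ Bs *ᵥ v = v ⬝ᵥ Bs *ᵥ u) (L y : Fin n → ℝ)
    (hmax : IsMax Bs L y) :
    Cmat Bs (fun i => y i ≠ 0) *ᵥ y =
      (Q Bs y / (L ⬝ᵥ y)) • (fun i => if y i ≠ 0 then L i else 0) := by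
  set lam : ℝ := Q Bs y / (L ⬝ᵥ y) with hlam
  have hc : 0 < L ⬝ᵥ y := hmax.2.1
  set w : Fin n → ℝ := fun j => (Bs *ᵥ y) j - lam * L j with hwdef
  set v : Fin n → ℝ := fun j => if y j ≠ 0 then w j else 0 with hvdef
  have hv : ∀ i, y i = 0 → v i = 0 := by
    intro i hi
    simp [hvdef, hi]
  have h1 := kkt Bs hsym L y hmax v hv
  rw [hsym y v] at h1
  have h2 : ∑ j, v j * w j = 0 := by
    have e1 : v ⬝ᵥ Bs *ᵥ y = ∑ j, v j * (Bs *ᵥ y) j := rfl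
    have e2 : L ⬝ᵥ v = ∑ j, L j * v j := rfl
    have e3 : ∑ j, v j * w j = (v ⬝ᵥ Bs *ᵥ y) - lam * (L ⬝ᵥ v) := by
      rw [e1, e2, Finset.mul_sum, ← Finset.sum_sub_distrib]
      apply Finset.sum_congr rfl
      intro j _
      simp only [hwdef]
      ring
    rw [e3]
    have : (L ⬝ᵥ y) * ((v ⬝ᵥ Bs *ᵥ y) - lam * (L ⬝ᵥ v)) = 0 := by
      rw [mul_sub, h1, hlam]
      field_simp
      ring
    exact (mul_eq_zero.1 this).resolve_left hc.ne'
  have h3 : ∀ j, v j * w j = 0 := by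
    have hnn : ∀ j ∈ Finset.univ, 0 ≤ v j * w j := by
      intro j _
      simp only [hvdef]
      split_ifs
      · exact mul_self_nonneg _
      · simp
    intro j
    exact (Finset.sum_eq_zero_iff_of_nonneg hnn).1 h2 j (Finset.mem_univ j)
  funext i
  rw [Cmat_mulVec]
  by_cases hi : y i = 0
  · simp [hi]
  · have := h3 i
    simp only [hvdef, hi, ne_eq, not_false_eq_true, if_true] at this
    have hw0 : w i = 0 := mul_self_eq_zero.1 this
    simp only [hwdef] at hw0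
    simp only [hi, ne_eq, not_false_eq_true, if_true, Pi.smul_apply, smul_eq_mul]
    linarith

lemma isMax_smul (Bs : Matrix (Fin n) (Fin n) ℝ) (L y : Fin n → ℝ) (hmax : IsMax Bs L y)
    (c : ℝ) (hc : 0 < c) : IsMax Bs L (c • y) := by
  obtain ⟨h1, h2, h3⟩ := hmax
  have hL : L ⬝ᵥ (c • y) = c * (L ⬝ᵥ y) := by rw [dotProduct_smul, smul_eq_mul]
  refine ⟨fun i => ?_, ?_, ?_⟩
  · simp only [Pi.smul_apply, smul_eq_mul]
    exact mul_nonneg hc.le (h1 i)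
  · rw [hL]
    exact mul_pos hc h2
  · intro z hz hLz
    rw [hL, Q_smul]
    have := h3 z hz hLz
    have hc2 : 0 < c ^ 2 := by positivity
    nlinarith [mul_le_mul_of_nonneg_left this hc2.le]

lemma isMax_final (Bs : Matrix (Fin n) (Fin n) ℝ) (L x : Fin n → ℝ)
    (hpos : ∀ y : Fin n → ℝ, (∀ i, 0 ≤ y i) → y ≠ 0 → 0 < Q Bs y)
    (hmax : IsMax Bs L x) (z : Fin n → ℝ) (hz : ∀ i, 0 ≤ z i) (hz0 : z ≠ 0) :
    L ⬝ᵥ z / Real.sqrt (Q Bs z) ≤ L ⬝ᵥ x / Real.sqrt (Q Bs x) := by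
  have hqx : 0 < Q Bs x := hpos x hmax.1 (isMax_ne_zero Bs L x hmax)
  have hqz : 0 < Q Bs z := hpos z hz hz0
  have hsx : 0 < Real.sqrt (Q Bs x) := Real.sqrt_pos.2 hqx
  have hsz : 0 < Real.sqrt (Q Bs z) := Real.sqrt_pos.2 hqz
  have hc : 0 < L ⬝ᵥ x := hmax.2.1
  rcases lt_or_ge (L ⬝ᵥ z) 0 with hneg | hnn
  · have h1 : L ⬝ᵥ z / Real.sqrt (Q Bs z) < 0 := div_neg_of_neg_of_pos hneg hsz
    have h2 : 0 < L ⬝ᵥ x / Real.sqrt (Q Bs x) := div_pos hc hsx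
    linarith
  · rw [div_le_div_iff₀ hsz hsx]
    have h := hmax.2.2 z hz hnn
    have e1 : L ⬝ᵥ z * Real.sqrt (Q Bs x) = Real.sqrt ((L ⬝ᵥ z) ^ 2 * Q Bs x) := by
      rw [Real.sqrt_mul (sq_nonneg _), Real.sqrt_sq hnn]
    have e2 : L ⬝ᵥ x * Real.sqrt (Q Bs z) = Real.sqrt ((L ⬝ᵥ x) ^ 2 * Q Bs z) := by
      rw [Real.sqrt_mul (sq_nonneg _), Real.sqrt_sq hc.le]
    rw [e1, e2]
    exact Real.sqrt_le_sqrt h

lemma map_mulVec_cast (M : Matrix (Fin n) (Fin n) ℚ) (u : Fin n → ℚ) :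
    (M.map (fun r : ℚ => (r : ℝ))) *ᵥ (fun i => (u i : ℝ)) = fun i => ((M *ᵥ u) i : ℝ) := by
  funext i
  simp only [Matrix.mulVec, dotProduct, Matrix.map_apply]
  push_cast
  rfl


open Classical in
/-- the main theorem: a rational maximizer exists. -/
theorem rational_maximizer (ℓ : Fin n → ℚ) (B : Matrix (Fin n) (Fin n) ℚ)
    (hpos : ∀ y : Fin n → ℝ, (∀ i, 0 ≤ y i) → y ≠ 0 →
      0 < y ⬝ᵥ (B.map (fun r : ℚ => (r : ℝ))) *ᵥ y)
    (hℓ : ∃ y : Fin n → ℝ, (∀ i, 0 ≤ y i) ∧ 0 < (fun i => (ℓ i : ℝ)) ⬝ᵥ y) :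
    ∃ x : Fin n → ℚ, (∀ i, 0 ≤ x i) ∧ x ≠ 0 ∧
      ∀ y : Fin n → ℝ, (∀ i, 0 ≤ y i) → y ≠ 0 →
        (fun i => (ℓ i : ℝ)) ⬝ᵥ y / Real.sqrt (y ⬝ᵥ (B.map (fun r : ℚ => (r : ℝ))) *ᵥ y) ≤
          (fun i => (ℓ i : ℝ)) ⬝ᵥ (fun i => (x i : ℝ)) /
            Real.sqrt ((fun i => (x i : ℝ)) ⬝ᵥ (B.map (fun r : ℚ => (r : ℝ))) *ᵥ
              (fun i => (x i : ℝ))) := by
  set Br : Matrix (Fin n) (Fin n) ℝ := B.map (fun r : ℚ => (r : ℝ)) with hBr
  set L : Fin n → ℝ := fun i => (ℓ i : ℝ) with hL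
  set Bq : Matrix (Fin n) (Fin n) ℚ := (1 / 2 : ℚ) • (B + Bᵀ) with hBq
  set Bs : Matrix (Fin n) (Fin n) ℝ := Bq.map (fun r : ℚ => (r : ℝ)) with hBs
  have hBsBr : Bs = (1 / 2 : ℝ) • (Br + Brᵀ) := by
    ext i j
    simp only [hBs, hBq, hBr, Matrix.map_apply, Matrix.smul_apply, Matrix.add_apply,
      Matrix.transpose_apply, smul_eq_mul]
    push_cast
    ring
  have hBsT : Bsᵀ = Bs := by
    rw [hBsBr, Matrix.transpose_smul, Matrix.transpose_add, Matrix.transpose_transpose, add_comm]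
  have hsym : ∀ u v : Fin n → ℝ, u ⬝ᵥ Bs *ᵥ v = v ⬝ᵥ Bs *ᵥ u := by
    intro u v
    rw [Matrix.dotProduct_mulVec, ← Matrix.mulVec_transpose, hBsT, dotProduct_comm]
  have hQ : ∀ y : Fin n → ℝ, y ⬝ᵥ Br *ᵥ y = Q Bs y := by
    intro y
    have hT : y ⬝ᵥ Brᵀ *ᵥ y = y ⬝ᵥ Br *ᵥ y := by
      rw [Matrix.mulVec_transpose, dotProduct_comm, ← Matrix.dotProduct_mulVec]
    simp only [Q, hBsBr, Matrix.smul_mulVec, Matrix.add_mulVec, dotProduct_smul, dotProduct_add,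
      hT, smul_eq_mul]
    ring
  have hpos' : ∀ y : Fin n → ℝ, (∀ i, 0 ≤ y i) → y ≠ 0 → 0 < Q Bs y := by
    intro y hy hy0
    rw [← hQ]
    exact hpos y hy hy0
  obtain ⟨y₁, hy₁⟩ := exists_isMax Bs L hpos' hℓ
  obtain ⟨y, hy, hmin'⟩ := (measure (fun y : Fin n → ℝ => (supp y).card)).wf.has_min
    {y | IsMax Bs L y} ⟨y₁, hy₁⟩
  have hmin : ∀ z, IsMax Bs L z → (supp y).card ≤ (supp z).card := by
    intro z hz
    exact not_lt.1 (hmin' z hz)
  have hy' : IsMax Bs L y := hy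
  -- the rational KKT matrix
  set Cq : Matrix (Fin n) (Fin n) ℚ := Cmat Bq (fun i => y i ≠ 0) with hCq
  have hCmap : Cq.map (fun r : ℚ => (r : ℝ)) = Cmat Bs (fun i => y i ≠ 0) := by
    ext i j
    simp only [hCq, hBs, Cmat, Matrix.map_apply]
    split_ifs <;> simp
  have hCinj : Function.Injective (Matrix.mulVecLin Cq) := by
    rw [← LinearMap.ker_eq_bot, LinearMap.ker_eq_bot']
    intro u hu
    have h1 : (Cq.map (fun r : ℚ => (r : ℝ))) *ᵥ (fun i => (u i : ℝ)) = 0 := by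
      rw [map_mulVec_cast]
      have : Cq *ᵥ u = 0 := hu
      rw [this]
      funext i
      simp
    rw [hCmap] at h1
    have h2 := cmat_ker Bs hsym L y hpos' hy' hmin _ h1
    funext i
    have := congrFun h2 i
    simpa using this
  have hCsurj : Function.Surjective (Matrix.mulVecLin Cq) :=
    LinearMap.injective_iff_surjective.1 hCinj
  obtain ⟨x, hx⟩ := hCsurj (fun i => if y i ≠ 0 then ℓ i else 0)
  have hx' : Cq *ᵥ x = fun i => if y i ≠ 0 then ℓ i else 0 := hx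
  set xr : Fin n → ℝ := fun i => (x i : ℝ) with hxr
  have hc : 0 < L ⬝ᵥ y := hy'.2.1
  have hq : 0 < Q Bs y := hpos' y hy'.1 (isMax_ne_zero Bs L y hy')
  set lam : ℝ := Q Bs y / (L ⬝ᵥ y) with hlam
  have hlampos : 0 < lam := div_pos hq hc
  have hCx : Cmat Bs (fun i => y i ≠ 0) *ᵥ xr = fun i => if y i ≠ 0 then L i else 0 := by
    rw [← hCmap, hxr, map_mulVec_cast, hx']
    funext i
    by_cases hi : y i = 0
    · simp [hi]
    · simp [hi, hL]
  have hyx : y = lam • xr := by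
    have h1 : Cmat Bs (fun i => y i ≠ 0) *ᵥ (y - lam • xr) = 0 := by
      rw [Matrix.mulVec_sub, Matrix.mulVec_smul, hCx, cmat_eq Bs hsym L y hy', sub_self]
    have := cmat_ker Bs hsym L y hpos' hy' hmin _ h1
    exact sub_eq_zero.1 this
  have hxry : xr = lam⁻¹ • y := by
    rw [hyx, smul_smul, inv_mul_cancel₀ hlampos.ne', one_smul]
  have hxmax : IsMax Bs L xr := by
    rw [hxry]
    exact isMax_smul Bs L y hy' _ (inv_pos.2 hlampos)
  refine ⟨x, ?_, ?_, ?_⟩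
  · intro i
    have := hxmax.1 i
    simp only [hxr] at this
    exact_mod_cast this
  · intro hx0
    apply isMax_ne_zero Bs L xr hxmax
    funext i
    simp [hxr, hx0]
  · intro z hz hz0
    rw [hQ, hQ]
    exact isMax_final Bs L xr hpos' hxmax z hz hz0

end Groth.Agent.Lib.Seat94.RatMax
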