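import Mathlib

/-!
# Seat94: local immersions of finite type schemes over a field into regular schemes

* `isRegularLocalRing_stalk_Spec`: all local rings of the spectrum of a regular ring are regular.
* `exists_factor_affine`: an affine scheme locally of finite type over a field `k` admits an
  immersion over `k` into an affine space `Spec k[X₁,…,Xₙ]`.
-/

set_option autoImplicit false
open CategoryTheory AlgebraicGeometry TopologicalSpace
universe u

namespace Groth.Agent.Lib.Seat94.RegularImm

/-- all local rings of the spectrum of a regular ring are regular. -/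
theorem isRegularLocalRing_stalk_Spec (R : CommRingCat.{u}) [IsRegularRing R] (y : Spec R) :
    IsRegularLocalRing ((Spec R).presheaf.stalk y) := by
  let p : PrimeSpectrum R := y
  have : p.asIdeal.IsPrime := p.2
  have h : IsRegularLocalRing (Localization.AtPrime p.asIdeal) :=
    IsRegularRing.isRegularLocalRing_localization p.asIdeal
  have := StructureSheaf.IsLocalization.to_stalk R p
  let e : Localization.AtPrime p.asIdeal ≃ₐ[R] ((Spec.structureSheaf R).presheaf.stalk p) :=
    IsLocalization.algEquiv p.asIdeal.primeCompl _ _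
  exact IsRegularLocalRing.of_ringEquiv e.toRingEquiv

/-- an affine scheme `U` with a morphism `h` locally of finite type to `Spec k` factors as an
isomorphism followed by a closed immersion into an affine space `Spec k[X₁,…,Xₙ]`. -/
theorem exists_factor_affine (k : Type u) [Field k] {U : Scheme.{u}} [IsAffine U]
    (h : U ⟶ Spec (CommRingCat.of k)) [LocallyOfFiniteType h] :
    ∃ (n : ℕ) (i : U ⟶ Spec (CommRingCat.of (MvPolynomial (Fin n) k))),
      IsImmersion i ∧
      i ≫ Spec.map (CommRingCat.ofHom (MvPolynomial.C : k →+* MvPolynomial (Fin n) k)) = h := by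
  let A : CommRingCat.{u} := Γ(U, ⊤)
  let e : U ≅ Spec A := U.isoSpec
  let ψ : CommRingCat.of k ⟶ A := (Scheme.ΓSpecIso (CommRingCat.of k)).inv ≫ h.appTop
  have hfac : h = e.hom ≫ Spec.map ψ := by
    have h1 := Scheme.isoSpec_hom_naturality h
    rw [Scheme.isoSpec_Spec_hom] at h1
    have h2 : h = (h ≫ Spec.map (Scheme.ΓSpecIso (CommRingCat.of k)).hom) ≫
        Spec.map (Scheme.ΓSpecIso (CommRingCat.of k)).inv := by
      rw [Category.assoc, ← Spec.map_comp, Iso.inv_hom_id, Spec.map_id, Category.comp_id]
    rw [h2, ← h1, Category.assoc, ← Spec.map_comp]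
  have hlft : LocallyOfFiniteType (Spec.map ψ) := by
    have : Spec.map ψ = e.inv ≫ h := by rw [hfac, Iso.inv_hom_id_assoc]
    rw [this]; infer_instance
  have hψ : ψ.hom.FiniteType := (HasRingHomProperty.Spec_iff (P := @LocallyOfFiniteType)).mp hlft
  let _ : Algebra k A := ψ.hom.toAlgebra
  have hft : Algebra.FiniteType k A := hψ
  obtain ⟨n, φ, hφ⟩ := Algebra.FiniteType.iff_quotient_mvPolynomial''.mp hft
  let φ' : CommRingCat.of (MvPolynomial (Fin n) k) ⟶ A :=
    CommRingCat.ofHom (φ : MvPolynomial (Fin n) k →+* A)
  have hci : IsClosedImmersion (Spec.map φ') := IsClosedImmersion.spec_of_surjective φ' hφ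
  refine ⟨n, e.hom ≫ Spec.map φ', inferInstance, ?_⟩
  rw [Category.assoc, ← Spec.map_comp, hfac]
  congr 2
  ext a
  exact φ.commutes a

end Groth.Agent.Lib.Seat94.RegularImm
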