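import Mathlib
import Groth.Agent.Lib.Seat94FlatCompl
import Groth.Agent.Lib.Helper3FibSmSch

/-!
# Seat94: smoothness of a proper morphism versus smoothness of its base change to an adic completion

* `formallySmooth_stalkMap_of_factor`: smoothness of `X ×_A T → T` at a point whose residue field map
  factors through `Spec (A/I)`, from smoothness of the reduction modulo `I` (fibrewise criterion).
* `smooth_completion_of_smooth`: `X` flat over `V`, reduction `h₀` smooth ⇒ `X ×_A Â → Spec Â` smooth.
* `smooth_reduction_of_smooth_completion`: the reduction is a base change of the completion.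
-/

set_option autoImplicit false
set_option linter.style.haveILetI false
open CategoryTheory CategoryTheory.Limits AlgebraicGeometry TopologicalSpace TensorProduct
universe u

namespace Groth.Agent.Lib.Seat94.SmoothCompl

open Groth.Agent.Lib.Seat94.FlatCompl

/-- Smoothness at a point of `X ×_A T` over `T` whose residue field map factors through
`Spec (A/I)`, given smoothness of the reduction of `h` modulo `I` and flatness. -/
theorem formallySmooth_stalkMap_of_factor {A : Type u} [CommRing A] (I : Ideal A)
    {X T : Scheme.{u}} (h : X ⟶ Spec (CommRingCat.of A)) (c : T ⟶ Spec (CommRingCat.of A))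
    [LocallyOfFinitePresentation (pullback.snd h c)] [Flat (pullback.snd h c)]
    (h0 : Smooth (pullback.snd h (Spec.map (CommRingCat.ofHom (Ideal.Quotient.mk I)))))
    (x₀ : ↥(pullback h c))
    (r : Spec (T.residueField (pullback.snd h c x₀)) ⟶ Spec (CommRingCat.of (A ⧸ I)))
    (hr : r ≫ Spec.map (CommRingCat.ofHom (Ideal.Quotient.mk I)) =
      T.fromSpecResidueField (pullback.snd h c x₀) ≫ c) :
    ((pullback.snd h c).stalkMap x₀).hom.FormallySmooth := by
  let f := pullback.snd h c
  let s := f x₀
  obtain ⟨pX, hL⟩ := exists_isPullback_of_factor I h c (T.fromSpecResidueField s) r hr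
  have hφ : Smooth (pullback.snd f (T.fromSpecResidueField s)) := by
    have : pullback.snd f (T.fromSpecResidueField s) = hL.isoPullback.inv ≫
        pullback.snd (pullback.snd h (Spec.map (CommRingCat.ofHom (Ideal.Quotient.mk I)))) r := by
      rw [Iso.eq_inv_comp, IsPullback.isoPullback_hom_snd]
    rw [this]
    infer_instance
  have hφ' : ∀ (q : pullback h c ⟶ T), q = f → Smooth (pullback.snd q (T.fromSpecResidueField s)) := by
    rintro q rfl
    exact hφ
  have hflat' : ((f ≫ 𝟙 T).stalkMap x₀).hom.Flat := Flat.stalkMap _ _
  refine Groth.Agent.Lib.Helper3.FibSmSch.formallySmooth_stalkMap_of_flat_of_fibre f (𝟙 T) x₀ s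
    rfl hflat' ⊤ trivial ?_
  have hFM : Smooth (CohIII.fiberMapOver f (f ≫ 𝟙 T) (𝟙 T) rfl s) := by
    have e : CohIII.fiberMapOver f (f ≫ 𝟙 T) (𝟙 T) rfl s ≫
        pullback.snd (𝟙 T) (T.fromSpecResidueField s) =
        pullback.snd (f ≫ 𝟙 T) (T.fromSpecResidueField s) :=
      (pullback.lift_snd _ _ _).trans (Category.comp_id _)
    have h1 : Smooth (CohIII.fiberMapOver f (f ≫ 𝟙 T) (𝟙 T) rfl s ≫
        pullback.snd (𝟙 T) (T.fromSpecResidueField s)) := by
      rw [e]
      exact hφ' _ (Category.comp_id f)
    haveI : MorphismProperty.RespectsIso @Smooth.{u} :=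
      MorphismProperty.IsStableUnderBaseChange.respectsIso
    exact (MorphismProperty.cancel_right_of_respectsIso @Smooth _
      (pullback.snd (𝟙 T) (T.fromSpecResidueField s))).mp h1
  infer_instance

/-- If `X` is flat over the Noetherian local ring `V` and the reduction of `h : X → Spec A` modulo
`mA` is smooth, then the base change of `h` to the `mA`-adic completion of `A` is smooth, provided
that base change is a closed map (e.g. `h` proper). -/
theorem smooth_completion_of_smooth (V A : Type u) [CommRing V] [IsLocalRing V]
    [IsNoetherianRing V] [CommRing A] [Algebra V A] [IsNoetherianRing A]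
    {X : Scheme.{u}} (h : X ⟶ Spec (CommRingCat.of A)) [LocallyOfFiniteType h]
    (hcl : IsClosedMap (pullback.snd h (Spec.map (CommRingCat.ofHom (algebraMap A
      (AdicCompletion ((IsLocalRing.maximalIdeal V).map (algebraMap V A)) A))))))
    (hG : Flat (h ≫ Spec.map (CommRingCat.ofHom (algebraMap V A))))
    (h0 : Smooth (pullback.snd h (Spec.map (CommRingCat.ofHom
      (Ideal.Quotient.mk ((IsLocalRing.maximalIdeal V).map (algebraMap V A))))))) :
    Smooth (pullback.snd h (Spec.map (CommRingCat.ofHom (algebraMap A
      (AdicCompletion ((IsLocalRing.maximalIdeal V).map (algebraMap V A)) A))))) := by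
  set I := (IsLocalRing.maximalIdeal V).map (algebraMap V A) with hI
  haveI : IsNoetherianRing (AdicCompletion I A) :=
    Groth.Agent.Lib.Helper19.isNoetherianRing_adicCompletion I
  set c := Spec.map (CommRingCat.ofHom (algebraMap A (AdicCompletion I A))) with hc
  haveI hfl : Flat (pullback.snd h c) := flat_completion_of_flat V A h hcl hG inferInstance
  haveI : IsLocallyNoetherian (Spec (CommRingCat.of (AdicCompletion I A))) := inferInstance
  haveI : LocallyOfFinitePresentation (pullback.snd h c) :=
    LocallyOfFinitePresentation.iff_locallyOfFiniteType.mpr inferInstance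
  rw [← Scheme.Hom.smoothLocus_eq_top_iff, eq_top_iff]
  rintro x -
  have hIfg : I.FG := IsNoetherian.noetherian I
  haveI := AdicCompletion.isAdicComplete_self I hIfg
  obtain ⟨x₀, hsp, hx₀⟩ := exists_specializes_of_le_jacobson
    (I.map (algebraMap A (AdicCompletion I A))) (IsAdicComplete.le_jacobson_bot _)
    (pullback.snd h c) hcl x
  refine hsp.mem_open (pullback.snd h c).smoothLocus.2 ?_
  change ((pullback.snd h c).stalkMap x₀).hom.FormallySmooth
  let y := pullback.snd h c x₀
  let ψ : CommRingCat.of (AdicCompletion I A) ⟶
      (Spec (CommRingCat.of (AdicCompletion I A))).residueField y :=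
    Spec.preimage ((Spec (CommRingCat.of (AdicCompletion I A))).fromSpecResidueField y)
  have hψ : Spec.map ψ = (Spec (CommRingCat.of (AdicCompletion I A))).fromSpecResidueField y :=
    Spec.map_preimage _
  let ρ : A ⧸ I →+* (Spec (CommRingCat.of (AdicCompletion I A))).residueField y :=
    Ideal.Quotient.lift I (ψ.hom.comp (algebraMap A (AdicCompletion I A)))
      (fun a ha => preimage_fromSpecResidueField_eq_zero (AdicCompletion I A) y _
        (hx₀ (Ideal.mem_map_of_mem _ ha)))
  have hr : Spec.map (CommRingCat.ofHom ρ) ≫ Spec.map (CommRingCat.ofHom (Ideal.Quotient.mk I)) =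
      (Spec (CommRingCat.of (AdicCompletion I A))).fromSpecResidueField y ≫ c := by
    rw [← hψ, hc, ← Spec.map_comp, ← Spec.map_comp]
    rfl
  exact formallySmooth_stalkMap_of_factor I h c h0 x₀ (Spec.map (CommRingCat.ofHom ρ)) hr

/-- Smoothness of the reduction modulo `I` from smoothness of the base change to the completion. -/
theorem smooth_reduction_of_smooth_completion {A : Type u} [CommRing A] (I : Ideal A)
    {X : Scheme.{u}} (h : X ⟶ Spec (CommRingCat.of A))
    (hh : Smooth (pullback.snd h
      (Spec.map (CommRingCat.ofHom (algebraMap A (AdicCompletion I A)))))) :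
    Smooth (pullback.snd h (Spec.map (CommRingCat.ofHom (Ideal.Quotient.mk I)))) := by
  set c := Spec.map (CommRingCat.ofHom (algebraMap A (AdicCompletion I A))) with hc
  let ε : Spec (CommRingCat.of (A ⧸ I)) ⟶ Spec (CommRingCat.of (AdicCompletion I A)) :=
    Spec.map (CommRingCat.ofHom (AdicCompletion.evalOneₐ I).toRingHom)
  have e : Spec.map (CommRingCat.ofHom (Ideal.Quotient.mk I)) = ε ≫ c := by
    rw [hc, ← Spec.map_comp]
    rfl
  rw [e]
  have : pullback.snd h (ε ≫ c) =
      (pullbackLeftPullbackSndIso h c ε).inv ≫ pullback.snd (pullback.snd h c) ε := by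
    rw [Iso.eq_inv_comp, pullbackLeftPullbackSndIso_hom_snd]
  rw [this]
  infer_instance

end Groth.Agent.Lib.Seat94.SmoothCompl
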