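import Mathlib

set_option autoImplicit false
universe u
open CategoryTheory AlgebraicGeometry

namespace Groth.Agent.Lib.Seat94.SteinOpen

/-- If `O_Y(U) → O_X(f⁻¹U)` is bijective for all affine opens `U`, then the relative normalization
of `Y` in `X` is `Y` itself. -/
theorem isIso_fromNormalization {X Y : Scheme.{u}} (f : X ⟶ Y) [QuasiCompact f] [QuasiSeparated f]
    (hO : ∀ U : Y.Opens, IsAffineOpen U → Function.Bijective (f.app U)) :
    IsIso f.fromNormalization := by
  change MorphismProperty.isomorphisms Scheme f.fromNormalization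
  rw [HasAffineProperty.eq_targetAffineLocally (P := MorphismProperty.isomorphisms Scheme)]
  intro U
  have hU : IsAffineOpen U.1 := U.2
  refine ⟨hU.preimage f.fromNormalization, ?_⟩
  rw [morphismRestrict_appTop]
  have key : ∀ W : Y.Opens, W = U.1 → IsIso (f.fromNormalization.app W) := by
    rintro _ rfl
    rw [f.fromNormalization_app hU]
    suffices IsIso (CommRingCat.ofHom (algebraMap Γ(Y, U.1)
        (@integralClosure Γ(Y, U.1) Γ(X, f ⁻¹ᵁ U.1) _ _ (f.app U.1).hom.toAlgebra))) by
      infer_instance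
    let := (f.app U.1).hom.toAlgebra
    rw [ConcreteCategory.isIso_iff_bijective]
    constructor
    · intro a b hab
      apply (hO U.1 hU).1
      exact congrArg Subtype.val hab
    · intro a
      obtain ⟨b, hb⟩ := (hO U.1 hU).2 a.1
      exact ⟨b, Subtype.ext hb⟩
  have := key (U.1.ι ''ᵁ ⊤) (by simp)
  rw [eqToHom_op, eqToHom_map]
  exact IsIso.comp_isIso' this (CategoryTheory.instIsIsoEqToHom _)

theorem isIso_morphismRestrict_of_comp {X Y Z : Scheme.{u}} (g : X ⟶ Z) (a : X ⟶ Y) (b : Y ⟶ Z)
    (h : a ≫ b = g) (V : Z.Opens) (ha : IsIso (a ∣_ b ⁻¹ᵁ V)) [IsIso b] : IsIso (g ∣_ V) := by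
  subst h
  rw [morphismRestrict_comp]
  exact IsIso.comp_isIso' ha inferInstance

theorem isIso_morphismRestrict_of_eq {X Y : Scheme.{u}} (f : X ⟶ Y) {U V : Y.Opens} (e : U = V)
    (h : IsIso (f ∣_ U)) : IsIso (f ∣_ V) := by
  subst e; exact h

/-- If `O_Y → f_*O_X` is an isomorphism with `f` separated of finite type, then `f` is an
isomorphism over an open `V` of `Y` and no fibre outside `V` has an isolated point. -/
theorem exists_open_isIso {X Y : Scheme.{u}} (f : X ⟶ Y)
    [IsSeparated f] [LocallyOfFiniteType f] [QuasiCompact f]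
    (hO : ∀ U : Y.Opens, Function.Bijective (f.app U)) :
    ∃ V : Y.Opens, IsIso (f ∣_ V) ∧
      ∀ y : Y, y ∉ (V : Set Y) → ∀ x : ↥(f.fiber y), ¬ IsOpen ({x} : Set ↥(f.fiber y)) := by
  have hiso : IsIso f.fromNormalization := isIso_fromNormalization f fun U _ => hO U
  obtain ⟨U0, hU0, e0⟩ := f.exists_isIso_morphismRestrict_toNormalization
  refine ⟨(inv f.fromNormalization) ⁻¹ᵁ U0, ?_, ?_⟩
  · refine isIso_morphismRestrict_of_comp f f.toNormalization f.fromNormalization
      f.toNormalization_fromNormalization _ ?_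
    refine isIso_morphismRestrict_of_eq _ ?_ hU0
    rw [← Scheme.Hom.comp_preimage, IsIso.hom_inv_id]
    rfl
  · intro y hy x hx
    rw [← (f.fiberHomeo y).isOpen_image, Set.image_singleton] at hx
    generalize (f.fiberHomeo y) x = z at hx
    clear x
    obtain ⟨x, hxy⟩ := z
    have hxy' : f x = y := hxy
    subst hxy'
    have hq : f.QuasiFiniteAt x := by
      rw [Scheme.Hom.quasiFiniteAt_iff_isOpen_singleton_asFiber,
        ← (f.fiberHomeo (f x)).isOpen_image, Set.image_singleton]
      simpa [Scheme.Hom.asFiber] using hx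
    have hx0 : x ∈ (f.toNormalization ⁻¹ᵁ U0).1 := by rw [e0]; exact hq
    apply hy
    show (inv f.fromNormalization) (f x) ∈ U0
    have : f x = f.fromNormalization (f.toNormalization x) := by
      rw [← Scheme.Hom.comp_apply, f.toNormalization_fromNormalization]
    rw [this, ← Scheme.Hom.comp_apply, IsIso.hom_inv_id]
    exact hx0

end Groth.Agent.Lib.Seat94.SteinOpen
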