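import Mathlib.RingTheory.Smooth.Local
import Mathlib.RingTheory.Smooth.Locus
import Mathlib.RingTheory.Etale.Kaehler
import Mathlib.RingTheory.RingHom.Surjective
import Mathlib.RingTheory.Localization.Algebra
import Mathlib.LinearAlgebra.Isomorphisms
import Mathlib.Tactic

/-!
# Smoothness of a closed subscheme along a section

Let `A` be a smooth `R`-algebra with an augmentation `ε : A → R`, `I = ker ε`, and `J ⊆ I` a
finitely generated ideal with `J ∩ I² = I J` and `I / (J + I²)` projective over `R`. Then `A / J`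
is smooth over `R` at every prime containing the image of `I`.

The proof uses the Jacobian criterion
(`Algebra.FormallySmooth.iff_injective_cotangentComplexBaseChange_residueField`): a retraction
of `κ ⊗ J_Q → κ ⊗ Ω` is built from an `R`-derivation `A → κ ⊗ J_Q` which restricts to the
canonical map on `J`.
-/

set_option autoImplicit false
universe u

open TensorProduct

namespace Groth.Agent.Lib.Seat94.UnitSection

/-- extension of a map on `J` killing `J ⊓ I'` to `J ⊔ I'`, by zero on `I'`. -/
theorem exists_extension_sup {A : Type*} [CommRing A] (J I' : Ideal A)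
    {M : Type*} [AddCommGroup M] [Module A M] (φ : ↥J →ₗ[A] M)
    (hφ : ∀ x : ↥J, (x : A) ∈ I' → φ x = 0) :
    ∃ ψ : ↥(J ⊔ I') →ₗ[A] M, (∀ (x : ↥(J ⊔ I')) (hx : (x : A) ∈ J), ψ x = φ ⟨x, hx⟩) ∧
      ∀ (x : ↥(J ⊔ I')), (x : A) ∈ I' → ψ x = 0 := by
  let φbar : (↥J ⧸ (Submodule.comap J.subtype J ⊓ Submodule.comap J.subtype I')) →ₗ[A] M :=
    Submodule.liftQ _ φ (by
      intro x hx
      rw [LinearMap.mem_ker]
      exact hφ x hx.2)
  let E := LinearMap.quotientInfEquivSupQuotient J I'
  let ψ : ↥(J ⊔ I') →ₗ[A] M :=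
    φbar ∘ₗ E.symm.toLinearMap ∘ₗ (Submodule.comap (J ⊔ I').subtype I').mkQ
  refine ⟨ψ, ?_, ?_⟩
  · intro x hx
    have : E.symm ((Submodule.comap (J ⊔ I').subtype I').mkQ x) =
        Submodule.Quotient.mk ⟨x, hx⟩ :=
      LinearMap.quotientInfEquivSupQuotient_symm_apply_left _ _ x hx
    change φbar (E.symm ((Submodule.comap (J ⊔ I').subtype I').mkQ x)) = _
    rw [this]
    rfl
  · intro x hx
    have : E.symm ((Submodule.comap (J ⊔ I').subtype I').mkQ x) = 0 :=
      LinearMap.quotientInfEquivSupQuotient_symm_apply_right _ _ hx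
    change φbar (E.symm ((Submodule.comap (J ⊔ I').subtype I').mkQ x)) = _
    rw [this, map_zero]

/-- an `R`-linear projection of `I` onto `U ⊓ I` when `I / U` is projective. -/
theorem exists_projection {R A : Type*} [CommRing R] [CommRing A] [Algebra R A]
    (I U : Ideal A) [Module.Projective R (↥I ⧸ Submodule.comap I.subtype U)] :
    ∃ e : ↥I →ₗ[R] ↥U, ∀ x : ↥I, (x : A) ∈ U → ((e x : ↥U) : A) = x := by
  let π : ↥I →ₗ[R] (↥I ⧸ Submodule.comap I.subtype U) :=
    (Submodule.comap I.subtype U).mkQ.restrictScalars R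
  have hπ : Function.Surjective π := by
    intro n
    obtain ⟨y, rfl⟩ := Submodule.Quotient.mk_surjective _ n
    exact ⟨y, rfl⟩
  obtain ⟨s, hs⟩ := Module.projective_lifting_property π LinearMap.id hπ
  have hs' : ∀ n, π (s n) = n := fun n => LinearMap.congr_fun hs n
  have hπ0 : ∀ x : ↥I, π x = 0 ↔ (x : A) ∈ U := by
    intro x
    change Submodule.Quotient.mk x = 0 ↔ _
    rw [Submodule.Quotient.mk_eq_zero]
    rfl
  have hmem : ∀ x : ↥I, ((x - s (π x) : ↥I) : A) ∈ U := by
    intro x
    rw [← hπ0, map_sub, hs', sub_self]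
  refine ⟨{ toFun := fun x => ⟨((x - s (π x) : ↥I) : A), hmem x⟩
            map_add' := fun x y => by
              apply Subtype.ext
              simp only [map_add, Submodule.coe_add, Submodule.coe_sub]
              ring
            map_smul' := fun r x => by
              apply Subtype.ext
              simp only [map_smul, Submodule.coe_smul_of_tower, Submodule.coe_sub, RingHom.id_apply,
                smul_sub] }, ?_⟩
  intro x hx
  have : π x = 0 := (hπ0 x).2 hx
  simp only [LinearMap.coe_mk, AddHom.coe_mk, this, map_zero, sub_zero]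

/-- a derivation `A → M` extending a given `A`-linear map on `J`, for a module `M` killed by the
augmentation ideal. -/
theorem exists_derivation_of_projective
    {R A : Type*} [CommRing R] [CommRing A] [Algebra R A]
    (ε : A →ₐ[R] R) (J : Ideal A) (hJI : J ≤ RingHom.ker ε)
    (h2 : J ⊓ RingHom.ker ε ^ 2 ≤ RingHom.ker ε * J)
    [Module.Projective R (↥(RingHom.ker ε) ⧸
      Submodule.comap (RingHom.ker ε).subtype (J ⊔ RingHom.ker ε ^ 2))]
    {M : Type*} [AddCommGroup M] [Module R M] [Module A M] [IsScalarTower R A M]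
    (hIM : ∀ i ∈ RingHom.ker ε, ∀ m : M, i • m = 0)
    (φ : ↥J →ₗ[A] M) :
    ∃ δ : Derivation R A M, ∀ (j : A) (hj : j ∈ J), δ j = φ ⟨j, hj⟩ := by
  obtain ⟨I, hI⟩ : ∃ I : Ideal A, I = RingHom.ker ε := ⟨_, rfl⟩
  rw [← hI] at hJI h2 hIM
  have inst : Module.Projective R (↥I ⧸ Submodule.comap I.subtype (J ⊔ I ^ 2)) := by
    subst hI; infer_instance
  -- φ kills `I * J`
  have hφ : ∀ x : ↥J, (x : A) ∈ I ^ 2 → φ x = 0 := by
    intro x hx
    have hx' : (x : A) ∈ I * J := h2 ⟨x.2, hx⟩
    rw [← smul_eq_mul, ← Submodule.mem_smul_top_iff] at hx'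
    refine Submodule.smul_induction_on hx' ?_ ?_
    · intro i hi n _
      rw [map_smul, hIM i hi]
    · intro x y hx hy
      rw [map_add, hx, hy, add_zero]
  obtain ⟨ψ, ψ_left, ψ_right⟩ := exists_extension_sup J (I ^ 2) φ hφ
  obtain ⟨e, he⟩ := exists_projection (R := R) I (J ⊔ I ^ 2)
  have hεmem : ∀ a : A, a - algebraMap R A (ε a) ∈ I := by
    intro a
    rw [hI, RingHom.mem_ker, map_sub, AlgHom.commutes, Algebra.algebraMap_self_apply, sub_self]
  let η : A →ₗ[R] ↥I :=
    { toFun := fun a => ⟨a - algebraMap R A (ε a), hεmem a⟩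
      map_add' := fun a b => by
        apply Subtype.ext
        simp only [map_add, Submodule.coe_add]
        ring
      map_smul' := fun r a => by
        apply Subtype.ext
        simp only [Submodule.coe_smul_of_tower, RingHom.id_apply,
          Algebra.smul_def, map_mul, AlgHom.commutes, Algebra.algebraMap_self_apply]
        ring }
  let ρ : ↥I →ₗ[R] M := (ψ.restrictScalars R) ∘ₗ e
  have ρ_sq : ∀ x : ↥I, (x : A) ∈ I ^ 2 → ρ x = 0 := by
    intro x hx
    have h1 : ((e x : ↥(J ⊔ I ^ 2)) : A) = x := he x (Submodule.mem_sup_right hx)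
    change ψ (e x) = 0
    apply ψ_right
    rw [h1]
    exact hx
  have ρ_J : ∀ (x : ↥I) (hx : (x : A) ∈ J), ρ x = φ ⟨x, hx⟩ := by
    intro x hx
    have h1 : ((e x : ↥(J ⊔ I ^ 2)) : A) = x := he x (Submodule.mem_sup_left hx)
    change ψ (e x) = _
    have h2 : ((e x : ↥(J ⊔ I ^ 2)) : A) ∈ J := by rw [h1]; exact hx
    rw [ψ_left _ h2]
    congr 1
    exact Subtype.ext h1
  let ℓ₀ : A →ₗ[R] M := ρ ∘ₗ η
  have hsmul : ∀ (a : A) (m : M), a • m = ε a • m := by
    intro a m
    have : a = (a - algebraMap R A (ε a)) + algebraMap R A (ε a) := by ring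
    conv_lhs => rw [this]
    rw [add_smul, hIM _ (hεmem a), zero_add, algebraMap_smul]
  have hη : ∀ a b : A, η (a * b) = ε a • η b + ε b • η a +
      ⟨(a - algebraMap R A (ε a)) * (b - algebraMap R A (ε b)),
        Ideal.mul_mem_left _ _ (hεmem b)⟩ := by
    intro a b
    apply Subtype.ext
    simp only [η, LinearMap.coe_mk, AddHom.coe_mk, Submodule.coe_add, Submodule.coe_smul_of_tower,
      map_mul, Algebra.smul_def, Algebra.algebraMap_self_apply]
    ring
  refine ⟨Derivation.mk' ℓ₀ ?_, ?_⟩
  · intro a b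
    change ρ (η (a * b)) = a • ρ (η b) + b • ρ (η a)
    have h0 : ρ ⟨(a - algebraMap R A (ε a)) * (b - algebraMap R A (ε b)),
        Ideal.mul_mem_left _ _ (hεmem b)⟩ = 0 :=
      ρ_sq _ (by rw [pow_two]; exact Ideal.mul_mem_mul (hεmem a) (hεmem b))
    rw [hη, map_add, map_add, map_smul, map_smul, h0, add_zero, hsmul a, hsmul b]
  · intro j hj
    have hεj : ε j = 0 := by
      have := hJI hj
      rwa [hI, RingHom.mem_ker] at this
    have hηj : η j = ⟨j, hJI hj⟩ := by
      apply Subtype.ext
      simp only [η, LinearMap.coe_mk, AddHom.coe_mk, hεj, map_zero, sub_zero]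
    change ρ (η j) = _
    rw [hηj, ρ_J _ hj]

/-- the abstract injectivity statement behind the Jacobian criterion. -/
theorem injective_cotangentComplexBaseChange
    {R A A' S' K : Type*} [CommRing R] [CommRing A] [CommRing A'] [CommRing S'] [Field K]
    [Algebra R A] [Algebra R A'] [Algebra A A'] [IsScalarTower R A A']
    [Algebra A' S'] [Algebra A' K] [Algebra S' K] [IsScalarTower A' S' K]
    [Algebra A K] [IsScalarTower A A' K] [Algebra R K] [IsScalarTower R A K] [IsScalarTower R A' K]
    [Algebra.FormallyEtale A A']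
    (ε : A →ₐ[R] R) (J : Ideal A) (hJI : J ≤ RingHom.ker ε)
    (h2 : J ⊓ RingHom.ker ε ^ 2 ≤ RingHom.ker ε * J)
    [Module.Projective R (↥(RingHom.ker ε) ⧸
      Submodule.comap (RingHom.ker ε).subtype (J ⊔ RingHom.ker ε ^ 2))]
    (hker : RingHom.ker (algebraMap A' S') = J.map (algebraMap A A'))
    (hIK : ∀ i ∈ RingHom.ker ε, algebraMap A K i = 0) :
    Function.Injective (KaehlerDifferential.cotangentComplexBaseChange R S' A' K) := by
  -- the module `M = K ⊗ ker`
  have hIM : ∀ i ∈ RingHom.ker ε, ∀ m : K ⊗[A'] ↥(RingHom.ker (algebraMap A' S')), i • m = 0 := by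
    intro i hi m
    rw [← algebraMap_smul K i m, hIK i hi, zero_smul]
  have hkerK : ∀ b ∈ RingHom.ker (algebraMap A' S'),
      ∀ m : K ⊗[A'] ↥(RingHom.ker (algebraMap A' S')), b • m = 0 := by
    intro b hb m
    rw [← algebraMap_smul K b m, IsScalarTower.algebraMap_apply A' S' K, (RingHom.mem_ker).1 hb,
      map_zero, zero_smul]
  have hJmem : ∀ j : ↥J, algebraMap A A' j ∈ RingHom.ker (algebraMap A' S') := by
    intro j
    rw [hker]
    exact Ideal.mem_map_of_mem _ j.2
  let g : ↥J →ₗ[A] ↥(RingHom.ker (algebraMap A' S')) :=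
    { toFun := fun j => ⟨algebraMap A A' j, hJmem j⟩
      map_add' := fun x y => by
        apply Subtype.ext
        simp only [Submodule.coe_add, map_add]
      map_smul' := fun a x => by
        apply Subtype.ext
        simp only [Submodule.coe_smul_of_tower, RingHom.id_apply, smul_eq_mul, map_mul,
          Algebra.smul_def, Submodule.coe_smul] }
  let φ : ↥J →ₗ[A] K ⊗[A'] ↥(RingHom.ker (algebraMap A' S')) :=
    ((TensorProduct.mk A' K ↥(RingHom.ker (algebraMap A' S')) 1).restrictScalars A) ∘ₗ g
  obtain ⟨δ, hδ⟩ := exists_derivation_of_projective ε J hJI h2 hIM φ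
  -- the retraction
  let ℓ' : Ω[A'⁄R] →ₗ[A'] K ⊗[A'] ↥(RingHom.ker (algebraMap A' S')) :=
    (LinearMap.liftBaseChange A' δ.liftKaehlerDifferential) ∘ₗ
      (KaehlerDifferential.tensorKaehlerEquivOfFormallyEtale R A A').symm.toLinearMap
  have hℓ'alg : ∀ a : A, ℓ' (KaehlerDifferential.D R A' (algebraMap A A' a)) = δ a := by
    intro a
    change (LinearMap.liftBaseChange A' δ.liftKaehlerDifferential)
      ((KaehlerDifferential.tensorKaehlerEquivOfFormallyEtale R A A').symm
        (KaehlerDifferential.D R A' (algebraMap A A' a))) = _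
    rw [KaehlerDifferential.tensorKaehlerEquivOfFormallyEtale_symm_D_algebraMap,
      LinearMap.liftBaseChange_tmul, one_smul, Derivation.liftKaehlerDifferential_comp_D]
  have key : ∀ b : A', b ∈ Ideal.span (algebraMap A A' '' (J : Set A)) →
      ∀ hb : b ∈ RingHom.ker (algebraMap A' S'),
        ℓ' (KaehlerDifferential.D R A' b) = (1 : K) ⊗ₜ[A'] ⟨b, hb⟩ := by
    intro b hb
    induction hb using Submodule.span_induction with
    | mem x hx =>
      obtain ⟨j, hj, rfl⟩ := hx
      intro hb
      rw [hℓ'alg, hδ j hj]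
      rfl
    | zero =>
      intro hb
      rw [map_zero, map_zero]
      exact (TensorProduct.tmul_zero _ _).symm
    | add x y hx' hy' hx hy =>
      intro hb
      have hxk : x ∈ RingHom.ker (algebraMap A' S') := by rw [hker]; exact hx'
      have hyk : y ∈ RingHom.ker (algebraMap A' S') := by rw [hker]; exact hy'
      rw [map_add, map_add, hx hxk, hy hyk, ← TensorProduct.tmul_add]
      rfl
    | smul a x hx' hx =>
      intro hb
      have hxk : x ∈ RingHom.ker (algebraMap A' S') := by rw [hker]; exact hx'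
      have e1 : (⟨a • x, hb⟩ : ↥(RingHom.ker (algebraMap A' S'))) = a • ⟨x, hxk⟩ := rfl
      have e2 : ℓ' (KaehlerDifferential.D R A' (a • x)) =
          a • ℓ' (KaehlerDifferential.D R A' x) + x • ℓ' (KaehlerDifferential.D R A' a) := by
        rw [smul_eq_mul, Derivation.leibniz, map_add, map_smul, map_smul]
      rw [e1, e2, hx hxk, hkerK x hxk, add_zero, TensorProduct.smul_tmul',
        TensorProduct.smul_tmul]
  let L : K ⊗[A'] Ω[A'⁄R] →ₗ[K] K ⊗[A'] ↥(RingHom.ker (algebraMap A' S')) :=
    LinearMap.liftBaseChange K ℓ'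
  have hLc : ∀ x, L (KaehlerDifferential.cotangentComplexBaseChange R S' A' K x) = x := by
    intro x
    induction x using TensorProduct.induction_on with
    | zero => rw [map_zero, map_zero]
    | tmul a b =>
      have hb : (b : A') ∈ Ideal.span (algebraMap A A' '' (J : Set A)) := hker.le b.2
      rw [KaehlerDifferential.cotangentComplexBaseChange_tmul, map_smul,
        KaehlerDifferential.kerToTensor_apply, LinearMap.liftBaseChange_tmul, one_smul,
        key b.1 hb b.2, TensorProduct.smul_tmul', smul_eq_mul, mul_one]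
    | add x y hx hy => rw [map_add, map_add, hx, hy]
  exact Function.LeftInverse.injective hLc

/-- smoothness along the section. -/
theorem isSmoothAt_of_section (R A : Type u) [CommRing R] [CommRing A] [Algebra R A]
    [Algebra.Smooth R A] (ε : A →ₐ[R] R) (J : Ideal A) (hJI : J ≤ RingHom.ker ε)
    (h1 : J.FG)
    (h2 : J ⊓ RingHom.ker ε ^ 2 = RingHom.ker ε * J)
    (h3 : Module.Projective R (↥(RingHom.ker ε) ⧸
      Submodule.comap (RingHom.ker ε).subtype (J ⊔ RingHom.ker ε ^ 2)))
    (P : Ideal (A ⧸ J)) [P.IsPrime] (hP : (RingHom.ker ε).map (Ideal.Quotient.mk J) ≤ P) :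
    Algebra.FormallySmooth R (Localization.AtPrime P) := by
  let Q : Ideal A := P.comap (Ideal.Quotient.mk J)
  have : Q.IsPrime := Ideal.comap_isPrime _ _
  let f : Localization.AtPrime Q →+* Localization.AtPrime P :=
    Localization.localRingHom Q P (Ideal.Quotient.mk J) rfl
  let _ : Algebra (Localization.AtPrime Q) (Localization.AtPrime P) := f.toAlgebra
  have hf : ∀ a : A, f (algebraMap A (Localization.AtPrime Q) a) =
      algebraMap (A ⧸ J) (Localization.AtPrime P) (Ideal.Quotient.mk J a) :=
    fun a => Localization.localRingHom_to_map Q P (Ideal.Quotient.mk J) rfl a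
  have : IsScalarTower A (Localization.AtPrime Q) (Localization.AtPrime P) :=
    IsScalarTower.of_algebraMap_eq' (by
      ext a
      rw [RingHom.comp_apply, RingHom.algebraMap_toAlgebra, hf]
      rfl)
  have : IsScalarTower R A (Localization.AtPrime P) :=
    IsScalarTower.of_algebraMap_eq' (by
      ext r
      rfl)
  have : IsScalarTower R (Localization.AtPrime Q) (Localization.AtPrime P) :=
    IsScalarTower.of_algebraMap_eq' (by
      ext r
      rw [RingHom.comp_apply, IsScalarTower.algebraMap_apply R A (Localization.AtPrime Q),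
        ← IsScalarTower.algebraMap_apply A (Localization.AtPrime Q) (Localization.AtPrime P),
        ← IsScalarTower.algebraMap_apply R A (Localization.AtPrime P)])
  have hsm : Algebra.FormallySmooth R (Localization.AtPrime Q) := by
    have h := Algebra.smoothLocus_eq_univ (R := R) (A := A)
    have hQ : (⟨Q, inferInstance⟩ : PrimeSpectrum A) ∈ Algebra.smoothLocus R A := by
      rw [h]; trivial
    exact hQ
  have : Algebra.EssFiniteType A (Localization.AtPrime Q) :=
    .of_isLocalization _ Q.primeCompl
  have : Algebra.EssFiniteType R (Localization.AtPrime Q) := .comp _ A _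
  have : Module.Free (Localization.AtPrime Q) Ω[Localization.AtPrime Q⁄R] :=
    Module.free_of_flat_of_isLocalRing
  have : Algebra.FormallyEtale A (Localization.AtPrime Q) :=
    Algebra.FormallyEtale.of_isLocalization Q.primeCompl
  have h₁ : Function.Surjective (algebraMap (Localization.AtPrime Q) (Localization.AtPrime P)) :=
    RingHom.surjective_localRingHom_of_surjective _ Ideal.Quotient.mk_surjective P
  have hT : Submonoid.map (Ideal.Quotient.mk J) Q.primeCompl = P.primeCompl := by
    ext y
    constructor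
    · rintro ⟨x, hx, rfl⟩
      exact hx
    · intro hy
      obtain ⟨x, rfl⟩ := Ideal.Quotient.mk_surjective y
      exact ⟨x, hy, rfl⟩
  have hker : RingHom.ker (algebraMap (Localization.AtPrime Q) (Localization.AtPrime P)) =
      J.map (algebraMap A (Localization.AtPrime Q)) := by
    have h := IsLocalization.ker_map (S := Localization.AtPrime Q) (Localization.AtPrime P)
      (Ideal.Quotient.mk J) hT
    rw [Ideal.mk_ker] at h
    exact h
  have h₂ : (RingHom.ker (algebraMap (Localization.AtPrime Q) (Localization.AtPrime P))).FG := by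
    rw [hker]
    exact h1.map _
  have hIK : ∀ i ∈ RingHom.ker ε,
      algebraMap A (IsLocalRing.ResidueField (Localization.AtPrime P)) i = 0 := by
    intro i hi
    rw [IsScalarTower.algebraMap_apply A (Localization.AtPrime P),
      IsLocalRing.ResidueField.algebraMap_eq, IsLocalRing.residue_eq_zero_iff,
      IsScalarTower.algebraMap_apply A (A ⧸ J) (Localization.AtPrime P),
      IsLocalization.AtPrime.to_map_mem_maximal_iff (Localization.AtPrime P) P]
    exact hP (Ideal.mem_map_of_mem _ hi)
  rw [Algebra.FormallySmooth.iff_injective_cotangentComplexBaseChange_residueField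
    (Localization.AtPrime Q) h₁ h₂]
  exact injective_cotangentComplexBaseChange ε J hJI h2.le hker hIK

end Groth.Agent.Lib.Seat94.UnitSection
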