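import Mathlib.RingTheory.Henselian
import Mathlib.RingTheory.LocalRing.ResidueField.Basic
import Mathlib.Algebra.Ring.GeomSum
import Mathlib.Algebra.Polynomial.Derivative
import Mathlib.Tactic

/-!
# Principal units of a henselian local ring are uniquely `N`-divisible (`N` prime to the residue
characteristic)
-/

set_option autoImplicit false

namespace Groth.Agent.Lib.Seat94.UnitsHensel

open IsLocalRing Polynomial

variable {R : Type*} [CommRing R]

/-- A principal unit of a local ring which is an `N`-th root of unity, `N` invertible in the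
residue field, is `1`. -/
theorem eq_one_of_pow_eq_one [IsLocalRing R] (N : ℕ) (hN : (N : ResidueField R) ≠ 0)
    (u : R) (hu : residue R u = 1) (hpow : u ^ N = 1) : u = 1 := by
  have h1 : (∑ i ∈ Finset.range N, u ^ i) * (u - 1) = 0 := by
    rw [geom_sum_mul, hpow, sub_self]
  have hs : IsUnit (∑ i ∈ Finset.range N, u ^ i) := by
    rw [← IsLocalRing.residue_ne_zero_iff_isUnit]
    simp only [map_sum, map_pow, hu, one_pow, Finset.sum_const, Finset.card_range, nsmul_eq_mul,
      mul_one]
    exact hN
  have := hs.mul_right_eq_zero.mp h1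
  exact sub_eq_zero.mp this

/-- In a henselian local ring, every principal unit has an `N`-th root which is a principal unit,
for `N ≥ 1` invertible in the residue field. -/
theorem exists_pow_eq [HenselianLocalRing R] (N : ℕ) (hN0 : N ≠ 0)
    (hN : (N : ResidueField R) ≠ 0) (u : R) (hu : residue R u = 1) :
    ∃ v : R, residue R v = 1 ∧ v ^ N = u := by
  have hmon : (X ^ N - C u : R[X]).Monic := monic_X_pow_sub_C u hN0
  have h1 : (X ^ N - C u : R[X]).eval 1 ∈ maximalIdeal R := by
    rw [← IsLocalRing.residue_eq_zero_iff]
    simp [hu]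
  have h2 : IsUnit ((X ^ N - C u : R[X]).derivative.eval 1) := by
    rw [← IsLocalRing.residue_ne_zero_iff_isUnit]
    simp only [derivative_sub, derivative_X_pow, derivative_C, sub_zero, eval_mul,
      eval_pow, eval_X, one_pow, mul_one, eval_natCast, map_natCast]
    simpa using hN
  obtain ⟨a, ha, ha1⟩ := HenselianLocalRing.is_henselian (X ^ N - C u : R[X]) hmon 1 h1 h2
  refine ⟨a, ?_, ?_⟩
  · have : residue R (a - 1) = 0 := (IsLocalRing.residue_eq_zero_iff _).2 ha1
    rw [map_sub, map_one, sub_eq_zero] at this
    exact this
  · have : a ^ N - u = 0 := by simpa [IsRoot] using ha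
    exact sub_eq_zero.mp this

end Groth.Agent.Lib.Seat94.UnitsHensel
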