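import Mathlib

/-!
# A versal family of idempotents of a finite finitely presented algebra (seat 94)

`B` is an `A`-algebra spanned as a module by `b₁..bₙ` with relation vectors `r₁..r_m`, `g₁..g_p ∈ B`.
We construct a finitely presented `A`-algebra `Au` with elements `x i : Au` such that
* in any ring `B₁` receiving compatible maps from `Au` and `B`, the element `∑ xᵢ bᵢ` is an idempotent
  lying in the ideal generated by the `g`'s (`idem`);
* for any base change `B' = A' ⊗ B` (expressed by a spanning condition and a vanishing criterion) and any idempotent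
  `e'` of `B'` in the ideal generated by the `g`'s, there is `ψ : Au → A'` over `A` with `∑ ψ(xᵢ) bᵢ = e'` (`exists_hom`).
-/

set_option autoImplicit false
universe u

open MvPolynomial

namespace Groth.Agent.Lib.Seat94.VersalIdem

/-- the presentation data. -/
structure Datum {A B : Type u} [CommRing A] [CommRing B] (φ : A →+* B) (n m p : ℕ) where
  b : Fin n → B
  r : Fin m → Fin n → A
  g : Fin p → B
  cc : Fin n → Fin n → Fin n → A
  dd : Fin p → Fin n → Fin n → A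
  hr : ∀ t, ∑ i, φ (r t i) * b i = 0
  hcc : ∀ i j, b i * b j = ∑ k, φ (cc i j k) * b k
  hdd : ∀ k l, g k * b l = ∑ i, φ (dd k l i) * b i

variable {A B : Type u} [CommRing A] [CommRing B] {φ : A →+* B} {n m p : ℕ} (𝒟 : Datum φ n m p)

namespace Datum

section Lin

variable {R' B' : Type u} [CommRing R'] [CommRing B'] (ρ : A →+* R') (α : R' →+* B') (β : B →+* B')

/-- the `R'`-linear combination of the images of the `bᵢ`. -/
def L (a : Fin n → R') : B' := ∑ i, α (a i) * β (𝒟.b i)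

/-- the multiplication in coordinates. -/
def Q (a a' : Fin n → R') : Fin n → R' := fun k => ∑ i, ∑ j, a i * a' j * ρ (𝒟.cc i j k)

/-- multiplication by `g k` in coordinates. -/
def G (k : Fin p) (a : Fin n → R') : Fin n → R' := fun i => ∑ l, a l * ρ (𝒟.dd k l i)

lemma L_add (a a' : Fin n → R') : 𝒟.L α β (a + a') = 𝒟.L α β a + 𝒟.L α β a' := by
  simp only [L, Pi.add_apply, map_add, add_mul, Finset.sum_add_distrib]

lemma L_sub (a a' : Fin n → R') : 𝒟.L α β (a - a') = 𝒟.L α β a - 𝒟.L α β a' := by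
  simp only [L, Pi.sub_apply, map_sub, sub_mul, Finset.sum_sub_distrib]

lemma L_zero : 𝒟.L α β (0 : Fin n → R') = 0 := by
  simp only [L, Pi.zero_apply, map_zero, zero_mul, Finset.sum_const_zero]

lemma L_sum {ι : Type*} (s : Finset ι) (f : ι → Fin n → R') :
    𝒟.L α β (∑ t ∈ s, f t) = ∑ t ∈ s, 𝒟.L α β (f t) := by
  classical
  induction s using Finset.induction_on with
  | empty => simp [L_zero]
  | insert a s ha ih => rw [Finset.sum_insert ha, Finset.sum_insert ha, L_add, ih]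

lemma L_smul (c : R') (a : Fin n → R') : 𝒟.L α β (c • a) = α c * 𝒟.L α β a := by
  simp only [L, Pi.smul_apply, smul_eq_mul, map_mul, Finset.mul_sum, mul_assoc]

variable {ρ α β} (hcomm : α.comp ρ = β.comp φ)
include hcomm

lemma α_ρ (a : A) : α (ρ a) = β (φ a) := RingHom.congr_fun hcomm a

lemma L_rho (u : Fin n → A) : 𝒟.L α β (fun i => ρ (u i)) = β (∑ i, φ (u i) * 𝒟.b i) := by
  simp only [L, α_ρ hcomm, map_sum, map_mul]

lemma L_rho_r (t : Fin m) : 𝒟.L α β (fun i => ρ (𝒟.r t i)) = 0 := by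
  rw [𝒟.L_rho hcomm, 𝒟.hr, map_zero]

lemma L_mul (a a' : Fin n → R') : 𝒟.L α β a * 𝒟.L α β a' = 𝒟.L α β (𝒟.Q ρ a a') := by
  have h1 : ∀ i j, β (𝒟.b i) * β (𝒟.b j) = ∑ k, α (ρ (𝒟.cc i j k)) * β (𝒟.b k) := fun i j => by
    rw [← map_mul, 𝒟.hcc, map_sum]
    refine Finset.sum_congr rfl fun k _ => ?_
    rw [map_mul, α_ρ hcomm]
  calc 𝒟.L α β a * 𝒟.L α β a'
      = ∑ i, ∑ j, (α (a i) * α (a' j)) * (β (𝒟.b i) * β (𝒟.b j)) := by
        rw [L, L, Finset.sum_mul_sum]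
        refine Finset.sum_congr rfl fun i _ => Finset.sum_congr rfl fun j _ => ?_
        ring
    _ = ∑ i, ∑ j, ∑ k, α (a i * a' j * ρ (𝒟.cc i j k)) * β (𝒟.b k) := by
        refine Finset.sum_congr rfl fun i _ => Finset.sum_congr rfl fun j _ => ?_
        rw [h1, Finset.mul_sum]
        refine Finset.sum_congr rfl fun k _ => ?_
        simp only [map_mul]
        ring
    _ = ∑ i, ∑ k, ∑ j, α (a i * a' j * ρ (𝒟.cc i j k)) * β (𝒟.b k) :=
        Finset.sum_congr rfl fun i _ => Finset.sum_comm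
    _ = ∑ k, ∑ i, ∑ j, α (a i * a' j * ρ (𝒟.cc i j k)) * β (𝒟.b k) := Finset.sum_comm
    _ = 𝒟.L α β (𝒟.Q ρ a a') := by
        simp only [L, Q, map_sum, Finset.sum_mul]

lemma L_G (k : Fin p) (a : Fin n → R') : β (𝒟.g k) * 𝒟.L α β a = 𝒟.L α β (𝒟.G ρ k a) := by
  have h1 : ∀ l, β (𝒟.g k) * β (𝒟.b l) = ∑ i, α (ρ (𝒟.dd k l i)) * β (𝒟.b i) := fun l => by
    rw [← map_mul, 𝒟.hdd, map_sum]
    refine Finset.sum_congr rfl fun i _ => ?_
    rw [map_mul, α_ρ hcomm]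
  calc β (𝒟.g k) * 𝒟.L α β a
      = ∑ l, α (a l) * (β (𝒟.g k) * β (𝒟.b l)) := by
        simp only [L, Finset.mul_sum]
        refine Finset.sum_congr rfl fun l _ => ?_
        ring
    _ = ∑ l, ∑ i, α (a l * ρ (𝒟.dd k l i)) * β (𝒟.b i) := by
        refine Finset.sum_congr rfl fun l _ => ?_
        rw [h1, Finset.mul_sum]
        refine Finset.sum_congr rfl fun i _ => ?_
        simp only [map_mul]
        ring
    _ = 𝒟.L α β (𝒟.G ρ k a) := by
        simp only [L, G, map_sum, Finset.sum_mul]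
        rw [Finset.sum_comm]

end Lin

/-- the variables of the versal algebra. -/
abbrev Var (n m p : ℕ) := Fin n ⊕ (Fin p × Fin n) ⊕ Fin m ⊕ Fin m

/-- variable `xᵢ`. -/
def xv (i : Fin n) : Var n m p := Sum.inl i
/-- variable `y_{kl}`. -/
def yv (k : Fin p) (l : Fin n) : Var n m p := Sum.inr (Sum.inl (k, l))
/-- variable `z_t`. -/
def zv (t : Fin m) : Var n m p := Sum.inr (Sum.inr (Sum.inl t))
/-- variable `w_t`. -/
def wv (t : Fin m) : Var n m p := Sum.inr (Sum.inr (Sum.inr t))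

/-- the idempotency relations. -/
noncomputable def P1 (k : Fin n) : MvPolynomial (Var n m p) A :=
  𝒟.Q C (fun i => X (xv i)) (fun i => X (xv i)) k - X (xv k) - ∑ t, X (zv t) * C (𝒟.r t k)

/-- the membership relations. -/
noncomputable def P2 (i : Fin n) : MvPolynomial (Var n m p) A :=
  X (xv i) - ∑ k, 𝒟.G C k (fun l => X (yv k l)) i - ∑ t, X (wv t) * C (𝒟.r t i)

/-- the ideal of relations. -/
noncomputable def I : Ideal (MvPolynomial (Var n m p) A) := Ideal.span (Set.range 𝒟.P1 ∪ Set.range 𝒟.P2)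

/-- the versal algebra. -/
abbrev Au : Type u := MvPolynomial (Var n m p) A ⧸ 𝒟.I

lemma I_fg : 𝒟.I.FG := by
  classical
  refine ⟨Finset.univ.image 𝒟.P1 ∪ Finset.univ.image 𝒟.P2, ?_⟩
  simp [I]

instance : Algebra.FinitePresentation A 𝒟.Au := Algebra.FinitePresentation.quotient 𝒟.I_fg

/-- the coordinates of the versal idempotent. -/
noncomputable def x (i : Fin n) : 𝒟.Au := Ideal.Quotient.mk 𝒟.I (X (xv i))

lemma map_P1 {R' : Type u} [CommRing R'] (φ : MvPolynomial (Var n m p) A →+* R') (k : Fin n) :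
    φ (𝒟.P1 k) = 𝒟.Q (φ.comp C) (fun i => φ (X (xv i))) (fun i => φ (X (xv i))) k - φ (X (xv k)) -
      ∑ t, φ (X (zv t)) * φ (C (𝒟.r t k)) := by
  simp only [P1, Q, map_sub, map_sum, map_mul, RingHom.comp_apply]

lemma map_P2 {R' : Type u} [CommRing R'] (φ : MvPolynomial (Var n m p) A →+* R') (i : Fin n) :
    φ (𝒟.P2 i) = φ (X (xv i)) - ∑ k, 𝒟.G (φ.comp C) k (fun l => φ (X (yv k l))) i -
      ∑ t, φ (X (wv t)) * φ (C (𝒟.r t i)) := by
  simp only [P2, G, map_sub, map_sum, map_mul, RingHom.comp_apply]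

/-- **the versal element is an idempotent in the ideal generated by the `g`'s**. -/
theorem idem {B₁ : Type u} [CommRing B₁] (α : 𝒟.Au →+* B₁) (β : B →+* B₁)
    (hαβ : α.comp (algebraMap A 𝒟.Au) = β.comp φ) :
    (∑ i, α (𝒟.x i) * β (𝒟.b i)) * (∑ i, α (𝒟.x i) * β (𝒟.b i)) = ∑ i, α (𝒟.x i) * β (𝒟.b i) ∧
      (∑ i, α (𝒟.x i) * β (𝒟.b i)) ∈ Ideal.map β (Ideal.span (Set.range 𝒟.g)) := by
  set ρ : A →+* 𝒟.Au := algebraMap A 𝒟.Au with hρ
  set mk : MvPolynomial (Var n m p) A →+* 𝒟.Au := Ideal.Quotient.mk 𝒟.I with hmk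
  have hmkC : mk.comp C = ρ := rfl
  have hP1 : ∀ k, mk (𝒟.P1 k) = 0 := fun k =>
    Ideal.Quotient.eq_zero_iff_mem.2 (Ideal.subset_span (Or.inl ⟨k, rfl⟩))
  have hP2 : ∀ i, mk (𝒟.P2 i) = 0 := fun i =>
    Ideal.Quotient.eq_zero_iff_mem.2 (Ideal.subset_span (Or.inr ⟨i, rfl⟩))
  let y : Fin p → Fin n → 𝒟.Au := fun k l => mk (X (yv k l))
  let z : Fin m → 𝒟.Au := fun t => mk (X (zv t))
  let w : Fin m → 𝒟.Au := fun t => mk (X (wv t))
  have hR1 : 𝒟.Q ρ 𝒟.x 𝒟.x = 𝒟.x + ∑ t, z t • (fun i => ρ (𝒟.r t i)) := by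
    funext k
    have := hP1 k
    rw [map_P1, hmkC] at this
    simp only [Pi.add_apply, Finset.sum_apply, Pi.smul_apply, smul_eq_mul]
    rw [sub_eq_zero, sub_eq_iff_eq_add] at this
    rw [add_comm]
    exact this
  have hR2 : 𝒟.x = ∑ k, 𝒟.G ρ k (y k) + ∑ t, w t • (fun i => ρ (𝒟.r t i)) := by
    funext i
    have := hP2 i
    rw [map_P2, hmkC] at this
    simp only [Pi.add_apply, Finset.sum_apply, Pi.smul_apply, smul_eq_mul]
    rw [sub_eq_zero, sub_eq_iff_eq_add] at this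
    rw [add_comm]
    exact this
  have hLr : ∀ (c : Fin m → 𝒟.Au), 𝒟.L α β (∑ t, c t • (fun i => ρ (𝒟.r t i))) = 0 := fun c => by
    rw [L_sum]
    refine Finset.sum_eq_zero fun t _ => ?_
    rw [L_smul, 𝒟.L_rho_r hαβ, mul_zero]
  change 𝒟.L α β 𝒟.x * 𝒟.L α β 𝒟.x = 𝒟.L α β 𝒟.x ∧ 𝒟.L α β 𝒟.x ∈ _
  constructor
  · rw [𝒟.L_mul hαβ, hR1, L_add, hLr, add_zero]
  · rw [hR2, L_add, hLr, add_zero, L_sum]
    refine Ideal.sum_mem _ fun k _ => ?_
    rw [← 𝒟.L_G hαβ]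
    exact Ideal.mul_mem_right _ _ (Ideal.mem_map_of_mem β (Ideal.subset_span ⟨k, rfl⟩))

/-- **versality**. -/
theorem exists_hom {A' B' : Type u} [CommRing A'] [CommRing B'] (ρ : A →+* A') (α' : A' →+* B') (β' : B →+* B')
    (hcomm : α'.comp ρ = β'.comp φ)
    (hspan : ∀ y : B', ∃ a : Fin n → A', y = ∑ i, α' (a i) * β' (𝒟.b i))
    (hker : ∀ a : Fin n → A', ∑ i, α' (a i) * β' (𝒟.b i) = 0 →
      ∃ z : Fin m → A', ∀ i, a i = ∑ t, z t * ρ (𝒟.r t i))
    (e' : B') (he' : e' * e' = e') (heJ : e' ∈ Ideal.map β' (Ideal.span (Set.range 𝒟.g))) :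
    ∃ ψ : 𝒟.Au →+* A', ψ.comp (algebraMap A 𝒟.Au) = ρ ∧ ∑ i, α' (ψ (𝒟.x i)) * β' (𝒟.b i) = e' := by
  obtain ⟨x', hx'⟩ := hspan e'
  replace hx' : e' = 𝒟.L α' β' x' := hx'
  rw [Ideal.map_span, ← Set.range_comp, Ideal.mem_span_range_iff_exists_fun] at heJ
  obtain ⟨c', hc'⟩ := heJ
  choose y' hy' using fun k => hspan (c' k)
  replace hy' : ∀ k, c' k = 𝒟.L α' β' (y' k) := hy'
  -- the membership relation
  have h2 : 𝒟.L α' β' (x' - ∑ k, 𝒟.G ρ k (y' k)) = 0 := by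
    rw [L_sub, L_sum, ← hx', sub_eq_zero, ← hc']
    refine Finset.sum_congr rfl fun k _ => ?_
    rw [← 𝒟.L_G hcomm, hy', mul_comm]
    rfl
  obtain ⟨w', hw'⟩ := hker _ h2
  -- the idempotency relation
  have h1 : 𝒟.L α' β' (𝒟.Q ρ x' x' - x') = 0 := by
    rw [L_sub, ← 𝒟.L_mul hcomm, ← hx', he', sub_self]
  obtain ⟨z', hz'⟩ := hker _ h1
  -- the homomorphism
  let v : Var n m p → A' := Sum.elim x' (Sum.elim (fun kl => y' kl.1 kl.2) (Sum.elim z' w'))
  let ψ₀ : MvPolynomial (Var n m p) A →+* A' := eval₂Hom ρ v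
  have hψ₀C : ψ₀.comp C = ρ := by
    ext a
    simp [ψ₀]
  have hψ₀x : ∀ i, ψ₀ (X (xv i)) = x' i := fun i => by simp [ψ₀, v, xv]
  have hψ₀y : ∀ k l, ψ₀ (X (yv k l)) = y' k l := fun k l => by simp [ψ₀, v, yv]
  have hψ₀z : ∀ t, ψ₀ (X (zv t)) = z' t := fun t => by simp [ψ₀, v, zv]
  have hψ₀w : ∀ t, ψ₀ (X (wv t)) = w' t := fun t => by simp [ψ₀, v, wv]
  have hψ₀Cr : ∀ a, ψ₀ (C a) = ρ a := fun a => by simp [ψ₀]
  have hI : ∀ q ∈ 𝒟.I, ψ₀ q = 0 := by
    intro q hq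
    have hle : 𝒟.I ≤ RingHom.ker ψ₀ := by
      rw [I, Ideal.span_le]
      rintro _ (⟨k, rfl⟩ | ⟨i, rfl⟩)
      · rw [SetLike.mem_coe, RingHom.mem_ker, map_P1, hψ₀C]
        simp only [hψ₀x, hψ₀z, hψ₀Cr]
        have := hz' k
        simp only [Pi.sub_apply] at this
        rw [this, sub_self]
      · rw [SetLike.mem_coe, RingHom.mem_ker, map_P2, hψ₀C]
        simp only [hψ₀x, hψ₀y, hψ₀w, hψ₀Cr]
        have := hw' i
        simp only [Pi.sub_apply, Finset.sum_apply] at this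
        rw [this, sub_self]
    exact hle hq
  refine ⟨Ideal.Quotient.lift 𝒟.I ψ₀ hI, ?_, ?_⟩
  · ext a
    change Ideal.Quotient.lift 𝒟.I ψ₀ hI (Ideal.Quotient.mk 𝒟.I (C a)) = ρ a
    rw [Ideal.Quotient.lift_mk, hψ₀Cr]
  · rw [hx']
    refine Finset.sum_congr rfl fun i _ => ?_
    change α' (Ideal.Quotient.lift 𝒟.I ψ₀ hI (Ideal.Quotient.mk 𝒟.I (X (xv i)))) * _ = _
    rw [Ideal.Quotient.lift_mk, hψ₀x]

end Datum

end Groth.Agent.Lib.Seat94.VersalIdem
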