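import Mathlib
import Groth.Agent.S7382
import Groth.Agent.Lib.Seat94NoethModel

/-!
# Zariski's main theorem in finite, finitely presented form (seat 94)

* `exists_open_immersion_finite`: a separated quasi-finite morphism locally of finite presentation over a qcqs base
  factors as an open immersion followed by a finite morphism (Mathlib's ZMT for the normalization + the limit
  presentation S7382 of integral morphisms + spreading out of a retraction).
* `exists_noetherian_model_qf`: Noetherian models of such morphisms.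
* `exists_open_immersion_finite_fp`: the finite morphism can be chosen of finite presentation.
-/

set_option autoImplicit false
set_option linter.style.haveILetI false
universe u

open CategoryTheory CategoryTheory.Limits AlgebraicGeometry Topology TopologicalSpace Opposite

namespace Groth.Agent.Lib.Seat94.ZmtFp

open Groth.Agent.Lib.Seat94.NoethModel

/-- finite type over a locally Noetherian base is finite presentation. -/
theorem lfp_of_isLocallyNoetherian {X Y : Scheme.{u}} (f : X ⟶ Y) [LocallyOfFiniteType f]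
    [IsLocallyNoetherian Y] : LocallyOfFinitePresentation f := by
  rw [HasRingHomProperty.iff_appLE (P := @LocallyOfFinitePresentation)]
  intro U V e
  have h1 := (HasRingHomProperty.iff_appLE (P := @LocallyOfFiniteType)).1 ‹_› U V e
  haveI : IsNoetherianRing Γ(Y, U.1) := IsLocallyNoetherian.component_noetherian U
  exact RingHom.FinitePresentation.of_finiteType.1 h1

/-- **Zariski's main theorem, finite form**: over a qcqs base, a separated quasi-finite morphism locally of finite
presentation is an open subscheme of a finite scheme. -/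
theorem exists_open_immersion_finite {X S : Scheme.{u}} (f : X ⟶ S) [CompactSpace S] [QuasiSeparatedSpace S]
    [IsSeparated f] [QuasiCompact f] [LocallyQuasiFinite f] [LocallyOfFinitePresentation f] :
    ∃ (T : Scheme.{u}) (j : X ⟶ T) (π : T ⟶ S), IsOpenImmersion j ∧ IsFinite π ∧ j ≫ π = f := by
  classical
  set q : f.normalization ⟶ S := f.fromNormalization with hq
  set j₀ : X ⟶ f.normalization := f.toNormalization with hj₀
  have hj₀q : j₀ ≫ q = f := f.toNormalization_fromNormalization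
  haveI : IsOpenImmersion j₀ := by rw [hj₀]; infer_instance
  haveI : CompactSpace X := QuasiCompact.compactSpace_of_compactSpace f
  obtain ⟨I, _, _, _, D, c, hc, hD, ⟨e⟩⟩ := Groth.Agent.S7382.result q
  haveI : IsConnected Iᵒᵖ := IsCofiltered.isConnected _
  have hc' : IsLimit ((Over.forget S).mapCone c) := isLimitOfPreserves (Over.forget S) hc
  have i1 : ∀ {i j : Iᵒᵖ} (a : i ⟶ j), IsAffineHom ((D ⋙ Over.forget S).map a) :=
    fun {i j} a => by
      show IsAffineHom (D.map a).left
      haveI := (hD j).1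
      haveI : IsAffineHom ((D.map a).left ≫ (D.obj j).hom) := by
        rw [Over.w]
        have := (hD i).1
        infer_instance
      exact IsAffineHom.of_comp (D.map a).left (D.obj j).hom
  have i2 : ∀ i, CompactSpace ((D ⋙ Over.forget S).obj i) := fun i => by
    show CompactSpace (D.obj i).left
    have := (hD i).1
    exact QuasiCompact.compactSpace_of_compactSpace (D.obj i).hom
  have i3 : ∀ i, QuasiSeparatedSpace ((D ⋙ Over.forget S).obj i) := fun i => by
    show QuasiSeparatedSpace (D.obj i).left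
    have := (hD i).1
    exact quasiSeparatedSpace_of_quasiSeparated (D.obj i).hom
  set D' : Iᵒᵖ ⥤ Scheme.{u} := D ⋙ Over.forget S with hD'
  set c' : Cone D' := (Over.forget S).mapCone c with hc'def
  obtain ⟨ε, e2⟩ : ∃ ε : c'.pt ≅ f.normalization, ε.hom ≫ q = c.pt.hom :=
    ⟨(Over.forget S).mapIso e, Over.w e.hom⟩
  -- the open `M = j₀ X` of the normalization and its preimage in the limit
  set M : f.normalization.Opens := j₀.opensRange with hM
  have hMc : IsCompact ((M : f.normalization.Opens) : Set f.normalization) := by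
    rw [hM, Scheme.Hom.coe_opensRange]
    exact isCompact_range j₀.continuous
  have hNc : IsCompact ((ε.hom ⁻¹ᵁ M : c'.pt.Opens) : Set c'.pt) :=
    (ε.hom).isCompact_preimage hMc
  obtain ⟨i, V, hVc, hV⟩ := exists_preimage_eq D' c' hc' (ε.hom ⁻¹ᵁ M) hNc
  -- the inverse of `X ≅ M`
  let h : (M : Scheme.{u}) ⟶ X := j₀.isoOpensRange.inv
  have hh : h ≫ j₀ = M.ι := by
    rw [Iso.inv_comp_eq]
    exact (Scheme.Hom.isoOpensRange_hom_ι j₀).symm
  have hhf : h ≫ f = M.ι ≫ q :=
    calc h ≫ f = h ≫ (j₀ ≫ q) := by rw [hj₀q]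
      _ = (h ≫ j₀) ≫ q := (Category.assoc _ _ _).symm
      _ = M.ι ≫ q := by rw [hh]
  -- descend it
  let tk : opensDiagram D' i V ⟶ (Functor.const _).obj S :=
    { app := fun j => (D'.map j.hom ⁻¹ᵁ V).ι ≫ (D.obj j.left).hom
      naturality := fun j j' f => by
        simp only [Functor.const_obj_obj, Functor.const_obj_map, Category.comp_id]
        change (D'.map f.left).resLE _ _ _ ≫ _ ≫ _ = _
        rw [Scheme.Hom.resLE_comp_ι_assoc]
        congr 1
        exact Over.w (D.map f.left) }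
  let ak : (opensCone D' c' i V).pt ⟶ X :=
    (ε.hom).resLE M (c'.π.app i ⁻¹ᵁ V) hV.le ≫ h
  have hck := isLimitOpensCone D' c' hc' i V
  haveI : ∀ j, CompactSpace ((opensDiagram D' i V).obj j) := fun j => by
    change CompactSpace ↥(D'.map j.hom ⁻¹ᵁ V)
    exact isCompact_iff_compactSpace.mp ((D'.map j.hom).isCompact_preimage hVc)
  haveI : ∀ j, QuasiSeparatedSpace ((opensDiagram D' i V).obj j) := fun j => by
    change QuasiSeparatedSpace ↥(D'.map j.hom ⁻¹ᵁ V)
    have := i3 j.left
    exact quasiSeparatedSpace_of_quasiSeparated (D'.map j.hom ⁻¹ᵁ V).ι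
  have ha : (opensCone D' c' i V).π ≫ tk = (Functor.const _).map (ak ≫ f) := by
    ext j : 2
    simp only [NatTrans.comp_app, Functor.const_map_app]
    change (c'.π.app j.left).resLE _ _ _ ≫ _ ≫ _ = _
    rw [Scheme.Hom.resLE_comp_ι_assoc]
    have e1 : c'.π.app j.left ≫ (D.obj j.left).hom = c.pt.hom := Over.w (c.π.app j.left)
    rw [e1]
    change _ = ((ε.hom).resLE _ _ _ ≫ h) ≫ f
    rw [Category.assoc, hhf, Scheme.Hom.resLE_comp_ι_assoc, e2]
  obtain ⟨j, gk, hcompat, hgk⟩ := Scheme.exists_π_app_comp_eq_of_locallyOfFinitePresentation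
    (opensDiagram D' i V) tk f (opensCone D' c' i V) hck ak ha
  -- the section
  let V'' : c'.pt.Opens := c'.π.app i ⁻¹ᵁ V
  have hV''eq : V'' = ε.hom ⁻¹ᵁ M := hV
  have hinvhom : ε.inv ≫ ε.hom = 𝟙 _ := ε.inv_hom_id
  have hrange : Set.range (j₀ ≫ ε.inv) ⊆ Set.range V''.ι := by
    rw [Scheme.Opens.range_ι]
    rintro _ ⟨x, rfl⟩
    show (j₀ ≫ ε.inv) x ∈ V''
    rw [hV''eq]
    show ε.hom ((j₀ ≫ ε.inv) x) ∈ M
    rw [← Scheme.Hom.comp_apply, Category.assoc, hinvhom, Category.comp_id, hM]
    exact ⟨x, rfl⟩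
  let σ : X ⟶ (V'' : Scheme.{u}) := IsOpenImmersion.lift V''.ι (j₀ ≫ ε.inv) hrange
  have hσ : σ ≫ V''.ι = j₀ ≫ ε.inv := IsOpenImmersion.lift_fac _ _ _
  have hσak : σ ≫ ak = 𝟙 X := by
    rw [← cancel_mono j₀]
    change (σ ≫ (ε.hom).resLE M V'' hV.le ≫ h) ≫ j₀ = _
    rw [Category.assoc, Category.assoc, hh, Scheme.Hom.resLE_comp_ι, reassoc_of% hσ, Category.id_comp,
      hinvhom, Category.comp_id]
  let Ul : (D'.obj j.left).Opens := D'.map j.hom ⁻¹ᵁ V
  let πj : (V'' : Scheme.{u}) ⟶ (Ul : Scheme.{u}) := (opensCone D' c' i V).π.app j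
  have hcompat' : πj ≫ gk = ak := hcompat
  let gk' : (Ul : Scheme.{u}) ⟶ X := gk
  have hcompat'' : πj ≫ gk' = ak := hcompat
  let s : X ⟶ (Ul : Scheme.{u}) := σ ≫ πj
  have hs : s ≫ gk' = 𝟙 X := by
    show (σ ≫ πj) ≫ gk' = 𝟙 X
    rw [Category.assoc, hcompat'', hσak]
  let πl : D'.obj j.left ⟶ S := (D.obj j.left).hom
  haveI : IsFinite πl := (hD j.left).1
  have hgk' : gk' ≫ f = Ul.ι ≫ πl := hgk
  haveI : IsSeparated gk' := by
    haveI : IsSeparated (gk' ≫ f) := by rw [hgk']; infer_instance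
    exact IsSeparated.of_comp gk' f
  haveI : IsClosedImmersion s := by
    haveI : IsClosedImmersion (s ≫ gk') := by rw [hs]; infer_instance
    exact IsClosedImmersion.of_comp s gk'
  let ι : X ⟶ D'.obj j.left := s ≫ Ul.ι
  haveI : IsImmersion ι := by dsimp only [ι]; infer_instance
  haveI : QuasiSeparatedSpace (D'.obj j.left) := i3 j.left
  haveI : QuasiCompact ι := inferInstance
  refine ⟨ι.image, ι.toImage, ι.imageι ≫ πl, inferInstance, inferInstance, ?_⟩
  rw [Scheme.Hom.toImage_imageι_assoc]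
  show (s ≫ Ul.ι) ≫ πl = f
  rw [Category.assoc, ← hgk', ← Category.assoc, hs, Category.id_comp]

/-- a separated, quasi-finite morphism of finite presentation over a quasi-compact quasi-separated base
is the base change of such a morphism over a Noetherian scheme. -/
theorem exists_noetherian_model_qf {U X : Scheme.{u}} (f : X ⟶ U) [CompactSpace U] [QuasiSeparatedSpace U]
    [LocallyOfFinitePresentation f] [QuasiCompact f] [IsSeparated f] [LocallyQuasiFinite f] :
    ∃ (S₀ X₀ : Scheme.{u}) (π : U ⟶ S₀) (f₀ : X₀ ⟶ S₀) (g : X ⟶ X₀), IsPullback g f f₀ π ∧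
      CompactSpace S₀ ∧ IsLocallyNoetherian S₀ ∧ LocallyOfFinitePresentation f₀ ∧ QuasiCompact f₀ ∧
      IsSeparated f₀ ∧ LocallyQuasiFinite f₀ := by
  obtain ⟨I, _, _, _, DX, DS, φ, cX, cS, hcX, hcS, eX, eS, haff, hfin, hcomm⟩ := Groth.Agent.S7384.result (𝟙 U)
  haveI : IsCofiltered Iᵒᵖ := inferInstance
  haveI : ∀ (i j : Iᵒᵖ) (a : i ⟶ j), IsAffineHom (DS.map a) := fun i j a => (haff i j a).2
  haveI : ∀ i, CompactSpace (DS.obj i) := fun i => (hfin i).2.1
  have hN : ∀ i, IsLocallyNoetherian (DS.obj i) := fun i => by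
    haveI := (hfin i).2.2.2
    exact Groth.Agent.Lib.Helper22.NA4.isLocallyNoetherian_of_lft _
  haveI : ∀ i, QuasiSeparatedSpace (DS.obj i) := fun i => by
    haveI := hN i
    infer_instance
  let f' : X ⟶ cS.pt := f ≫ eS.inv
  haveI : LocallyOfFinitePresentation f' := by dsimp only [f']; infer_instance
  haveI : QuasiCompact f' := by dsimp only [f']; infer_instance
  haveI : IsSeparated f' := by dsimp only [f']; infer_instance
  haveI : LocallyQuasiFinite f' := by dsimp only [f']; infer_instance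
  obtain ⟨i₀, X₀, f₀, q₀, h1, h2, h3, hpb⟩ := Groth.Agent.S0591.result DS cS hcS X f'
  haveI := h1; haveI := h2; haveI := h3
  haveI : CompactSpace X₀ := QuasiCompact.compactSpace_of_compactSpace f₀
  haveI : QuasiSeparatedSpace X₀ := quasiSeparatedSpace_of_quasiSeparated f₀
  have hid : ∀ i, IsPullback (cS.π.app i) (𝟙 cS.pt) (𝟙 (DS.obj i)) (cS.π.app i) := fun i =>
    IsPullback.id_vert (cS.π.app i)
  -- separatedness
  obtain ⟨i₂, φ₂, X₂, f₂, p₂, q₂, hp₂, hq₂, hsep₂⟩ := step DS cS (@IsSeparated) i₀ f₀ f' q₀ hpb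
    (Groth.Agent.S9190.result DS cS hcS i₀ f₀ (𝟙 _) f' (𝟙 _) (cS.π.app i₀) q₀ (hid i₀) hpb)
  haveI : LocallyOfFinitePresentation f₂ :=
    MorphismProperty.of_isPullback (P := @LocallyOfFinitePresentation) hp₂ inferInstance
  haveI : QuasiCompact f₂ := MorphismProperty.of_isPullback (P := @QuasiCompact) hp₂ inferInstance
  haveI : QuasiSeparated f₂ := MorphismProperty.of_isPullback (P := @QuasiSeparated) hp₂ inferInstance
  haveI : CompactSpace X₂ := QuasiCompact.compactSpace_of_compactSpace f₂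
  haveI : QuasiSeparatedSpace X₂ := quasiSeparatedSpace_of_quasiSeparated f₂
  -- quasi-finiteness
  obtain ⟨i₃, φ₃, X₃, f₃, p₃, q₃, hp₃, hq₃, hqf₃⟩ := step DS cS (@LocallyQuasiFinite) i₂ f₂ f' q₂ hq₂
    (Groth.Agent.S9194.result DS cS hcS i₂ f₂ (𝟙 _) f' (𝟙 _) (cS.π.app i₂) q₂ (hid i₂) hq₂)
  have hsep₃ : IsSeparated f₃ := MorphismProperty.of_isPullback (P := @IsSeparated) hp₃ hsep₂
  have hfp₃ : LocallyOfFinitePresentation f₃ :=
    MorphismProperty.of_isPullback (P := @LocallyOfFinitePresentation) hp₃ inferInstance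
  have hqc₃ : QuasiCompact f₃ := MorphismProperty.of_isPullback (P := @QuasiCompact) hp₃ inferInstance
  refine ⟨DS.obj i₃, X₃, eS.inv ≫ cS.π.app i₃, f₃, q₃, ?_, inferInstance, hN i₃, hfp₃, hqc₃, hsep₃, hqf₃⟩
  have hiso : IsPullback (𝟙 X) f f' eS.inv := IsPullback.of_horiz_isIso ⟨by simp [f']⟩
  have := hiso.paste_horiz hq₃
  rwa [Category.id_comp] at this

/-- **Zariski's main theorem, finite finitely presented form**. -/
theorem exists_open_immersion_finite_fp {X S : Scheme.{u}} (f : X ⟶ S) [CompactSpace S] [QuasiSeparatedSpace S]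
    [IsSeparated f] [QuasiCompact f] [LocallyQuasiFinite f] [LocallyOfFinitePresentation f] :
    ∃ (T : Scheme.{u}) (j : X ⟶ T) (π : T ⟶ S), IsOpenImmersion j ∧ QuasiCompact j ∧ IsFinite π ∧
      LocallyOfFinitePresentation π ∧ j ≫ π = f := by
  obtain ⟨S₀, X₀, p, f₀, g, hpb, hS₀c, hS₀n, hfp, hqc, hsep, hlqf⟩ := exists_noetherian_model_qf f
  haveI : QuasiSeparatedSpace S₀ := inferInstance
  obtain ⟨T₀, j₀, π₀, hj₀, hπ₀, hfac⟩ := exists_open_immersion_finite f₀
  haveI : LocallyOfFinitePresentation π₀ := lfp_of_isLocallyNoetherian π₀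
  have hw : (g ≫ j₀) ≫ π₀ = f ≫ p := by rw [Category.assoc, hfac, hpb.w]
  let j : X ⟶ pullback π₀ p := pullback.lift (g ≫ j₀) f hw
  have hbot : IsPullback (pullback.fst π₀ p) (pullback.snd π₀ p) π₀ p := IsPullback.of_hasPullback _ _
  have htop : IsPullback g j j₀ (pullback.fst π₀ p) := by
    refine IsPullback.of_bot ?_ (pullback.lift_fst _ _ _).symm hbot
    rw [pullback.lift_snd, hfac]
    exact hpb
  have hj : IsOpenImmersion j := MorphismProperty.of_isPullback (P := @IsOpenImmersion) htop hj₀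
  have hjf : j ≫ pullback.snd π₀ p = f := pullback.lift_snd _ _ _
  refine ⟨pullback π₀ p, j, pullback.snd π₀ p, hj, ?_, inferInstance, inferInstance, hjf⟩
  haveI : QuasiCompact (j ≫ pullback.snd π₀ p) := by rw [hjf]; infer_instance
  exact QuasiCompact.of_comp j (pullback.snd π₀ p)

end Groth.Agent.Lib.Seat94.ZmtFp
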