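import Mathlib
import Groth.Agent.Lib.Seat94ZmtFp
import Groth.Agent.Lib.Seat94VersalIdem
import Groth.Agent.Lib.Seat94AffIdem

/-!
# The universal finite open of a quasi-finite morphism of affine schemes (seat 94)
-/

set_option autoImplicit false
set_option linter.style.haveILetI false
universe u

open CategoryTheory CategoryTheory.Limits AlgebraicGeometry Topology TopologicalSpace Opposite

namespace Groth.Agent.Lib.Seat94.UnivFinOpen

open Groth.Agent.Lib.Seat94.VersalIdem Groth.Agent.Lib.Seat94.AffIdem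

/-- presentation data of a finite finitely presented ring map. -/
theorem exists_datum {A B : Type u} [CommRing A] [CommRing B] (φ : A →+* B) (hfin : φ.Finite)
    (hfp : φ.FinitePresentation) {p : ℕ} (g : Fin p → B) :
    ∃ (n m : ℕ) (𝒟 : Datum φ n m p), 𝒟.g = g ∧
      (∀ y : B, ∃ u : Fin n → A, y = ∑ i, φ (u i) * 𝒟.b i) ∧
      (∀ u : Fin n → A, ∑ i, φ (u i) * 𝒟.b i = 0 → ∃ c : Fin m → A, ∀ i, u i = ∑ t, c t * 𝒟.r t i) := by
  classical
  letI : Algebra A B := φ.toAlgebra
  haveI : Module.Finite A B := hfin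
  haveI : Algebra.FinitePresentation A B := hfp
  haveI : Module.FinitePresentation A B := Module.FinitePresentation.of_finite_of_finitePresentation A B
  obtain ⟨n, m, F, G, hF, hex⟩ := Module.FinitePresentation.exists_fin' A B
  let b : Fin n → B := fun i => F (fun j => if i = j then 1 else 0)
  let r : Fin m → Fin n → A := fun t => G (fun j => if t = j then 1 else 0)
  have hFu : ∀ u : Fin n → A, F u = ∑ i, φ (u i) * b i := fun u => by
    rw [LinearMap.pi_apply_eq_sum_univ F u]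
    refine Finset.sum_congr rfl fun i _ => ?_
    rw [Algebra.smul_def]
    rfl
  have hGc : ∀ c : Fin m → A, G c = ∑ t, c t • r t := fun c => LinearMap.pi_apply_eq_sum_univ G c
  have hb : ∀ y : B, ∃ u : Fin n → A, y = ∑ i, φ (u i) * b i := fun y => by
    obtain ⟨u, rfl⟩ := hF y
    exact ⟨u, hFu u⟩
  have hrel : ∀ u : Fin n → A, ∑ i, φ (u i) * b i = 0 → ∃ c : Fin m → A, ∀ i, u i = ∑ t, c t * r t i := by
    intro u hu
    rw [← hFu] at hu
    obtain ⟨c, rfl⟩ := (hex u).1 hu
    refine ⟨c, fun i => ?_⟩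
    rw [hGc]
    simp only [Finset.sum_apply, Pi.smul_apply, smul_eq_mul]
  have hr : ∀ t, ∑ i, φ (r t i) * b i = 0 := fun t => by
    rw [← hFu]
    exact hex.apply_apply_eq_zero _
  choose cc hcc using fun i j => hb (b i * b j)
  choose dd hdd using fun k l => hb (g k * b l)
  exact ⟨n, m, ⟨b, r, g, cc, dd, hr, hcc, hdd⟩, rfl, hb, hrel⟩

/-- a quasi-compact open of an affine scheme is a finite union of basic opens. -/
theorem exists_fin_basicOpen (T : Scheme.{u}) [IsAffine T] (M : T.Opens) (hM : IsCompact (M : Set T)) :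
    ∃ (p : ℕ) (g : Fin p → Γ(T, ⊤)), M = ⨆ k, T.basicOpen (g k) := by
  obtain ⟨Us, hUs, hfin, rfl⟩ := (isBasis_basicOpen T).exists_finite_of_isCompact hM
  have hUs' : ∀ U : T.Opens, U ∈ Us → ∃ y, T.basicOpen y = U := fun U hU => hUs hU
  choose! γ hγ using hUs'
  obtain ⟨p, ⟨e⟩⟩ := hfin.exists_equiv_fin
  refine ⟨p, fun k => γ (e.symm k).1, ?_⟩
  apply le_antisymm
  · refine sSup_le fun U hU => ?_
    refine le_trans ?_ (le_iSup _ (e ⟨U, hU⟩))
    simp only [Equiv.symm_apply_apply]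
    rw [hγ U hU]
  · refine iSup_le fun k => ?_
    rw [hγ _ (e.symm k).2]
    exact le_sSup (e.symm k).2

section Core

lemma appTop_specMap_isoSpec_inv {Y : Scheme.{u}} [IsAffine Y] {R : CommRingCat.{u}} (ψ : Γ(Y, ⊤) ⟶ R) :
    (Spec.map ψ ≫ Y.isoSpec.inv).appTop = ψ ≫ (Scheme.ΓSpecIso R).inv := by
  have h1 : Y.isoSpec.inv.appTop = (Scheme.ΓSpecIso Γ(Y, ⊤)).inv := by
    have := congr(Scheme.Hom.appTop $(Y.isoSpec_inv_toSpecΓ))
    rw [Scheme.Hom.comp_appTop, Scheme.toSpecΓ_appTop, Scheme.Hom.id_appTop] at this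
    rw [← cancel_epi (Scheme.ΓSpecIso Γ(Y, ⊤)).hom, this, Iso.hom_inv_id]
  rw [Scheme.Hom.comp_appTop, h1, Scheme.ΓSpecIso_inv_naturality]

variable {T Y : Scheme.{u}} [IsAffine Y] (π : T ⟶ Y) [IsFinite π] [LocallyOfFinitePresentation π]

/-- **the versal clopen subscheme** of a finite finitely presented scheme over an affine base, contained in a given
quasi-compact open. -/
theorem core (M : T.Opens) (hM : IsCompact (M : Set T)) :
    ∃ (Yu : Scheme.{u}) (a : Yu ⟶ Y) (Wu : (pullback π a).Opens), IsAffine Yu ∧ LocallyOfFinitePresentation a ∧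
      IsClosed (Wu : Set ↥(pullback π a)) ∧ Wu ≤ pullback.fst π a ⁻¹ᵁ M ∧
      ∀ (Y' : Scheme.{u}) (b : Y' ⟶ Y) (W' : (pullback π b).Opens), IsAffine Y' →
        IsClosed (W' : Set ↥(pullback π b)) → W' ≤ pullback.fst π b ⁻¹ᵁ M →
        ∃ (c : Y' ⟶ Yu) (hc : c ≫ a = b),
          (pullback.map π b π a (𝟙 T) c (𝟙 Y) ((Category.comp_id π).trans (Category.id_comp π).symm)
            ((Category.comp_id b).trans hc.symm)) ⁻¹ᵁ Wu = W' := by
  haveI : IsAffine T := isAffine_of_isAffineHom π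
  obtain ⟨p, g, hMg⟩ := exists_fin_basicOpen T M hM
  have hfin : π.appTop.hom.Finite := π.finite_appTop
  have hfp : π.appTop.hom.FinitePresentation :=
    (HasRingHomProperty.iff_of_isAffine (P := @LocallyOfFinitePresentation)).1 inferInstance
  obtain ⟨n, m, 𝒟, h𝒟g, hb, hrel⟩ := exists_datum π.appTop.hom hfin hfp g
  -- the versal base
  let Au : CommRingCat.{u} := CommRingCat.of 𝒟.Au
  let ψ : Γ(Y, ⊤) ⟶ Au := CommRingCat.ofHom (algebraMap Γ(Y, ⊤) 𝒟.Au)
  let a : Spec Au ⟶ Y := Spec.map ψ ≫ Y.isoSpec.inv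
  have ha : a.appTop = ψ ≫ (Scheme.ΓSpecIso Au).inv := appTop_specMap_isoSpec_inv ψ
  haveI : LocallyOfFinitePresentation (Spec.map ψ) := by
    rw [HasRingHomProperty.Spec_iff (P := @LocallyOfFinitePresentation)]
    exact RingHom.finitePresentation_algebraMap.2 inferInstance
  haveI : LocallyOfFinitePresentation a := by dsimp only [a]; infer_instance
  -- ring maps
  let pT := pullback.fst π a
  let pY := pullback.snd π a
  let α : 𝒟.Au →+* Γ(pullback π a, ⊤) := ((Scheme.ΓSpecIso Au).inv ≫ pY.appTop).hom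
  let β : Γ(T, ⊤) →+* Γ(pullback π a, ⊤) := pT.appTop.hom
  have hαβ : α.comp (algebraMap Γ(Y, ⊤) 𝒟.Au) = β.comp π.appTop.hom := by
    have h1 : π.appTop ≫ pT.appTop = a.appTop ≫ pY.appTop := by
      rw [← Scheme.Hom.comp_appTop, ← Scheme.Hom.comp_appTop, pullback.condition]
    rw [ha] at h1
    ext x
    exact (congr($(h1).hom x)).symm
  let eu : Γ(pullback π a, ⊤) := ∑ i, α (𝒟.x i) * β (𝒟.b i)
  obtain ⟨heu1, heu2⟩ := 𝒟.idem α β hαβ
  refine ⟨Spec Au, a, (pullback π a).basicOpen eu, inferInstance, inferInstance,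
    isClosed_basicOpen_of_idem _ eu heu1, ?_, ?_⟩
  · rw [hMg, Scheme.Hom.preimage_iSup]
    simp only [Scheme.preimage_basicOpen_top]
    rw [basicOpen_le_iSup_iff]
    apply Ideal.le_radical
    rw [Ideal.map_span, ← Set.range_comp, h𝒟g] at heu2
    exact heu2
  · intro Y' b W' hY' hW'cl hW'M
    haveI := hY'
    obtain ⟨e', he'1, he'W⟩ := exists_idempotent_of_isClopen (pullback π b) W' hW'cl
    let pT' := pullback.fst π b
    let pY' := pullback.snd π b
    let α' : Γ(Y', ⊤) →+* Γ(pullback π b, ⊤) := pY'.appTop.hom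
    let β' : Γ(T, ⊤) →+* Γ(pullback π b, ⊤) := pT'.appTop.hom
    let ρ : Γ(Y, ⊤) →+* Γ(Y', ⊤) := b.appTop.hom
    have hpo : IsPushout π.appTop b.appTop pT'.appTop pY'.appTop :=
      isPushout_appTop_of_isPullback (IsPullback.of_hasPullback π b)
    obtain ⟨hspan, hker⟩ := pushout_conditions π.appTop b.appTop pT'.appTop pY'.appTop hpo 𝒟.b 𝒟.r hb hrel
    have hcomm : α'.comp ρ = β'.comp π.appTop.hom := by
      have := hpo.w
      ext x
      exact (congr($(this).hom x)).symm
    have heJ : e' ∈ Ideal.map β' (Ideal.span (Set.range 𝒟.g)) := by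
      rw [Ideal.map_span, ← Set.range_comp, h𝒟g]
      apply mem_of_idem_of_mem_radical he'1
      rw [← basicOpen_le_iSup_iff, he'W]
      refine hW'M.trans ?_
      rw [hMg, Scheme.Hom.preimage_iSup]
      simp only [Scheme.preimage_basicOpen_top]
      exact le_rfl
    obtain ⟨ψ', hψ'1, hψ'2⟩ := 𝒟.exists_hom ρ α' β' hcomm hspan hker e' he'1 heJ
    let ψ'' : Au ⟶ Γ(Y', ⊤) := CommRingCat.ofHom ψ'
    let c : Y' ⟶ Spec Au := Y'.toSpecΓ ≫ Spec.map ψ''
    have hψψ : ψ ≫ ψ'' = b.appTop := by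
      ext x
      exact RingHom.congr_fun hψ'1 x
    have hc : c ≫ a = b := by
      dsimp only [c, a]
      rw [Category.assoc, ← Spec.map_comp_assoc, hψψ, ← Scheme.toSpecΓ_naturality_assoc,
        Scheme.toSpecΓ_isoSpec_inv, Category.comp_id]
    refine ⟨c, hc, ?_⟩
    set κ := pullback.map π b π a (𝟙 T) c (𝟙 Y) ((Category.comp_id π).trans (Category.id_comp π).symm)
      ((Category.comp_id b).trans hc.symm) with hκ
    have hκT : κ ≫ pT = pT' := by
      rw [hκ]
      exact (pullback.lift_fst _ _ _).trans (Category.comp_id _)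
    have hκY : κ ≫ pY = pY' ≫ c := by
      rw [hκ]
      exact pullback.lift_snd _ _ _
    have hcapp : (Scheme.ΓSpecIso Au).inv ≫ c.appTop = ψ'' := by
      dsimp only [c]
      rw [Scheme.Hom.comp_appTop, Scheme.toSpecΓ_appTop, ← Scheme.ΓSpecIso_inv_naturality_assoc,
        Iso.inv_hom_id, Category.comp_id]
    have hκβ : ∀ y, κ.appTop (β y) = β' y := fun y => by
      have : pT.appTop ≫ κ.appTop = pT'.appTop := by rw [← Scheme.Hom.comp_appTop, hκT]
      exact congr($(this).hom y)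
    have hκα : ∀ z, κ.appTop (α z) = α' (ψ' z) := fun z => by
      have : ((Scheme.ΓSpecIso Au).inv ≫ pY.appTop) ≫ κ.appTop = ψ'' ≫ pY'.appTop := by
        rw [Category.assoc, ← Scheme.Hom.comp_appTop, hκY, Scheme.Hom.comp_appTop, ← Category.assoc, hcapp]
      exact congr($(this).hom z)
    rw [Scheme.preimage_basicOpen_top, ← he'W]
    congr 1
    rw [← hψ'2]
    show κ.appTop (∑ i, α (𝒟.x i) * β (𝒟.b i)) = _
    rw [map_sum]
    refine Finset.sum_congr rfl fun i _ => ?_
    rw [map_mul, hκα, hκβ]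

end Core

section Main

/-- **the universal finite open part** of a quasi-finite, finitely presented morphism of affine schemes. -/
theorem univ_fin_open {X Y : Scheme.{u}} (f : X ⟶ Y) [IsAffine X] [IsAffine Y] [LocallyQuasiFinite f]
    [LocallyOfFinitePresentation f] :
    ∃ (Yu : Scheme.{u}) (a : Yu ⟶ Y) (Uu : (pullback f a).Opens), LocallyOfFinitePresentation a ∧ QuasiCompact a ∧
      QuasiSeparated a ∧ IsFinite (Uu.ι ≫ pullback.snd f a) ∧
      ∀ (Y' : Scheme.{u}) (b : Y' ⟶ Y) (U' : (pullback f b).Opens), IsAffine Y' →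
        IsFinite (U'.ι ≫ pullback.snd f b) →
        ∃ (c : Y' ⟶ Yu) (hc : c ≫ a = b),
          (pullback.map f b f a (𝟙 X) c (𝟙 Y) ((Category.comp_id f).trans (Category.id_comp f).symm)
            ((Category.comp_id b).trans hc.symm)) ⁻¹ᵁ Uu = U' := by
  obtain ⟨T, j, π, hj, hjqc, hπfin, hπfp, hfac⟩ := ZmtFp.exists_open_immersion_finite_fp f
  set M : T.Opens := j.opensRange with hMdef
  have hM : IsCompact (M : Set T) := by
    rw [hMdef, Scheme.Hom.coe_opensRange]
    exact isCompact_range j.continuous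
  obtain ⟨Yu, a, Wu, hYu, ha, hWucl, hWuM, huniv⟩ := core π M hM
  -- the base change of `j`
  have hw1 : ∀ {Y' : Scheme.{u}} (b : Y' ⟶ Y), f ≫ 𝟙 Y = j ≫ π := fun _ => by rw [Category.comp_id, hfac]
  have hw2 : ∀ {Y' : Scheme.{u}} (b : Y' ⟶ Y), b ≫ 𝟙 Y = 𝟙 Y' ≫ b := fun b => by
    rw [Category.comp_id, Category.id_comp]
  let jb : ∀ {Y' : Scheme.{u}} (b : Y' ⟶ Y), pullback f b ⟶ pullback π b := fun b =>
    pullback.map f b π b j (𝟙 _) (𝟙 Y) (hw1 b) (hw2 b)
  have hjbfst : ∀ {Y' : Scheme.{u}} (b : Y' ⟶ Y), jb b ≫ pullback.fst π b = pullback.fst f b ≫ j := fun b =>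
    pullback.lift_fst _ _ _
  have hjbsnd : ∀ {Y' : Scheme.{u}} (b : Y' ⟶ Y), jb b ≫ pullback.snd π b = pullback.snd f b := fun b =>
    (pullback.lift_snd _ _ _).trans (Category.comp_id _)
  haveI hjbopen : ∀ {Y' : Scheme.{u}} (b : Y' ⟶ Y), IsOpenImmersion (jb b) := fun b => by
    dsimp only [jb]; infer_instance
  have hjbrange : ∀ {Y' : Scheme.{u}} (b : Y' ⟶ Y), (jb b).opensRange = pullback.fst π b ⁻¹ᵁ M := fun b => by
    ext x
    show x ∈ Set.range (jb b) ↔ _
    dsimp only [jb]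
    rw [Scheme.Pullback.range_map]
    simp [hMdef]
  haveI := hYu
  refine ⟨Yu, a, jb a ⁻¹ᵁ Wu, ha, inferInstance, inferInstance, ?_, ?_⟩
  · -- finiteness
    have hrange : Set.range ((jb a ⁻¹ᵁ Wu).ι ≫ jb a) = (Wu : Set ↥(pullback π a)) := by
      rw [Scheme.Hom.comp_base, TopCat.coe_comp, Set.range_comp, Scheme.Opens.range_ι]
      show jb a '' (jb a ⁻¹' (Wu : Set _)) = _
      rw [Set.image_preimage_eq_inter_range]
      refine Set.inter_eq_left.2 ?_
      intro x hx
      have := hWuM hx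
      rw [← hjbrange a] at this
      exact this
    haveI : IsClosedImmersion ((jb a ⁻¹ᵁ Wu).ι ≫ jb a) :=
      IsClosedImmersion.of_isPreimmersion _ (by rw [hrange]; exact hWucl)
    have : (jb a ⁻¹ᵁ Wu).ι ≫ pullback.snd f a = ((jb a ⁻¹ᵁ Wu).ι ≫ jb a) ≫ pullback.snd π a := by
      rw [Category.assoc, hjbsnd]
    rw [this]
    infer_instance
  · intro Y' b U' hY' hU'fin
    haveI := hY'
    -- the clopen `W'`
    have hcl : IsClosed (((jb b) ''ᵁ U' : (pullback π b).Opens) : Set ↥(pullback π b)) := by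
      haveI : UniversallyClosed ((U'.ι ≫ jb b) ≫ pullback.snd π b) := by
        rw [Category.assoc, hjbsnd]
        infer_instance
      haveI : UniversallyClosed (U'.ι ≫ jb b) :=
        UniversallyClosed.of_comp_of_isSeparated (U'.ι ≫ jb b) (pullback.snd π b)
      have h := (U'.ι ≫ jb b).isClosedMap.isClosed_range
      rw [Scheme.Hom.comp_base, TopCat.coe_comp, Set.range_comp, Scheme.Opens.range_ι] at h
      exact h
    have hle : (jb b) ''ᵁ U' ≤ pullback.fst π b ⁻¹ᵁ M := by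
      rw [← hjbrange b]
      rintro _ ⟨x, -, rfl⟩
      exact ⟨x, rfl⟩
    obtain ⟨c, hc, hpre⟩ := huniv Y' b ((jb b) ''ᵁ U') hY' hcl hle
    refine ⟨c, hc, ?_⟩
    set κ := pullback.map π b π a (𝟙 T) c (𝟙 Y) ((Category.comp_id π).trans (Category.id_comp π).symm)
      ((Category.comp_id b).trans hc.symm) with hκ
    set μ := pullback.map f b f a (𝟙 X) c (𝟙 Y) ((Category.comp_id f).trans (Category.id_comp f).symm)
      ((Category.comp_id b).trans hc.symm) with hμ
    have hμκ : μ ≫ jb a = jb b ≫ κ := by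
      apply pullback.hom_ext
      · rw [Category.assoc, hjbfst, Category.assoc]
        have h1 : μ ≫ pullback.fst f a = pullback.fst f b := by
          rw [hμ]; exact (pullback.lift_fst _ _ _).trans (Category.comp_id _)
        have h2 : κ ≫ pullback.fst π a = pullback.fst π b := by
          rw [hκ]; exact (pullback.lift_fst _ _ _).trans (Category.comp_id _)
        rw [reassoc_of% h1, h2, hjbfst]
      · rw [Category.assoc, hjbsnd, Category.assoc]
        have h1 : μ ≫ pullback.snd f a = pullback.snd f b ≫ c := by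
          rw [hμ]; exact pullback.lift_snd _ _ _
        have h2 : κ ≫ pullback.snd π a = pullback.snd π b ≫ c := by
          rw [hκ]; exact pullback.lift_snd _ _ _
        rw [h1, h2, reassoc_of% (hjbsnd b)]
    rw [← Scheme.Hom.comp_preimage, hμκ, Scheme.Hom.comp_preimage, hpre, Scheme.Hom.preimage_image_eq]

end Main

end Groth.Agent.Lib.Seat94.UnivFinOpen
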