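import Mathlib
import Groth.Agent.Lib.Helper6RegSm2

set_option autoImplicit false
universe u

open TensorProduct AlgebraicGeometry CategoryTheory

namespace Groth.Agent.Lib.Seat95.RegGenSmooth

attribute [local instance] Algebra.TensorProduct.rightAlgebra in
/-- A prime of a finite type algebra over a domain with perfect fraction field, lying over `0`,
with regular local ring, is a smooth point. -/
theorem isSmoothAt_of_regular_of_perfect {A B K : Type u} [CommRing A] [IsDomain A] [CommRing B]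
    [Algebra A B] [Algebra.FiniteType A B] [Field K] [Algebra A K] [IsFractionRing A K]
    [PerfectField K] (q : Ideal B) [hqp : q.IsPrime] (hq : q.comap (algebraMap A B) = ⊥)
    [hreg : IsRegularLocalRing (Localization.AtPrime q)] : Algebra.IsSmoothAt A q := by
  let M : Submonoid B := Algebra.algebraMapSubmonoid B (nonZeroDivisors A)
  have hloc : IsLocalization M (K ⊗[A] B) := IsLocalization.tensorRight K (nonZeroDivisors A)
  have hdisj : Disjoint (M : Set B) (q : Set B) := by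
    rw [Set.disjoint_left]
    rintro _ ⟨a, ha, rfl⟩ haq
    have : a ∈ q.comap (algebraMap A B) := haq
    rw [hq, Ideal.mem_bot] at this
    exact nonZeroDivisors.ne_zero ha this
  let qK : Ideal (K ⊗[A] B) := q.map (algebraMap B (K ⊗[A] B))
  have hqKp : qK.IsPrime := IsLocalization.isPrime_of_isPrime_disjoint M _ q hqp hdisj
  have hcomap : qK.comap (algebraMap B (K ⊗[A] B)) = q :=
    IsLocalization.under_map_of_isPrime_disjoint M _ hqp hdisj
  have : IsLocalization.AtPrime (Localization.AtPrime qK) q := by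
    have := IsLocalization.isLocalization_isLocalization_atPrime_isLocalization (M := M)
      (Localization.AtPrime qK) qK
    convert this
    exact hcomap.symm
  let e : Localization.AtPrime q ≃ₐ[B] Localization.AtPrime qK :=
    IsLocalization.algEquiv q.primeCompl _ _
  have : IsRegularLocalRing (Localization.AtPrime qK) :=
    IsRegularLocalRing.of_ringEquiv e.toRingEquiv
  have : Algebra.EssFiniteType K qK.ResidueField := Algebra.EssFiniteType.comp K (K ⊗[A] B) _
  have : Algebra.FormallySmooth K qK.ResidueField := Algebra.FormallySmooth.of_perfectField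
  have hsm : Algebra.IsSmoothAt K qK :=
    Groth.Agent.Lib.Helper6.RegSm.isSmoothAt_of_isRegularLocalRing K (K ⊗[A] B) qK
  have : Algebra.FormallySmooth K (Localization.AtPrime qK) := hsm
  have : Algebra.FormallySmooth A K := Algebra.FormallySmooth.of_isLocalization (nonZeroDivisors A)
  have : Algebra.FormallySmooth A (Localization.AtPrime qK) :=
    Algebra.FormallySmooth.comp A K (Localization.AtPrime qK)
  exact Algebra.FormallySmooth.of_equiv (e.symm.restrictScalars A)

/-- A closed subset of `Spec B` missing the generic fibre over the domain `A` lies over a proper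
closed subset `V(a)`. -/
theorem exists_ne_zero_forall_mem {A B : Type*} [CommRing A] [IsDomain A] [CommRing B]
    [Algebra A B] (Z : Set (PrimeSpectrum B)) (hZ : IsClosed Z)
    (h : ∀ q ∈ Z, q.asIdeal.comap (algebraMap A B) ≠ ⊥) :
    ∃ a : A, a ≠ 0 ∧ ∀ q ∈ Z, algebraMap A B a ∈ q.asIdeal := by
  obtain ⟨I, rfl⟩ := (PrimeSpectrum.isClosed_iff_zeroLocus_ideal Z).mp hZ
  let M : Submonoid B := Algebra.algebraMapSubmonoid B (nonZeroDivisors A)
  by_cases hd : Disjoint (I : Set B) (M : Set B)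
  · exfalso
    obtain ⟨p, hp, hIp, hpM⟩ := Ideal.exists_le_prime_disjoint I M hd
    refine h ⟨p, hp⟩ ((PrimeSpectrum.mem_zeroLocus _ _).mpr hIp) ?_
    rw [eq_bot_iff]
    intro a ha
    rw [Ideal.mem_bot]
    by_contra ha0
    exact Set.disjoint_left.mp hpM ha ⟨a, mem_nonZeroDivisors_of_ne_zero ha0, rfl⟩
  · rw [Set.not_disjoint_iff] at hd
    obtain ⟨_, hbI, ⟨a, ha, rfl⟩⟩ := hd
    exact ⟨a, nonZeroDivisors.ne_zero ha, fun q hq => (PrimeSpectrum.mem_zeroLocus _ _).mp hq hbI⟩

section schemes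

variable {X Y : Scheme.{u}} [IsIntegral Y] (f : X ⟶ Y)
  (V : Y.Opens) (W : X.Opens) (hV : IsAffineOpen V) (hW : IsAffineOpen W) (hWV : W ≤ f ⁻¹ᵁ V)

include hV in
theorem primeIdealOf_eq_bot_iff (y : Y) (hy : y ∈ V) :
    (hV.primeIdealOf ⟨y, hy⟩).asIdeal = ⊥ ↔ y = genericPoint Y := by
  haveI : Nonempty V := ⟨⟨y, hy⟩⟩
  have hgen : (hV.primeIdealOf ⟨genericPoint Y,
      ((genericPoint_spec Y).mem_open_set_iff V.isOpen).mpr ⟨y, Set.mem_univ _, hy⟩⟩).asIdeal
        = ⊥ := by
    rw [hV.primeIdealOf_genericPoint, genericPoint_eq_bot_of_affine]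
    rfl
  constructor
  · intro h
    have h1 : hV.primeIdealOf ⟨y, hy⟩ = hV.primeIdealOf ⟨genericPoint Y,
      ((genericPoint_spec Y).mem_open_set_iff V.isOpen).mpr ⟨y, Set.mem_univ _, hy⟩⟩ :=
      PrimeSpectrum.ext (h.trans hgen.symm)
    have h2 := congrArg hV.fromSpec h1
    rwa [hV.fromSpec_primeIdealOf, hV.fromSpec_primeIdealOf] at h2
  · rintro rfl
    exact hgen

omit [IsIntegral Y] in
include hV in
theorem mem_basicOpen_iff (y : Y) (hy : y ∈ V) (g : Γ(Y, V)) :
    y ∈ Y.basicOpen g ↔ g ∉ (hV.primeIdealOf ⟨y, hy⟩).asIdeal := by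
  have h1 : hV.fromSpec (hV.primeIdealOf ⟨y, hy⟩) = y := hV.fromSpec_primeIdealOf ⟨y, hy⟩
  have h2 : hV.fromSpec (hV.primeIdealOf ⟨y, hy⟩) ∈ Y.basicOpen g ↔
      g ∉ (hV.primeIdealOf ⟨y, hy⟩).asIdeal := by
    change (hV.primeIdealOf ⟨y, hy⟩ : ↥(Spec Γ(Y, V))) ∈ hV.fromSpec ⁻¹ᵁ Y.basicOpen g ↔ _
    rw [hV.fromSpec_preimage_basicOpen]
    rfl
  rwa [h1] at h2

include hV hW hWV in
/-- A point of the generic fibre with regular local ring is a smooth point (perfect function
field on the base). -/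
theorem mem_smoothLocus_of_generic [LocallyOfFinitePresentation f] [PerfectField Y.functionField]
    (x : X) (hxW : x ∈ W) (hx : f x = genericPoint Y)
    [IsRegularLocalRing (X.presheaf.stalk x)] : x ∈ f.smoothLocus := by
  rw [Scheme.Hom.mem_smoothLocus, formallySmooth_stalkMap_iff V hV W hW hWV hxW]
  letI : Algebra Γ(Y, V) Γ(X, W) := (f.appLE V W hWV).hom.toAlgebra
  haveI : Nonempty V := ⟨⟨f x, hWV hxW⟩⟩
  haveI := functionField_isFractionRing_of_isAffineOpen Y V hV
  haveI : Algebra.FiniteType Γ(Y, V) Γ(X, W) := f.finiteType_appLE hV hW hWV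
  set q : Ideal Γ(X, W) := (hW.primeIdealOf ⟨x, hxW⟩).asIdeal with hqdef
  letI := X.presheaf.algebra_section_stalk ⟨x, hxW⟩
  haveI := hW.isLocalization_stalk ⟨x, hxW⟩
  let e' : Localization.AtPrime q ≃ₐ[Γ(X, W)] X.presheaf.stalk x :=
    IsLocalization.algEquiv q.primeCompl (Localization.AtPrime q) (X.presheaf.stalk x)
  haveI : IsRegularLocalRing (Localization.AtPrime q) :=
    IsRegularLocalRing.of_ringEquiv e'.toRingEquiv.symm
  have hq0 : q.comap (algebraMap Γ(Y, V) Γ(X, W)) = ⊥ := by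
    have h1 := IsAffineOpen.comap_primeIdealOf_appLE (f := f) V hV W hW hWV hxW
    have h2 : (hV.primeIdealOf ⟨f x, hWV hxW⟩).asIdeal = ⊥ :=
      (primeIdealOf_eq_bot_iff V hV (f x) (hWV hxW)).mpr hx
    rw [← h1] at h2
    exact h2
  exact isSmoothAt_of_regular_of_perfect (K := Y.functionField) q hq0

include hV hW hWV in
/-- Spreading out on one affine open. -/
theorem exists_basicOpen_smooth [LocallyOfFinitePresentation f] [PerfectField Y.functionField]
    [Nonempty V] (hreg : ∀ x : X, IsRegularLocalRing (X.presheaf.stalk x)) :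
    ∃ a : Γ(Y, V), a ≠ 0 ∧ ∀ x ∈ W, f x ∈ Y.basicOpen a → x ∈ f.smoothLocus := by
  letI : Algebra Γ(Y, V) Γ(X, W) := (f.appLE V W hWV).hom.toAlgebra
  haveI : IsDomain Γ(Y, V) := inferInstance
  have hprime : ∀ (x : X) (hxW : x ∈ W) (q : PrimeSpectrum Γ(X, W)), hW.fromSpec q = x →
      q = hW.primeIdealOf ⟨x, hxW⟩ := by
    intro x hxW q hqx
    apply hW.fromSpec.isOpenEmbedding.injective
    rw [hqx]
    exact (hW.fromSpec_primeIdealOf ⟨x, hxW⟩).symm
  have hmemW : ∀ q : PrimeSpectrum Γ(X, W), hW.fromSpec q ∈ W := by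
    intro q
    have : hW.fromSpec q ∈ hW.fromSpec.opensRange := ⟨q, rfl⟩
    rwa [hW.opensRange_fromSpec] at this
  obtain ⟨a, ha0, ha⟩ := exists_ne_zero_forall_mem (A := Γ(Y, V)) (B := Γ(X, W))
    (hW.fromSpec ⁻¹' ((f.smoothLocus : Set X)ᶜ))
    ((f.smoothLocus.isOpen.isClosed_compl).preimage hW.fromSpec.continuous) (by
      intro q hq h0
      apply hq
      have hxW := hmemW q
      have hqe := hprime _ hxW q rfl
      haveI := hreg (hW.fromSpec q)
      refine mem_smoothLocus_of_generic f V W hV hW hWV _ hxW ?_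
      rw [← primeIdealOf_eq_bot_iff V hV _ (hWV hxW),
        ← IsAffineOpen.comap_primeIdealOf_appLE (f := f) V hV W hW hWV hxW, ← hqe]
      exact h0)
  refine ⟨a, ha0, fun x hxW hfx => ?_⟩
  by_contra hx
  have hmem : hW.primeIdealOf ⟨x, hxW⟩ ∈ hW.fromSpec ⁻¹' ((f.smoothLocus : Set X)ᶜ) := by
    show hW.fromSpec (hW.primeIdealOf ⟨x, hxW⟩) ∉ f.smoothLocus
    rwa [hW.fromSpec_primeIdealOf]
  have h1 := ha _ hmem
  rw [mem_basicOpen_iff V hV (f x) (hWV hxW) a,
    ← IsAffineOpen.comap_primeIdealOf_appLE (f := f) V hV W hW hWV hxW] at hfx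
  exact hfx h1

end schemes


/-- auxiliary form of `main` with a chosen affine open. -/
theorem main_aux {X Y : Scheme.{u}} [IsIntegral Y]
    (hreg : ∀ x : X, IsRegularLocalRing (X.presheaf.stalk x))
    (f : X ⟶ Y) [LocallyOfFinitePresentation f] [QuasiCompact f]
    [PerfectField Y.functionField] (V₀ : Y.Opens) (hV₀ : IsAffineOpen V₀)
    (hξV : genericPoint Y ∈ V₀) :
    ∃ V : Y.Opens, Dense (V : Set Y) ∧ Smooth (f ∣_ V) := by
  haveI : Nonempty V₀ := ⟨⟨_, hξV⟩⟩
  have hcpt : IsCompact (X := X) (f ⁻¹ᵁ V₀) := f.isCompact_preimage hV₀.isCompact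
  obtain ⟨s, hs, hcov⟩ := isCompact_iff_finite_and_eq_biUnion_affineOpens.mp hcpt
  have key : ∀ W : X.affineOpens, ∃ a : Γ(Y, V₀), a ≠ 0 ∧
      ((W : X.Opens) ≤ f ⁻¹ᵁ V₀ → ∀ x ∈ (W : X.Opens), f x ∈ Y.basicOpen a → x ∈ f.smoothLocus) := by
    intro W
    by_cases hWV : (W : X.Opens) ≤ f ⁻¹ᵁ V₀
    · obtain ⟨a, ha0, ha⟩ := exists_basicOpen_smooth f V₀ W hV₀ W.2 hWV hreg
      exact ⟨a, ha0, fun _ => ha⟩
    · exact ⟨1, one_ne_zero, fun h => (hWV h).elim⟩
  choose a ha0 ha using key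
  let atot : Γ(Y, V₀) := ∏ W ∈ hs.toFinset, a W
  have hatot : atot ≠ 0 := Finset.prod_ne_zero_iff.mpr fun W _ => ha0 W
  refine ⟨Y.basicOpen atot, ?_, ?_⟩
  · refine (Y.basicOpen atot).isOpen.dense ?_
    by_contra h
    rw [TopologicalSpace.Opens.not_nonempty_iff_eq_bot, basicOpen_eq_bot_iff] at h
    exact hatot h
  · have hsub : f ⁻¹ᵁ (Y.basicOpen atot) ≤ f.smoothLocus := by
      intro x hx
      have hx0 : x ∈ f ⁻¹ᵁ V₀ := Y.basicOpen_le atot hx
      rw [hcov] at hx0
      simp only [TopologicalSpace.Opens.mem_iSup] at hx0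
      obtain ⟨W, hWs, hxW⟩ := hx0
      have hWle : (W : X.Opens) ≤ f ⁻¹ᵁ V₀ := by
        rw [hcov]
        exact le_iSup₂ (f := fun (i : X.affineOpens) (_ : i ∈ s) => (i : X.Opens)) W hWs
      refine ha W hWle x hxW ?_
      obtain ⟨b, hb⟩ := Finset.dvd_prod_of_mem a (hs.mem_toFinset.mpr hWs)
      have hx' : f x ∈ Y.basicOpen atot := hx
      have : Y.basicOpen atot = Y.basicOpen (a W) ⊓ Y.basicOpen b := by
        show Y.basicOpen (∏ W ∈ hs.toFinset, a W) = _
        rw [hb, Scheme.basicOpen_mul]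
      rw [this] at hx'
      exact hx'.1
    have h1 : ((f ⁻¹ᵁ (Y.basicOpen atot)).ι ≫ f).smoothLocus = ⊤ := by
      rw [← Scheme.Hom.preimage_smoothLocus_eq, eq_top_iff]
      intro x _
      exact hsub x.2
    have h2 : Smooth ((f ⁻¹ᵁ (Y.basicOpen atot)).ι ≫ f) := Scheme.Hom.smoothLocus_eq_top_iff.mp h1
    rw [← morphismRestrict_ι] at h2
    exact MorphismProperty.of_postcomp (W := @Smooth) (W' := MorphismProperty.monomorphisms Scheme)
      (f ∣_ (Y.basicOpen atot)) (Y.basicOpen atot).ι inferInstance h2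

/-- **Generic smoothness over a perfect function field, regular source.** -/
theorem main {X Y : Scheme.{u}} [IsIntegral Y]
    (hreg : ∀ x : X, IsRegularLocalRing (X.presheaf.stalk x))
    (f : X ⟶ Y) [LocallyOfFinitePresentation f] [QuasiCompact f]
    [PerfectField Y.functionField] :
    ∃ V : Y.Opens, Dense (V : Set Y) ∧ Smooth (f ∣_ V) := by
  obtain ⟨_, ⟨V₀, hV₀, rfl⟩, hξV, -⟩ := Y.isBasis_affineOpens.exists_subset_of_mem_open
    (Set.mem_univ (genericPoint Y)) isOpen_univ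
  exact main_aux hreg f V₀ hV₀ hξV

end Groth.Agent.Lib.Seat95.RegGenSmooth
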