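import Mathlib
import Groth.Agent.Lib.Seat95RegGenSmooth

set_option autoImplicit false
set_option linter.style.haveILetI false
universe u

open TensorProduct

namespace Groth.Agent.Lib.Seat95.Bertini

/-- ring-level generic smoothness: regular source, perfect fraction field of the base. -/
theorem exists_ne_zero_forall_mem_smoothLocus {R B K : Type u} [CommRing R] [IsDomain R]
    [CommRing B] [Algebra R B] [Algebra.FinitePresentation R B] [Field K] [Algebra R K]
    [IsFractionRing R K] [PerfectField K]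
    (hreg : ∀ (q : Ideal B) [q.IsPrime], IsRegularLocalRing (Localization.AtPrime q)) :
    ∃ r : R, r ≠ 0 ∧ ∀ q : PrimeSpectrum B, algebraMap R B r ∉ q.asIdeal →
      q ∈ Algebra.smoothLocus R B := by
  have hZ : IsClosed (Algebra.smoothLocus R B)ᶜ := Algebra.isOpen_smoothLocus.isClosed_compl
  obtain ⟨r, hr0, hr⟩ := Groth.Agent.Lib.Seat95.RegGenSmooth.exists_ne_zero_forall_mem
    (A := R) (B := B) (Algebra.smoothLocus R B)ᶜ hZ (by
      intro q hq h0
      apply hq
      haveI := hreg q.asIdeal
      exact Groth.Agent.Lib.Seat95.RegGenSmooth.isSmoothAt_of_regular_of_perfect (K := K)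
        q.asIdeal h0)
  refine ⟨r, hr0, fun q hq => ?_⟩
  by_contra hcon
  exact hq (hr q hcon)

/-- smoothness of a fibre from smoothness near the fibre. -/
theorem formallySmooth_fibre {R B S : Type u} [CommRing R] [CommRing B] [Algebra R B]
    [Algebra.FinitePresentation R B] [Field S] [Algebra R S]
    (r : R) (hr : algebraMap R S r ≠ 0)
    (h : ∀ q : PrimeSpectrum B, algebraMap R B r ∉ q.asIdeal → q ∈ Algebra.smoothLocus R B) :
    Algebra.FormallySmooth S (S ⊗[R] B) := by
  rw [← Algebra.smoothLocus_eq_univ_iff, Set.eq_univ_iff_forall]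
  intro Q
  let ι : B →ₐ[R] S ⊗[R] B := Algebra.TensorProduct.includeRight
  let q : PrimeSpectrum B := PrimeSpectrum.comap ι.toRingHom Q
  have hrq : algebraMap R B r ∉ q.asIdeal := by
    intro hmem
    have h1 : ι (algebraMap R B r) ∈ Q.asIdeal := hmem
    have h2 : ι (algebraMap R B r) = algebraMap S (S ⊗[R] B) (algebraMap R S r) := by
      rw [AlgHom.commutes, ← IsScalarTower.algebraMap_apply]
    rw [h2] at h1
    have hu : IsUnit (algebraMap S (S ⊗[R] B) (algebraMap R S r)) :=
      (IsUnit.mk0 _ hr).map _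
    exact Q.isPrime.ne_top (Ideal.eq_top_of_isUnit_mem _ h1 hu)
  have hq := h q hrq
  haveI : Algebra.IsSmoothAt R q.asIdeal := hq
  obtain ⟨g, hgq, hg⟩ := Algebra.IsSmoothAt.exists_notMem_smooth R q.asIdeal
  haveI := hg
  let e := IsLocalization.Away.tensorProductEquivTMulRight R S g (Localization.Away g)
  haveI : Algebra.Smooth S (Localization.Away ((1 : S) ⊗ₜ[R] g)) := Algebra.Smooth.of_equiv e
  have hsub := (Algebra.basicOpen_subset_smoothLocus_iff_smooth (R := S) (A := S ⊗[R] B)
    (f := (1 : S) ⊗ₜ[R] g)).mpr inferInstance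
  apply hsub
  show (1 : S) ⊗ₜ[R] g ∉ Q.asIdeal
  exact hgq

end Groth.Agent.Lib.Seat95.Bertini
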