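import Mathlib

set_option autoImplicit false
set_option linter.style.haveILetI false
universe u

open MvPolynomial

namespace Groth.Agent.Lib.Seat95.Bertini

section incidence

variable {A : Type u} [CommRing A] {n : ℕ} (a : Fin n → A)

/-- the universal linear combination `∑ Tᵢ aᵢ`. -/
noncomputable def univF : MvPolynomial (Fin n) A := ∑ i, X i * C (a i)

/-- the incidence algebra `A[T]/(∑ Tᵢ aᵢ)`. -/
abbrev Inc : Type u := MvPolynomial (Fin n) A ⧸ Ideal.span {univF a}

variable {a}

/-- the Newton substitution `Tᵢ ↦ Tᵢ - λᵢ F`. -/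
noncomputable def newton (l : Fin n → A) : MvPolynomial (Fin n) A →ₐ[A] MvPolynomial (Fin n) A :=
  aeval (fun i => X i - C (l i) * univF a)

theorem newton_univF (l : Fin n → A) (hl : ∑ i, l i * a i = 1) :
    newton (a := a) l (univF a) = 0 := by
  unfold newton univF
  simp only [map_sum, map_mul, aeval_X, aeval_C, algebraMap_eq]
  simp only [sub_mul, Finset.sum_sub_distrib]
  rw [sub_eq_zero]
  have : ∑ i, C (l i) * (∑ j, X j * C (a j)) * C (a i) =
      (∑ j, X j * C (a j)) * C (∑ i, l i * a i) := by
    rw [map_sum, Finset.mul_sum]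
    refine Finset.sum_congr rfl fun i _ => ?_
    rw [map_mul]; ring
  rw [this, hl, map_one, mul_one]

theorem formallySmooth_inc (h : Ideal.span (Set.range a) = ⊤) :
    Algebra.FormallySmooth A (Inc a) := by
  obtain ⟨l, hl⟩ : ∃ l : Fin n → A, ∑ i, l i * a i = 1 := by
    have h1 : (1 : A) ∈ Ideal.span (Set.range a) := h ▸ Submodule.mem_top
    rw [Ideal.mem_span_range_iff_exists_fun] at h1
    exact h1
  let f : MvPolynomial (Fin n) A →ₐ[A] Inc a := Ideal.Quotient.mkₐ A (Ideal.span {univF a})
  let s : Inc a →ₐ[A] MvPolynomial (Fin n) A :=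
    Ideal.Quotient.liftₐ (Ideal.span {univF a}) (newton l) (by
      intro x hx
      obtain ⟨y, rfl⟩ := Ideal.mem_span_singleton'.mp hx
      rw [map_mul, newton_univF l hl, mul_zero])
  have hfs : f.comp s = AlgHom.id A (Inc a) := by
    apply Ideal.Quotient.algHom_ext
    apply MvPolynomial.algHom_ext
    intro i
    show f (newton l (X i)) = f (X i)
    unfold newton
    rw [aeval_X, map_sub, map_mul]
    have : f (univF a) = 0 := Ideal.Quotient.eq_zero_iff_mem.mpr (Ideal.subset_span rfl)
    rw [this, mul_zero, sub_zero]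
  refine Algebra.FormallySmooth.of_split f
    ((Ideal.Quotient.mkₐ A (RingHom.ker f.toRingHom ^ 2)).comp s) ?_
  ext x
  have := congrArg (fun g => g x) hfs
  simp only [AlgHom.coe_comp, Function.comp_apply, AlgHom.coe_id, id_eq] at this ⊢
  rw [Ideal.Quotient.mkₐ_eq_mk, AlgHom.kerSquareLift_mk]
  exact this

end incidence

end Groth.Agent.Lib.Seat95.Bertini
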