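import Mathlib
import Groth.Agent.Lib.Helper6SmReg
import Groth.Agent.Lib.Seat95BertiniInc
import Groth.Agent.Lib.Seat95BertiniFib

set_option autoImplicit false
set_option linter.style.haveILetI false
universe u

open TensorProduct MvPolynomial

namespace Groth.Agent.Lib.Seat95.Bertini

/-- a retract of a formally smooth algebra is formally smooth. -/
theorem formallySmooth_of_retract {R T A : Type u} [CommRing R] [CommRing T] [CommRing A]
    [Algebra R T] [Algebra R A] [Algebra.FormallySmooth R T] (χ : A →ₐ[R] T) (ψ : T →ₐ[R] A)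
    (h : ψ.comp χ = AlgHom.id R A) : Algebra.FormallySmooth R A := by
  refine Algebra.FormallySmooth.of_comp_surjective ?_
  intro C _ _ I hI f
  obtain ⟨g, hg⟩ := Algebra.FormallySmooth.comp_surjective R T I hI (f.comp ψ)
  refine ⟨g.comp χ, ?_⟩
  rw [← AlgHom.comp_assoc, hg, AlgHom.comp_assoc, h, AlgHom.comp_id]

section fibre

variable {k : Type u} [Field k] {A : Type u} [CommRing A] [Algebra k A] {n : ℕ} (a : Fin n → A)
  (c : Fin n → k)

/-- the specialization `A[T]/(F) → A/(∑ cᵢ aᵢ)`, `Tᵢ ↦ cᵢ`. -/
noncomputable def spec₀ : MvPolynomial (Fin n) A →ₐ[A] A ⧸ Ideal.span {∑ i, c i • a i} :=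
  aeval (fun i => algebraMap k _ (c i))

theorem spec₀_univF : spec₀ a c (univF a) = 0 := by
  unfold spec₀ univF
  simp only [map_sum, map_mul, aeval_X, aeval_C]
  have h : ∀ x : Fin n, (algebraMap k (A ⧸ Ideal.span {∑ i, c i • a i})) (c x) *
      (algebraMap A (A ⧸ Ideal.span {∑ i, c i • a i})) (a x) =
      algebraMap A (A ⧸ Ideal.span {∑ i, c i • a i}) (c x • a x) := by
    intro x
    rw [IsScalarTower.algebraMap_apply k A, ← map_mul, Algebra.smul_def]
  simp only [h]
  rw [← map_sum, Ideal.Quotient.algebraMap_eq, Ideal.Quotient.eq_zero_iff_mem]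
  exact Ideal.subset_span rfl

/-- the specialization `A[T]/(F) → A/(∑ cᵢ aᵢ)`. -/
noncomputable def spec : Inc a →ₐ[A] A ⧸ Ideal.span {∑ i, c i • a i} :=
  Ideal.Quotient.liftₐ (Ideal.span {univF a}) (spec₀ a c) (by
    intro x hx
    obtain ⟨y, rfl⟩ := Ideal.mem_span_singleton'.mp hx
    rw [map_mul, spec₀_univF, mul_zero])

theorem spec_mk (p : MvPolynomial (Fin n) A) :
    spec a c (Ideal.Quotient.mk _ p) = spec₀ a c p := rfl

end fibre

attribute [local instance] MvPolynomial.algebraMvPolynomial

/-- **Bertini, algebraic core.** -/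
theorem exists_poly_smooth (k : Type u) [Field k] [CharZero k] (A : Type u) [CommRing A]
    [Algebra k A] [Algebra.Smooth k A] (n : ℕ) (a : Fin n → A)
    (ha : Ideal.span (Set.range a) = ⊤) :
    ∃ p : MvPolynomial (Fin n) k, p ≠ 0 ∧ ∀ c : Fin n → k, MvPolynomial.eval c p ≠ 0 →
      Algebra.Smooth k (A ⧸ Ideal.span {∑ i, c i • a i}) := by
  let R := MvPolynomial (Fin n) k
  let B := Inc a
  haveI : Algebra.FormallySmooth A B := formallySmooth_inc ha
  haveI : Algebra.FinitePresentation A B :=
    Algebra.FinitePresentation.quotient (Submodule.fg_span_singleton _)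
  haveI : Algebra.Smooth A B := ⟨inferInstance, inferInstance⟩
  haveI : Algebra.Smooth k B := Algebra.Smooth.comp k A B
  have hreg : ∀ (q : Ideal B) [q.IsPrime], IsRegularLocalRing (Localization.AtPrime q) := by
    intro q _
    haveI : Algebra.IsSmoothAt k q := by
      have := Algebra.smoothLocus_eq_univ (R := k) (A := B)
      have h1 : (⟨q, inferInstance⟩ : PrimeSpectrum B) ∈ Algebra.smoothLocus k B :=
        this ▸ Set.mem_univ _
      exact h1
    exact Groth.Agent.Lib.Helper6.SmReg.isRegularLocalRing_of_isSmoothAt (R := k) q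
  haveI : IsScalarTower k R B := inferInstance
  haveI : Algebra.FiniteType k B := inferInstance
  haveI : Algebra.FiniteType R B := Algebra.FiniteType.of_restrictScalars_finiteType k R B
  haveI : Algebra.FinitePresentation R B := Algebra.FinitePresentation.of_finiteType.mp inferInstance
  let K := FractionRing R
  haveI : CharZero K :=
    charZero_of_injective_ringHom (f := (algebraMap R K).comp (algebraMap k R))
      ((IsFractionRing.injective R K).comp (MvPolynomial.C_injective (Fin n) k))
  haveI : PerfectField K := inferInstance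
  obtain ⟨r, hr0, hr⟩ := exists_ne_zero_forall_mem_smoothLocus (R := R) (B := B) (K := K) hreg
  refine ⟨r, hr0, fun c hc => ?_⟩
  letI : Algebra R k := (MvPolynomial.eval c).toAlgebra
  have hc' : algebraMap R k r ≠ 0 := hc
  haveI : Algebra.FormallySmooth k (k ⊗[R] B) := formallySmooth_fibre (S := k) r hc' hr
  let Q := A ⧸ Ideal.span {∑ i, c i • a i}
  letI : Algebra R Q := ((algebraMap k Q).comp (MvPolynomial.eval c)).toAlgebra
  haveI : IsScalarTower R k Q := .of_algebraMap_eq' rfl
  let g : B →ₐ[R] Q :=
    { (spec a c).toRingHom with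
      commutes' := by
        intro r'
        show spec a c (Ideal.Quotient.mk _ (MvPolynomial.map (algebraMap k A) r')) =
          algebraMap k Q (MvPolynomial.eval c r')
        rw [spec_mk]
        unfold spec₀
        rw [MvPolynomial.aeval_map_algebraMap]
        have := MvPolynomial.aeval_algebraMap_apply Q (fun i => c i) r'
        rw [Function.comp_def] at this
        rw [this]
        rfl }
  let ψ : k ⊗[R] B →ₐ[k] Q :=
    Algebra.TensorProduct.lift (Algebra.ofId k Q) g (fun _ _ => Commute.all _ _)
  have hinc : ∀ r' : R, (1 : k) ⊗ₜ[R] (algebraMap R B r') =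
      (MvPolynomial.eval c r' : k) ⊗ₜ[R] (1 : B) := by
    intro r'
    rw [Algebra.algebraMap_eq_smul_one, ← TensorProduct.smul_tmul, Algebra.smul_def, mul_one]
    rfl
  let χ₀ : A →ₐ[k] (k ⊗[R] B) :=
    { ((Algebra.TensorProduct.includeRight : B →ₐ[R] (k ⊗[R] B)).toRingHom.comp (algebraMap A B)) with
      commutes' := by
        intro x
        show (1 : k) ⊗ₜ[R] (algebraMap A B (algebraMap k A x)) = x ⊗ₜ[R] (1 : B)
        rw [← IsScalarTower.algebraMap_apply k A B, IsScalarTower.algebraMap_apply k R B, hinc]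
        congr 1
        exact MvPolynomial.eval_C x }
  have hχ₀ : ∀ x, χ₀ x = (1 : k) ⊗ₜ[R] (algebraMap A B x) :=
    fun _ => rfl
  have hzero : χ₀ (∑ i, c i • a i) = 0 := by
    have h1 : (Ideal.Quotient.mk (Ideal.span {univF a}) (∑ i, X i * C (a i)) : B) = 0 :=
      Ideal.Quotient.eq_zero_iff_mem.mpr (Ideal.subset_span rfl)
    have h2 : ∀ i, (Ideal.Quotient.mk (Ideal.span {univF a}) (X i * C (a i)) : B) =
        algebraMap R B (X i) * algebraMap A B (a i) := by
      intro i
      rw [map_mul]
      congr 1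
      show _ = Ideal.Quotient.mk _ (MvPolynomial.map (algebraMap k A) (X i))
      rw [MvPolynomial.map_X]
    rw [map_sum] at h1
    simp only [h2] at h1
    have h3 : (1 : k) ⊗ₜ[R] (∑ i, algebraMap R B (X i) * algebraMap A B (a i)) =
        (1 : k) ⊗ₜ[R] (0 : B) := by rw [h1]
    rw [TensorProduct.tmul_sum, TensorProduct.tmul_zero] at h3
    have h4 : ∀ i, (1 : k) ⊗ₜ[R] (algebraMap R B (X i) * algebraMap A B (a i)) =
        c i • χ₀ (a i) := by
      intro i
      rw [hχ₀, TensorProduct.smul_tmul', smul_eq_mul, mul_one]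
      have h5 : algebraMap R B (X i) * algebraMap A B (a i) =
          (X i : R) • algebraMap A B (a i) := (Algebra.smul_def _ _).symm
      rw [h5, ← TensorProduct.smul_tmul, Algebra.smul_def, mul_one]
      congr 1
      exact MvPolynomial.eval_X i
    simp only [h4] at h3
    rw [map_sum]
    simp only [map_smul]
    exact h3
  let χ : Q →ₐ[k] (k ⊗[R] B) := Ideal.Quotient.liftₐ _ χ₀ (by
    intro x hx
    have hle : Ideal.span {∑ i, c i • a i} ≤ RingHom.ker χ₀.toRingHom := by
      rw [Ideal.span_le, Set.singleton_subset_iff]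
      exact hzero
    exact hle hx)
  have hψχ : ψ.comp χ = AlgHom.id k Q := by
    apply Ideal.Quotient.algHom_ext
    ext x
    show ψ (χ₀ x) = Ideal.Quotient.mk _ x
    rw [hχ₀]
    rw [Algebra.TensorProduct.lift_tmul, map_one, one_mul]
    show spec a c (algebraMap A B x) = _
    rw [AlgHom.commutes]
    rfl
  haveI : Algebra.FormallySmooth k Q := formallySmooth_of_retract (R := k) (T := k ⊗[R] B) (A := Q) χ ψ hψχ
  haveI : Algebra.FinitePresentation k A := inferInstance
  haveI : Algebra.FinitePresentation A Q :=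
    Algebra.FinitePresentation.quotient (Submodule.fg_span_singleton _)
  haveI : Algebra.FinitePresentation k Q := Algebra.FinitePresentation.trans k A Q
  exact ⟨inferInstance, inferInstance⟩

end Groth.Agent.Lib.Seat95.Bertini
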