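import Mathlib
import Groth.Agent.Lib.Helper6Tower
import Groth.Agent.Lib.Helper6RatPt

/-!
# Cotangent criterion for formal smoothness of local homomorphisms (helper95)

`A → B` a local homomorphism of local `k`-algebras, both formally smooth and essentially of finite
type over `k`, both with residue field `k`.  Then `B` is formally smooth over `A` iff the
cotangent map `m_A/m_A² → m_B/m_B²` is injective.
-/

set_option autoImplicit false
universe u
open TensorProduct KaehlerDifferential IsLocalRing

namespace Groth.Agent.Lib.Seat95.CotSmooth

section transport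

variable {A B : Type u} [CommRing A] [CommRing B]

/-- Injectivity of `mapCotangent` only depends on the ideals up to equality. -/
theorem injective_mapCotangent_congr (f : A →ₐ[ℤ] B) {I I' : Ideal A} {J J' : Ideal B}
    (hI : I = I') (hJ : J = J') (h : I ≤ J.comap f) (h' : I' ≤ J'.comap f) :
    Function.Injective (Ideal.mapCotangent I J f h) ↔
      Function.Injective (Ideal.mapCotangent I' J' f h') := by
  subst hI hJ
  rfl

end transport

section alg

variable (k A B : Type u) [Field k] [CommRing A] [CommRing B] [Algebra k A] [Algebra k B]
  [Algebra A B] [IsScalarTower k A B] [IsLocalRing A] [IsLocalRing B]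
  [IsLocalHom (algebraMap A B)]

/-- The `A`-linear map of residue fields. -/
noncomputable def resLin : ResidueField A →ₗ[A] ResidueField B where
  toFun := ResidueField.map (algebraMap A B)
  map_add' := map_add _
  map_smul' a x := by
    obtain ⟨x, rfl⟩ := residue_surjective x
    simp only [RingHom.id_apply, Algebra.smul_def, map_mul]
    rfl

theorem resLin_bijective (hA : Function.Bijective (algebraMap k (ResidueField A)))
    (hB : Function.Bijective (algebraMap k (ResidueField B))) :
    Function.Bijective (resLin A B) := by
  have hcomp : ∀ c : k, resLin A B (algebraMap k (ResidueField A) c) =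
      algebraMap k (ResidueField B) c := by
    intro c
    change ResidueField.map (algebraMap A B) (residue A (algebraMap k A c)) = _
    rw [ResidueField.map_residue, ← IsScalarTower.algebraMap_apply k A B]
    rfl
  constructor
  · intro x y hxy
    obtain ⟨c, rfl⟩ := hA.2 x
    obtain ⟨d, rfl⟩ := hA.2 y
    rw [hcomp, hcomp] at hxy
    rw [hB.1 hxy]
  · intro z
    obtain ⟨c, rfl⟩ := hB.2 z
    exact ⟨algebraMap k (ResidueField A) c, hcomp c⟩

/-- The ideal `ker (A → κ_A)`. -/
noncomputable abbrev IA : Ideal A := RingHom.ker (algebraMap A (ResidueField A))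

theorem IA_le : IA A ≤ (IA B).comap (algebraMap A B) := by
  intro a ha
  rw [Ideal.mem_comap, RingHom.mem_ker]
  rw [RingHom.mem_ker] at ha
  change residue B (algebraMap A B a) = 0
  rw [← ResidueField.map_residue, show residue A a = 0 from ha, map_zero]

theorem IA_le' : IA A ≤ (IA B).comap (algebraMap A B).toIntAlgHom := IA_le A B

/-- The comparison map `κ_B ⊗_A Ω_A → κ_B ⊗_B Ω_B` factored through the base change. -/
noncomputable def comparison : ResidueField A ⊗[A] Ω[A⁄k] →ₗ[A] ResidueField B ⊗[B] Ω[B⁄k] :=
  (((mapBaseChange k A B).lTensor (ResidueField B)).restrictScalars A) ∘ₗ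
    ((AlgebraTensorModule.cancelBaseChange A B (ResidueField B) (ResidueField B)
      Ω[A⁄k]).symm.toLinearMap.restrictScalars A) ∘ₗ
    (resLin A B).rTensor Ω[A⁄k]

theorem comparison_tmul (c : ResidueField A) (ω : Ω[A⁄k]) :
    comparison k A B (c ⊗ₜ ω) = resLin A B c ⊗ₜ (KaehlerDifferential.map k k A B ω) := by
  simp [comparison, mapBaseChange_tmul]

theorem comparison_comp (x : (IA A).Cotangent) :
    comparison k A B (kerCotangentToTensor k A (ResidueField A) x) =
      kerCotangentToTensor k B (ResidueField B)
        (Ideal.mapCotangent (IA A) (IA B) (algebraMap A B).toIntAlgHom (IA_le' A B) x) := by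
  obtain ⟨a, rfl⟩ := Ideal.toCotangent_surjective _ x
  rw [Ideal.mapCotangent_toCotangent, kerCotangentToTensor_toCotangent,
    kerCotangentToTensor_toCotangent, comparison_tmul, KaehlerDifferential.map_D]
  congr 1
  change ResidueField.map (algebraMap A B) 1 = 1
  exact map_one _

theorem injective_comparison_iff (hA : Function.Bijective (algebraMap k (ResidueField A)))
    (hB : Function.Bijective (algebraMap k (ResidueField B))) :
    Function.Injective (comparison k A B) ↔
      Function.Injective ((mapBaseChange k A B).lTensor (ResidueField B)) := by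
  have h1 : Function.Bijective ((resLin A B).rTensor Ω[A⁄k]) :=
    (LinearEquiv.rTensor Ω[A⁄k] (LinearEquiv.ofBijective (resLin A B)
      (resLin_bijective k A B hA hB))).bijective
  have h2 : Function.Bijective
      ((AlgebraTensorModule.cancelBaseChange A B (ResidueField B) (ResidueField B)
        Ω[A⁄k]).symm) := LinearEquiv.bijective _
  have h12 := h2.comp h1
  constructor
  · intro h
    intro x y hxy
    obtain ⟨x', rfl⟩ := h12.2 x
    obtain ⟨y', rfl⟩ := h12.2 y
    congr 1
    exact h hxy
  · intro h
    exact h.comp h12.1

/-- Main algebraic criterion, in terms of the kernels of the residue maps. -/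
theorem formallySmooth_iff_injective_mapCotangent_ker
    [Algebra.FormallySmooth k A] [Algebra.FormallySmooth k B]
    [Algebra.EssFiniteType k A] [Algebra.EssFiniteType k B]
    (hA : Function.Bijective (algebraMap k (ResidueField A)))
    (hB : Function.Bijective (algebraMap k (ResidueField B))) :
    Algebra.FormallySmooth A B ↔
      Function.Injective (Ideal.mapCotangent (IA A) (IA B) (algebraMap A B).toIntAlgHom
        (IA_le' A B)) := by
  haveI : Module.Free B Ω[B⁄k] := Module.free_of_flat_of_isLocalRing
  rw [Groth.Agent.Lib.Helper6.Tower.formallySmooth_iff_exists_retraction k A B,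
    IsLocalRing.split_injective_iff_lTensor_residueField_injective,
    ← injective_comparison_iff k A B hA hB]
  have hdA := Groth.Agent.Lib.Helper6.RatPt.kerCotangentToTensor_bijective k A hA
  have hdB := Groth.Agent.Lib.Helper6.RatPt.kerCotangentToTensor_bijective k B hB
  constructor
  · intro h x y hxy
    apply hdA.1
    apply h
    rw [comparison_comp, comparison_comp, hxy]
  · intro h x y hxy
    obtain ⟨x', rfl⟩ := hdA.2 x
    obtain ⟨y', rfl⟩ := hdA.2 y
    rw [comparison_comp, comparison_comp] at hxy
    rw [h (hdB.1 hxy)]

end alg

section ringHom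

variable (k A B : Type u) [Field k] [CommRing A] [CommRing B] [Algebra k A] [Algebra k B]
  [IsLocalRing A] [IsLocalRing B]

/-- If `φ : A → B` is a local `k`-homomorphism and `B` has residue field `k`, so has `A`. -/
theorem bijective_algebraMap_residueField_of_hom (φ : A →+* B)
    (hloc : maximalIdeal A ≤ (maximalIdeal B).comap φ)
    (hφ : ∀ c : k, φ (algebraMap k A c) = algebraMap k B c)
    (hB : Function.Bijective (algebraMap k (ResidueField B))) :
    Function.Bijective (algebraMap k (ResidueField A)) := by
  haveI : IsLocalHom φ := by
    refine ⟨fun a ha => ?_⟩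
    by_contra hna
    have h1 : a ∈ maximalIdeal A := (mem_maximalIdeal a).mpr hna
    have h2 : φ a ∈ maximalIdeal B := hloc h1
    exact (mem_maximalIdeal _).mp h2 ha
  have hcomp : ∀ c : k, ResidueField.map φ (algebraMap k (ResidueField A) c) =
      algebraMap k (ResidueField B) c := by
    intro c
    change ResidueField.map φ (residue A (algebraMap k A c)) = _
    rw [ResidueField.map_residue, hφ]
    rfl
  have hinj : Function.Injective (ResidueField.map φ) := RingHom.injective _
  constructor
  · exact RingHom.injective _
  · intro z
    obtain ⟨c, hc⟩ := hB.2 (ResidueField.map φ z)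
    exact ⟨c, hinj ((hcomp c).trans hc)⟩

/-- **Cotangent criterion**: a local `k`-homomorphism `φ : A → B` of local `k`-algebras which are
formally smooth and essentially of finite type over `k` with residue field `k` is formally smooth
iff the induced map `m_A/m_A² → m_B/m_B²` is injective. -/
theorem formallySmooth_iff_injective_mapCotangent (φ : A →+* B)
    (hloc : maximalIdeal A ≤ (maximalIdeal B).comap φ.toIntAlgHom)
    (hφ : ∀ c : k, φ (algebraMap k A c) = algebraMap k B c)
    [Algebra.FormallySmooth k A] [Algebra.FormallySmooth k B]
    [Algebra.EssFiniteType k A] [Algebra.EssFiniteType k B]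
    (hA : Function.Bijective (algebraMap k (ResidueField A)))
    (hB : Function.Bijective (algebraMap k (ResidueField B))) :
    φ.FormallySmooth ↔
      Function.Injective (Ideal.mapCotangent (maximalIdeal A) (maximalIdeal B) φ.toIntAlgHom
        hloc) := by
  letI := φ.toAlgebra
  haveI : IsScalarTower k A B := IsScalarTower.of_algebraMap_eq fun c => (hφ c).symm
  haveI : IsLocalHom (algebraMap A B) := by
    refine ⟨fun a ha => ?_⟩
    by_contra hna
    have h1 : a ∈ maximalIdeal A := (mem_maximalIdeal a).mpr hna
    have h2 : φ a ∈ maximalIdeal B := hloc h1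
    exact (mem_maximalIdeal _).mp h2 ha
  have key := formallySmooth_iff_injective_mapCotangent_ker k A B hA hB
  exact key.trans (injective_mapCotangent_congr (algebraMap A B).toIntAlgHom
    (show IA A = maximalIdeal A from ker_residue (R := A))
    (show IA B = maximalIdeal B from ker_residue (R := B)) (IA_le' A B) hloc)

end ringHom

end Groth.Agent.Lib.Seat95.CotSmooth
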