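import Mathlib
import Groth.Agent.Lib.Helper6Tower
import Groth.Agent.Lib.Helper19SmVarB

/-!
# Rank of relative differentials for a smooth map between smooth domains over an algebraically
closed field (helper95)
-/

set_option autoImplicit false
set_option linter.style.haveILetI false
universe u
open TensorProduct KaehlerDifferential

namespace Groth.Agent.Lib.Seat95.RelDimRank

variable (k R S : Type u) [Field k] [IsAlgClosed k] [CommRing R] [CommRing S]
  [Algebra k R] [Algebra k S] [Algebra R S] [IsScalarTower k R S]
  [Algebra.FiniteType k R] [Algebra.FiniteType k S] [IsDomain R] [IsDomain S]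

/-- For a smooth domain of finite type over an algebraically closed field, the rank of the
differentials at every prime is the dimension. -/
theorem rankAtStalk_kaehler_eq_dim [Algebra.FormallySmooth k R] (d : ℕ)
    (hR : ringKrullDim R = d) (p : PrimeSpectrum R) :
    Module.rankAtStalk Ω[R⁄k] p = d := by
  have hirr : (nilradical R).IsPrime := by
    rw [nilradical_eq_zero]; exact Ideal.isPrime_bot
  have hreg : IsRegularRing R :=
    (Groth.Agent.Lib.Helper19.SmVar.isRegularRing_iff_formallySmooth k R).mpr inferInstance
  have h := (Groth.Agent.Lib.Helper19.SmVar.isReduced_and_isRegularRing_iff k R hirr d hR).mp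
    ⟨inferInstance, hreg⟩
  haveI := p.2
  have h2 := h.2 p.asIdeal
  rw [← h2]
  exact (Ideal.finrank_fiber_eq_rankAtStalk p.asIdeal).symm

/-- The relative differentials of a smooth map `R → S` between smooth domains of finite type over
an algebraically closed field have rank `dim S - dim R`. -/
theorem finrank_kaehler_eq [Algebra.FormallySmooth k R] [Algebra.FormallySmooth k S]
    [Algebra.FormallySmooth R S] [Module.Free S Ω[S⁄R]] (dY n : ℕ)
    (hR : ringKrullDim R = dY) (hS : ringKrullDim S = ((dY + n : ℕ) : WithBot ℕ∞)) :
    Module.finrank S Ω[S⁄R] = n := by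
  haveI : Algebra.FiniteType R S := Algebra.FiniteType.of_restrictScalars_finiteType k R S
  haveI : Module.Finite S Ω[S⁄R] := inferInstance
  haveI : Module.Finite R Ω[R⁄k] := inferInstance
  haveI : Module.Finite S (S ⊗[R] Ω[R⁄k]) := inferInstance
  obtain ⟨r, hr⟩ := (Groth.Agent.Lib.Helper6.Tower.formallySmooth_iff_exists_retraction k R S).mp
    inferInstance
  have hex := KaehlerDifferential.exact_mapBaseChange_map k R S
  have hsurj : Function.Surjective (KaehlerDifferential.map k R S S) :=
    KaehlerDifferential.map_surjective k R S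
  obtain ⟨e, -, -⟩ := (hex.splitInjectiveEquiv hsurj) ⟨r, hr⟩
  let q : PrimeSpectrum S := ⟨⊥, Ideal.isPrime_bot⟩
  have h1 := rankAtStalk_kaehler_eq_dim k S (dY + n) hS q
  have h2 := rankAtStalk_kaehler_eq_dim k R dY hR (q.comap (algebraMap R S))
  rw [Module.rankAtStalk_eq_of_equiv e, Module.rankAtStalk_prod, Pi.add_apply,
    Module.rankAtStalk_baseChange, h2, Module.rankAtStalk_eq_finrank_of_free] at h1
  have h3 : ((Module.finrank S Ω[S⁄R] : ℕ) : PrimeSpectrum S → ℕ) q =
      Module.finrank S Ω[S⁄R] := rfl
  rw [h3] at h1
  omega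

theorem rank_kaehler_eq [Algebra.FormallySmooth k R] [Algebra.FormallySmooth k S]
    [Algebra.FormallySmooth R S] [Module.Free S Ω[S⁄R]] (dY n : ℕ)
    (hR : ringKrullDim R = dY) (hS : ringKrullDim S = ((dY + n : ℕ) : WithBot ℕ∞)) :
    Module.rank S Ω[S⁄R] = n := by
  haveI : Algebra.FiniteType R S := Algebra.FiniteType.of_restrictScalars_finiteType k R S
  haveI : Module.Finite S Ω[S⁄R] := inferInstance
  rw [← Module.finrank_eq_rank, finrank_kaehler_eq k R S dY n hR hS]

end Groth.Agent.Lib.Seat95.RelDimRank
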