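import Mathlib
import Groth.Prelude.Def_CurvBase
import Groth.Prelude.Def_FixPt
import Groth.Agent.Lib.Seat95CotSmooth
import Groth.Agent.Lib.Helper4VarDim5
import Groth.Agent.Lib.Helper4VarDim4
import Groth.Agent.Lib.Helper19SmVarB
import Groth.Agent.Lib.Seat95RelDimRank

/-!
# Cotangent criterion for smoothness of morphisms of smooth varieties (helper95)
-/

set_option autoImplicit false
set_option linter.style.haveILetI false
universe u
open CategoryTheory AlgebraicGeometry TensorProduct KaehlerDifferential IsLocalRing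

namespace Groth.Agent.Lib.Seat95.CotSmoothSch

open Groth.Agent.Lib.Helper4.VarDim

attribute [local instance] Curv2.stalkAlgebra sectionsAlgebra Curv2.resAlgebra

section stalk

variable (k : Type u) [Field k] (X : Scheme.{u}) [X.Over (Spec (CommRingCat.of k))]

/-- The sections over an affine open, the stalk and `k` form a scalar tower. -/
theorem isScalarTower_sections_stalk {V : X.Opens} (x : X) (hxV : x ∈ V) :
    letI := TopCat.Presheaf.algebra_section_stalk X.presheaf (U := V) ⟨x, hxV⟩
    IsScalarTower k Γ(X, V) (X.presheaf.stalk x) := by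
  letI := TopCat.Presheaf.algebra_section_stalk X.presheaf (U := V) ⟨x, hxV⟩
  refine IsScalarTower.of_algebraMap_eq fun c => ?_
  show (Curv2.stalkMap k X x) c = (X.presheaf.germ V x hxV).hom
    (((Scheme.ΓSpecIso (CommRingCat.of k)).inv ≫
      (X ↘ Spec (CommRingCat.of k)).appLE ⊤ V le_top).hom c)
  simp only [Curv2.stalkMap, Coh.toGlobal, RingHom.comp_apply, CommRingCat.hom_comp]
  exact (TopCat.Presheaf.germ_res_apply X.presheaf (homOfLE (le_top : V ≤ ⊤)) x hxV _).symm

theorem essFiniteType_stalk [LocallyOfFiniteType (X ↘ Spec (CommRingCat.of k))] (x : X) :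
    Algebra.EssFiniteType k (X.presheaf.stalk x) := by
  obtain ⟨V, hV, hxV, -⟩ := exists_isAffineOpen_mem_and_subset (X := X) (x := x) (U := ⊤) trivial
  letI := TopCat.Presheaf.algebra_section_stalk X.presheaf (U := V) ⟨x, hxV⟩
  haveI := isScalarTower_sections_stalk k X x hxV
  haveI := hV.isLocalization_stalk ⟨x, hxV⟩
  haveI := finiteType_sections k X hV
  haveI : Algebra.EssFiniteType Γ(X, V) (X.presheaf.stalk x) :=
    Algebra.EssFiniteType.of_isLocalization (X.presheaf.stalk x)
      (hV.primeIdealOf ⟨x, hxV⟩).asIdeal.primeCompl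
  exact Algebra.EssFiniteType.comp k Γ(X, V) _

theorem formallySmooth_sections [Smooth (X ↘ Spec (CommRingCat.of k))] {V : X.Opens}
    (hV : IsAffineOpen V) : Algebra.FormallySmooth k Γ(X, V) := by
  have h1 : ((X ↘ Spec (CommRingCat.of k)).appLE ⊤ V le_top).hom.FormallySmooth :=
    ((X ↘ Spec (CommRingCat.of k)).smooth_appLE (isAffineOpen_top _) hV le_top).1
  have h2 : ((Scheme.ΓSpecIso (CommRingCat.of k)).inv ≫
      (X ↘ Spec (CommRingCat.of k)).appLE ⊤ V le_top).hom.FormallySmooth :=
    (RingHom.FormallySmooth.respectsIso.cancel_left_isIso _ _).mpr h1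
  exact h2

theorem formallySmooth_stalk [Smooth (X ↘ Spec (CommRingCat.of k))] (x : X) :
    Algebra.FormallySmooth k (X.presheaf.stalk x) := by
  obtain ⟨V, hV, hxV, -⟩ := exists_isAffineOpen_mem_and_subset (X := X) (x := x) (U := ⊤) trivial
  letI := TopCat.Presheaf.algebra_section_stalk X.presheaf (U := V) ⟨x, hxV⟩
  haveI := isScalarTower_sections_stalk k X x hxV
  haveI := hV.isLocalization_stalk ⟨x, hxV⟩
  haveI := formallySmooth_sections k X hV
  haveI : Algebra.FormallyEtale Γ(X, V) (X.presheaf.stalk x) :=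
    Algebra.FormallyEtale.of_isLocalization (hV.primeIdealOf ⟨x, hxV⟩).asIdeal.primeCompl
  exact Algebra.FormallySmooth.comp k Γ(X, V) _

theorem bijective_algebraMap_residueField [IsAlgClosed k]
    [LocallyOfFiniteType (X ↘ Spec (CommRingCat.of k))] (x : X) (hx : IsClosed ({x} : Set X)) :
    Function.Bijective (algebraMap k (ResidueField (X.presheaf.stalk x))) := by
  have h0 := trdeg_eq_zero_of_isClosed k X x hx
  rw [trdeg_eq_zero_iff] at h0
  haveI : Algebra.IsIntegral k (X.residueField x) := Algebra.IsAlgebraic.isIntegral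
  have h1 : Function.Bijective (algebraMap k (X.residueField x)) :=
    IsAlgClosed.algebraMap_bijective_of_isIntegral
  exact h1

end stalk

section morphism

variable (k : Type u) [Field k] {X Y : Scheme.{u}} [X.Over (Spec (CommRingCat.of k))]
  [Y.Over (Spec (CommRingCat.of k))] (f : X ⟶ Y) [f.IsOver (Spec (CommRingCat.of k))]

/-- The stalk maps of a `k`-morphism are `k`-algebra maps. -/
theorem stalkMap_algebraMap (x : X) (c : k) :
    (f.stalkMap x).hom (algebraMap k (Y.presheaf.stalk (f x)) c) =
      algebraMap k (X.presheaf.stalk x) c := by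
  show (f.stalkMap x).hom ((Curv2.stalkMap k Y (f x)) c) = (Curv2.stalkMap k X x) c
  simp only [Curv2.stalkMap, Coh.toGlobal, RingHom.comp_apply]
  have h1 := f.germ_stalkMap_apply ⊤ x trivial
    (((Y ↘ Spec (CommRingCat.of k)).appTop).hom
      ((Scheme.ΓSpecIso (CommRingCat.of k)).inv.hom c))
  refine h1.trans ?_
  have h2 : (X ↘ Spec (CommRingCat.of k)).appTop =
      (Y ↘ Spec (CommRingCat.of k)).appTop ≫ f.appTop := by
    rw [← Scheme.Hom.comp_appTop, comp_over]
  rw [h2]
  rfl

theorem stalkMapAt_rfl (x : X) : FixPt.stalkMapAt f x (f x) rfl = (f.stalkMap x).hom := by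
  unfold FixPt.stalkMapAt
  have : (Y.presheaf.stalkCongr (Inseparable.of_eq (rfl : f x = f x))).inv = 𝟙 _ := by
    simp only [TopCat.Presheaf.stalkCongr_inv]
    exact TopCat.Presheaf.stalkSpecializes_refl _ _
  rw [this, Category.id_comp]

/-- **Cotangent criterion at a closed point.** -/
theorem formallySmooth_stalkMap_iff_injective_cotangentMapAt [IsAlgClosed k]
    [LocallyOfFiniteType (X ↘ Spec (CommRingCat.of k))]
    [LocallyOfFiniteType (Y ↘ Spec (CommRingCat.of k))]
    [Smooth (X ↘ Spec (CommRingCat.of k))] [Smooth (Y ↘ Spec (CommRingCat.of k))]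
    (x : X) (hx : IsClosed ({x} : Set X)) :
    (f.stalkMap x).hom.FormallySmooth ↔
      Function.Injective (FixPt.cotangentMapAt f x (f x) rfl) := by
  haveI := essFiniteType_stalk k X x
  haveI := essFiniteType_stalk k Y (f x)
  haveI := formallySmooth_stalk k X x
  haveI := formallySmooth_stalk k Y (f x)
  have hB := bijective_algebraMap_residueField k X x hx
  have hφ : ∀ c : k, (FixPt.stalkMapAt f x (f x) rfl) (algebraMap k (Y.presheaf.stalk (f x)) c) =
      algebraMap k (X.presheaf.stalk x) c := by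
    intro c
    rw [stalkMapAt_rfl]
    exact stalkMap_algebraMap k f x c
  have hloc := FixPt.maximalIdeal_le_comap_stalkMapAt f x (f x) rfl
  have hA := Groth.Agent.Lib.Seat95.CotSmooth.bijective_algebraMap_residueField_of_hom k
    (Y.presheaf.stalk (f x)) (X.presheaf.stalk x) (FixPt.stalkMapAt f x (f x) rfl) hloc hφ hB
  rw [← stalkMapAt_rfl]
  exact Groth.Agent.Lib.Seat95.CotSmooth.formallySmooth_iff_injective_mapCotangent k
    (Y.presheaf.stalk (f x)) (X.presheaf.stalk x) (FixPt.stalkMapAt f x (f x) rfl) hloc hφ hA hB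

/-- **Smoothness criterion**: a `k`-morphism of smooth `k`-schemes of finite type
(`k` algebraically closed) is smooth iff all cotangent maps at closed points are injective. -/
theorem smooth_iff_forall_injective_cotangentMapAt [IsAlgClosed k]
    [LocallyOfFiniteType (X ↘ Spec (CommRingCat.of k))]
    [LocallyOfFiniteType (Y ↘ Spec (CommRingCat.of k))]
    [Smooth (X ↘ Spec (CommRingCat.of k))] [Smooth (Y ↘ Spec (CommRingCat.of k))]
    [CompactSpace X] :
    Smooth f ↔ ∀ x : X, IsClosed ({x} : Set X) →
      Function.Injective (FixPt.cotangentMapAt f x (f x) rfl) := by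
  haveI : LocallyOfFiniteType (f ≫ (Y ↘ Spec (CommRingCat.of k))) := by
    rw [comp_over]; infer_instance
  haveI : LocallyOfFiniteType f := locallyOfFiniteType_of_comp f (Y ↘ Spec (CommRingCat.of k))
  haveI : IsLocallyNoetherian Y :=
    LocallyOfFiniteType.isLocallyNoetherian (Y ↘ Spec (CommRingCat.of k))
  haveI : LocallyOfFinitePresentation f := inferInstance
  constructor
  · intro hsm x hx
    rw [← formallySmooth_stalkMap_iff_injective_cotangentMapAt k f x hx]
    have h := f.smoothLocus_eq_top
    have hx' : x ∈ f.smoothLocus := by rw [h]; trivial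
    exact hx'
  · intro h
    rw [← Scheme.Hom.smoothLocus_eq_top_iff]
    by_contra hne
    have hne' : ((f.smoothLocus : Set X)ᶜ).Nonempty := by
      rw [Set.nonempty_compl]
      intro htop
      exact hne (TopologicalSpace.Opens.ext htop)
    obtain ⟨x, hxS, hxc⟩ := (f.smoothLocus.isOpen.isClosed_compl).exists_closed_singleton hne'
    apply hxS
    exact (formallySmooth_stalkMap_iff_injective_cotangentMapAt k f x hxc).mpr (h x hxc)

theorem isScalarTower_sections (U : Y.Opens) (V : X.Opens) (e : V ≤ f ⁻¹ᵁ U) :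
    letI := (f.appLE U V e).hom.toAlgebra
    IsScalarTower k Γ(Y, U) Γ(X, V) := by
  letI := (f.appLE U V e).hom.toAlgebra
  refine IsScalarTower.of_algebraMap_eq fun c => ?_
  show ((Scheme.ΓSpecIso (CommRingCat.of k)).inv ≫
      (X ↘ Spec (CommRingCat.of k)).appLE ⊤ V le_top).hom c =
    (f.appLE U V e).hom (((Scheme.ΓSpecIso (CommRingCat.of k)).inv ≫
      (Y ↘ Spec (CommRingCat.of k)).appLE ⊤ U le_top).hom c)
  have h : (X ↘ Spec (CommRingCat.of k)).appLE ⊤ V le_top =
      (Y ↘ Spec (CommRingCat.of k)).appLE ⊤ U le_top ≫ f.appLE U V e := by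
    rw [Scheme.Hom.appLE_comp_appLE]
    congr 1
    exact (comp_over f (Spec (CommRingCat.of k))).symm
  rw [h]
  rfl

/-- A smooth `k`-morphism between smooth integral `k`-schemes of finite type of dimensions
`dY + n` and `dY` is smooth of relative dimension `n` (`k` algebraically closed). -/
theorem smoothOfRelativeDimension_of_smooth [IsAlgClosed k] [IsIntegral X] [IsIntegral Y]
    [LocallyOfFiniteType (X ↘ Spec (CommRingCat.of k))]
    [LocallyOfFiniteType (Y ↘ Spec (CommRingCat.of k))]
    [Smooth (X ↘ Spec (CommRingCat.of k))] [Smooth (Y ↘ Spec (CommRingCat.of k))]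
    [Smooth f] (n dY : ℕ) (hY : topologicalKrullDim Y = dY)
    (hX : topologicalKrullDim X = ((dY + n : ℕ) : WithBot ℕ∞)) :
    SmoothOfRelativeDimension n f := by
  constructor
  intro x
  obtain ⟨U, hU, V, hV, hxV, e, hstd⟩ := Smooth.exists_isStandardSmooth f x
  refine ⟨U, hU, V, hV, hxV, e, ?_⟩
  letI : Algebra Γ(Y, U) Γ(X, V) := (f.appLE U V e).hom.toAlgebra
  haveI : IsScalarTower k Γ(Y, U) Γ(X, V) := isScalarTower_sections k f U V e
  haveI := finiteType_sections k X hV
  haveI := finiteType_sections k Y hU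
  haveI : Nonempty V := ⟨⟨x, hxV⟩⟩
  haveI : Nonempty U := ⟨⟨f x, e hxV⟩⟩
  haveI : IsDomain Γ(X, V) := inferInstance
  haveI : IsDomain Γ(Y, U) := inferInstance
  haveI := formallySmooth_sections k X hV
  haveI := formallySmooth_sections k Y hU
  haveI : Algebra.IsStandardSmooth Γ(Y, U) Γ(X, V) := hstd
  haveI : Algebra.FormallySmooth Γ(Y, U) Γ(X, V) := inferInstance
  have hS : ringKrullDim Γ(X, V) = ((dY + n : ℕ) : WithBot ℕ∞) := by
    rw [← topologicalKrullDim_eq_ringKrullDim hV,
      topologicalKrullDim_opens_eq_of_irreducible k X V ⟨x, hxV⟩, hX]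
  have hR : ringKrullDim Γ(Y, U) = dY := by
    rw [← topologicalKrullDim_eq_ringKrullDim hU,
      topologicalKrullDim_opens_eq_of_irreducible k Y U ⟨f x, e hxV⟩, hY]
  have hrank := Groth.Agent.Lib.Seat95.RelDimRank.rank_kaehler_eq k Γ(Y, U) Γ(X, V) dY n hR hS
  exact (Algebra.IsStandardSmoothOfRelativeDimension.iff_of_isStandardSmooth n).mpr hrank

end morphism

end Groth.Agent.Lib.Seat95.CotSmoothSch
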