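import Mathlib
import Groth.Prelude.Def_PicF2
import Groth.Agent.Lib.Helper23SecTw7
import Groth.Agent.Lib.Helper23FinType2

/-!
# The zero scheme of a section of an invertible module (seat 96)

For `L` invertible on a scheme `X` and `s : O_X ⟶ L`:

* `zI L s U` : `PicF2.zeroIdealOn L s U` as an ideal of `Γ(X, U)`; `mem_zI`, `mem_zI'`.
* `finite_sections` : `Γ(L, U)` is a finite `Γ(X, U)`-module for `U` affine.
* `map_zI_basicOpen` : the ideals `zI L s U` (`U` affine) are compatible with localization.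
* `ideal_zeroScheme` : `(PicF2.zeroScheme L s).ideal U = zI L s U` for `U` affine.
* `zI_eq_span`, `ideal_zeroScheme_eq_span` : on an open `W` with a generator `e` of `L` (`IsGen L W e` of helper23) and
  `s|_W = f • e`, the ideal is `(f)`.
* `zI_smul_unit`, `zI_comp_iso`, `zeroScheme_comp_iso` : invariance under unit multiples and isomorphisms.
-/

set_option autoImplicit false
set_option linter.style.haveILetI false
universe u
open CategoryTheory Limits AlgebraicGeometry TopologicalSpace Opposite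

namespace Groth.Agent.Lib.Seat96.ZeroSch

open Groth.Agent.Lib.Helper23.SecTw Groth.Agent.Lib.Helper6 Groth.Agent.Lib.Helper23.QCohLocal
  Groth.Agent.Lib.Helper2.Push Groth.Agent.Lib.Helper2.QCoh Groth.Agent.Lib.Helper23.FinType

variable {X : Scheme.{u}}

/-- `PicF2.zeroIdealOn L s U` as an ideal of `Γ(X, U)`. -/
noncomputable def zI (L : X.Modules) (s : Coh.structureModule X ⟶ L) (U : X.Opens) : Ideal Γ(X, U) :=
  PicF2.zeroIdealOn L s U

theorem mem_zI {L : X.Modules} {s : Coh.structureModule X ⟶ L} {U : X.Opens} {a : Γ(X, U)} :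
    a ∈ zI L s U ↔ ∀ m : Γ(L, U), ∃ b : Γ(X, U), a • m = b • sv s U := Iff.rfl

theorem mem_zI' {L : X.Modules} {s : Coh.structureModule X ⟶ L} {U : X.Opens} {a : Γ(X, U)} :
    a ∈ zI L s U ↔ ∀ m : Γ(L, U), a • m ∈ Submodule.span Γ(X, U) {sv s U} := by
  rw [mem_zI]
  refine forall_congr' fun m => ?_
  rw [Submodule.mem_span_singleton]
  exact ⟨fun ⟨b, hb⟩ => ⟨b, hb.symm⟩, fun ⟨b, hb⟩ => ⟨b, hb.symm⟩⟩

theorem zeroScheme_eq (L : X.Modules) (s : Coh.structureModule X ⟶ L) :
    PicF2.zeroScheme L s = Scheme.IdealSheafData.ofIdeals (fun U : X.affineOpens => zI L s U.1) := rfl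

/-- sections of an invertible module over an affine open form a finite module -/
theorem finite_sections (L : X.Modules) (hL : PicF.IsInvertible L) {U : X.Opens} (hU : IsAffineOpen U) :
    Module.Finite Γ(X, U) Γ(L, U) := by
  haveI : L.IsQuasicoherent := isQuasicoherent_of_isInvertible L hL
  let S : Set Γ(X, U) := {f | ∃ (W : X.Opens) (e : Γ(L, W)), X.basicOpen f ≤ W ∧ IsGen L W e}
  have hS : Ideal.span S = ⊤ := by
    rw [← hU.self_le_iSup_basicOpen_iff]
    intro x hxU
    obtain ⟨W, e, hxW, hgen⟩ := exists_gen L hL x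
    obtain ⟨f, hf, hxf⟩ := hU.exists_basicOpen_le (V := W) ⟨x, hxW⟩ hxU
    exact Opens.mem_iSup.2 ⟨⟨f, W, e, hf, hgen⟩, hxf⟩
  refine finite_of_basicOpen_cover hU L (IsLocOn.of_isQuasicoherent hU L) S hS ?_
  rintro f ⟨W, e, hf, hgen⟩
  have hb := hgen (X.basicOpen f) hf
  refine Module.Finite.of_surjective
    (LinearMap.toSpanSingleton Γ(X, X.basicOpen f) Γ(L, X.basicOpen f) (res L hf e)) ?_
  intro m
  obtain ⟨r, hr⟩ := hb.2 m
  exact ⟨r, hr⟩

/-- the ideals `zI L s U` are compatible with localization -/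
theorem map_zI_basicOpen (L : X.Modules) (hL : PicF.IsInvertible L) (s : Coh.structureModule X ⟶ L)
    {U : X.Opens} (hU : IsAffineOpen U) (g : Γ(X, U)) :
    (zI L s U).map (X.presheaf.map (homOfLE (X.basicOpen_le g)).op).hom = zI L s (X.basicOpen g) := by
  haveI : L.IsQuasicoherent := isQuasicoherent_of_isInvertible L hL
  have hle : X.basicOpen g ≤ U := X.basicOpen_le g
  set gD : Γ(X, X.basicOpen g) := resf hle g with hgD
  have hgu : IsUnit gD := RingedSpace.isUnit_res_basicOpen _ g
  have resf_mul : ∀ a b : Γ(X, U), resf hle (a * b) = resf hle a * resf hle b := fun a b => map_mul _ a b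
  apply le_antisymm
  · rw [Ideal.map_le_iff_le_comap]
    intro a ha
    change resf hle a ∈ zI L s (X.basicOpen g)
    rw [mem_zI]
    intro m'
    obtain ⟨n, t, ht⟩ := Groth.Agent.Lib.Helper2.QCoh.exists_extension hU L g m'
    replace ht : res L hle t = gD ^ n • m' := ht
    obtain ⟨b, hb⟩ := (mem_zI.1 ha) t
    have h1 := congrArg (res L hle) hb
    rw [res_smul, res_smul, res_sv, ht] at h1
    obtain ⟨v, hv⟩ := (hgu.pow n).exists_left_inv
    refine ⟨v * resf hle b, ?_⟩
    calc resf hle a • m' = (v * gD ^ n) • resf hle a • m' := by rw [hv, one_smul]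
      _ = v • (resf hle a • gD ^ n • m') := by rw [mul_smul, smul_comm (gD ^ n) (resf hle a) m']
      _ = (v * resf hle b) • sv s (X.basicOpen g) := by rw [h1, mul_smul]
  · intro a' ha'
    haveI := finite_sections L hL hU
    obtain ⟨T, hT⟩ := (Module.Finite.fg_top : (⊤ : Submodule Γ(X, U) Γ(L, U)).FG)
    have hloc := hU.isLocalization_basicOpen g
    obtain ⟨k, a₀, ha₀⟩ := IsLocalization.Away.surj (x := g) a'
    replace ha₀ : a' * gD ^ k = resf hle a₀ := ha₀
    -- step A
    have stepA : ∀ m : Γ(L, U), ∃ N : ℕ, ∀ N' : ℕ, N ≤ N' →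
        (g ^ N' * a₀) • m ∈ Submodule.span Γ(X, U) {sv s U} := by
      intro m
      obtain ⟨b', hb'⟩ := (mem_zI.1 ha') (res L hle m)
      obtain ⟨l, b₀, hb₀⟩ := IsLocalization.Away.surj (x := g) b'
      replace hb₀ : b' * gD ^ l = resf hle b₀ := hb₀
      have h0 : res L hle ((g ^ l * a₀) • m - (g ^ k * b₀) • sv s U) = 0 := by
        rw [res_sub, res_smul, res_smul, res_sv, resf_mul, resf_mul, resf_pow, resf_pow, ← ha₀, ← hb₀, sub_eq_zero]
        calc (gD ^ l * (a' * gD ^ k)) • res L hle m = (gD ^ l * gD ^ k) • a' • res L hle m := by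
              rw [← mul_smul]; congr 1; ring
          _ = (gD ^ l * gD ^ k) • b' • sv s (X.basicOpen g) := by rw [hb']
          _ = (gD ^ k * (b' * gD ^ l)) • sv s (X.basicOpen g) := by
              rw [← mul_smul]; congr 1; ring
      obtain ⟨n, hn⟩ := Groth.Agent.Lib.Helper2.QCoh.exists_pow_smul_eq_zero hU L g _ h0
      rw [smul_sub, sub_eq_zero, smul_smul, smul_smul] at hn
      refine ⟨n + l, fun N' hN' => ?_⟩
      obtain ⟨d, rfl⟩ := Nat.exists_eq_add_of_le hN'
      have : (g ^ (n + l + d) * a₀) • m = (g ^ d * (g ^ n * (g ^ k * b₀))) • sv s U := by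
        rw [mul_smul (g ^ d), ← hn, ← mul_smul]
        congr 1
        ring
      rw [this]
      exact Submodule.smul_mem _ _ (Submodule.mem_span_singleton_self _)
    choose N hN using stepA
    set M := T.sup N with hM
    have hall : ∀ m : Γ(L, U), (g ^ M * a₀) • m ∈ Submodule.span Γ(X, U) {sv s U} := by
      intro m
      have hm : m ∈ Submodule.span Γ(X, U) (T : Set Γ(L, U)) := by rw [hT]; trivial
      induction hm using Submodule.span_induction with
      | mem y hy => exact hN y M (Finset.le_sup (f := N) hy)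
      | zero => rw [smul_zero]; exact Submodule.zero_mem _
      | add y z _ _ hy hz => rw [smul_add]; exact Submodule.add_mem _ hy hz
      | smul r y _ hy => rw [smul_comm]; exact Submodule.smul_mem _ _ hy
    have hmem : g ^ M * a₀ ∈ zI L s U := mem_zI'.2 hall
    obtain ⟨v, hv⟩ := (hgu.pow (M + k)).exists_left_inv
    have himg : resf hle (g ^ M * a₀) = gD ^ (M + k) * a' := by
      rw [resf_mul, resf_pow, ← ha₀, pow_add]; ring
    have : a' = v * resf hle (g ^ M * a₀) := by
      rw [himg, ← mul_assoc, hv, one_mul]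
    rw [this]
    exact Ideal.mul_mem_left _ v (Ideal.mem_map_of_mem _ hmem)

/-- **the zero scheme of a section of an invertible module is computed by `zeroIdealOn` on affine opens** -/
theorem ideal_zeroScheme (L : X.Modules) (hL : PicF.IsInvertible L) (s : Coh.structureModule X ⟶ L)
    (U : X.affineOpens) : (PicF2.zeroScheme L s).ideal U = zI L s U.1 := by
  let J : X.IdealSheafData :=
    { ideal := fun U => zI L s U.1
      map_ideal_basicOpen := fun U g => map_zI_basicOpen L hL s U.2 g }
  have h : PicF2.zeroScheme L s = J := by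
    rw [zeroScheme_eq]
    exact Scheme.IdealSheafData.ofIdeals_ideal J
  rw [h]

/-- on an open with a generator `e` of `L` and `s = f • e`, the zero ideal is `(f)` -/
theorem zI_eq_span {L : X.Modules} {s : Coh.structureModule X ⟶ L} {W : X.Opens} {e : Γ(L, W)} {f : Γ(X, W)}
    (hgen : IsGen L W e) (hs : sv s W = f • e) : zI L s W = Ideal.span {f} := by
  have hb := hgen W le_rfl
  have hres : res L (le_refl W) e = e := res_self L e
  rw [hres] at hb
  ext a
  rw [Ideal.mem_span_singleton', mem_zI]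
  constructor
  · intro ha
    obtain ⟨b, hb'⟩ := ha e
    refine ⟨b, ?_⟩
    apply hb.1
    change (b * f) • e = a • e
    rw [mul_smul, ← hs, hb']
  · rintro ⟨c, rfl⟩ m
    obtain ⟨r, hr⟩ := hb.2 m
    replace hr : r • e = m := hr
    refine ⟨c * r, ?_⟩
    rw [← hr, hs, smul_smul, smul_smul]
    congr 1
    ring

theorem ideal_zeroScheme_eq_span (L : X.Modules) (hL : PicF.IsInvertible L) (s : Coh.structureModule X ⟶ L)
    (W : X.affineOpens) {e : Γ(L, W.1)} {f : Γ(X, W.1)} (hgen : IsGen L W.1 e) (hs : sv s W.1 = f • e) :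
    (PicF2.zeroScheme L s).ideal W = Ideal.span {f} := by
  rw [ideal_zeroScheme L hL s W, zI_eq_span hgen hs]

/-- the zero ideal only depends on the section up to a unit -/
theorem zI_smul_unit {L : X.Modules} {s s' : Coh.structureModule X ⟶ L} {U : X.Opens} {h : Γ(X, U)} (hh : IsUnit h)
    (hs : sv s' U = h • sv s U) : zI L s' U = zI L s U := by
  obtain ⟨v, hv⟩ := hh.exists_left_inv
  ext a
  rw [mem_zI, mem_zI]
  refine forall_congr' fun m => ?_
  constructor
  · rintro ⟨b, hb⟩
    exact ⟨b * h, by rw [hb, hs, mul_smul]⟩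
  · rintro ⟨b, hb⟩
    refine ⟨b * v, ?_⟩
    rw [hb, hs, smul_smul, mul_assoc, hv, mul_one]

/-- the zero ideal is invariant under isomorphisms of the module -/
theorem zI_comp_iso {L L' : X.Modules} (φ : L ≅ L') (s : Coh.structureModule X ⟶ L) (U : X.Opens) :
    zI L' (s ≫ φ.hom) U = zI L s U := by
  have hsv : sv (s ≫ φ.hom) U = φ.hom.app U (sv s U) := rfl
  have hinv : ∀ m : Γ(L, U), φ.inv.app U (φ.hom.app U m) = m := fun m => by
    have := congrArg (fun ψ : L ⟶ L => ψ.app U m) φ.hom_inv_id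
    exact this
  have hinv' : ∀ m : Γ(L', U), φ.hom.app U (φ.inv.app U m) = m := fun m => by
    have := congrArg (fun ψ : L' ⟶ L' => ψ.app U m) φ.inv_hom_id
    exact this
  ext a
  rw [mem_zI, mem_zI]
  constructor
  · intro ha m
    obtain ⟨b, hb⟩ := ha (φ.hom.app U m)
    refine ⟨b, ?_⟩
    rw [hsv, ← Scheme.Modules.Hom.app_smul, ← Scheme.Modules.Hom.app_smul] at hb
    have := congrArg (φ.inv.app U) hb
    rwa [hinv, hinv] at this
  · intro ha m
    obtain ⟨b, hb⟩ := ha (φ.inv.app U m)
    refine ⟨b, ?_⟩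
    have := congrArg (φ.hom.app U) hb
    rw [Scheme.Modules.Hom.app_smul, Scheme.Modules.Hom.app_smul, hinv'] at this
    rw [hsv]
    exact this

theorem zeroScheme_comp_iso {L L' : X.Modules} (φ : L ≅ L') (s : Coh.structureModule X ⟶ L) :
    PicF2.zeroScheme L' (s ≫ φ.hom) = PicF2.zeroScheme L s := by
  rw [zeroScheme_eq, zeroScheme_eq]
  congr 1
  funext U
  exact zI_comp_iso φ s U.1

end Groth.Agent.Lib.Seat96.ZeroSch
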