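import Mathlib
import Groth.Prelude.Def_PicF2
import Groth.Prelude.Def_Formal
import Groth.Prelude.Def_FlatMod2
import Groth.Agent.Lib.Seat96ZeroSch
import Groth.Agent.Lib.Helper23SecTw9
import Groth.Agent.Lib.Seat95BertiniAlg
import Groth.Agent.Lib.Seat95CotSmoothSch

set_option autoImplicit false
set_option linter.style.haveILetI false
universe u
open CategoryTheory CategoryTheory.Limits AlgebraicGeometry TopologicalSpace Opposite

namespace Groth.Agent.Lib.Seat95.BertiniSch

open Groth.Agent.Lib.Helper23.SecTw Groth.Agent.Lib.Helper23.GenLocus Groth.Agent.Lib.Helper6 Groth.Agent.Lib.Helper4.VarDim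
  Groth.Agent.Lib.Seat96.ZeroSch

attribute [local instance] sectionsAlgebra

variable {X : Scheme.{u}}

theorem sv_sum {L : X.Modules} {ι : Type*} (S : Finset ι) (σ : ι → (Coh.structureModule X ⟶ L))
    (W : X.Opens) : sv (∑ i ∈ S, σ i) W = ∑ i ∈ S, sv (σ i) W := by
  classical
  induction S using Finset.induction_on with
  | empty => rw [Finset.sum_empty, Finset.sum_empty, sv_zero]
  | insert i S hi ih => rw [Finset.sum_insert hi, Finset.sum_insert hi, sv_add, ih]

variable (k : Type u) [Field k] [X.Over (Spec (CommRingCat.of k))]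

theorem sv_smulMod_comp {L : X.Modules} (c : k) (σ : Coh.structureModule X ⟶ L) (W : X.Opens) :
    sv (Formal.smulMod k (Coh.structureModule X) c ≫ σ) W = (algebraMap k Γ(X, W) c) • sv σ W := by
  rw [val_eq_app, val_eq_app]
  have h1 : (Formal.smulMod k (Coh.structureModule X) c ≫ σ).app W (toS W 1) =
      σ.app W ((Formal.smulMod k (Coh.structureModule X) c).app W (toS W 1)) := rfl
  have h2 : (Formal.smulMod k (Coh.structureModule X) c).app W (toS W 1) =
      (algebraMap k Γ(X, W) c) • toS W 1 := rfl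
  rw [h1, h2, Scheme.Modules.Hom.app_smul]

/-- the linear combination of the sections. -/
noncomputable def comb {L : X.Modules} {n : ℕ} (s : Fin n → (Coh.structureModule X ⟶ L))
    (c : Fin n → k) : Coh.structureModule X ⟶ L :=
  ∑ i, Formal.smulMod k (Coh.structureModule X) (c i) ≫ s i

theorem sv_comb {L : X.Modules} {n : ℕ} (s : Fin n → (Coh.structureModule X ⟶ L))
    (c : Fin n → k) (W : X.Opens) (e : Γ(L, W)) (f : Fin n → Γ(X, W))
    (hf : ∀ i, sv (s i) W = f i • e) :
    sv (comb k s c) W = (∑ i, c i • f i) • e := by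
  unfold comb
  rw [sv_sum, Finset.sum_smul]
  refine Finset.sum_congr rfl fun i _ => ?_
  rw [sv_smulMod_comp, hf, Algebra.smul_def, mul_smul]

theorem smooth_sections [Smooth (X ↘ Spec (CommRingCat.of k))] {V : X.Opens}
    (hV : IsAffineOpen V) : Algebra.Smooth k Γ(X, V) := by
  have h1 : ((X ↘ Spec (CommRingCat.of k)).appLE ⊤ V le_top).hom.Smooth :=
    (X ↘ Spec (CommRingCat.of k)).smooth_appLE (isAffineOpen_top _) hV le_top
  have h2 : ((Scheme.ΓSpecIso (CommRingCat.of k)).inv ≫
      (X ↘ Spec (CommRingCat.of k)).appLE ⊤ V le_top).hom.Smooth :=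
    (RingHom.Smooth.respectsIso.cancel_left_isIso _ _).mpr h1
  exact h2

/-- **Bertini on a chart.** -/
theorem exists_poly_chart [Smooth (X ↘ Spec (CommRingCat.of k))] [CharZero k]
    (L : X.Modules) (hL : PicF.IsInvertible L) (n : ℕ)
    (s : Fin n → (Coh.structureModule X ⟶ L))
    (hgen : ⨆ i : Fin n, PicF2.zeroScheme L (s i) = ⊤)
    (W : X.affineOpens) (e : Γ(L, W.1)) (he : IsGen L W.1 e) :
    ∃ p : MvPolynomial (Fin n) k, p ≠ 0 ∧ ∀ c : Fin n → k, MvPolynomial.eval c p ≠ 0 →
      Algebra.Smooth k (Γ(X, W.1) ⧸ (PicF2.zeroScheme L (comb k s c)).ideal W) := by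
  let f : Fin n → Γ(X, W.1) := fun i => coef he le_rfl (sv (s i) W.1)
  have hf : ∀ i, sv (s i) W.1 = f i • e := fun i => sv_eq_coef_smul (s i) he
  have hI : ∀ i, (PicF2.zeroScheme L (s i)).ideal W = Ideal.span {f i} :=
    fun i => ideal_zeroScheme_eq_span L hL (s i) W he (hf i)
  have hspan : Ideal.span (Set.range f) = ⊤ := by
    have h1 := congrArg (fun J : X.IdealSheafData => J.ideal W) hgen
    simp only [Scheme.IdealSheafData.ideal_iSup, Scheme.IdealSheafData.ideal_top,
      iSup_apply, Pi.top_apply, hI] at h1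
    rw [← h1, ← Ideal.span_iUnion, Set.iUnion_singleton_eq_range]
  haveI : Algebra.Smooth k Γ(X, W.1) := smooth_sections k W.2
  obtain ⟨p, hp0, hp⟩ := Groth.Agent.Lib.Seat95.Bertini.exists_poly_smooth k Γ(X, W.1) n f hspan
  refine ⟨p, hp0, fun c hc => ?_⟩
  have h2 : (PicF2.zeroScheme L (comb k s c)).ideal W = Ideal.span {∑ i, c i • f i} :=
    ideal_zeroScheme_eq_span L hL (comb k s c) W he (sv_comb k s c W.1 e f hf)
  rw [h2]
  exact hp c hc

/-- smoothness of a closed subscheme over `k` can be checked on a family of affine charts of `X`. -/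
theorem smooth_subschemeι_comp {ι : Type*} (W : ι → X.affineOpens) (hW : ⨆ i, (W i).1 = ⊤)
    (I : X.IdealSheafData) (h : ∀ i, Algebra.Smooth k (Γ(X, (W i).1) ⧸ I.ideal (W i))) :
    Smooth (I.subschemeι ≫ (X ↘ Spec (CommRingCat.of k))) := by
  apply IsZariskiLocalAtSource.of_iSup_eq_top (P := @Smooth) (fun i => I.subschemeι ⁻¹ᵁ (W i).1)
  · rw [← Scheme.Hom.preimage_iSup, hW, Scheme.Hom.preimage_top]
  · intro i
    have hr : (I.subschemeCover.f (W i)).opensRange = I.subschemeι ⁻¹ᵁ (W i).1 :=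
      I.opensRange_subschemeCover_map (W i)
    rw [← hr]
    have h1 : (I.subschemeCover.f (W i)).opensRange.ι =
        (I.subschemeCover.f (W i)).isoOpensRange.inv ≫ I.subschemeCover.f (W i) := by
      rw [Iso.eq_inv_comp]
      exact Scheme.Hom.isoOpensRange_hom_ι _
    rw [h1, Category.assoc, MorphismProperty.cancel_left_of_respectsIso (P := @Smooth)]
    have h3 : (W i).2.fromSpec ≫ (X ↘ Spec (CommRingCat.of k)) =
        Spec.map ((Scheme.ΓSpecIso (CommRingCat.of k)).inv ≫
          (X ↘ Spec (CommRingCat.of k)).appLE ⊤ (W i).1 le_top) := by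
      rw [← IsAffineOpen.SpecMap_appLE_fromSpec (X ↘ Spec (CommRingCat.of k)) (isAffineOpen_top _)
        (W i).2 le_top, IsAffineOpen.fromSpec_top, Scheme.isoSpec_Spec_inv, ← Spec.map_comp]
    have h2 : I.subschemeCover.f (W i) ≫ I.subschemeι ≫ (X ↘ Spec (CommRingCat.of k)) =
        Spec.map (((Scheme.ΓSpecIso (CommRingCat.of k)).inv ≫
          (X ↘ Spec (CommRingCat.of k)).appLE ⊤ (W i).1 le_top) ≫
            CommRingCat.ofHom (Ideal.Quotient.mk (I.ideal (W i)))) := by
      calc I.subschemeCover.f (W i) ≫ I.subschemeι ≫ (X ↘ Spec (CommRingCat.of k))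
          = (I.subschemeCover.f (W i) ≫ I.subschemeι) ≫ (X ↘ Spec (CommRingCat.of k)) :=
            (Category.assoc _ _ _).symm
        _ = (Spec.map (CommRingCat.ofHom (Ideal.Quotient.mk (I.ideal (W i)))) ≫ (W i).2.fromSpec) ≫
              (X ↘ Spec (CommRingCat.of k)) :=
            congrArg (· ≫ (X ↘ Spec (CommRingCat.of k)))
              ((I.subschemeCover_map_subschemeι (W i)).trans (I.glueDataObjι_ι (W i)))
        _ = Spec.map (CommRingCat.ofHom (Ideal.Quotient.mk (I.ideal (W i)))) ≫ (W i).2.fromSpec ≫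
              (X ↘ Spec (CommRingCat.of k)) := Category.assoc _ _ _
        _ = _ := by rw [h3, ← Spec.map_comp]
    rw [h2]
    refine (HasRingHomProperty.Spec_iff (P := @Smooth)).mpr ?_
    exact RingHom.smooth_algebraMap.mpr (h i)

/-- **Bertini in characteristic zero**, for a base point free finite family of sections of an
invertible module on a smooth quasi-compact `k`-scheme. -/
theorem main [Smooth (X ↘ Spec (CommRingCat.of k))] [QuasiCompact (X ↘ Spec (CommRingCat.of k))]
    [CharZero k] (L : X.Modules) (hL : PicF.IsInvertible L) (n : ℕ)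
    (s : Fin n → (Coh.structureModule X ⟶ L))
    (hgen : ⨆ i : Fin n, PicF2.zeroScheme L (s i) = ⊤) :
    ∃ p : MvPolynomial (Fin n) k, p ≠ 0 ∧ ∀ c : Fin n → k, MvPolynomial.eval c p ≠ 0 →
      Smooth ((PicF2.zeroScheme L (comb k s c)).subschemeι ≫ (X ↘ Spec (CommRingCat.of k))) := by
  haveI : CompactSpace X :=
    QuasiCompact.compactSpace_of_compactSpace (X ↘ Spec (CommRingCat.of k))
  have hfr : ∀ x : X, ∃ (W : X.affineOpens) (e : Γ(L, W.1)), x ∈ W.1 ∧ IsGen L W.1 e := by
    intro x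
    obtain ⟨W, hxW, hW, e, -, -, -, he⟩ := exists_frame L hL 0 x
    exact ⟨⟨W, hW⟩, e, hxW, he⟩
  choose W e hxW he using hfr
  obtain ⟨t, ht⟩ := isCompact_univ.elim_finite_subcover (fun x : X => ((W x).1 : Set X))
    (fun x => (W x).1.isOpen) (fun x _ => Set.mem_iUnion.mpr ⟨x, hxW x⟩)
  have hp : ∀ x : X, ∃ p : MvPolynomial (Fin n) k, p ≠ 0 ∧ ∀ c : Fin n → k,
      MvPolynomial.eval c p ≠ 0 →
      Algebra.Smooth k (Γ(X, (W x).1) ⧸ (PicF2.zeroScheme L (comb k s c)).ideal (W x)) :=
    fun x => exists_poly_chart k L hL n s hgen (W x) (e x) (he x)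
  choose p hp0 hp using hp
  refine ⟨∏ x ∈ t, p x, Finset.prod_ne_zero_iff.mpr fun x _ => hp0 x, fun c hc => ?_⟩
  rw [map_prod, Finset.prod_ne_zero_iff] at hc
  refine smooth_subschemeι_comp k (fun x : t => W x.1) ?_ _ fun x => hp x.1 c (hc x.1 x.2)
  rw [eq_top_iff]
  intro y _
  obtain ⟨x, hx, hy⟩ := Set.mem_iUnion₂.mp (ht (Set.mem_univ y))
  exact Opens.mem_iSup.mpr ⟨⟨x, hx⟩, hy⟩

end Groth.Agent.Lib.Seat95.BertiniSch
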