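import Mathlib
import Groth.Agent.Lib.Helper5RLR

/-!
# Dominance and the cotangent map at a regular closed point: algebra (helper95)

* `mem_sq_of_formallySmooth`: a formally smooth local homomorphism with trivial residue field
  extension is injective on cotangent spaces (element form).
* `injective_of_cot`: a local homomorphism from a Noetherian local domain to a regular local ring,
  with trivial residue field extension and injective on cotangent spaces, is injective.
-/

set_option autoImplicit false
set_option linter.style.haveILetI false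
universe u

open IsLocalRing

namespace Groth.Agent.Lib.Seat95.CotDominant

/-- A formally smooth local homomorphism of local rings inducing a surjection (hence an
isomorphism) of residue fields is injective on cotangent spaces (element form). -/
theorem mem_sq_of_formallySmooth {A B : Type u} [CommRing A] [CommRing B] [IsLocalRing A]
    [IsLocalRing B] (φ : A →+* B) [IsLocalHom φ] (hφ : φ.FormallySmooth)
    (hres : Function.Surjective (IsLocalRing.ResidueField.map φ))
    (a : A) (ha : φ a ∈ maximalIdeal B ^ 2) : a ∈ maximalIdeal A ^ 2 := by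
  letI : Algebra A B := φ.toAlgebra
  haveI : Algebra.FormallySmooth A B := hφ
  have hbij : Function.Bijective (IsLocalRing.ResidueField.map φ) :=
    ⟨(IsLocalRing.ResidueField.map φ).injective, hres⟩
  let e : ResidueField A ≃+* ResidueField B := RingEquiv.ofBijective _ hbij
  -- the `A`-algebra map `B → A ⧸ m_A`
  let f₀ : B →+* A ⧸ maximalIdeal A := (e.symm : ResidueField B →+* ResidueField A).comp (residue B)
  have hf₀ : ∀ x : A, f₀ (algebraMap A B x) = algebraMap A (A ⧸ maximalIdeal A) x := by
    intro x
    show e.symm (residue B (φ x)) = _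
    rw [RingEquiv.symm_apply_eq]
    rfl
  let f : B →ₐ[A] A ⧸ maximalIdeal A := { f₀ with commutes' := hf₀ }
  have hle : maximalIdeal A ^ 2 ≤ maximalIdeal A := Ideal.pow_le_self two_ne_zero
  let g : A ⧸ maximalIdeal A ^ 2 →ₐ[A] A ⧸ maximalIdeal A := Ideal.Quotient.factorₐ A hle
  have hg : Function.Surjective g := Ideal.Quotient.factor_surjective hle
  have hker : RingHom.ker g = (maximalIdeal A).map (Ideal.Quotient.mk (maximalIdeal A ^ 2)) :=
    Ideal.Quotient.factor_ker hle
  have hnil : IsNilpotent (RingHom.ker g) := by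
    refine ⟨2, ?_⟩
    rw [hker, ← Ideal.map_pow, Ideal.zero_eq_bot, Ideal.map_quotient_self]
  let ψ : B →ₐ[A] A ⧸ maximalIdeal A ^ 2 := Algebra.FormallySmooth.liftOfSurjective f g hg hnil
  have hψ : ∀ b : B, g (ψ b) = f b := fun b =>
    Algebra.FormallySmooth.liftOfSurjective_apply f g hg hnil b
  have h1 : ∀ b ∈ maximalIdeal B, ψ b ∈ RingHom.ker g := by
    intro b hb
    rw [RingHom.mem_ker]
    show g (ψ b) = 0
    rw [hψ]
    show e.symm (residue B b) = 0
    rw [(residue_eq_zero_iff b).mpr hb, map_zero]
  have h2 : ψ (φ a) ∈ (RingHom.ker g) ^ 2 := by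
    have : (maximalIdeal B ^ 2).map (ψ : B →+* _) ≤ (RingHom.ker g) ^ 2 := by
      rw [Ideal.map_pow]
      refine Ideal.pow_right_mono ?_ 2
      rw [Ideal.map_le_iff_le_comap]
      exact fun b hb => h1 b hb
    exact this (Ideal.mem_map_of_mem _ ha)
  have h3 : (RingHom.ker g) ^ 2 = ⊥ := by
    rw [hker, ← Ideal.map_pow, Ideal.map_quotient_self]
  rw [h3, Ideal.mem_bot] at h2
  have h4 : ψ (φ a) = Ideal.Quotient.mk _ a := ψ.commutes a
  rw [h4, Ideal.Quotient.eq_zero_iff_mem] at h2
  exact h2

/-- images of a minimal generating family of `m_A` stay linearly independent in `m_B/m_B²`. -/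
theorem linearIndependent_cot {A B : Type u} [CommRing A] [CommRing B] [IsLocalRing A]
    [IsNoetherianRing A] [IsLocalRing B] (φ : A →+* B) [IsLocalHom φ]
    (hres : Function.Surjective (IsLocalRing.ResidueField.map φ))
    (H : ∀ a ∈ maximalIdeal A, φ a ∈ maximalIdeal B ^ 2 → a ∈ maximalIdeal A ^ 2)
    {n : ℕ} (a : Fin n → maximalIdeal A) (hn : n = (maximalIdeal A).spanFinrank)
    (ha : Submodule.span A (Set.range a) = ⊤)
    (a' : Fin n → maximalIdeal B) (ha' : ∀ i, (a' i : B) = φ (a i)) :
    LinearIndependent (ResidueField B) (fun i => (maximalIdeal B).toCotangent (a' i)) := by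
  -- independence in `Cot(A)`
  have hw : LinearIndependent (ResidueField A) (fun i => (maximalIdeal A).toCotangent (a i)) := by
    apply linearIndependent_of_top_le_span_of_card_eq_finrank
    · rw [Set.range_comp', CotangentSpace.span_image_eq_top_iff.mpr ha]
    · rw [Fintype.card_fin, hn, spanFinrank_maximalIdeal_eq_finrank_cotangentSpace]
  rw [Fintype.linearIndependent_iff] at hw ⊢
  intro g hg i
  have hsurj : ∀ j, ∃ α : A, g j = residue B (φ α) := by
    intro j
    obtain ⟨x, hx⟩ := hres (g j)
    obtain ⟨α, rfl⟩ := residue_surjective x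
    exact ⟨α, hx.symm⟩
  choose α hα using hsurj
  have hsum : (∑ j, g j • (maximalIdeal B).toCotangent (a' j)) =
      (maximalIdeal B).toCotangent (∑ j, φ (α j) • a' j) := by
    rw [map_sum]
    refine Finset.sum_congr rfl fun j _ => ?_
    rw [map_smul, hα j]
    rfl
  rw [hsum, Ideal.toCotangent_eq_zero] at hg
  have hmem : φ (∑ j, α j * (a j : A)) ∈ maximalIdeal B ^ 2 := by
    convert hg using 1
    rw [map_sum]
    simp only [map_mul, ← ha']
    simp
  have hmemA : (∑ j, α j * (a j : A)) ∈ maximalIdeal A :=
    Ideal.sum_mem _ fun j _ => Ideal.mul_mem_left _ _ (a j).2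
  have h2 := H _ hmemA hmem
  have h3 : (∑ j, residue A (α j) • (maximalIdeal A).toCotangent (a j)) = 0 := by
    have : (∑ j, residue A (α j) • (maximalIdeal A).toCotangent (a j)) =
        (maximalIdeal A).toCotangent (∑ j, α j • a j) := by
      rw [map_sum]
      refine Finset.sum_congr rfl fun j _ => ?_
      rw [map_smul]
      rfl
    rw [this, Ideal.toCotangent_eq_zero]
    convert h2 using 1
    simp
  have h4 := hw _ h3 i
  rw [hα i]
  show ResidueField.map φ (residue A (α i)) = 0
  rw [h4, map_zero]

/-- extend elements of `m_B` with independent classes to a generating family of the right size. -/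
theorem exists_generators {B : Type u} [CommRing B] [IsLocalRing B] [IsNoetherianRing B]
    {n : ℕ} (a' : Fin n → maximalIdeal B)
    (hv : LinearIndependent (ResidueField B) (fun i => (maximalIdeal B).toCotangent (a' i))) :
    n ≤ (maximalIdeal B).spanFinrank ∧
    ∃ c : Fin ((maximalIdeal B).spanFinrank - n) → maximalIdeal B,
      Submodule.span B (Set.range a' ∪ Set.range c) = ⊤ := by
  set d := (maximalIdeal B).spanFinrank with hd
  have hdfin : d = Module.finrank (ResidueField B) (CotangentSpace B) :=
    spanFinrank_maximalIdeal_eq_finrank_cotangentSpace B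
  have hnd : n ≤ d := by
    rw [hdfin]
    simpa using hv.fintype_card_le_finrank
  refine ⟨hnd, ?_⟩
  set v : Fin n → CotangentSpace B := fun i => (maximalIdeal B).toCotangent (a' i) with hvdef
  let V : Submodule (ResidueField B) (CotangentSpace B) := Submodule.span _ (Set.range v)
  have hV : Module.finrank (ResidueField B) V = n := by
    rw [finrank_span_eq_card hv, Fintype.card_fin]
  have hQ : Module.finrank (ResidueField B) (CotangentSpace B ⧸ V) = d - n := by
    rw [Submodule.finrank_quotient, hV, hdfin]
  let b := Module.finBasisOfFinrankEq (ResidueField B) (CotangentSpace B ⧸ V) hQ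
  have hsurj : ∀ j, ∃ c : maximalIdeal B, V.mkQ ((maximalIdeal B).toCotangent c) = b j := by
    intro j
    obtain ⟨x, hx⟩ := V.mkQ_surjective (b j)
    obtain ⟨c, rfl⟩ := (maximalIdeal B).toCotangent_surjective x
    exact ⟨c, hx⟩
  choose c hc using hsurj
  refine ⟨c, ?_⟩
  rw [← CotangentSpace.span_image_eq_top_iff]
  set S : Submodule (ResidueField B) (CotangentSpace B) :=
    Submodule.span _ ((maximalIdeal B).toCotangent '' (Set.range a' ∪ Set.range c)) with hS
  have h1 : V ≤ S := by
    refine Submodule.span_mono ?_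
    rintro _ ⟨i, rfl⟩
    exact ⟨a' i, Or.inl ⟨i, rfl⟩, rfl⟩
  have h2 : S.map V.mkQ = ⊤ := by
    rw [eq_top_iff, ← b.span_eq, Submodule.span_le]
    rintro _ ⟨j, rfl⟩
    rw [← hc j]
    exact Submodule.mem_map_of_mem (Submodule.subset_span ⟨c j, Or.inr ⟨j, rfl⟩, rfl⟩)
  have h3 := Submodule.comap_map_eq V.mkQ S
  rw [h2, Submodule.comap_top, Submodule.ker_mkQ, sup_of_le_left h1] at h3
  exact h3.symm

theorem exists_fin_generators {A : Type u} [CommRing A] [IsLocalRing A] [IsNoetherianRing A] :
    ∃ a : Fin (maximalIdeal A).spanFinrank → maximalIdeal A,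
      Submodule.span A (Set.range a) = ⊤ := by
  obtain ⟨s, hs, hspan⟩ := Submodule.FG.exists_span_finset_card_eq_spanFinrank
    (p := (⊤ : Submodule A (maximalIdeal A))) (IsNoetherian.noetherian _)
  rw [Submodule.spanFinrank_top] at hs
  let eq := Finset.equivFinOfCardEq hs
  refine ⟨fun i => (eq.symm i : maximalIdeal A), ?_⟩
  rw [← hspan]
  congr 1
  ext x
  constructor
  · rintro ⟨i, rfl⟩
    exact (eq.symm i).2
  · intro hx
    exact ⟨eq ⟨x, hx⟩, by simp⟩

/-- **Cotangent-injective local homomorphisms into regular local rings are injective.** -/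
theorem injective_of_cot {A B : Type u} [CommRing A] [CommRing B] [IsLocalRing A] [IsDomain A]
    [IsNoetherianRing A] [IsRegularLocalRing B] (φ : A →+* B) [IsLocalHom φ]
    (hres : Function.Surjective (IsLocalRing.ResidueField.map φ))
    (H : ∀ a ∈ maximalIdeal A, φ a ∈ maximalIdeal B ^ 2 → a ∈ maximalIdeal A ^ 2) :
    Function.Injective φ := by
  haveI : IsDomain B := Groth.Agent.Lib.Helper5.isDomain_of_isRegularLocalRing B
  set e := (maximalIdeal A).spanFinrank with he
  set d := (maximalIdeal B).spanFinrank with hd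
  obtain ⟨a, ha⟩ := exists_fin_generators (A := A)
  have hmem : ∀ x : A, φ x ∈ maximalIdeal B ↔ x ∈ maximalIdeal A := fun x => by
    rw [mem_maximalIdeal, mem_maximalIdeal]
    exact map_mem_nonunits_iff φ x
  let a' : Fin e → maximalIdeal B := fun i => ⟨φ (a i), (hmem _).mpr (a i).2⟩
  have hv := linearIndependent_cot φ hres H a rfl ha a' (fun _ => rfl)
  obtain ⟨hed, c, hc⟩ := exists_generators a' hv
  -- the quotient `A' = A/ker φ`
  set p : Ideal A := RingHom.ker φ with hp
  haveI : p.IsPrime := RingHom.ker_isPrime φ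
  rw [RingHom.injective_iff_ker_eq_bot]
  by_contra hne
  obtain ⟨r, hrp, hr0⟩ : ∃ r ∈ p, r ≠ 0 := by
    by_contra hcon
    push Not at hcon
    exact hne ((Submodule.eq_bot_iff _).mpr hcon)
  letI : Algebra (A ⧸ p) B := (RingHom.kerLift φ).toAlgebra
  have halg : ∀ y : A, algebraMap (A ⧸ p) B (Ideal.Quotient.mk p y) = φ y := fun y => rfl
  haveI : IsLocalRing (A ⧸ p) :=
    IsLocalRing.of_surjective' (Ideal.Quotient.mk p) Ideal.Quotient.mk_surjective
  have hmem' : ∀ y : A, Ideal.Quotient.mk p y ∈ maximalIdeal (A ⧸ p) ↔ y ∈ maximalIdeal A := by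
    intro y
    constructor
    · intro hy
      by_contra hy'
      rw [mem_maximalIdeal, mem_nonunits_iff, not_not] at hy'
      exact (mem_maximalIdeal _).mp hy (hy'.map _)
    · intro hy
      rw [mem_maximalIdeal, mem_nonunits_iff]
      intro hu
      have : IsUnit (φ y) := by
        rw [← halg]
        exact hu.map _
      exact (mem_maximalIdeal _).mp ((hmem y).mpr hy) this
  haveI : (maximalIdeal B).LiesOver (maximalIdeal (A ⧸ p)) := ⟨by
    ext x
    obtain ⟨y, rfl⟩ := Ideal.Quotient.mk_surjective x
    rw [Ideal.under_def, Ideal.mem_comap, halg, hmem, hmem']⟩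
  have key := Ideal.height_le_height_add_of_liesOver (maximalIdeal (A ⧸ p)) (maximalIdeal B)
  set I' : Ideal B := (maximalIdeal (A ⧸ p)).map (algebraMap (A ⧸ p) B) with hI'
  set J' : Ideal (B ⧸ I') := (maximalIdeal B).map (Ideal.Quotient.mk I') with hJ'
  have hI'P : I' ≤ maximalIdeal B := by
    rw [hI', Ideal.map_le_iff_le_comap, ← Ideal.under_def, ← Ideal.LiesOver.over (p := maximalIdeal (A ⧸ p)) (P := maximalIdeal B)]
  haveI : J'.IsPrime := Ideal.isPrime_map_quotientMk_of_isPrime hI'P
  -- generators of `J'`
  let g : Fin (d - e) → B ⧸ I' := fun j => Ideal.Quotient.mk I' (c j)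
  have hJg : J' = Ideal.span (Set.range g) := by
    have hPspan : maximalIdeal B = Ideal.span ((maximalIdeal B).subtype '' (Set.range a' ∪ Set.range c)) := by
      have := congrArg (Submodule.map (maximalIdeal B).subtype) hc
      rw [Submodule.map_span, Submodule.map_top, Submodule.range_subtype] at this
      exact this.symm
    apply le_antisymm
    · rw [hJ', hPspan, Ideal.map_span, Ideal.span_le]
      rintro _ ⟨_, ⟨x, hx | hx, rfl⟩, rfl⟩
      · obtain ⟨i, rfl⟩ := hx
        have : Ideal.Quotient.mk I' ((maximalIdeal B).subtype (a' i)) = 0 := by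
          rw [Ideal.Quotient.eq_zero_iff_mem]
          show φ (a i) ∈ I'
          rw [← halg]
          exact Ideal.mem_map_of_mem _ ((hmem' _).mpr (a i).2)
        rw [this]
        exact Ideal.zero_mem _
      · obtain ⟨j, rfl⟩ := hx
        exact Ideal.subset_span ⟨j, rfl⟩
    · rw [Ideal.span_le]
      rintro _ ⟨j, rfl⟩
      exact Ideal.mem_map_of_mem _ (c j).2
  have hJht : J'.height ≤ ((d - e : ℕ) : ℕ∞) := by
    refine (Ideal.height_le_spanFinrank J' Ideal.IsPrime.ne_top').trans ?_
    rw [hJg]
    have h1 := Submodule.spanFinrank_span_le_ncard_of_finite (R := B ⧸ I') (Set.finite_range g)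
    have h2 : (Set.range g).ncard ≤ d - e := by
      rw [← Set.image_univ]
      refine (Set.ncard_image_le Set.finite_univ).trans ?_
      rw [Set.ncard_univ, Nat.card_fin]
    exact_mod_cast h1.trans h2
  have hPht : (maximalIdeal B).height = (d : ℕ∞) := by
    have h1 : (((maximalIdeal B).height : ℕ∞) : WithBot ℕ∞) = ringKrullDim B :=
      IsLocalRing.maximalIdeal_height_eq_ringKrullDim
    have h2 : ((maximalIdeal B).spanFinrank : WithBot ℕ∞) = ringKrullDim B :=
      IsRegularLocalRing.spanFinrank_maximalIdeal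
    rw [← h2] at h1
    exact_mod_cast h1
  have hqht : (e : ℕ∞) ≤ (maximalIdeal (A ⧸ p)).height := by
    rw [hPht] at key
    have h3 := key.trans (add_le_add le_rfl hJht)
    rcases eq_or_ne (maximalIdeal (A ⧸ p)).height ⊤ with h | h
    · rw [h]; exact le_top
    · obtain ⟨m, hm⟩ := ENat.ne_top_iff_exists.mp h
      rw [← hm] at h3 ⊢
      have : d ≤ m + (d - e) := by exact_mod_cast h3
      have : e ≤ m := by omega
      exact_mod_cast this
  have hdimq : (e : WithBot ℕ∞) ≤ ringKrullDim (A ⧸ p) := by
    rw [← IsLocalRing.maximalIdeal_height_eq_ringKrullDim]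
    exact_mod_cast hqht
  have hdimA : ringKrullDim A ≤ (e : WithBot ℕ∞) := ringKrullDim_le_spanFinrank_maximalIdeal A
  have hr : r ∈ nonZeroDivisors A := mem_nonZeroDivisors_of_ne_zero hr0
  have h5 := ringKrullDim_quotient_succ_le_of_nonZeroDivisor hr
  have hle : Ideal.span {r} ≤ p := (Ideal.span_singleton_le_iff_mem _).mpr hrp
  have h6 : ringKrullDim (A ⧸ p) ≤ ringKrullDim (A ⧸ Ideal.span {r}) :=
    ringKrullDim_le_of_surjective (Ideal.Quotient.factor hle) (Ideal.Quotient.factor_surjective hle)
  have h7 : (e : WithBot ℕ∞) + 1 ≤ (e : WithBot ℕ∞) :=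
    ((add_le_add (hdimq.trans h6) le_rfl).trans h5).trans hdimA
  have h8 : e + 1 ≤ e := by exact_mod_cast h7
  omega

end Groth.Agent.Lib.Seat95.CotDominant
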