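import Mathlib
import Groth.Agent.Lib.Seat95CotDominant
import Groth.Agent.Lib.Seat95CotSmoothSch
import Groth.Agent.Lib.Seat95RegGenSmooth
import Groth.Agent.Lib.Helper6SmRegSch

/-!
# Dominance and the cotangent map at a regular closed point: schemes (helper95)
-/

set_option autoImplicit false
set_option linter.style.haveILetI false
universe u
open CategoryTheory AlgebraicGeometry IsLocalRing

namespace Groth.Agent.Lib.Seat95.CotDominantSch

open Groth.Agent.Lib.Helper4.VarDim

attribute [local instance] Curv2.stalkAlgebra sectionsAlgebra Curv2.resAlgebra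

/-- at a closed point the stalk map induces a surjection on residue fields. -/
theorem residueField_map_surjective (k : Type u) [Field k] [IsAlgClosed k] {X Y : Scheme.{u}}
    [X.Over (Spec (CommRingCat.of k))] [Y.Over (Spec (CommRingCat.of k))]
    [LocallyOfFiniteType (X ↘ Spec (CommRingCat.of k))]
    (u : X ⟶ Y) [u.IsOver (Spec (CommRingCat.of k))] (P : X) (hP : IsClosed ({P} : Set X)) :
    Function.Surjective (ResidueField.map (u.stalkMap P).hom) := by
  intro z
  obtain ⟨c, rfl⟩ :=
    (Groth.Agent.Lib.Seat95.CotSmoothSch.bijective_algebraMap_residueField k X P hP).2 z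
  refine ⟨algebraMap k _ c, ?_⟩
  show ResidueField.map _ (residue _ (algebraMap k _ c)) = residue _ (algebraMap k _ c)
  rw [ResidueField.map_residue, Groth.Agent.Lib.Seat95.CotSmoothSch.stalkMap_algebraMap]

/-- if some stalk map into a domain is injective then the generic point is in the image. -/
theorem isDominant_of_injective_stalkMap {X Y : Scheme.{u}} (u : X ⟶ Y) [IsIntegral Y] (P : X)
    [IsDomain (X.presheaf.stalk P)]
    (hinj : Function.Injective (u.stalkMap P).hom) : IsDominant u := by
  let ξB : Spec (X.presheaf.stalk P) := ⟨⊥, Ideal.isPrime_bot⟩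
  let ξA : Spec (Y.presheaf.stalk (u P)) := ⟨⊥, Ideal.isPrime_bot⟩
  have h1 : Spec.map (u.stalkMap P) ξB = ξA := by
    apply PrimeSpectrum.ext
    show Ideal.comap (u.stalkMap P).hom ⊥ = ⊥
    rw [← RingHom.ker_eq_comap_bot, (RingHom.injective_iff_ker_eq_bot _).mp hinj]
  have h2 : u (X.fromSpecStalk P ξB) = Y.fromSpecStalk (u P) ξA := by
    rw [← h1, ← Scheme.Hom.comp_apply, ← Scheme.Hom.comp_apply,
      Scheme.SpecMap_stalkMap_fromSpecStalk]
  have h3 : Y.fromSpecStalk (u P) ξA = genericPoint Y := by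
    have hmem : genericPoint Y ∈ Set.range (Y.fromSpecStalk (u P)) := by
      rw [Scheme.range_fromSpecStalk]
      exact genericPoint_specializes _
    obtain ⟨q, hq⟩ := hmem
    have hle : ξA ⤳ q := (PrimeSpectrum.le_iff_specializes ξA q).mp bot_le
    have := hle.map (Y.fromSpecStalk (u P)).continuous
    rw [hq] at this
    exact (this.antisymm (genericPoint_specializes _)).eq
  constructor
  have hcl : closure ({genericPoint Y} : Set Y) = Set.univ := (genericPoint_spec Y).def
  rw [DenseRange, dense_iff_closure_eq, Set.eq_univ_iff_forall]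
  intro y
  have : y ∈ closure ({genericPoint Y} : Set Y) := hcl ▸ Set.mem_univ y
  refine closure_mono ?_ this
  rintro _ rfl
  exact ⟨_, h2.trans h3⟩

/-- backward direction. -/
theorem isDominant_of_cot (k : Type u) [Field k] [IsAlgClosed k] {X Y : Scheme.{u}}
    [X.Over (Spec (CommRingCat.of k))] [Y.Over (Spec (CommRingCat.of k))]
    [LocallyOfFiniteType (X ↘ Spec (CommRingCat.of k))]
    [LocallyOfFiniteType (Y ↘ Spec (CommRingCat.of k))] [IsIntegral Y]
    (u : X ⟶ Y) [u.IsOver (Spec (CommRingCat.of k))] (P : X) (hP : IsClosed ({P} : Set X))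
    (hreg : IsRegularLocalRing (X.presheaf.stalk P))
    (H : ∀ a ∈ maximalIdeal (Y.presheaf.stalk (u P)),
      (u.stalkMap P).hom a ∈ maximalIdeal (X.presheaf.stalk P) ^ 2 →
        a ∈ maximalIdeal (Y.presheaf.stalk (u P)) ^ 2) : IsDominant u := by
  haveI : IsLocallyNoetherian Y :=
    LocallyOfFiniteType.isLocallyNoetherian (Y ↘ Spec (CommRingCat.of k))
  haveI := hreg
  haveI : IsDomain (X.presheaf.stalk P) :=
    Groth.Agent.Lib.Helper5.isDomain_of_isRegularLocalRing _
  exact isDominant_of_injective_stalkMap u P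
    (Groth.Agent.Lib.Seat95.CotDominant.injective_of_cot (u.stalkMap P).hom
      (residueField_map_surjective k u P hP) H)

/-- forward direction: generic smoothness gives a closed regular point with formally smooth
stalk map. -/
theorem exists_formallySmooth_of_isDominant (k : Type u) [Field k] [IsAlgClosed k] [CharZero k]
    {X Y : Scheme.{u}}
    [X.Over (Spec (CommRingCat.of k))] [Y.Over (Spec (CommRingCat.of k))]
    [LocallyOfFiniteType (X ↘ Spec (CommRingCat.of k))] [QuasiCompact (X ↘ Spec (CommRingCat.of k))]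
    [LocallyOfFiniteType (Y ↘ Spec (CommRingCat.of k))] [IsReduced X] [IsIntegral Y]
    (u : X ⟶ Y) [u.IsOver (Spec (CommRingCat.of k))] [IsDominant u] :
    ∃ P : X, IsClosed ({P} : Set X) ∧ IsRegularLocalRing (X.presheaf.stalk P) ∧
      (u.stalkMap P).hom.FormallySmooth := by
  let q := X ↘ Spec (CommRingCat.of k)
  haveI : IsLocallyNoetherian X := LocallyOfFiniteType.isLocallyNoetherian q
  haveI : IsLocallyNoetherian Y :=
    LocallyOfFiniteType.isLocallyNoetherian (Y ↘ Spec (CommRingCat.of k))
  haveI : CompactSpace X := QuasiCompact.compactSpace_of_compactSpace q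
  haveI : IsNoetherian X := {}
  let U : X.Opens := q.smoothLocus
  have hUdense : Dense (U : Set X) := q.dense_smoothLocus_of_perfectField
  let f : U.toScheme ⟶ Y := U.ι ≫ u
  have hsmU : Smooth (U.ι ≫ q) := by
    rw [← Scheme.Hom.smoothLocus_eq_top_iff, ← Scheme.Hom.preimage_smoothLocus_eq, eq_top_iff]
    intro x _
    exact x.2
  have hreg : ∀ x : U.toScheme, IsRegularLocalRing (U.toScheme.presheaf.stalk x) := fun x =>
    Groth.Agent.Lib.Helper6.SmRegSch.isRegularLocalRing_stalk_of_smooth_over_field k _ (U.ι ≫ q) x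
  have hfq : f ≫ (Y ↘ Spec (CommRingCat.of k)) = U.ι ≫ q := by
    show (U.ι ≫ u) ≫ _ = _
    rw [Category.assoc, comp_over]
  haveI : LocallyOfFiniteType (f ≫ (Y ↘ Spec (CommRingCat.of k))) := by
    rw [hfq]; infer_instance
  haveI : LocallyOfFiniteType f := locallyOfFiniteType_of_comp f (Y ↘ Spec (CommRingCat.of k))
  haveI : LocallyOfFinitePresentation f := inferInstance
  haveI : QuasiCompact f := inferInstance
  haveI : LocallyOfFiniteType (u ≫ (Y ↘ Spec (CommRingCat.of k))) := by
    rw [comp_over]; infer_instance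
  haveI : LocallyOfFiniteType u := locallyOfFiniteType_of_comp u (Y ↘ Spec (CommRingCat.of k))
  haveI : LocallyOfFinitePresentation u := inferInstance
  haveI : Nonempty (⊤ : Y.Opens) := ⟨⟨genericPoint Y, trivial⟩⟩
  let φ : k →+* Y.functionField :=
    ((Scheme.ΓSpecIso (CommRingCat.of k)).inv ≫ (Y ↘ Spec (CommRingCat.of k)).appTop ≫
      Y.germToFunctionField ⊤).hom
  haveI : CharZero Y.functionField := charZero_of_injective_ringHom φ.injective
  haveI : PerfectField Y.functionField := inferInstance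
  obtain ⟨V, hVdense, hsm⟩ := Groth.Agent.Lib.Seat95.RegGenSmooth.main hreg f
  haveI : IsDominant U.ι := AlgebraicGeometry.Opens.isDominant_ι hUdense
  haveI : IsDominant f := inferInstanceAs (IsDominant (U.ι ≫ u))
  obtain ⟨x0, hx0⟩ := f.denseRange.exists_mem_open V.isOpen hVdense.nonempty
  -- `f ⁻¹ V ⊆ f.smoothLocus`
  have hsub : f ⁻¹ᵁ V ≤ f.smoothLocus := by
    have h2 : Smooth ((f ∣_ V) ≫ V.ι) := inferInstance
    rw [morphismRestrict_ι] at h2
    have h3 := Scheme.Hom.smoothLocus_eq_top_iff.mpr h2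
    rw [← Scheme.Hom.preimage_smoothLocus_eq] at h3
    intro x hx
    have : (⟨x, hx⟩ : (f ⁻¹ᵁ V).toScheme) ∈ (f ⁻¹ᵁ V).ι ⁻¹ᵁ f.smoothLocus := h3 ▸ trivial
    exact this
  haveI : JacobsonSpace X := LocallyOfFiniteType.jacobsonSpace q
  haveI : JacobsonSpace U.toScheme := LocallyOfFiniteType.jacobsonSpace (U.ι ≫ q)
  obtain ⟨x, hx, hxcl⟩ := nonempty_inter_closedPoints (Z := (f.smoothLocus : Set U.toScheme))
    ⟨x0, hsub hx0⟩ f.smoothLocus.isOpen.isLocallyClosed
  refine ⟨U.ι x, ?_, ?_, ?_⟩
  · have := U.ι.isOpenEmbedding.preimage_closedPoints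
    have hx' : x ∈ U.ι ⁻¹' closedPoints X := this ▸ hxcl
    exact hx'
  · haveI := hreg x
    exact IsRegularLocalRing.of_ringEquiv
      (asIso (U.ι.stalkMap x)).commRingCatIsoToRingEquiv.symm
  · have h4 : x ∈ U.ι ⁻¹ᵁ u.smoothLocus := by
      rw [Scheme.Hom.preimage_smoothLocus_eq]
      exact hx
    exact h4

end Groth.Agent.Lib.Seat95.CotDominantSch
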