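import Mathlib
import Groth.Prelude.Def_BlowUp2
import Groth.Agent.Lib.Helper20EffCartier

/-!
# Restricting local equations of effective Cartier ideals to smaller affine opens (seat 95)

Namespace `Groth.Agent.Lib.Seat95.EffCartierRes`.
* `res_mem_nonZeroDivisors`: restriction between affine opens preserves nonzerodivisors.
* `ideal_res_eq_span`: a principal ideal sheaf on `U` stays principal on affine `V ≤ U`.
* `exists_common_affine`: two effective Cartier ideals have local equations on a common affine open.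
-/

set_option autoImplicit false
universe u
open CategoryTheory AlgebraicGeometry Limits Opposite TopologicalSpace

namespace Groth.Agent.Lib.Seat95.EffCartierRes

open nonZeroDivisors

theorem mem_nonZeroDivisors_map_flat {R S : Type*} [CommRing R] [CommRing S] (ψ : R →+* S)
    (hψ : ψ.Flat) {x : R} (hx : x ∈ R⁰) : ψ x ∈ S⁰ := by
  letI := ψ.toAlgebra
  haveI : Module.Flat R S := hψ
  have h1 : IsSMulRegular R x := (isRegular_iff_mem_nonZeroDivisors.2 hx).left.isSMulRegular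
  have h2 : IsSMulRegular S (algebraMap R S x) := h1.of_flat
  rw [mem_nonZeroDivisors_iff_right]
  intro y hy
  apply h2
  change ψ x * y = ψ x * 0
  rw [mul_zero, mul_comm, hy]

theorem res_mem_nonZeroDivisors {X : Scheme.{u}} {U V : X.Opens} (hU : IsAffineOpen U)
    (hV : IsAffineOpen V) (hVU : V ≤ U) {a : Γ(X, U)} (ha : a ∈ Γ(X, U)⁰) :
    (X.presheaf.map (homOfLE hVU).op).hom a ∈ Γ(X, V)⁰ := by
  have hflat : ((𝟙 X : X ⟶ X).appLE U V hVU).hom.Flat :=
    Scheme.Hom.flat_appLE (𝟙 X) hU hV hVU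
  have h1 : (𝟙 X : X ⟶ X).appLE U V hVU = X.presheaf.map (homOfLE hVU).op := by
    simp only [Scheme.Hom.appLE, Scheme.Hom.id_app]
    exact Category.id_comp _
  rw [h1] at hflat
  exact mem_nonZeroDivisors_map_flat _ hflat ha

theorem ideal_res_eq_span {X : Scheme.{u}} (I : X.IdealSheafData) {U V : X.Opens}
    (hU : IsAffineOpen U) (hV : IsAffineOpen V) (hVU : V ≤ U) {a : Γ(X, U)}
    (ha : I.ideal ⟨U, hU⟩ = Ideal.span {a}) :
    I.ideal ⟨V, hV⟩ = Ideal.span {(X.presheaf.map (homOfLE hVU).op).hom a} := by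
  have h1 := I.map_ideal (U := ⟨V, hV⟩) (V := ⟨U, hU⟩) hVU
  rw [ha, Ideal.map_span, Set.image_singleton] at h1
  exact h1.symm

theorem exists_common_affine {X : Scheme.{u}} {I J : X.IdealSheafData}
    (hI : BlowUp.IsEffCartierIdeal I) (hJ : BlowUp.IsEffCartierIdeal J) (x : X) :
    ∃ (U : X.Opens) (hU : IsAffineOpen U), x ∈ U ∧ ∃ a b : Γ(X, U), a ∈ Γ(X, U)⁰ ∧
      b ∈ Γ(X, U)⁰ ∧ I.ideal ⟨U, hU⟩ = Ideal.span {a} ∧ J.ideal ⟨U, hU⟩ = Ideal.span {b} := by
  obtain ⟨⟨U₁, hU₁⟩, hxU₁, a, ha0, ha⟩ := hI x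
  obtain ⟨U₂, hU₂, hxU₂, hle, b, hb0, hb⟩ :=
    Groth.Agent.Lib.Helper20.EffCartier.exists_le_of_isEffCartierIdeal hJ x U₁ hxU₁
  exact ⟨U₂, hU₂, hxU₂, (X.presheaf.map (homOfLE hle).op).hom a, b,
    res_mem_nonZeroDivisors hU₁ hU₂ hle ha0, hb0, ideal_res_eq_span I hU₁ hU₂ hle ha, hb⟩

end Groth.Agent.Lib.Seat95.EffCartierRes
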