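import Mathlib

set_option autoImplicit false
universe u

open AlgebraicGeometry CategoryTheory

namespace Groth.Agent.Lib.Seat95.GenEtale

section core

variable {A B K L : Type u} [CommRing A] [CommRing B] [IsDomain B] [Algebra A B]
  [Field K] [Field L] [Algebra A K] [Algebra B L] [IsFractionRing B L]
  [Algebra K L] [Algebra A L] [IsScalarTower A K L] [IsScalarTower A B L]

include K L in
/-- separable function field extension ⇒ étale on a nonempty basic open. -/
theorem exists_etale_away_of_isSeparable [IsFractionRing A K] [Algebra.FinitePresentation A B]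
    [Algebra.IsSeparable K L] : ∃ g : B, g ≠ 0 ∧ Algebra.Etale A (Localization.Away g) := by
  haveI : Algebra.FormallyEtale K L := Algebra.FormallyEtale.of_isSeparable K L
  haveI : Algebra.FormallyEtale A K := Algebra.FormallyEtale.of_isLocalization (nonZeroDivisors A)
  haveI : Algebra.FormallyEtale A L := Algebra.FormallyEtale.comp A K L
  haveI : IsLocalization (⊥ : Ideal B).primeCompl L := by
    rw [Ideal.primeCompl_bot]; infer_instance
  let e : L ≃ₐ[B] Localization.AtPrime (⊥ : Ideal B) :=
    IsLocalization.algEquiv (⊥ : Ideal B).primeCompl L _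
  haveI : Algebra.IsEtaleAt A (⊥ : Ideal B) :=
    Algebra.FormallyEtale.of_equiv (e.restrictScalars A)
  obtain ⟨g, hg, hget⟩ := Algebra.exists_etale_of_isEtaleAt (R := A) (⊥ : Ideal B)
  exact ⟨g, fun h => hg (h ▸ Ideal.zero_mem _), hget⟩

omit [IsDomain B] in
include K L in
/-- unramified ⇒ finite separable function field extension. -/
theorem isSeparable_of_formallyUnramified [Algebra.FiniteType A B]
    [Algebra.FormallyUnramified A B] :
    Module.Finite K L ∧ Algebra.IsSeparable K L := by
  haveI : Algebra.FormallyUnramified B L :=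
    Algebra.FormallyUnramified.of_isLocalization (nonZeroDivisors B)
  haveI : Algebra.FormallyUnramified A L := Algebra.FormallyUnramified.comp A B L
  haveI : Algebra.FormallyUnramified K L := Algebra.FormallyUnramified.of_restrictScalars A K L
  haveI : Algebra.EssFiniteType B L := Algebra.EssFiniteType.of_isLocalization L (nonZeroDivisors B)
  haveI : Algebra.EssFiniteType A L := Algebra.EssFiniteType.comp A B L
  haveI : Algebra.EssFiniteType K L := Algebra.EssFiniteType.of_comp A K L
  exact ⟨Algebra.FormallyUnramified.finite_of_free K L, Algebra.FormallyUnramified.isSeparable K L⟩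

end core

theorem resLE_iff (P : MorphismProperty Scheme.{u}) {Q : ∀ {R S : Type u} [CommRing R] [CommRing S], (R →+* S) → Prop}
    [HasRingHomProperty P Q] {X Y : Scheme.{u}} (f : X ⟶ Y) {V : Y.Opens} {W : X.Opens}
    (hV : IsAffineOpen V) (hW : IsAffineOpen W) (e : W ≤ f ⁻¹ᵁ V) :
    P (f.resLE V W e) ↔ Q (f.appLE V W e).hom := by
  haveI : IsAffine V := hV
  haveI : IsAffine W := hW
  rw [HasRingHomProperty.iff_of_isAffine (P := P), Scheme.Hom.appTop, Scheme.Hom.resLE_app_top,
    CommRingCat.hom_comp,
    (HasRingHomProperty.isLocal_ringHomProperty P).respectsIso.cancel_left_isIso,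
    CommRingCat.hom_comp,
    (HasRingHomProperty.isLocal_ringHomProperty P).respectsIso.cancel_right_isIso]

/-- compatibility of germs at generic points with the function field map. -/
theorem germ_comp {X Y : Scheme.{u}} [IsIntegral X] [IsIntegral Y] (f : X ⟶ Y)
    (e : f (genericPoint X) = genericPoint Y) (V : Y.Opens) (W : X.Opens) [Nonempty V] [Nonempty W]
    (hWV : W ≤ f ⁻¹ᵁ V) :
    Y.germToFunctionField V ≫ (Y.presheaf.stalkSpecializes (specializes_of_eq e) ≫
      f.stalkMap (genericPoint X)) = f.appLE V W hWV ≫ X.germToFunctionField W := by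
  have hξW : genericPoint X ∈ W :=
    ((genericPoint_spec X).mem_open_set_iff W.isOpen).mpr (by simpa using ‹Nonempty W›)
  have hξV : f (genericPoint X) ∈ V := hWV hξW
  rw [Scheme.germToFunctionField, Scheme.germToFunctionField,
    TopCat.Presheaf.germ_stalkSpecializes_assoc]
  rw [Scheme.Hom.germ_stalkMap, Scheme.Hom.appLE, Category.assoc, X.presheaf.germ_res]

section schemes

variable {X Y : Scheme.{u}} [IsIntegral X] [IsIntegral Y] (f : X ⟶ Y)
  (e : f (genericPoint X) = genericPoint Y) (V : Y.Opens) (W : X.Opens)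
  (hV : IsAffineOpen V) (hW : IsAffineOpen W) [Nonempty V] [Nonempty W] (hWV : W ≤ f ⁻¹ᵁ V)

theorem tower :
    letI := ((Y.presheaf.stalkSpecializes (specializes_of_eq e) ≫
      f.stalkMap (genericPoint X)).hom).toAlgebra
    letI : Algebra Γ(Y, V) Γ(X, W) := (f.appLE V W hWV).hom.toAlgebra
    letI : Algebra Γ(Y, V) X.functionField :=
      ((algebraMap Y.functionField X.functionField).comp
        (algebraMap Γ(Y, V) Y.functionField)).toAlgebra
    IsScalarTower Γ(Y, V) Γ(X, W) X.functionField := by
  letI := ((Y.presheaf.stalkSpecializes (specializes_of_eq e) ≫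
    f.stalkMap (genericPoint X)).hom).toAlgebra
  letI : Algebra Γ(Y, V) Γ(X, W) := (f.appLE V W hWV).hom.toAlgebra
  letI : Algebra Γ(Y, V) X.functionField :=
    ((algebraMap Y.functionField X.functionField).comp
      (algebraMap Γ(Y, V) Y.functionField)).toAlgebra
  refine .of_algebraMap_eq fun a => ?_
  have := congrArg (fun φ => φ.hom a) (germ_comp f e V W hWV)
  exact this

include hV hW hWV in
theorem sep_of_unramified [LocallyOfFiniteType f] (U : X.Opens) (hWU : W ≤ U)
    [FormallyUnramified (U.ι ≫ f)] :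
    letI := ((Y.presheaf.stalkSpecializes (specializes_of_eq e) ≫
      f.stalkMap (genericPoint X)).hom).toAlgebra
    FiniteDimensional Y.functionField X.functionField ∧
      Algebra.IsSeparable Y.functionField X.functionField := by
  letI := ((Y.presheaf.stalkSpecializes (specializes_of_eq e) ≫
    f.stalkMap (genericPoint X)).hom).toAlgebra
  have h1 : FormallyUnramified (W.ι ≫ f) := by
    rw [← X.homOfLE_ι hWU, Category.assoc]
    exact MorphismProperty.comp_mem _ _ _
      (inferInstance : FormallyUnramified (X.homOfLE hWU)) ‹FormallyUnramified (U.ι ≫ f)›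
  have h2 : FormallyUnramified (f.resLE V W hWV) := by
    haveI : FormallyUnramified (f.resLE V W hWV ≫ V.ι) := by
      rw [Scheme.Hom.resLE_comp_ι]; exact h1
    exact FormallyUnramified.of_comp _ V.ι
  have h3 : (f.appLE V W hWV).hom.FormallyUnramified :=
    (resLE_iff @FormallyUnramified f hV hW hWV).mp h2
  letI : Algebra Γ(Y, V) Γ(X, W) := (f.appLE V W hWV).hom.toAlgebra
  letI : Algebra Γ(Y, V) X.functionField :=
    ((algebraMap Y.functionField X.functionField).comp
      (algebraMap Γ(Y, V) Y.functionField)).toAlgebra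
  haveI : IsScalarTower Γ(Y, V) Y.functionField X.functionField := .of_algebraMap_eq' rfl
  haveI : IsScalarTower Γ(Y, V) Γ(X, W) X.functionField := tower f e V W hWV
  haveI := functionField_isFractionRing_of_isAffineOpen X W hW
  haveI := functionField_isFractionRing_of_isAffineOpen Y V hV
  haveI : Algebra.FiniteType Γ(Y, V) Γ(X, W) := f.finiteType_appLE hV hW hWV
  haveI : Algebra.FormallyUnramified Γ(Y, V) Γ(X, W) := h3
  exact isSeparable_of_formallyUnramified (A := Γ(Y, V)) (B := Γ(X, W))
    (K := Y.functionField) (L := X.functionField)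

include hV hW hWV in
theorem etale_of_sep [LocallyOfFiniteType f] [IsLocallyNoetherian Y]
    (hsep : letI := ((Y.presheaf.stalkSpecializes (specializes_of_eq e) ≫
      f.stalkMap (genericPoint X)).hom).toAlgebra
      Algebra.IsSeparable Y.functionField X.functionField) :
    ∃ U : X.Opens, (U : Set X).Nonempty ∧ Etale (U.ι ≫ f) := by
  letI := ((Y.presheaf.stalkSpecializes (specializes_of_eq e) ≫
    f.stalkMap (genericPoint X)).hom).toAlgebra
  letI : Algebra Γ(Y, V) Γ(X, W) := (f.appLE V W hWV).hom.toAlgebra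
  letI : Algebra Γ(Y, V) X.functionField :=
    ((algebraMap Y.functionField X.functionField).comp
      (algebraMap Γ(Y, V) Y.functionField)).toAlgebra
  haveI : IsScalarTower Γ(Y, V) Y.functionField X.functionField := .of_algebraMap_eq' rfl
  haveI : IsScalarTower Γ(Y, V) Γ(X, W) X.functionField := tower f e V W hWV
  haveI := functionField_isFractionRing_of_isAffineOpen X W hW
  haveI := functionField_isFractionRing_of_isAffineOpen Y V hV
  haveI : Algebra.FiniteType Γ(Y, V) Γ(X, W) := f.finiteType_appLE hV hW hWV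
  haveI : IsNoetherianRing Γ(Y, V) := IsLocallyNoetherian.component_noetherian ⟨V, hV⟩
  haveI : Algebra.FinitePresentation Γ(Y, V) Γ(X, W) :=
    Algebra.FinitePresentation.of_finiteType.mp inferInstance
  haveI : IsDomain Γ(X, W) := inferInstance
  obtain ⟨g, hg0, hget⟩ := exists_etale_away_of_isSeparable (A := Γ(Y, V)) (B := Γ(X, W))
    (K := Y.functionField) (L := X.functionField)
  have hUW : X.basicOpen g ≤ W := X.basicOpen_le g
  have hUV : X.basicOpen g ≤ f ⁻¹ᵁ V := hUW.trans hWV
  have hU : IsAffineOpen (X.basicOpen g) := hW.basicOpen g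
  refine ⟨X.basicOpen g, ?_, ?_⟩
  · by_contra h
    rw [TopologicalSpace.Opens.not_nonempty_iff_eq_bot, basicOpen_eq_bot_iff] at h
    exact hg0 h
  · rw [← Scheme.Hom.resLE_comp_ι f hUV]
    haveI : Etale (f.resLE V (X.basicOpen g) hUV) := by
      rw [resLE_iff @Etale f hV hU hUV]
      haveI := hW.isLocalization_basicOpen g
      letI : Algebra Γ(Y, V) Γ(X, X.basicOpen g) := (f.appLE V (X.basicOpen g) hUV).hom.toAlgebra
      haveI : IsScalarTower Γ(Y, V) Γ(X, W) Γ(X, X.basicOpen g) := by
        refine .of_algebraMap_eq fun a => ?_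
        have := congrArg (fun φ => φ.hom a)
          (f.appLE_map hWV (homOfLE hUW).op)
        exact this.symm
      let e' : Localization.Away g ≃ₐ[Γ(X, W)] Γ(X, X.basicOpen g) :=
        IsLocalization.algEquiv (Submonoid.powers g) _ _
      exact Algebra.Etale.of_equiv (e'.restrictScalars Γ(Y, V))
    infer_instance

end schemes

theorem main {X Y : Scheme.{u}} [IsIntegral X] [IsIntegral Y] [IsLocallyNoetherian Y]
    (f : X ⟶ Y) [LocallyOfFiniteType f] (e : f (genericPoint X) = genericPoint Y) :
    letI := ((Y.presheaf.stalkSpecializes (specializes_of_eq e) ≫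
      f.stalkMap (genericPoint X)).hom).toAlgebra
    ((∃ U : X.Opens, (U : Set X).Nonempty ∧ FormallyUnramified (U.ι ≫ f)) →
      (FiniteDimensional Y.functionField X.functionField ∧
        Algebra.IsSeparable Y.functionField X.functionField)) ∧
    (Algebra.IsSeparable Y.functionField X.functionField →
      ∃ U : X.Opens, (U : Set X).Nonempty ∧ Etale (U.ι ≫ f)) := by
  obtain ⟨_, ⟨V, hV, rfl⟩, hξV, -⟩ := Y.isBasis_affineOpens.exists_subset_of_mem_open
    (Set.mem_univ (genericPoint Y)) isOpen_univ
  haveI : Nonempty V := ⟨⟨_, hξV⟩⟩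
  have hξX' : genericPoint X ∈ f ⁻¹ᵁ V := by
    show f (genericPoint X) ∈ V
    rw [e]; exact hξV
  constructor
  · rintro ⟨U, hUne, hU⟩
    have hξU : genericPoint X ∈ U :=
      ((genericPoint_spec X).mem_open_set_iff U.isOpen).mpr (by simpa using hUne)
    obtain ⟨_, ⟨W, hW, rfl⟩, hξW, hWsub⟩ := X.isBasis_affineOpens.exists_subset_of_mem_open
      (show genericPoint X ∈ ((U ⊓ f ⁻¹ᵁ V : X.Opens) : Set X) from ⟨hξU, hξX'⟩)
      (U ⊓ f ⁻¹ᵁ V).isOpen
    have hWU : W ≤ U := fun x hx => (hWsub hx).1
    have hWV : W ≤ f ⁻¹ᵁ V := fun x hx => (hWsub hx).2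
    haveI hne : Nonempty W := ⟨⟨_, hξW⟩⟩
    haveI := hU
    exact sep_of_unramified f e V W hV hW hWV U hWU
  · intro hsep
    obtain ⟨_, ⟨W, hW, rfl⟩, hξW, hWsub⟩ := X.isBasis_affineOpens.exists_subset_of_mem_open
      hξX' (f ⁻¹ᵁ V).isOpen
    haveI hne : Nonempty W := ⟨⟨_, hξW⟩⟩
    exact etale_of_sep f e V W hV hW hWsub hsep

end Groth.Agent.Lib.Seat95.GenEtale
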