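import Mathlib
import Groth.Agent.Lib.Seat95GenEtale

set_option autoImplicit false
universe u

open AlgebraicGeometry CategoryTheory

namespace Groth.Agent.Lib.Seat95.GenSmooth

open Groth.Agent.Lib.Seat95.GenEtale

section core

variable {A B K L : Type u} [CommRing A] [CommRing B] [IsDomain B] [Algebra A B]
  [Field K] [Field L] [Algebra A K] [Algebra B L] [IsFractionRing B L]
  [Algebra K L] [Algebra A L] [IsScalarTower A K L] [IsScalarTower A B L]

include K L in
/-- perfect function field downstairs ⇒ smooth on a nonempty basic open. -/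
theorem exists_smooth_away_of_perfectField [IsFractionRing A K] [Algebra.FinitePresentation A B]
    [PerfectField K] : ∃ g : B, g ≠ 0 ∧ Algebra.Smooth A (Localization.Away g) := by
  haveI : Algebra.EssFiniteType B L := Algebra.EssFiniteType.of_isLocalization L (nonZeroDivisors B)
  haveI : Algebra.EssFiniteType A L := Algebra.EssFiniteType.comp A B L
  haveI : Algebra.EssFiniteType K L := Algebra.EssFiniteType.of_comp A K L
  haveI : Algebra.FormallySmooth K L := inferInstance
  haveI : Algebra.FormallySmooth A K := Algebra.FormallySmooth.of_isLocalization (nonZeroDivisors A)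
  haveI : Algebra.FormallySmooth A L := Algebra.FormallySmooth.comp A K L
  haveI : IsLocalization (⊥ : Ideal B).primeCompl L := by
    rw [Ideal.primeCompl_bot]; infer_instance
  let e : L ≃ₐ[B] Localization.AtPrime (⊥ : Ideal B) :=
    IsLocalization.algEquiv (⊥ : Ideal B).primeCompl L _
  haveI : Algebra.IsSmoothAt A (⊥ : Ideal B) :=
    Algebra.FormallySmooth.of_equiv (e.restrictScalars A)
  obtain ⟨g, hg, hget⟩ := Algebra.IsSmoothAt.exists_notMem_smooth A (⊥ : Ideal B)
  exact ⟨g, fun h => hg (h ▸ Ideal.zero_mem _), hget⟩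

end core

section schemes

variable {X Y : Scheme.{u}} [IsIntegral X] [IsIntegral Y] (f : X ⟶ Y)
  (e : f (genericPoint X) = genericPoint Y) (V : Y.Opens) (W : X.Opens)
  (hV : IsAffineOpen V) (hW : IsAffineOpen W) [Nonempty V] [Nonempty W] (hWV : W ≤ f ⁻¹ᵁ V)

include e hV hW hWV in
theorem smooth_of_perfect [LocallyOfFiniteType f] [IsLocallyNoetherian Y]
    [PerfectField Y.functionField] :
    ∃ U : X.Opens, (U : Set X).Nonempty ∧ Smooth (U.ι ≫ f) := by
  letI := ((Y.presheaf.stalkSpecializes (specializes_of_eq e) ≫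
    f.stalkMap (genericPoint X)).hom).toAlgebra
  letI : Algebra Γ(Y, V) Γ(X, W) := (f.appLE V W hWV).hom.toAlgebra
  letI : Algebra Γ(Y, V) X.functionField :=
    ((algebraMap Y.functionField X.functionField).comp
      (algebraMap Γ(Y, V) Y.functionField)).toAlgebra
  haveI : IsScalarTower Γ(Y, V) Y.functionField X.functionField := .of_algebraMap_eq' rfl
  haveI : IsScalarTower Γ(Y, V) Γ(X, W) X.functionField := tower f e V W hWV
  haveI := functionField_isFractionRing_of_isAffineOpen X W hW
  haveI := functionField_isFractionRing_of_isAffineOpen Y V hV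
  haveI : Algebra.FiniteType Γ(Y, V) Γ(X, W) := f.finiteType_appLE hV hW hWV
  haveI : IsNoetherianRing Γ(Y, V) := IsLocallyNoetherian.component_noetherian ⟨V, hV⟩
  haveI : Algebra.FinitePresentation Γ(Y, V) Γ(X, W) :=
    Algebra.FinitePresentation.of_finiteType.mp inferInstance
  haveI : IsDomain Γ(X, W) := inferInstance
  obtain ⟨g, hg0, hget⟩ := exists_smooth_away_of_perfectField (A := Γ(Y, V)) (B := Γ(X, W))
    (K := Y.functionField) (L := X.functionField)
  have hUW : X.basicOpen g ≤ W := X.basicOpen_le g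
  have hUV : X.basicOpen g ≤ f ⁻¹ᵁ V := hUW.trans hWV
  have hU : IsAffineOpen (X.basicOpen g) := hW.basicOpen g
  refine ⟨X.basicOpen g, ?_, ?_⟩
  · by_contra h
    rw [TopologicalSpace.Opens.not_nonempty_iff_eq_bot, basicOpen_eq_bot_iff] at h
    exact hg0 h
  · rw [← Scheme.Hom.resLE_comp_ι f hUV]
    haveI : Smooth (f.resLE V (X.basicOpen g) hUV) := by
      rw [resLE_iff @Smooth f hV hU hUV]
      haveI := hW.isLocalization_basicOpen g
      letI : Algebra Γ(Y, V) Γ(X, X.basicOpen g) := (f.appLE V (X.basicOpen g) hUV).hom.toAlgebra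
      haveI : IsScalarTower Γ(Y, V) Γ(X, W) Γ(X, X.basicOpen g) := by
        refine .of_algebraMap_eq fun a => ?_
        have := congrArg (fun φ => φ.hom a)
          (f.appLE_map hWV (homOfLE hUW).op)
        exact this.symm
      let e' : Localization.Away g ≃ₐ[Γ(X, W)] Γ(X, X.basicOpen g) :=
        IsLocalization.algEquiv (Submonoid.powers g) _ _
      exact Algebra.Smooth.of_equiv (e'.restrictScalars Γ(Y, V))
    infer_instance

end schemes

/-- generic points under dominant maps. -/
theorem map_genericPoint_of_denseRange {X Y : Scheme.{u}} [IsIntegral X] [IsIntegral Y]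
    (f : X ⟶ Y) (hdom : DenseRange f.base) : f (genericPoint X) = genericPoint Y := by
  have h1 : IsGenericPoint (f (genericPoint X)) (closure (f '' Set.univ)) :=
    (genericPoint_spec X).image f.continuous
  rw [Set.image_univ, hdom.closure_range] at h1
  exact h1.eq (genericPoint_spec Y)

theorem main {X Y : Scheme.{u}} [IsIntegral X] [IsIntegral Y] [IsLocallyNoetherian Y]
    (f : X ⟶ Y) [LocallyOfFiniteType f] (e : f (genericPoint X) = genericPoint Y)
    [PerfectField Y.functionField] :
    ∃ U : X.Opens, (U : Set X).Nonempty ∧ Smooth (U.ι ≫ f) := by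
  obtain ⟨_, ⟨V, hV, rfl⟩, hξV, -⟩ := Y.isBasis_affineOpens.exists_subset_of_mem_open
    (Set.mem_univ (genericPoint Y)) isOpen_univ
  haveI : Nonempty V := ⟨⟨_, hξV⟩⟩
  have hξX' : genericPoint X ∈ f ⁻¹ᵁ V := by
    show f (genericPoint X) ∈ V
    rw [e]; exact hξV
  obtain ⟨_, ⟨W, hW, rfl⟩, hξW, hWsub⟩ := X.isBasis_affineOpens.exists_subset_of_mem_open
    hξX' (f ⁻¹ᵁ V).isOpen
  haveI hne : Nonempty W := ⟨⟨_, hξW⟩⟩
  exact smooth_of_perfect f e V W hV hW hWsub

end Groth.Agent.Lib.Seat95.GenSmooth
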