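import Mathlib

/-!
# Flat base change of a subquotient (helper for S19275)
-/

set_option autoImplicit false
universe u v w x

namespace Groth.Agent.Lib.Seat95.HochBC

open TensorProduct

section Subquot

variable (K : Type u) [CommRing K] (R : Type w) [CommRing R] [Algebra K R] [Module.Flat K R]
variable {C : Type v} [AddCommGroup C] [Module K C] (Z B : Submodule K C)
variable {C' : Type x} [AddCommGroup C'] [Module R C'] (Z' B' : Submodule R C')

/-- Flat base change of the subquotient `Z / (B ∩ Z)`. -/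
theorem exists_subquot_equiv
    (Φ : R ⊗[K] C →ₗ[R] C')
    (hZ : ∀ x, Φ x ∈ Z' ↔ x ∈ LinearMap.range (Z.subtype.baseChange R))
    (hB : ∀ x, Φ x ∈ B' ↔ x ∈ LinearMap.range (B.subtype.baseChange R))
    (hsurj : ∀ z' ∈ Z', ∃ x, Φ x = z') :
    ∃ e : R ⊗[K] (Z ⧸ B.comap Z.subtype) ≃ₗ[R] (Z' ⧸ B'.comap Z'.subtype),
      ∀ (r : R) (z : Z) (hz : Φ (r ⊗ₜ[K] (z : C)) ∈ Z'),
        e (r ⊗ₜ[K] (B.comap Z.subtype).mkQ z) = (B'.comap Z'.subtype).mkQ ⟨Φ (r ⊗ₜ[K] (z : C)), hz⟩ := by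
  classical
  set W : Submodule K Z := B.comap Z.subtype with hW
  set W' : Submodule R Z' := B'.comap Z'.subtype with hW'
  -- the maps
  let qR : R ⊗[K] Z →ₗ[R] R ⊗[K] (Z ⧸ W) := W.mkQ.baseChange R
  have hqR : Function.Surjective qR := by
    rw [show (qR : R ⊗[K] Z → R ⊗[K] (Z ⧸ W)) = W.mkQ.lTensor R from
      LinearMap.baseChange_eq_ltensor _]
    exact LinearMap.lTensor_surjective R (Submodule.mkQ_surjective W)
  let ιZ : R ⊗[K] Z →ₗ[R] R ⊗[K] C := Z.subtype.baseChange R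
  have hmem : ∀ t, Φ (ιZ t) ∈ Z' := fun t => (hZ _).2 ⟨t, rfl⟩
  let g0 : R ⊗[K] Z →ₗ[R] Z' := (Φ ∘ₗ ιZ).codRestrict Z' hmem
  let g : R ⊗[K] Z →ₗ[R] Z' ⧸ W' := W'.mkQ ∘ₗ g0
  have hg : Function.Surjective g := by
    intro y
    obtain ⟨⟨z', hz'⟩, rfl⟩ := Submodule.mkQ_surjective W' y
    obtain ⟨x, hx⟩ := hsurj z' hz'
    have hx' : Φ x ∈ Z' := hx ▸ hz'
    obtain ⟨t, ht⟩ := (hZ x).1 hx'
    refine ⟨t, ?_⟩
    change W'.mkQ (g0 t) = _
    congr 1
    apply Subtype.ext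
    change Φ (ιZ t) = z'
    rw [show ιZ t = x from ht, hx]
  -- the comparison of kernels
  let π : C →ₗ[K] C ⧸ B := B.mkQ
  let j : Z ⧸ W →ₗ[K] C ⧸ B := Submodule.mapQ W B Z.subtype le_rfl
  have hj : Function.Injective j := by
    rw [← LinearMap.ker_eq_bot, LinearMap.ker_eq_bot']
    intro y hy
    obtain ⟨z, rfl⟩ := Submodule.mkQ_surjective W y
    have : B.mkQ (z : C) = 0 := hy
    rw [Submodule.mkQ_apply, Submodule.Quotient.mk_eq_zero] at this
    rw [Submodule.mkQ_apply, Submodule.Quotient.mk_eq_zero]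
    exact this
  have hjR : Function.Injective (j.lTensor R) :=
    Module.Flat.lTensor_preserves_injective_linearMap j hj
  have hcomm : ∀ t : R ⊗[K] Z, π.lTensor R (ιZ t) = j.lTensor R (qR t) := by
    intro t
    have h1 : (ιZ t) = Z.subtype.lTensor R t := by
      change Z.subtype.baseChange R t = _
      rw [LinearMap.baseChange_eq_ltensor]
    have h2 : qR t = W.mkQ.lTensor R t := by
      change W.mkQ.baseChange R t = _
      rw [LinearMap.baseChange_eq_ltensor]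
    rw [h1, h2, ← LinearMap.comp_apply, ← LinearMap.comp_apply, ← LinearMap.lTensor_comp,
      ← LinearMap.lTensor_comp]
    rfl
  have hexB : Function.Exact (B.subtype.lTensor R) (π.lTensor R) :=
    lTensor_exact R (LinearMap.exact_subtype_mkQ B) (Submodule.mkQ_surjective B)
  have hker : LinearMap.ker qR = LinearMap.ker g := by
    ext t
    simp only [LinearMap.mem_ker]
    have hgt : g t = 0 ↔ Φ (ιZ t) ∈ B' := by
      change W'.mkQ (g0 t) = 0 ↔ _
      rw [Submodule.mkQ_apply, Submodule.Quotient.mk_eq_zero]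
      rfl
    rw [hgt, hB]
    have hBR : ιZ t ∈ LinearMap.range (B.subtype.baseChange R) ↔ π.lTensor R (ιZ t) = 0 := by
      rw [hexB (ιZ t)]
      constructor
      · rintro ⟨y, hy⟩
        exact ⟨y, by rw [← hy, LinearMap.baseChange_eq_ltensor]⟩
      · rintro ⟨y, hy⟩
        exact ⟨y, by rw [← hy, LinearMap.baseChange_eq_ltensor]⟩
    rw [hBR, hcomm]
    constructor
    · intro h
      rw [h, map_zero]
    · intro h
      exact hjR (by rw [h, map_zero])
  let e : R ⊗[K] (Z ⧸ W) ≃ₗ[R] (Z' ⧸ W') :=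
    (qR.quotKerEquivOfSurjective hqR).symm ≪≫ₗ Submodule.quotEquivOfEq _ _ hker ≪≫ₗ
      g.quotKerEquivOfSurjective hg
  refine ⟨e, ?_⟩
  intro r z hz
  have h1 : r ⊗ₜ[K] W.mkQ z = qR (r ⊗ₜ[K] z) := by
    change _ = W.mkQ.baseChange R (r ⊗ₜ[K] z)
    rw [LinearMap.baseChange_tmul]
  have h2 : (qR.quotKerEquivOfSurjective hqR).symm (qR (r ⊗ₜ[K] z)) =
      Submodule.Quotient.mk (r ⊗ₜ[K] z) := by
    rw [LinearEquiv.symm_apply_eq]
    rfl
  change (g.quotKerEquivOfSurjective hg) (Submodule.quotEquivOfEq _ _ hker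
    ((qR.quotKerEquivOfSurjective hqR).symm (r ⊗ₜ[K] W.mkQ z))) = _
  rw [h1, h2, Submodule.quotEquivOfEq_mk]
  change g (r ⊗ₜ[K] z) = _
  change W'.mkQ (g0 (r ⊗ₜ[K] z)) = _
  congr 1

end Subquot

end Groth.Agent.Lib.Seat95.HochBC
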