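import Groth.Prelude.Def_Hoch
import Groth.Prelude.Def_CoactBr2
import Mathlib

/-!
# Base change of the Hochschild complex of a comodule (helper for S19275)
-/

set_option autoImplicit false
universe u v w

namespace Groth.Agent.Lib.Seat95.HochBC2

open TensorProduct

section Ext

variable (K : Type u) [Field K] (R : Type w) [CommRing R] [Algebra K R]
variable (A : Type v) [CommRing A] [HopfAlgebra K A]
variable {M : Type v} [AddCommGroup M] [Module K M]
variable {M' : Type (max w v)} [AddCommGroup M'] [Module R M']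

/-- The canonical extension `R ⊗ (M ⊗ A) → M' ⊗_R (R ⊗ A)` of `ψ : R ⊗ M → M'`. -/
noncomputable def ext (ψ : R ⊗[K] M →ₗ[R] M') :
    R ⊗[K] (M ⊗[K] A) →ₗ[R] M' ⊗[R] (R ⊗[K] A) :=
  (ψ.rTensor (R ⊗[K] A)) ∘ₗ (AlgebraTensorModule.distribBaseChange K R M A).toLinearMap

theorem ext_tmul (ψ : R ⊗[K] M →ₗ[R] M') (r : R) (m : M) (a : A) :
    ext K R A ψ (r ⊗ₜ[K] (m ⊗ₜ[K] a)) = ψ (r ⊗ₜ[K] m) ⊗ₜ[R] ((1 : R) ⊗ₜ[K] a) := rfl

theorem ext_pure {N' : Type*} [AddCommGroup N'] [Module R N']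
    (f g : R ⊗[K] (M ⊗[K] A) →ₗ[R] N')
    (h : ∀ (r : R) (m : M) (a : A), f (r ⊗ₜ[K] (m ⊗ₜ[K] a)) = g (r ⊗ₜ[K] (m ⊗ₜ[K] a))) :
    f = g := by
  apply LinearMap.ext
  intro x
  induction x using TensorProduct.induction_on with
  | zero => simp
  | add x y hx hy => rw [map_add, map_add, hx, hy]
  | tmul r y =>
    induction y using TensorProduct.induction_on with
    | zero => simp
    | add x y hx hy => rw [tmul_add, map_add, map_add, hx, hy]
    | tmul m a => exact h r m a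

theorem eq_ext (ψ : R ⊗[K] M →ₗ[R] M') (ψ' : R ⊗[K] (M ⊗[K] A) →ₗ[R] M' ⊗[R] (R ⊗[K] A))
    (h : ∀ (r : R) (m : M) (a : A),
      ψ' (r ⊗ₜ[K] (m ⊗ₜ[K] a)) = ψ (r ⊗ₜ[K] m) ⊗ₜ[R] ((1 : R) ⊗ₜ[K] a)) :
    ψ' = ext K R A ψ :=
  ext_pure K R A _ _ (fun r m a => by rw [h, ext_tmul])

theorem ext_bijective (ψ : R ⊗[K] M →ₗ[R] M') (hψ : Function.Bijective ψ) :
    Function.Bijective (ext K R A ψ) := by
  have h1 : Function.Bijective (ψ.rTensor (R ⊗[K] A)) :=
    TensorProduct.map_bijective hψ Function.bijective_id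
  exact h1.comp (AlgebraTensorModule.distribBaseChange K R M A).bijective

end Ext

section Tail

variable (K : Type u) [Field K] (R : Type w) [CommRing R] [Algebra K R]
variable (A : Type v) [CommRing A] [HopfAlgebra K A]
variable {M : Type v} [AddCommGroup M] [Module K M]
variable {M' : Type (max w v)} [AddCommGroup M'] [Module R M']

theorem ext_ext_assoc (ψ : R ⊗[K] M →ₗ[R] M') (r : R) (m : M) (y : A ⊗[K] A) :
    ext K R A (ext K R A ψ) (r ⊗ₜ[K] ((TensorProduct.assoc K M A A).symm (m ⊗ₜ[K] y))) =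
      (TensorProduct.assoc R M' (R ⊗[K] A) (R ⊗[K] A)).symm
        (ψ (r ⊗ₜ[K] m) ⊗ₜ[R] (AlgebraTensorModule.distribBaseChange K R A A ((1 : R) ⊗ₜ[K] y))) := by
  induction y using TensorProduct.induction_on with
  | zero => simp
  | add x y hx hy => simp only [tmul_add, map_add, hx, hy]
  | tmul a b =>
    rw [TensorProduct.assoc_symm_tmul, ext_tmul, ext_tmul,
      AlgebraTensorModule.distribBaseChange_tmul, TensorProduct.assoc_symm_tmul]

theorem redComul_one_tmul (a : A) :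
    Hoch.redComul R (R ⊗[K] A) ((1 : R) ⊗ₜ[K] a) =
      AlgebraTensorModule.distribBaseChange K R A A ((1 : R) ⊗ₜ[K] (Hoch.redComul K A a)) := by
  rw [Hoch.redComul_apply, Hoch.redComul_apply, tmul_sub, tmul_sub, map_sub, map_sub,
    AlgebraTensorModule.distribBaseChange_tmul, AlgebraTensorModule.distribBaseChange_tmul]
  congr 2
  rw [TensorProduct.comul_tmul]
  generalize Coalgebra.comul (R := K) a = y
  induction y using TensorProduct.induction_on with
  | zero => simp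
  | add x y hx hy => simp only [tmul_add, map_add, hx, hy]
  | tmul a b =>
    rfl

end Tail

section Tail2

variable (K : Type u) [Field K] (R : Type w) [CommRing R] [Algebra K R]
variable (A : Type v) [CommRing A] [HopfAlgebra K A]
variable {M : Type v} [AddCommGroup M] [Module K M]
variable {M' : Type (max w v)} [AddCommGroup M'] [Module R M']

theorem ext_ext_tail (ψ : R ⊗[K] M →ₗ[R] M') (r : R) (m : M) (a : A) :
    ext K R A (ext K R A ψ) (r ⊗ₜ[K] (Hoch.tail K A M (m ⊗ₜ[K] a))) =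
      Hoch.tail R (R ⊗[K] A) M' (ψ (r ⊗ₜ[K] m) ⊗ₜ[R] ((1 : R) ⊗ₜ[K] a)) := by
  have h1 : Hoch.tail K A M (m ⊗ₜ[K] a) =
      (TensorProduct.assoc K M A A).symm (m ⊗ₜ[K] Hoch.redComul K A a) := rfl
  have h2 : Hoch.tail R (R ⊗[K] A) M' (ψ (r ⊗ₜ[K] m) ⊗ₜ[R] ((1 : R) ⊗ₜ[K] a)) =
      (TensorProduct.assoc R M' (R ⊗[K] A) (R ⊗[K] A)).symm
        (ψ (r ⊗ₜ[K] m) ⊗ₜ[R] Hoch.redComul R (R ⊗[K] A) ((1 : R) ⊗ₜ[K] a)) := rfl
  rw [h1, h2, ext_ext_assoc, redComul_one_tmul]

end Tail2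

section Phi

variable (K : Type u) [Field K] (R : Type w) [CommRing R] [Algebra K R]
variable (A : Type v) [CommRing A] [HopfAlgebra K A]
variable (V : Type v) [AddCommGroup V] [Module K V]

/-- The canonical comparison maps of cochain modules. -/
noncomputable def Phi : (n : ℕ) →
    (R ⊗[K] (Hoch.cochain K A V n) →ₗ[R] (Hoch.cochain R (R ⊗[K] A) (R ⊗[K] V) n))
  | 0 => LinearMap.id
  | n + 1 => ext K R A (Phi n)

theorem Phi_zero (x : R ⊗[K] V) : Phi K R A V 0 x = x := rfl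

theorem Phi_succ (n : ℕ) : Phi K R A V (n + 1) = ext K R A (Phi K R A V n) := rfl

theorem Phi_bijective (n : ℕ) : Function.Bijective (Phi K R A V n) := by
  induction n with
  | zero => exact Function.bijective_id
  | succ n ih => exact ext_bijective K R A _ ih

theorem eq_Phi
    (φ : ∀ n : ℕ, R ⊗[K] (Hoch.cochain K A V n) →ₗ[R] (Hoch.cochain R (R ⊗[K] A) (R ⊗[K] V) n))
    (hφ0 : ∀ x : R ⊗[K] V, φ 0 x = x)
    (hφs : ∀ (n : ℕ) (r : R) (c : Hoch.cochain K A V n) (a : A),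
      φ (n + 1) (r ⊗ₜ[K] (c ⊗ₜ[K] a)) = (φ n (r ⊗ₜ[K] c)) ⊗ₜ[R] ((1 : R) ⊗ₜ[K] a)) (n : ℕ) :
    φ n = Phi K R A V n := by
  induction n with
  | zero => exact LinearMap.ext hφ0
  | succ n ih =>
    rw [Phi_succ, ← ih]
    exact eq_ext K R A (φ n) (φ (n + 1)) (hφs n)

variable [HopfRep.Comod K A V]

theorem Phi_one_coact (r : R) (y : V ⊗[K] A) :
    ext K R A (LinearMap.id : R ⊗[K] V →ₗ[R] R ⊗[K] V) (r ⊗ₜ[K] y) =
      AlgebraTensorModule.tensorTensorTensorComm K R K R R R V A (((1 : R) ⊗ₜ[R] r) ⊗ₜ[K] y) := by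
  induction y using TensorProduct.induction_on with
  | zero => simp
  | add x y hx hy => simp only [tmul_add, map_add, hx, hy]
  | tmul v a =>
    rw [ext_tmul, AlgebraTensorModule.tensorTensorTensorComm_tmul, LinearMap.id_apply]
    have e1 : r ⊗ₜ[K] v = r • ((1 : R) ⊗ₜ[K] v) := by
      rw [smul_tmul', smul_eq_mul, mul_one]
    have e2 : r ⊗ₜ[K] a = r • ((1 : R) ⊗ₜ[K] a) := by
      rw [smul_tmul', smul_eq_mul, mul_one]
    rw [e1, e2, smul_tmul]

theorem Phi_d (n : ℕ) (x : R ⊗[K] (Hoch.cochain K A V n)) :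
    letI := CoactBr.Comod.baseChange K R A V
    Phi K R A V (n + 1) ((Hoch.d K A V n).baseChange R x) =
      Hoch.d R (R ⊗[K] A) (R ⊗[K] V) n (Phi K R A V n x) := by
  letI := CoactBr.Comod.baseChange K R A V
  induction n with
  | zero =>
    induction x using TensorProduct.induction_on with
    | zero => simp
    | add x y hx hy => simp only [map_add, hx, hy]
    | tmul r v =>
      rw [LinearMap.baseChange_tmul, Hoch.d_zero_apply, tmul_sub, map_sub, Phi_zero]
      rw [Hoch.d_zero_apply]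
      congr 1
      rw [Phi_succ]
      exact Phi_one_coact K R A V r _
  | succ n ih =>
    have key : (Phi K R A V (n + 2)) ∘ₗ ((Hoch.d K A V (n + 1)).baseChange R) =
        (Hoch.d R (R ⊗[K] A) (R ⊗[K] V) (n + 1)) ∘ₗ (Phi K R A V (n + 1)) := by
      apply ext_pure K R A
      intro r c a
      rw [LinearMap.comp_apply, LinearMap.comp_apply, LinearMap.baseChange_tmul, Hoch.d_succ,
        Hoch.d_succ, LinearMap.add_apply, LinearMap.add_apply, LinearMap.rTensor_tmul,
        tmul_add, map_add, Phi_succ K R A V (n + 1), ext_tmul, Phi_succ K R A V n, ext_tmul,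
        LinearMap.rTensor_tmul]
      have ih' := ih (r ⊗ₜ[K] c)
      rw [LinearMap.baseChange_tmul, Phi_succ] at ih'
      rw [ih']
      congr 1
      rw [LinearMap.smul_apply, LinearMap.smul_apply, ← ext_ext_tail]
      rcases Nat.even_or_odd (n + 1) with h | h
      · rw [h.neg_one_pow, h.neg_one_pow, one_smul, one_smul]
      · rw [h.neg_one_pow, h.neg_one_pow, neg_smul, neg_smul, one_smul, one_smul, tmul_neg,
          map_neg]
    exact LinearMap.congr_fun key x

end Phi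

end Groth.Agent.Lib.Seat95.HochBC2
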