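import Mathlib
import Groth.Prelude.Def_CurvBase

set_option autoImplicit false
universe u

open Polynomial MvPolynomial IntermediateField AlgebraicGeometry CategoryTheory

namespace Groth.Agent.Lib.Seat95.HypModel

section partI

variable {k K : Type u} [Field k] [Field K] [Algebra k K] {d : ℕ} (s : Fin d → K)

theorem exists_hypersurface_model (hs : IsTranscendenceBasis k s)
    (hsep : Algebra.IsSeparable (IntermediateField.adjoin k (Set.range s)) K)
    [Algebra.EssFiniteType k K] :
    ∃ (g : Polynomial (MvPolynomial (Fin d) k)) (ψ : AdjoinRoot g →ₐ[k] K), g.Monic ∧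
      Irreducible (g.map (algebraMap _ (FractionRing (MvPolynomial (Fin d) k)))) ∧
      (g.map (algebraMap _ (FractionRing (MvPolynomial (Fin d) k)))).Separable ∧
      Function.Injective ψ ∧ ∀ x : K, ∃ a b : AdjoinRoot g, b ≠ 0 ∧ x * ψ b = ψ a := by
  classical
  have hai : AlgebraicIndependent k s := hs.1
  have hinj : Function.Injective (MvPolynomial.aeval s : MvPolynomial (Fin d) k →ₐ[k] K) :=
    algebraicIndependent_iff_injective_aeval.mp hai
  letI algPK : Algebra (MvPolynomial (Fin d) k) K :=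
    (MvPolynomial.aeval s : MvPolynomial (Fin d) k →ₐ[k] K).toRingHom.toAlgebra
  haveI : IsScalarTower k (MvPolynomial (Fin d) k) K :=
    IsScalarTower.of_algebraMap_eq fun c =>
      ((MvPolynomial.aeval s : MvPolynomial (Fin d) k →ₐ[k] K).commutes c).symm
  have hinj' : Function.Injective (algebraMap (MvPolynomial (Fin d) k) K) := hinj
  letI algFK : Algebra (FractionRing (MvPolynomial (Fin d) k)) K :=
    (IsFractionRing.lift (K := FractionRing (MvPolynomial (Fin d) k)) hinj').toAlgebra
  haveI : IsScalarTower (MvPolynomial (Fin d) k) (FractionRing (MvPolynomial (Fin d) k)) K :=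
    IsScalarTower.of_algebraMap_eq fun x => (IsFractionRing.lift_algebraMap hinj' x).symm
  haveI : IsScalarTower k (FractionRing (MvPolynomial (Fin d) k)) K :=
    IsScalarTower.of_algebraMap_eq fun c => by
      rw [IsScalarTower.algebraMap_apply k (MvPolynomial (Fin d) k)
        (FractionRing (MvPolynomial (Fin d) k)),
        ← IsScalarTower.algebraMap_apply (MvPolynomial (Fin d) k)
          (FractionRing (MvPolynomial (Fin d) k)) K,
        ← IsScalarTower.algebraMap_apply k (MvPolynomial (Fin d) k) K]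
  -- abbreviations
  set P := MvPolynomial (Fin d) k with hP
  set F := FractionRing P with hF
  -- separability over F
  haveI : Algebra.IsSeparable F K := by
    refine Algebra.IsSeparable.of_equiv_equiv
      (hai.aevalEquivField.symm : ↥(IntermediateField.adjoin k (Set.range s)) ≃+* F)
      (RingEquiv.refl K) ?_
    ext p
    simp only [RingHom.comp_apply, RingHom.coe_coe, RingEquiv.refl_apply]
    exact hai.lift_reprField p
  haveI : Algebra.EssFiniteType F K := Algebra.EssFiniteType.of_comp k F K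
  haveI : Algebra.FormallyUnramified F K := Algebra.FormallyUnramified.of_isSeparable F K
  haveI : Module.Finite F K := Algebra.FormallyUnramified.finite_of_free F K
  obtain ⟨α, hα⟩ := Field.exists_primitive_element F K
  have halg : IsAlgebraic P α :=
    (IsFractionRing.isAlgebraic_iff P F K).mpr (Algebra.IsAlgebraic.isAlgebraic α)
  obtain ⟨r, hr0, hrint⟩ := halg.exists_integral_multiple
  set θ : K := r • α with hθ
  have hc0 : algebraMap P F r ≠ 0 := by
    rwa [Ne, FaithfulSMul.algebraMap_eq_zero_iff]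
  have hθtop : F⟮θ⟯ = ⊤ := by
    rw [eq_top_iff, ← hα, IntermediateField.adjoin_simple_le_iff]
    have h1 : (algebraMap P F r)⁻¹ • θ ∈ F⟮θ⟯ :=
      (F⟮θ⟯).smul_mem (IntermediateField.mem_adjoin_simple_self F θ)
    have h2 : (algebraMap P F r)⁻¹ • θ = α := by
      rw [hθ, ← IsScalarTower.algebraMap_smul F r α, smul_smul, inv_mul_cancel₀ hc0, one_smul]
    rwa [h2] at h1
  haveI : FaithfulSMul P K := (faithfulSMul_iff_algebraMap_injective P K).mpr hinj'
  have hθF : IsIntegral F θ := hrint.tower_top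
  have hmap : (minpoly P θ).map (algebraMap P F) = minpoly F θ :=
    (minpoly.isIntegrallyClosed_eq_field_fractions' F hrint).symm
  -- the map ψ
  let ψP : AdjoinRoot (minpoly P θ) →ₐ[P] K :=
    (Subalgebra.val _).comp (minpoly.equivAdjoin hrint).toAlgHom
  have hψPinj : Function.Injective ψP :=
    Subtype.val_injective.comp (minpoly.equivAdjoin hrint).injective
  have hψmk : ∀ q : Polynomial P, ψP (AdjoinRoot.mk (minpoly P θ) q) = Polynomial.aeval θ q := by
    intro q
    have h1 : ψP.comp (AdjoinRoot.mkₐ (minpoly P θ)) = Polynomial.aeval θ := by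
      apply Polynomial.algHom_ext
      simp [ψP]
    exact congrArg (fun φ => φ q) h1
  refine ⟨minpoly P θ, ψP.restrictScalars k, minpoly.monic hrint, ?_, ?_, hψPinj, ?_⟩
  · rw [hmap]; exact minpoly.irreducible hθF
  · rw [hmap]; exact Algebra.IsSeparable.isSeparable F θ
  · intro x
    have hx : x ∈ F⟮θ⟯ := hθtop ▸ IntermediateField.mem_top
    have hx' : x ∈ (F⟮θ⟯).toSubalgebra := hx
    rw [IntermediateField.adjoin_simple_toSubalgebra_of_isAlgebraic hθF.isAlgebraic,
      Algebra.adjoin_singleton_eq_range_aeval] at hx'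
    obtain ⟨q, rfl⟩ := hx'
    obtain ⟨b₀, hb₀M, hb₀⟩ := IsLocalization.integerNormalization_spec (nonZeroDivisors P) q
    have hb₀ne : b₀ ≠ 0 := nonZeroDivisors.ne_zero hb₀M
    refine ⟨AdjoinRoot.mk (minpoly P θ) (IsLocalization.integerNormalization (nonZeroDivisors P) q),
      algebraMap P _ b₀, ?_, ?_⟩
    · intro h0
      have h1 : ψP (algebraMap P _ b₀) = 0 := by rw [h0, map_zero]
      rw [ψP.commutes] at h1
      exact hb₀ne ((FaithfulSMul.algebraMap_eq_zero_iff P K).mp h1)
    · have h3 : Polynomial.aeval θ (b₀ • q) = algebraMap P K b₀ * Polynomial.aeval θ q := by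
        rw [← IsScalarTower.algebraMap_smul F b₀ q, map_smul, Algebra.smul_def,
          ← IsScalarTower.algebraMap_apply]
      show _ * ψP _ = ψP _
      rw [hψmk, ψP.commutes, ← Polynomial.aeval_map_algebraMap F, hb₀, h3, mul_comm]
      rfl

end partI


section partII

variable {k A K : Type*} [Field k] [CommRing A] [IsDomain A] [Algebra k A] [Field K] [Algebra k K]
  (α : A →ₐ[k] K)

/-- the subalgebra `A[1/a]` of `K`. -/
def LA (a : A) : Subalgebra k K := Algebra.adjoin k ((α.range : Set K) ∪ {(α a)⁻¹})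

theorem range_le_LA (a : A) : α.range ≤ LA α a :=
  fun _ hx => Algebra.subset_adjoin (Or.inl hx)

theorem inv_mem_LA (a : A) : (α a)⁻¹ ∈ LA α a :=
  Algebra.subset_adjoin (Or.inr rfl)

theorem exists_of_mem_LA (a : A) {x : K} (hx : x ∈ LA α a) : ∃ (n : ℕ) (c : A), x * α a ^ n = α c := by
  by_cases ha : α a = 0
  · exact ⟨1, 0, by simp [ha]⟩
  induction hx using Algebra.adjoin_induction with
  | mem x hx =>
    rcases hx with ⟨c, rfl⟩ | hx
    · exact ⟨0, c, by simp⟩
    · rw [Set.mem_singleton_iff] at hx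
      exact ⟨1, 1, by rw [hx, pow_one, inv_mul_cancel₀ ha, map_one]⟩
  | algebraMap r => exact ⟨0, algebraMap k A r, by simp⟩
  | add x y _ _ hx hy =>
    obtain ⟨n, c, hc⟩ := hx
    obtain ⟨m, c', hc'⟩ := hy
    refine ⟨n + m, c * a ^ m + c' * a ^ n, ?_⟩
    rw [map_add, map_mul, map_mul, map_pow, map_pow, ← hc, ← hc', pow_add]
    ring
  | mul x y _ _ hx hy =>
    obtain ⟨n, c, hc⟩ := hx
    obtain ⟨m, c', hc'⟩ := hy
    refine ⟨n + m, c * c', ?_⟩
    rw [map_mul, ← hc, ← hc', pow_add]
    ring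

theorem LA_mono {a a' : A} (h : a ∣ a') (ha' : α a' ≠ 0) : LA α a ≤ LA α a' := by
  obtain ⟨c, rfl⟩ := h
  apply Algebra.adjoin_le
  rintro x (hx | hx)
  · exact range_le_LA α _ hx
  · rw [Set.mem_singleton_iff] at hx
    rw [hx]
    have h1 : (α a)⁻¹ = α c * (α (a * c))⁻¹ := by
      rw [map_mul] at ha' ⊢
      have ha0 : α a ≠ 0 := left_ne_zero_of_mul ha'
      have hc0 : α c ≠ 0 := right_ne_zero_of_mul ha'
      field_simp
    rw [h1]
    exact (LA α (a * c)).mul_mem (range_le_LA α _ ⟨c, rfl⟩) (inv_mem_LA α _)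

theorem nonempty_away_equiv_LA (hα : Function.Injective α) (a : A) (ha : a ≠ 0) :
    Nonempty (Localization.Away a ≃ₐ[k] LA α a) := by
  have hu : ∀ y : Submonoid.powers a, IsUnit (α.toRingHom y) := by
    rintro ⟨_, n, rfl⟩
    refine IsUnit.mk0 _ ?_
    show α (a ^ n) ≠ 0
    rw [map_pow]
    exact pow_ne_zero _ ((map_ne_zero_iff α hα).mpr ha)
  let ι : Localization.Away a →ₐ[k] K :=
    { IsLocalization.lift (M := Submonoid.powers a) (S := Localization.Away a) hu with
      commutes' := fun r => by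
        show IsLocalization.lift hu (algebraMap k (Localization.Away a) r) = algebraMap k K r
        rw [IsScalarTower.algebraMap_apply k A (Localization.Away a), IsLocalization.lift_eq]
        exact α.commutes r }
  have hιa : ∀ c : A, ι (algebraMap A _ c) = α c := fun c => IsLocalization.lift_eq hu c
  have hinjA : Function.Injective (algebraMap A (Localization.Away a)) :=
    IsLocalization.injective (Localization.Away a)
      (powers_le_nonZeroDivisors_of_noZeroDivisors ha)
  have hιinj : Function.Injective ι := by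
    show Function.Injective (IsLocalization.lift hu)
    rw [IsLocalization.lift_injective_iff]
    intro x y
    exact ⟨fun h => by rw [hinjA h], fun h => by
      have : x = y := hα h
      rw [this]⟩
  have ha0 : α a ≠ 0 := (map_ne_zero_iff α hα).mpr ha
  have hrange : ι.range = LA α a := by
    apply le_antisymm
    · rintro _ ⟨y, rfl⟩
      obtain ⟨c, ⟨_, n, rfl⟩, rfl⟩ := IsLocalization.exists_mk'_eq (Submonoid.powers a) y
      let sn : Submonoid.powers a := ⟨a ^ n, n, rfl⟩
      have h1 : ι (IsLocalization.mk' (Localization.Away a) c sn) * α a ^ n = α c := by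
        rw [← map_pow, ← hιa (a ^ n), ← map_mul, ← hιa c]
        congr 1
        exact IsLocalization.mk'_spec _ c sn
      have h2 : ι (IsLocalization.mk' (Localization.Away a) c sn) =
          α c * ((α a)⁻¹) ^ n := by
        rw [← h1, mul_assoc, ← mul_pow, mul_inv_cancel₀ ha0, one_pow, mul_one]
      show ι (IsLocalization.mk' (Localization.Away a) c sn) ∈ LA α a
      rw [h2]
      exact (LA α a).mul_mem (range_le_LA α _ ⟨c, rfl⟩) ((LA α a).pow_mem (inv_mem_LA α a) n)
    · apply Algebra.adjoin_le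
      rintro x (⟨c, rfl⟩ | hx)
      · exact ⟨algebraMap A _ c, hιa c⟩
      · rw [Set.mem_singleton_iff] at hx
        let s1 : Submonoid.powers a := ⟨a, 1, pow_one a⟩
        refine ⟨IsLocalization.mk' (Localization.Away a) 1 s1, ?_⟩
        rw [hx]
        have h1 : ι (IsLocalization.mk' (Localization.Away a) 1 s1) * α a = 1 := by
          rw [← hιa a, ← map_mul]
          have := IsLocalization.mk'_spec (Localization.Away a) (1 : A) s1
          rw [show (s1 : A) = a from rfl] at this
          rw [this, map_one, map_one]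
        exact eq_inv_of_mul_eq_one_left h1
  exact ⟨(AlgEquiv.ofInjective ι hιinj).trans (Subalgebra.equivOfEq _ _ hrange)⟩

theorem exists_range_le_LA (hα : Function.Injective α) {B : Type*} [CommRing B] [Algebra k B]
    [Algebra.FiniteType k B] (β : B →ₐ[k] K)
    (hA : ∀ x : K, ∃ a a' : A, a' ≠ 0 ∧ x * α a' = α a) :
    ∃ a₁ : A, a₁ ≠ 0 ∧ β.range ≤ LA α a₁ := by
  classical
  obtain ⟨T, hT⟩ := (Algebra.FiniteType.out : (⊤ : Subalgebra k B).FG)
  choose c c' hc' hc using fun t : B => hA (β t)
  have ha₁ : (∏ t ∈ T, c' t) ≠ 0 := Finset.prod_ne_zero_iff.mpr fun t _ => hc' t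
  refine ⟨∏ t ∈ T, c' t, ha₁, ?_⟩
  have hαa₁ : α (∏ t ∈ T, c' t) ≠ 0 := (map_ne_zero_iff α hα).mpr ha₁
  rw [← Algebra.map_top, ← hT, AlgHom.map_adjoin]
  apply Algebra.adjoin_le
  rintro _ ⟨t, ht, rfl⟩
  have hc't : α (c' t) ≠ 0 := (map_ne_zero_iff α hα).mpr (hc' t)
  have h1 : β t = α (c t) * (α (c' t))⁻¹ := by
    rw [← hc t, mul_assoc, mul_inv_cancel₀ hc't, mul_one]
  show β t ∈ LA α _
  rw [h1]
  exact (LA α _).mul_mem (range_le_LA α _ ⟨c t, rfl⟩)
    (LA_mono α (Finset.dvd_prod_of_mem c' ht) hαa₁ (inv_mem_LA α (c' t)))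

end partII

section partII'

variable {k A B K : Type*} [Field k] [CommRing A] [IsDomain A] [Algebra k A]
  [Algebra.FiniteType k A] [CommRing B] [IsDomain B] [Algebra k B] [Algebra.FiniteType k B]
  [Field K] [Algebra k K] (α : A →ₐ[k] K) (β : B →ₐ[k] K)

include α β in
theorem exists_common_localization (hα : Function.Injective α) (hβ : Function.Injective β)
    (hA : ∀ x : K, ∃ a a' : A, a' ≠ 0 ∧ x * α a' = α a)
    (hB : ∀ x : K, ∃ b b' : B, b' ≠ 0 ∧ x * β b' = β b) :
    ∃ (a : A) (b : B), a ≠ 0 ∧ b ≠ 0 ∧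
      Nonempty (Localization.Away a ≃ₐ[k] Localization.Away b) := by
  obtain ⟨a₁, ha₁, hβa₁⟩ := exists_range_le_LA α hα β hA
  obtain ⟨b₁, hb₁, hαb₁⟩ := exists_range_le_LA β hβ α hB
  have hαa₁ : α a₁ ≠ 0 := (map_ne_zero_iff α hα).mpr ha₁
  have hβb₁ : β b₁ ≠ 0 := (map_ne_zero_iff β hβ).mpr hb₁
  -- β b₁ = α c / α a₁ ^ n
  obtain ⟨n, c, hc⟩ := exists_of_mem_LA α a₁ (hβa₁ ⟨b₁, rfl⟩)
  replace hc : β b₁ * α a₁ ^ n = α c := hc
  have hαc : α c ≠ 0 := by
    rw [← hc]; exact mul_ne_zero hβb₁ (pow_ne_zero _ hαa₁)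
  have hc0 : c ≠ 0 := fun h => hαc (by rw [h, map_zero])
  set a : A := a₁ * c with ha
  have ha0 : a ≠ 0 := mul_ne_zero ha₁ hc0
  have hαa : α a ≠ 0 := (map_ne_zero_iff α hα).mpr ha0
  -- α a = β e' / β b₁ ^ m
  obtain ⟨m, e', he'⟩ := exists_of_mem_LA β b₁ (hαb₁ ⟨a, rfl⟩)
  replace he' : α a * β b₁ ^ m = β e' := he'
  have hβe' : β e' ≠ 0 := by
    rw [← he']; exact mul_ne_zero hαa (pow_ne_zero _ hβb₁)
  have he'0 : e' ≠ 0 := fun h => hβe' (by rw [h, map_zero])
  set b : B := b₁ * e' with hb
  have hb0 : b ≠ 0 := mul_ne_zero hb₁ he'0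
  have hβb : β b ≠ 0 := (map_ne_zero_iff β hβ).mpr hb0
  -- the two subalgebras agree
  have h1 : LA α a₁ ≤ LA α a := LA_mono α (Dvd.intro c rfl) hαa
  have h2 : LA β b₁ ≤ LA β b := LA_mono β (Dvd.intro e' rfl) hβb
  have hinvb₁ : (β b₁)⁻¹ ∈ LA α a := by
    have : (β b₁)⁻¹ = α a₁ ^ n * (α c)⁻¹ := by
      rw [← hc]; field_simp
    rw [this]
    exact (LA α a).mul_mem ((LA α a).pow_mem (range_le_LA α a ⟨a₁, rfl⟩) n)
      (LA_mono α (Dvd.intro_left a₁ rfl) hαa (inv_mem_LA α c))
  have hinva : (α a)⁻¹ ∈ LA β b := by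
    have : (α a)⁻¹ = β b₁ ^ m * (β e')⁻¹ := by
      rw [← he']; field_simp
    rw [this]
    exact (LA β b).mul_mem ((LA β b).pow_mem (range_le_LA β b ⟨b₁, rfl⟩) m)
      (LA_mono β (Dvd.intro_left b₁ rfl) hβb (inv_mem_LA β e'))
  have hinve' : (β e')⁻¹ ∈ LA α a := by
    have : (β e')⁻¹ = (α a)⁻¹ * ((β b₁)⁻¹) ^ m := by
      rw [← he', mul_inv, inv_pow]
    rw [this]
    exact (LA α a).mul_mem (inv_mem_LA α a) ((LA α a).pow_mem hinvb₁ m)
  have heq : LA α a = LA β b := by
    apply le_antisymm
    · apply Algebra.adjoin_le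
      rintro x (hx | hx)
      · exact h2 (hαb₁ hx)
      · rw [Set.mem_singleton_iff] at hx
        rw [hx]; exact hinva
    · apply Algebra.adjoin_le
      rintro x (hx | hx)
      · exact h1 (hβa₁ hx)
      · rw [Set.mem_singleton_iff] at hx
        rw [hx, hb, map_mul, mul_inv]
        exact (LA α a).mul_mem hinvb₁ hinve'
  obtain ⟨e₁⟩ := nonempty_away_equiv_LA α hα a ha0
  obtain ⟨e₂⟩ := nonempty_away_equiv_LA β hβ b hb0
  exact ⟨a, b, ha0, hb0, ⟨(e₁.trans (Subalgebra.equivOfEq _ _ heq)).trans e₂.symm⟩⟩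

end partII'


section partIII

attribute [local instance] Curv2.stalkAlgebra

variable (k : Type u) [Field k] (X : Scheme.{u}) [X.Over (Spec (CommRingCat.of k))] [IsIntegral X]
  [LocallyOfFiniteType (X ↘ Spec (CommRingCat.of k))]

theorem main_aux (W : X.Opens) (hW : IsAffineOpen W) (hηW : genericPoint X ∈ W)
    (d : ℕ) (s : Fin d → X.presheaf.stalk (genericPoint X)) (hs : IsTranscendenceBasis k s)
    (hsep : Algebra.IsSeparable ↥(IntermediateField.adjoin k (Set.range s))
      (X.presheaf.stalk (genericPoint X))) :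
    ∃ (g : Polynomial (MvPolynomial (Fin d) k)), g.Monic ∧
      Irreducible (g.map (algebraMap (MvPolynomial (Fin d) k)
        (FractionRing (MvPolynomial (Fin d) k)))) ∧
      (g.map (algebraMap (MvPolynomial (Fin d) k)
        (FractionRing (MvPolynomial (Fin d) k)))).Separable ∧
      ∃ (U : X.Opens) (V : (Spec (CommRingCat.of (AdjoinRoot g))).Opens)
        (e : (U : Scheme.{u}) ≅ (V : Scheme.{u})),
        (U : Set X).Nonempty ∧ (V : Set (Spec (CommRingCat.of (AdjoinRoot g)))).Nonempty ∧
        e.hom ≫ V.ι ≫ Spec.map (CommRingCat.ofHom (algebraMap k (AdjoinRoot g))) =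
          U.ι ≫ (X ↘ Spec (CommRingCat.of k)) := by
  haveI : Nonempty W := ⟨⟨_, hηW⟩⟩
  let ρ : k →+* Γ(X, W) := ((X ↘ Spec (CommRingCat.of k)).appLE ⊤ W le_top).hom.comp
    (Scheme.ΓSpecIso (CommRingCat.of k)).inv.hom
  letI algkA : Algebra k Γ(X, W) := ρ.toAlgebra
  haveI : IsFractionRing Γ(X, W) X.functionField :=
    functionField_isFractionRing_of_isAffineOpen X W hW
  haveI : IsScalarTower k Γ(X, W) (X.presheaf.stalk (genericPoint X)) := by
    refine IsScalarTower.of_algebraMap_eq fun c => ?_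
    show (Curv2.stalkMap k X (genericPoint X)) c =
      (X.presheaf.germ W (genericPoint X) hηW).hom (ρ c)
    simp only [Curv2.stalkMap, Coh.toGlobal, RingHom.comp_apply, ρ]
    exact (TopCat.Presheaf.germ_res_apply X.presheaf (homOfLE (le_top : W ≤ ⊤))
      (genericPoint X) hηW _).symm
  haveI : Algebra.FiniteType k Γ(X, W) := by
    have h1 : ((X ↘ Spec (CommRingCat.of k)).appLE ⊤ W le_top).hom.FiniteType :=
      (X ↘ Spec (CommRingCat.of k)).finiteType_appLE (isAffineOpen_top _) hW le_top
    have h2 : ρ.FiniteType := h1.comp (RingHom.FiniteType.of_surjective _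
      (ConcreteCategory.bijective_of_isIso (Scheme.ΓSpecIso (CommRingCat.of k)).inv).2)
    exact h2
  haveI : Algebra.EssFiniteType Γ(X, W) (X.presheaf.stalk (genericPoint X)) :=
    Algebra.EssFiniteType.of_isLocalization (X.presheaf.stalk (genericPoint X))
      (nonZeroDivisors Γ(X, W))
  haveI : Algebra.EssFiniteType k (X.presheaf.stalk (genericPoint X)) :=
    Algebra.EssFiniteType.comp k Γ(X, W) _
  obtain ⟨g, ψ, hmonic, hirr, hsepg, hψinj, hψfrac⟩ := exists_hypersurface_model s hs hsep
  haveI : IsDomain (AdjoinRoot g) := Function.Injective.isDomain ψ.toRingHom hψinj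
  haveI : Algebra.FiniteType k (AdjoinRoot g) := by
    haveI : Algebra.FiniteType k (Polynomial (MvPolynomial (Fin d) k)) :=
      Algebra.FiniteType.trans (inferInstance : Algebra.FiniteType k (MvPolynomial (Fin d) k))
        inferInstance
    exact Algebra.FiniteType.of_surjective ((AdjoinRoot.mkₐ g).restrictScalars k)
      AdjoinRoot.mk_surjective
  let α : Γ(X, W) →ₐ[k] X.presheaf.stalk (genericPoint X) := IsScalarTower.toAlgHom k _ _
  have hαinj : Function.Injective α := IsFractionRing.injective Γ(X, W) X.functionField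
  have hαfrac : ∀ x : X.presheaf.stalk (genericPoint X), ∃ a a' : Γ(X, W), a' ≠ 0 ∧
      x * α a' = α a := by
    intro x
    obtain ⟨⟨a, a'⟩, h⟩ := IsLocalization.surj (nonZeroDivisors Γ(X, W)) (S := X.functionField) x
    exact ⟨a, a', nonZeroDivisors.ne_zero a'.2, h⟩
  obtain ⟨a, b, ha, hb, ⟨e₀⟩⟩ := exists_common_localization α ψ hαinj hψinj hαfrac hψfrac
  refine ⟨g, hmonic, hirr, hsepg, ?_⟩
  -- the two open immersions
  let jA : Spec (CommRingCat.of (Localization.Away a)) ⟶ X :=
    Spec.map (CommRingCat.ofHom (algebraMap Γ(X, W) (Localization.Away a))) ≫ hW.fromSpec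
  let jB : Spec (CommRingCat.of (Localization.Away b)) ⟶ Spec (CommRingCat.of (AdjoinRoot g)) :=
    Spec.map (CommRingCat.ofHom (algebraMap (AdjoinRoot g) (Localization.Away b)))
  haveI : IsOpenImmersion jA := inferInstance
  haveI : IsOpenImmersion jB := inferInstance
  let φ : Spec (CommRingCat.of (Localization.Away a)) ≅ Spec (CommRingCat.of (Localization.Away b)) :=
    Scheme.Spec.mapIso (e₀.symm.toRingEquiv.toCommRingCatIso).op
  haveI : Nontrivial (Localization.Away a) :=
    (IsLocalization.injective (Localization.Away a)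
      (powers_le_nonZeroDivisors_of_noZeroDivisors ha)).nontrivial
  haveI : Nontrivial (Localization.Away b) :=
    (IsLocalization.injective (Localization.Away b)
      (powers_le_nonZeroDivisors_of_noZeroDivisors hb)).nontrivial
  refine ⟨jA.opensRange, jB.opensRange,
    jA.isoOpensRange.symm ≪≫ φ ≪≫ jB.isoOpensRange, ?_, ?_, ?_⟩
  · obtain ⟨x⟩ := (inferInstance : Nonempty (PrimeSpectrum (Localization.Away a)))
    exact ⟨jA x, x, rfl⟩
  · obtain ⟨x⟩ := (inferInstance : Nonempty (PrimeSpectrum (Localization.Away b)))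
    exact ⟨jB x, x, rfl⟩
  · have hφ : φ.hom = Spec.map (CommRingCat.ofHom
        (e₀.symm : Localization.Away b →+* Localization.Away a)) := rfl
    have hL : φ.hom ≫ jB ≫ Spec.map (CommRingCat.ofHom (algebraMap k (AdjoinRoot g))) =
        Spec.map (CommRingCat.ofHom (algebraMap k (Localization.Away a))) := by
      rw [hφ, ← Spec.map_comp, ← Spec.map_comp]
      congr 1
      ext c
      show (e₀.symm : Localization.Away b →+* Localization.Away a)
        (algebraMap (AdjoinRoot g) (Localization.Away b) (algebraMap k (AdjoinRoot g) c)) = _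
      rw [← IsScalarTower.algebraMap_apply k (AdjoinRoot g) (Localization.Away b)]
      exact e₀.symm.commutes c
    have hR : jA ≫ (X ↘ Spec (CommRingCat.of k)) =
        Spec.map (CommRingCat.ofHom (algebraMap k (Localization.Away a))) := by
      show (Spec.map _ ≫ hW.fromSpec) ≫ _ = _
      rw [Category.assoc, ← IsAffineOpen.SpecMap_appLE_fromSpec (X ↘ Spec (CommRingCat.of k))
        (isAffineOpen_top _) hW le_top, IsAffineOpen.fromSpec_top, Scheme.isoSpec_Spec_inv,
        ← Spec.map_comp, ← Spec.map_comp]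
      congr 1
    simp only [Iso.trans_hom, Iso.symm_hom, Category.assoc]
    rw [Scheme.Hom.isoOpensRange_hom_ι_assoc, hL, ← Scheme.Hom.isoOpensRange_inv_comp jA,
      Category.assoc]
    rw [hR]

/-- Every integral finite-type `k`-scheme whose function field has a separating transcendence
basis of size `d` has a nonempty open isomorphic (over `k`) to a nonempty open of a monic
hypersurface `Spec k[t₁,…,t_d][T]/(g)`. -/
theorem main (d : ℕ) (s : Fin d → X.presheaf.stalk (genericPoint X))
    (hs : IsTranscendenceBasis k s)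
    (hsep : Algebra.IsSeparable ↥(IntermediateField.adjoin k (Set.range s))
      (X.presheaf.stalk (genericPoint X))) :
    ∃ (g : Polynomial (MvPolynomial (Fin d) k)), g.Monic ∧
      Irreducible (g.map (algebraMap (MvPolynomial (Fin d) k)
        (FractionRing (MvPolynomial (Fin d) k)))) ∧
      (g.map (algebraMap (MvPolynomial (Fin d) k)
        (FractionRing (MvPolynomial (Fin d) k)))).Separable ∧
      ∃ (U : X.Opens) (V : (Spec (CommRingCat.of (AdjoinRoot g))).Opens)
        (e : (U : Scheme.{u}) ≅ (V : Scheme.{u})),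
        (U : Set X).Nonempty ∧ (V : Set (Spec (CommRingCat.of (AdjoinRoot g)))).Nonempty ∧
        e.hom ≫ V.ι ≫ Spec.map (CommRingCat.ofHom (algebraMap k (AdjoinRoot g))) =
          U.ι ≫ (X ↘ Spec (CommRingCat.of k)) := by
  obtain ⟨_, ⟨W, hW, rfl⟩, hηW, -⟩ := X.isBasis_affineOpens.exists_subset_of_mem_open
    (Set.mem_univ (genericPoint X)) isOpen_univ
  exact main_aux k X W hW hηW d s hs hsep

end partIII

end Groth.Agent.Lib.Seat95.HypModel
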