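import Mathlib

/-!
# Inertia fields without perfect residue fields (Seat95)

Counting argument: if `G` is a finite Galois group of `S/R`, `P` a prime of `S` and the inertia
group `I = P.inertia G` is a Galois group of `S/T` for an intermediate ring `T`, then the prime
`P' = P ∩ T` is unramified over `R` (ramification index one and separable residue extension),
with no perfectness hypothesis on residue fields.
-/

set_option autoImplicit false

namespace Groth.Agent.Lib.Seat95.Inertia

open Ideal Pointwise

section card

variable {R S G : Type*} [CommRing R] [CommRing S] [Algebra R S] [Group G] [Finite G]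
  [MulSemiringAction G S] [IsGaloisGroup G R S]

/-- `|D| = |I| · [κ(P):κ(p)]_s` without any perfectness assumption. -/
theorem card_stabilizer_eq_card_inertia_mul_finSepDegree (p : Ideal R) [p.IsPrime]
    (P : Ideal S) [P.LiesOver p] [P.IsPrime]
    [Algebra (Localization.AtPrime p) (Localization.AtPrime P)]
    [Localization.AtPrime.IsLiesOverAlgebra p P] :
    Nat.card (MulAction.stabilizer G P) =
      Nat.card (inertia G P) * Field.finSepDegree p.ResidueField P.ResidueField := by
  have hinv : Algebra.IsInvariant R S G := IsGaloisGroup.isInvariant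
  have hcomm : SMulCommClass G R S := IsGaloisGroup.commutes
  have heq : (algebraMap (S ⧸ P) P.ResidueField).comp (algebraMap (R ⧸ p) (S ⧸ P)) =
      (algebraMap p.ResidueField P.ResidueField).comp (algebraMap (R ⧸ p) p.ResidueField) := by
    ext
    simp [← IsScalarTower.algebraMap_apply]
  let := ((algebraMap (S ⧸ P) P.ResidueField).comp (algebraMap (R ⧸ p) (S ⧸ P))).toAlgebra
  have : IsScalarTower (R ⧸ p) (S ⧸ P) P.ResidueField := .of_algebraMap_eq' rfl
  have : IsScalarTower (R ⧸ p) p.ResidueField P.ResidueField := .of_algebraMap_eq' heq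
  have hn : Normal p.ResidueField P.ResidueField :=
    Ideal.IsFractionRing.normal G p P p.ResidueField P.ResidueField
  have h1 : Subgroup.index _ = _ := Nat.card_congr
    (IsFractionRing.stabilizerQuotientInertiaEquiv G p P p.ResidueField P.ResidueField).toEquiv
  have h2 : Nat.card (P.ResidueField ≃ₐ[p.ResidueField] P.ResidueField) =
      Field.finSepDegree p.ResidueField P.ResidueField :=
    (Nat.card_congr (Normal.algHomEquivAut p.ResidueField (AlgebraicClosure P.ResidueField)
      P.ResidueField)).symm
  rw [← h2, ← h1, ← ((inertia G P).subgroupOf (MulAction.stabilizer G P)).card_mul_index,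
    Nat.card_congr (Subgroup.subgroupOfEquivOfLe (inertia_le_stabilizer (M := G) P)).toEquiv,
    AddSubgroup.subgroupOf_inertia]

/-- `|D| = e · f`. -/
theorem card_stabilizer_eq_ramificationIdx_mul_inertiaDeg [IsDomain R] [IsDomain S]
    [Module.Finite R S] [Module.Flat R S]
    (p : Ideal R) [p.IsPrime] (P : Ideal S) [P.LiesOver p] [P.IsPrime] :
    Nat.card (MulAction.stabilizer G P) = P.ramificationIdx R * P.inertiaDeg R := by
  have hinv : Algebra.IsInvariant R S G := IsGaloisGroup.isInvariant
  have hcomm : SMulCommClass G R S := IsGaloisGroup.commutes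
  have h1 := ncard_primesOver_mul_ramificationIdxIn_mul_inertiaDegIn p S G
  rw [ramificationIdxIn_eq_ramificationIdx p P G, inertiaDegIn_eq_inertiaDeg p P G,
    ← Algebra.IsInvariant.orbit_eq_primesOver R S G p P] at h1
  have h2 : Nat.card (MulAction.orbit G P) * Nat.card (MulAction.stabilizer G P) = Nat.card G := by
    simpa using Nat.card_congr (MulAction.orbitProdStabilizerEquivGroup G P)
  have h3 : (MulAction.orbit G P).ncard ≠ 0 := by
    rw [← Nat.card_coe_set_eq]
    have : Nonempty (MulAction.orbit G P) := (MulAction.nonempty_orbit P).to_subtype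
    have : Finite (MulAction.orbit G P) := Set.finite_range _
    exact Nat.card_pos.ne'
  rw [← Nat.card_coe_set_eq] at h1 h3
  exact Nat.eq_of_mul_eq_mul_left (Nat.pos_of_ne_zero h3) (h2.trans h1.symm)

end card

section tower

variable {R T S : Type*} [CommRing R] [CommRing T] [CommRing S] [IsDomain R] [IsDomain T]
  [IsDomain S] [Algebra R T] [Algebra T S] [Algebra R S] [IsScalarTower R T S]
  [Module.Finite R S] [Module.Flat R S] [Module.Finite T S] [Module.Flat T S] [Module.Finite R T]
  {G : Type*} [Group G] [Finite G] [MulSemiringAction G S] [IsGaloisGroup G R S]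
  (p : Ideal R) (P' : Ideal T) (P : Ideal S) [p.IsPrime] [P'.IsPrime] [P.IsPrime]
  [P'.LiesOver p] [P.LiesOver P'] [P.LiesOver p]
  [IsGaloisGroup (P.inertia G) T S]
  [Algebra (Localization.AtPrime p) (Localization.AtPrime P')]
  [Localization.AtPrime.IsLiesOverAlgebra p P']

variable (G) in
include G P in
theorem ramificationIdx_eq_one_and_finSepDegree_eq :
    P'.ramificationIdx R = 1 ∧
      Field.finSepDegree p.ResidueField P'.ResidueField =
        Module.finrank p.ResidueField P'.ResidueField := by
  let := Localization.AtPrime.algebraOfLiesOver P' P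
  let := Localization.AtPrime.algebraOfLiesOver p P
  -- the big group
  have hG1 := card_stabilizer_eq_card_inertia_mul_finSepDegree (G := G) p P
  have hG2 := card_stabilizer_eq_ramificationIdx_mul_inertiaDeg (G := G) p P
  -- the inertia group
  have hH1 := card_stabilizer_eq_card_inertia_mul_finSepDegree (G := P.inertia G) P' P
  have hH2 := card_stabilizer_eq_ramificationIdx_mul_inertiaDeg (G := P.inertia G) P' P
  have key : ∀ (K : Subgroup (P.inertia G)), (∀ σ, σ ∈ K) →
      Nat.card K = Nat.card (P.inertia G) := fun K hK => by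
    rw [(eq_top_iff.mpr fun σ _ => hK σ : K = ⊤), Subgroup.card_top]
  have hin : ∀ σ : P.inertia G, σ ∈ P.inertia (P.inertia G) := fun σ => σ.2
  have hcardI : 0 < Nat.card (P.inertia G) := Nat.card_pos
  rw [key _ (fun σ => inertia_le_stabilizer P (hin σ)), key _ hin] at hH1
  rw [key _ (fun σ => inertia_le_stabilizer P (hin σ))] at hH2
  have hs1 : Field.finSepDegree P'.ResidueField P.ResidueField = 1 := by
    have : Nat.card (P.inertia G) * 1 =
        Nat.card (P.inertia G) * Field.finSepDegree P'.ResidueField P.ResidueField := by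
      rw [mul_one]; exact hH1
    exact (Nat.eq_of_mul_eq_mul_left hcardI this).symm
  -- towers
  have he := Ideal.ramificationIdx_tower (R := R) P' P
  have hf := Ideal.inertiaDeg_tower (R := R) P' P
  have hs := Field.finSepDegree_mul_finSepDegree_of_isAlgebraic p.ResidueField P'.ResidueField
    P.ResidueField
  rw [hs1, mul_one] at hs
  have hf' : P'.inertiaDeg R = Module.finrank p.ResidueField P'.ResidueField :=
    Ideal.inertiaDeg_eq p P'
  have hle := Field.finSepDegree_le_finrank p.ResidueField P'.ResidueField
  have he0 := Ideal.ramificationIdx_pos P' R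
  have hf0 := Ideal.inertiaDeg_pos P' R
  have h1 : Nat.card (P.inertia G) * Field.finSepDegree p.ResidueField P'.ResidueField =
      Nat.card (P.inertia G) * (P'.ramificationIdx R * P'.inertiaDeg R) := by
    rw [hs, ← hG1, hG2, he, hf, hH2]
    ring
  have h2 := Nat.eq_of_mul_eq_mul_left hcardI h1
  rw [← hf'] at hle ⊢
  have h3 : P'.ramificationIdx R * P'.inertiaDeg R ≤ 1 * P'.inertiaDeg R := by
    rw [one_mul, ← h2]; exact hle
  have h4 : P'.ramificationIdx R ≤ 1 := Nat.le_of_mul_le_mul_right h3 hf0
  have h5 : P'.ramificationIdx R = 1 := le_antisymm h4 he0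
  refine ⟨h5, ?_⟩
  rw [h2, h5, one_mul]

variable (G) in
include G P p in
theorem isUnramifiedAt_of_isGaloisGroup_inertia : Algebra.IsUnramifiedAt R P' := by
  obtain ⟨h1, h2⟩ := ramificationIdx_eq_one_and_finSepDegree_eq G p P' P
  rw [Algebra.isUnramifiedAt_iff_map_eq R p P']
  refine ⟨(Field.finSepDegree_eq_finrank_iff _ _).mp h2, ?_⟩
  rw [ramificationIdx_def, ENat.toNat_eq_iff_eq_natCast, Nat.cast_one, Module.length_eq_one_iff,
    isSimpleModule_iff_isCoatom, ← Ideal.isMaximal_def, IsLocalRing.isMaximal_iff,
    ← P'.over_def p] at h1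
  exact h1

end tower

section away

theorem exists_away_of_finite_maximal {T : Type*} [CommRing T] [IsDomain T]
    [Ring.DimensionLEOne T] (P : Ideal T) [P.IsMaximal]
    (hfin : {Q : Ideal T | Q.IsMaximal}.Finite) :
    ∃ s : T, s ∉ P ∧ ∀ r ∉ P, IsUnit (algebraMap T (Localization.Away s) r) := by
  classical
  have hJ : ¬ (hfin.toFinset.erase P).inf id ≤ P := by
    intro h
    obtain ⟨Q, hQ, hQP⟩ := (IsMaximal.isPrime ‹P.IsMaximal›).inf_le'.mp h
    rw [Finset.mem_erase, Set.Finite.mem_toFinset] at hQ
    exact hQ.1 (hQ.2.eq_of_le (IsMaximal.ne_top ‹_›) hQP)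
  obtain ⟨s, hsJ, hsP⟩ := SetLike.not_le_iff_exists.mp hJ
  refine ⟨s, hsP, fun r hr => ?_⟩
  have hs : ∀ Q : Ideal T, Q.IsMaximal → Q ≠ P → s ∈ Q := fun Q hQ hne =>
    (Finset.inf_le (f := id) (Finset.mem_erase.mpr ⟨hne, hfin.mem_toFinset.mpr hQ⟩) : _ ≤ Q) hsJ
  have hr0 : r ≠ 0 := fun h => hr (h ▸ P.zero_mem)
  have hrad : s ∈ (Ideal.span {r}).radical := by
    rw [Ideal.radical_eq_sInf, Ideal.mem_sInf]
    rintro J ⟨hJr, hJp⟩
    have hrJ : r ∈ J := hJr (Ideal.mem_span_singleton_self r)
    have hJ0 : J ≠ ⊥ := fun h => hr0 (by simpa [h] using hrJ)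
    exact hs J (hJp.isMaximal hJ0) (fun h => hr (h ▸ hrJ))
  obtain ⟨n, hn⟩ := hrad
  obtain ⟨c, hc⟩ := Ideal.mem_span_singleton'.mp hn
  have hu : IsUnit (algebraMap T (Localization.Away s) (c * r)) := by
    rw [hc, map_pow]
    exact (IsLocalization.Away.algebraMap_isUnit s).pow n
  rw [map_mul] at hu
  exact isUnit_of_mul_isUnit_right hu

theorem finitePresentation_localization_atPrime {T : Type*} [CommRing T] [IsDomain T]
    [Ring.DimensionLEOne T] (P : Ideal T) [P.IsMaximal]
    (hfin : {Q : Ideal T | Q.IsMaximal}.Finite) :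
    Algebra.FinitePresentation T (Localization.AtPrime P) := by
  obtain ⟨s, hsP, hs⟩ := exists_away_of_finite_maximal P hfin
  have h1 : IsLocalization P.primeCompl (Localization.Away s) :=
    IsLocalization.of_le (Submonoid.powers s) P.primeCompl
      (Submonoid.powers_le.mpr hsP) (fun r hr => hs r hr)
  have h2 : Algebra.FinitePresentation T (Localization.Away s) :=
    IsLocalization.Away.finitePresentation s
  exact .equiv (IsLocalization.algEquiv P.primeCompl (Localization.Away s)
    (Localization.AtPrime P))

end away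

end Groth.Agent.Lib.Seat95.Inertia
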