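import Mathlib

/-!
# Inertia and unramifiedness for local extensions (Seat95)

* quotient-field versions of `|D| = |I| · |Aut(κ(P)/κ(p))|` and `|Aut| = [κ(P):κ(p)]_s`;
* existence of a separable element of degree the separable degree;
* the discriminant argument: if `θ ∈ S` reduces to a separable element of degree `[L:K]`, then
  `S = R[θ]`, `𝔪_S = 𝔪_R S` and the residue field is generated by the residue of `θ`.
-/

set_option autoImplicit false

namespace Groth.Agent.Lib.Seat95.InertiaComplete

open IntermediateField Polynomial IsLocalRing Ideal Pointwise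

section card

variable {R S G : Type*} [CommRing R] [CommRing S] [Algebra R S] [Group G] [Finite G]
  [MulSemiringAction G S] [IsGaloisGroup G R S]

theorem card_stabilizer_eq_card_inertia_mul_card_aut (p : Ideal R) (P : Ideal S) [P.IsPrime] [P.LiesOver p] :
    Nat.card (MulAction.stabilizer G P) =
      Nat.card (P.inertia G) * Nat.card ((S ⧸ P) ≃ₐ[R ⧸ p] (S ⧸ P)) := by
  have hinv : Algebra.IsInvariant R S G := IsGaloisGroup.isInvariant
  have hcomm : SMulCommClass G R S := IsGaloisGroup.commutes
  have h1 : Subgroup.index _ = _ :=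
    Nat.card_congr (Ideal.Quotient.stabilizerQuotientInertiaEquiv G p P).toEquiv
  rw [← h1, ← ((inertia G P).subgroupOf (MulAction.stabilizer G P)).card_mul_index,
    Nat.card_congr (Subgroup.subgroupOfEquivOfLe (inertia_le_stabilizer (M := G) P)).toEquiv,
    AddSubgroup.subgroupOf_inertia]

variable (G) in
include G in
attribute [local instance] Ideal.Quotient.field in
theorem card_aut_eq_finSepDegree (p : Ideal R) (P : Ideal S) [p.IsMaximal] [P.IsMaximal]
    [P.LiesOver p] :
    Nat.card ((S ⧸ P) ≃ₐ[R ⧸ p] (S ⧸ P)) = Field.finSepDegree (R ⧸ p) (S ⧸ P) := by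
  have hinv : Algebra.IsInvariant R S G := IsGaloisGroup.isInvariant
  have hn : Normal (R ⧸ p) (S ⧸ P) := Ideal.Quotient.normal G p P
  exact (Nat.card_congr (Normal.algHomEquivAut (R ⧸ p) (AlgebraicClosure (S ⧸ P)) (S ⧸ P))).symm

end card

theorem exists_isSeparable_natDegree_eq_finSepDegree (k l : Type*) [Field k] [Field l]
    [Algebra k l] [FiniteDimensional k l] :
    ∃ x : l, IsSeparable k x ∧ (minpoly k x).natDegree = Field.finSepDegree k l := by
  obtain ⟨α, hα⟩ := Field.exists_primitive_element k (separableClosure k l)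
  refine ⟨(α : l), mem_separableClosure_iff.mp α.2, ?_⟩
  have h1 : minpoly k (α : l) = minpoly k α :=
    (minpoly.algebraMap_eq (algebraMap (separableClosure k l) l).injective α)
  have h2 : Module.finrank k k⟮α⟯ = (minpoly k α).natDegree :=
    IntermediateField.adjoin.finrank (Algebra.IsIntegral.isIntegral α)
  have h3 : Field.finSepDegree k l = Module.finrank k (separableClosure k l) :=
    Field.finSepDegree_eq k l
  rw [h1, ← h2, hα, IntermediateField.finrank_top', h3]


section adjoin

attribute [local instance] Ideal.Quotient.field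

variable (R S K L : Type*) [CommRing R] [CommRing S] [IsDomain R] [IsDomain S] [IsLocalRing R]
  [IsLocalRing S] [IsIntegrallyClosed R] [Algebra R S] [Field K] [Field L] [Algebra R K]
  [IsFractionRing R K] [Algebra S L] [IsFractionRing S L] [Algebra K L] [Algebra R L]
  [IsScalarTower R S L] [IsScalarTower R K L] [FiniteDimensional K L] [Algebra.IsSeparable K L]
  [Algebra.IsIntegral R S] [(maximalIdeal S).LiesOver (maximalIdeal R)]

theorem minpoly_map_eq (θ : S)
    (hdeg : (minpoly (R ⧸ maximalIdeal R) (Ideal.Quotient.mk (maximalIdeal S) θ)).natDegree =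
      Module.finrank K L) :
    (minpoly R θ).map (algebraMap R (R ⧸ maximalIdeal R)) =
      minpoly (R ⧸ maximalIdeal R) (Ideal.Quotient.mk (maximalIdeal S) θ) ∧
    (minpoly R θ).natDegree = Module.finrank K L := by
  have hθ : IsIntegral R θ := Algebra.IsIntegral.isIntegral θ
  have hp : (minpoly R θ).Monic := minpoly.monic hθ
  have hpK : minpoly K (algebraMap S L θ) = (minpoly R θ).map (algebraMap R K) :=
    minpoly.isIntegrallyClosed_eq_field_fractions K L hθ
  have hle : (minpoly R θ).natDegree ≤ Module.finrank K L := by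
    rw [← hp.natDegree_map (algebraMap R K), ← hpK]
    exact minpoly.natDegree_le _
  have hθ' : IsIntegral (R ⧸ maximalIdeal R) (Ideal.Quotient.mk (maximalIdeal S) θ) :=
    Algebra.IsIntegral.isIntegral _
  have hdvd : minpoly (R ⧸ maximalIdeal R) (Ideal.Quotient.mk (maximalIdeal S) θ) ∣
      (minpoly R θ).map (algebraMap R (R ⧸ maximalIdeal R)) := by
    refine minpoly.dvd _ _ ?_
    rw [aeval_map_algebraMap]
    have : (Ideal.Quotient.mk (maximalIdeal S) θ) = algebraMap S (S ⧸ maximalIdeal S) θ := rfl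
    rw [this, aeval_algebraMap_apply, minpoly.aeval, map_zero]
  have hpmap := Polynomial.eq_of_monic_of_dvd_of_natDegree_le (minpoly.monic hθ')
    (hp.map (algebraMap R (R ⧸ maximalIdeal R))) hdvd (by rw [hp.natDegree_map, hdeg]; exact hle)
  refine ⟨hpmap, ?_⟩
  rw [← hdeg, ← hpmap, hp.natDegree_map]

theorem isUnit_aeval_derivative (θ : S)
    (hsep : IsSeparable (R ⧸ maximalIdeal R) (Ideal.Quotient.mk (maximalIdeal S) θ))
    (hdeg : (minpoly (R ⧸ maximalIdeal R) (Ideal.Quotient.mk (maximalIdeal S) θ)).natDegree =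
      Module.finrank K L) :
    IsUnit (aeval θ (derivative (minpoly R θ))) := by
  obtain ⟨hpmap, -⟩ := minpoly_map_eq R S K L θ hdeg
  rw [← IsLocalRing.notMem_maximalIdeal]
  intro hmem
  have h0 : aeval (Ideal.Quotient.mk (maximalIdeal S) θ)
      (derivative (minpoly (R ⧸ maximalIdeal R) (Ideal.Quotient.mk (maximalIdeal S) θ))) = 0 := by
    rw [← hpmap, derivative_map, aeval_map_algebraMap]
    have : (Ideal.Quotient.mk (maximalIdeal S) θ) = algebraMap S (S ⧸ maximalIdeal S) θ := rfl
    rw [this, aeval_algebraMap_apply]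
    exact Ideal.Quotient.eq_zero_iff_mem.mpr hmem
  exact hsep.aeval_derivative_ne_zero (minpoly.aeval _ _) h0

theorem adjoin_field_eq_top (θ : S)
    (hdeg : (minpoly (R ⧸ maximalIdeal R) (Ideal.Quotient.mk (maximalIdeal S) θ)).natDegree =
      Module.finrank K L) :
    Algebra.adjoin K {algebraMap S L θ} = ⊤ := by
  obtain ⟨-, hpdeg⟩ := minpoly_map_eq R S K L θ hdeg
  have hθ : IsIntegral R θ := Algebra.IsIntegral.isIntegral θ
  have hpK : minpoly K (algebraMap S L θ) = (minpoly R θ).map (algebraMap R K) :=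
    minpoly.isIntegrallyClosed_eq_field_fractions K L hθ
  have hint : IsIntegral K (algebraMap S L θ) := Algebra.IsIntegral.isIntegral _
  have h1 : Module.finrank K K⟮algebraMap S L θ⟯ = Module.finrank K L := by
    rw [IntermediateField.adjoin.finrank hint, hpK, (minpoly.monic hθ).natDegree_map, hpdeg]
  have h2 : K⟮algebraMap S L θ⟯ = ⊤ :=
    IntermediateField.eq_of_le_of_finrank_eq le_top (by rw [h1, IntermediateField.finrank_top'])
  rw [← IntermediateField.adjoin_simple_toSubalgebra_of_isAlgebraic hint.isAlgebraic, h2,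
    IntermediateField.top_toSubalgebra]

theorem adjoin_eq_top [IsIntegralClosure S R L] (θ : S)
    (hsep : IsSeparable (R ⧸ maximalIdeal R) (Ideal.Quotient.mk (maximalIdeal S) θ))
    (hdeg : (minpoly (R ⧸ maximalIdeal R) (Ideal.Quotient.mk (maximalIdeal S) θ)).natDegree =
      Module.finrank K L) :
    Algebra.adjoin R {θ} = ⊤ := by
  have hθ : IsIntegral R θ := Algebra.IsIntegral.isIntegral θ
  have hint : IsIntegral K (algebraMap S L θ) := Algebra.IsIntegral.isIntegral _
  have htop := adjoin_field_eq_top R S K L θ hdeg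
  let pb := PowerBasis.ofAdjoinEqTop hint htop
  have hgen : pb.gen = algebraMap S L θ := PowerBasis.ofAdjoinEqTop_gen hint htop
  have hw := isUnit_aeval_derivative R S K L θ hsep hdeg
  have hpK : minpoly K (algebraMap S L θ) = (minpoly R θ).map (algebraMap R K) :=
    minpoly.isIntegrallyClosed_eq_field_fractions K L hθ
  have hder : aeval pb.gen (derivative (minpoly K pb.gen)) =
      algebraMap S L (aeval θ (derivative (minpoly R θ))) := by
    rw [hgen, hpK, derivative_map, aeval_map_algebraMap, aeval_algebraMap_apply]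
  obtain ⟨u, hu, hdu⟩ : ∃ u : R, IsUnit u ∧ Algebra.discr K pb.basis = algebraMap R K u := by
    refine ⟨(-1) ^ (Module.finrank K L * (Module.finrank K L - 1) / 2) *
      Algebra.intNormAux R K L S (aeval θ (derivative (minpoly R θ))), ?_, ?_⟩
    · exact (IsUnit.pow _ isUnit_one.neg).mul (hw.map _)
    · rw [Algebra.discr_powerBasis_eq_norm, hder, map_mul, map_pow, map_neg, map_one,
        Algebra.map_intNormAux]
  rw [eq_top_iff]
  intro z _
  have hz : IsIntegral R (algebraMap S L z) := (Algebra.IsIntegral.isIntegral z).algebraMap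
  have hgenint : IsIntegral R pb.gen := hgen ▸ hθ.algebraMap
  have hmem := Algebra.discr_mul_isIntegral_mem_adjoin (K := K) hgenint hz
  rw [hdu, hgen, algebraMap_smul] at hmem
  obtain ⟨v, hv⟩ := hu.exists_left_inv
  have h2 : algebraMap S L z ∈ Algebra.adjoin R {algebraMap S L θ} := by
    have := Subalgebra.smul_mem _ hmem v
    rwa [smul_smul, hv, one_smul] at this
  have h3 : Algebra.adjoin R {algebraMap S L θ} =
      (Algebra.adjoin R {θ}).map (IsScalarTower.toAlgHom R S L) := by
    rw [AlgHom.map_adjoin, Set.image_singleton]; rfl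
  rw [h3] at h2
  obtain ⟨z', hz', hzz'⟩ := h2
  have : z' = z := IsFractionRing.injective S L hzz'
  exact this ▸ hz'

omit [IsDomain R] [IsDomain S] [IsLocalRing R] [IsLocalRing S] [IsIntegrallyClosed R]
  [Algebra.IsIntegral R S] [(maximalIdeal S).LiesOver (maximalIdeal R)] in
theorem aeval_mem_map_of_coeff_mem (I : Ideal R) (r : R[X]) (h : ∀ i, r.coeff i ∈ I) (x : S) :
    aeval x r ∈ I.map (algebraMap R S) := by
  rw [aeval_eq_sum_range]
  refine Ideal.sum_mem _ fun i _ => ?_
  rw [Algebra.smul_def]
  exact Ideal.mul_mem_right _ _ (Ideal.mem_map_of_mem _ (h i))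

/-- If `S = R[θ]` and the residue of `θ` has minimal polynomial of degree `deg (minpoly R θ)`,
then `𝔪_S ≤ 𝔪_R S`. -/
theorem maximalIdeal_le_map_of_adjoin_eq_top (θ : S) (htop : Algebra.adjoin R {θ} = ⊤)
    (hdeg : (minpoly (R ⧸ maximalIdeal R) (Ideal.Quotient.mk (maximalIdeal S) θ)).natDegree =
      (minpoly R θ).natDegree) :
    maximalIdeal S ≤ (maximalIdeal R).map (algebraMap R S) := by
  intro s hs
  have hθ : IsIntegral R θ := Algebra.IsIntegral.isIntegral θ
  have hp : (minpoly R θ).Monic := minpoly.monic hθ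
  have hs' : s ∈ Algebra.adjoin R {θ} := htop ▸ Algebra.mem_top
  rw [Algebra.adjoin_singleton_eq_range_aeval] at hs'
  obtain ⟨r, hr⟩ := hs'
  replace hr : aeval θ r = s := hr
  subst hr
  have h1 : aeval θ (r %ₘ minpoly R θ) = aeval θ r :=
    aeval_modByMonic_eq_self_of_root (minpoly.aeval R θ)
  rw [← h1] at hs ⊢
  have hθ' : IsIntegral (R ⧸ maximalIdeal R) (Ideal.Quotient.mk (maximalIdeal S) θ) :=
    Algebra.IsIntegral.isIntegral _
  have hdvd : minpoly (R ⧸ maximalIdeal R) (Ideal.Quotient.mk (maximalIdeal S) θ) ∣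
      (r %ₘ minpoly R θ).map (algebraMap R (R ⧸ maximalIdeal R)) := by
    refine minpoly.dvd _ _ ?_
    rw [aeval_map_algebraMap]
    have : (Ideal.Quotient.mk (maximalIdeal S) θ) = algebraMap S (S ⧸ maximalIdeal S) θ := rfl
    rw [this, aeval_algebraMap_apply]
    exact Ideal.Quotient.eq_zero_iff_mem.mpr hs
  have hlt : ((r %ₘ minpoly R θ).map (algebraMap R (R ⧸ maximalIdeal R))).degree <
      (minpoly (R ⧸ maximalIdeal R) (Ideal.Quotient.mk (maximalIdeal S) θ)).degree := by
    refine (degree_map_le).trans_lt ?_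
    rw [degree_eq_natDegree (minpoly.ne_zero hθ'), hdeg, ← degree_eq_natDegree hp.ne_zero]
    exact degree_modByMonic_lt _ hp
  have hzero := eq_zero_of_dvd_of_degree_lt hdvd hlt
  refine aeval_mem_map_of_coeff_mem R S _ _ (fun i => ?_) θ
  have := congrArg (fun q => q.coeff i) hzero
  simp only [coeff_map, coeff_zero] at this
  exact Ideal.Quotient.eq_zero_iff_mem.mp this

/-- If `S = R[θ]` then the residue field of `S` is generated by the residue of `θ`. -/
theorem adjoin_residue_eq_top (θ : S) (htop : Algebra.adjoin R {θ} = ⊤) :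
    (R ⧸ maximalIdeal R)⟮Ideal.Quotient.mk (maximalIdeal S) θ⟯ = ⊤ := by
  rw [eq_top_iff]
  intro y _
  obtain ⟨s, rfl⟩ := Ideal.Quotient.mk_surjective y
  have hs' : s ∈ Algebra.adjoin R {θ} := htop ▸ Algebra.mem_top
  rw [Algebra.adjoin_singleton_eq_range_aeval] at hs'
  obtain ⟨r, hr⟩ := hs'
  replace hr : aeval θ r = s := hr
  subst hr
  have h1 : Ideal.Quotient.mk (maximalIdeal S) (aeval θ r) =
      aeval (Ideal.Quotient.mk (maximalIdeal S) θ) (r.map (algebraMap R (R ⧸ maximalIdeal R))) := by
    rw [aeval_map_algebraMap]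
    have : (Ideal.Quotient.mk (maximalIdeal S) θ) = algebraMap S (S ⧸ maximalIdeal S) θ := rfl
    rw [this, aeval_algebraMap_apply]
    rfl
  rw [h1]
  exact IntermediateField.algebra_adjoin_le_adjoin _ _ (Polynomial.aeval_mem_adjoin_singleton _ _)

end adjoin

end Groth.Agent.Lib.Seat95.InertiaComplete
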