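import Mathlib
import Groth.Prelude.Def_W4c6modpairsegaMP
import Groth.Agent.Lib.Helper20EffCartier
import Groth.Agent.Lib.Seat95EffCartierRes

/-!
# The open locus where an effective Cartier ideal equals a bigger locally principal ideal (seat 95)

Namespace `Groth.Agent.Lib.Seat95.MinLocus`.
For ideal sheaves `J ≤ J'` on `Y`, `eqLocus J J'` is the union of the affine opens on which they agree.
-/

set_option autoImplicit false
universe u
open CategoryTheory AlgebraicGeometry Limits Opposite TopologicalSpace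

namespace Groth.Agent.Lib.Seat95.MinLocus

open nonZeroDivisors Groth.Agent.Lib.Seat95.EffCartierRes Groth.Agent.Lib.Helper20.EffCartier

/-- ring lemma: if `b = k * c` is a nonzerodivisor and `(b) = (k)` then `c` is a unit. -/
theorem isUnit_of_span_eq {B : Type*} [CommRing B] {b k c : B} (hb : b ∈ B⁰) (hbk : b = k * c)
    (h : Ideal.span {b} = Ideal.span {k}) : IsUnit c := by
  have hk : k ∈ Ideal.span {b} := h ▸ Ideal.subset_span rfl
  obtain ⟨u, hu⟩ := Ideal.mem_span_singleton'.mp hk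
  -- `k = u * b = u * k * c`
  have hk0 : k ∈ B⁰ := by
    rw [mem_nonZeroDivisors_iff_right] at hb ⊢
    intro x hx
    apply hb
    rw [hbk, ← mul_assoc, hx, zero_mul]
  have h1 : (u * c - 1) * k = 0 := by
    have : u * (k * c) = k := by rw [← hbk]; exact hu
    calc (u * c - 1) * k = u * (k * c) - k := by ring
      _ = 0 := by rw [this, sub_self]
  have h2 := (mem_nonZeroDivisors_iff_right.mp hk0) _ h1
  exact IsUnit.of_mul_eq_one u (by rw [mul_comm]; exact sub_eq_zero.mp h2)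

/-- ring lemma: a generator of an ideal generated by a nonzerodivisor is a nonzerodivisor. -/
theorem mem_nonZeroDivisors_of_span_eq {B : Type*} [CommRing B] {a b : B} (ha : a ∈ B⁰)
    (h : Ideal.span {b} = Ideal.span {a}) : b ∈ B⁰ := by
  have h1 : a ∈ Ideal.span {b} := h ▸ Ideal.subset_span rfl
  obtain ⟨w, hw⟩ := Ideal.mem_span_singleton'.mp h1
  rw [mem_nonZeroDivisors_iff_right] at ha ⊢
  intro x hx
  apply ha
  rw [← hw, ← mul_assoc, mul_comm x w, mul_assoc, hx, mul_zero]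

variable {Y : Scheme.{u}}

/-- the union of all affine opens on which `J` and `J'` agree -/
noncomputable def eqLocus (J J' : Y.IdealSheafData) : Y.Opens :=
  ⨆ V : {V : Y.affineOpens // J.ideal V = J'.ideal V}, V.1.1

theorem mem_eqLocus {J J' : Y.IdealSheafData} {y : Y} :
    y ∈ eqLocus J J' ↔ ∃ V : Y.affineOpens, y ∈ V.1 ∧ J.ideal V = J'.ideal V := by
  unfold eqLocus
  rw [TopologicalSpace.Opens.mem_iSup]
  constructor
  · rintro ⟨⟨V, hV⟩, hy⟩
    exact ⟨V, hy, hV⟩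
  · rintro ⟨V, hy, hV⟩
    exact ⟨⟨V, hV⟩, hy⟩

theorem ideal_eq_of_le {J J' : Y.IdealSheafData} {V₂ V : Y.affineOpens} (h : V₂ ≤ V)
    (hV : J.ideal V = J'.ideal V) : J.ideal V₂ = J'.ideal V₂ := by
  rw [← J.map_ideal h, ← J'.map_ideal h, hV]

/-- on an affine open where `J = (b)`, `J' = (k)`, `b = k c`, the locus is the basic open of `c` -/
theorem eqLocus_inf_eq_basicOpen {J J' : Y.IdealSheafData} {V : Y.Opens} (hV : IsAffineOpen V)
    {b k c : Γ(Y, V)} (hb0 : b ∈ Γ(Y, V)⁰) (hb : J.ideal ⟨V, hV⟩ = Ideal.span {b})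
    (hk : J'.ideal ⟨V, hV⟩ = Ideal.span {k}) (hbk : b = k * c) :
    eqLocus J J' ⊓ V = Y.basicOpen c := by
  ext y
  simp only [TopologicalSpace.Opens.coe_inf, Set.mem_inter_iff, SetLike.mem_coe]
  constructor
  · rintro ⟨hyU, hyV⟩
    obtain ⟨V₂, hyV₂, hV₂⟩ := mem_eqLocus.mp hyU
    obtain ⟨_, ⟨V₃, hV₃, rfl⟩, hyV₃, hV₃le⟩ := Y.isBasis_affineOpens.exists_subset_of_mem_open
      (show y ∈ ((V ⊓ V₂.1 : Y.Opens) : Set Y) from ⟨hyV, hyV₂⟩) (V ⊓ V₂.1).isOpen
    have hle1 : V₃ ≤ V := fun z hz => (hV₃le hz).1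
    have hle2 : V₃ ≤ V₂.1 := fun z hz => (hV₃le hz).2
    have heq : J.ideal ⟨V₃, hV₃⟩ = J'.ideal ⟨V₃, hV₃⟩ :=
      ideal_eq_of_le (V₂ := ⟨V₃, hV₃⟩) (V := V₂) hle2 hV₂
    rw [ideal_res_eq_span J hV hV₃ hle1 hb, ideal_res_eq_span J' hV hV₃ hle1 hk] at heq
    have hb0' := res_mem_nonZeroDivisors hV hV₃ hle1 hb0
    have hcu : IsUnit ((Y.presheaf.map (homOfLE hle1).op).hom c) :=
      isUnit_of_span_eq hb0' (by rw [hbk, map_mul]) heq
    have h1 := Y.basicOpen_res c (homOfLE hle1).op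
    rw [Scheme.basicOpen_of_isUnit _ hcu] at h1
    have : y ∈ V₃ ⊓ Y.basicOpen c := h1 ▸ hyV₃
    exact this.2
  · intro hy
    have hyV : y ∈ V := Y.basicOpen_le c hy
    refine ⟨?_, hyV⟩
    rw [mem_eqLocus]
    have hD : IsAffineOpen (Y.basicOpen c) := hV.basicOpen c
    refine ⟨⟨Y.basicOpen c, hD⟩, hy, ?_⟩
    rw [ideal_res_eq_span J hV hD (Y.basicOpen_le c) hb,
      ideal_res_eq_span J' hV hD (Y.basicOpen_le c) hk, hbk, map_mul]
    have hcu : IsUnit ((Y.presheaf.map (homOfLE (Y.basicOpen_le c)).op).hom c) :=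
      Y.toRingedSpace.isUnit_res_basicOpen c
    exact Ideal.span_singleton_mul_right_unit hcu _

end Groth.Agent.Lib.Seat95.MinLocus
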