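import Mathlib

/-!
# Ideals of finite colength containing `xy` in a two-generator local algebra (seat 95)

Abstract setting: a commutative `k`-algebra `R` with an augmentation `ε : R →ₐ[k] k` detecting units, and two
elements `x`, `y` of the augmentation ideal generating it.  (Example: `k[[x, y]]`.)  We classify the ideals
`J ∋ xy` with `R ⧸ J` of finite dimension `n ≥ 2`.
-/

set_option autoImplicit false
universe u v
open Polynomial

namespace Groth.Agent.Lib.Seat95.Nodal

variable (k : Type u) [Field k] (R : Type v) [CommRing R] [Algebra k R]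

/-- The abstract setting. -/
structure Setup where
  ε : R →ₐ[k] k
  x : R
  y : R
  unit_of_ne : ∀ h : R, ε h ≠ 0 → IsUnit h
  εx : ε x = 0
  εy : ε y = 0
  decomp : ∀ h : R, ε h = 0 → ∃ u v : R, h = x * u + y * v

variable {k R}

namespace Setup

variable (S : Setup k R)

/-- exchange the two generators. -/
def swap : Setup k R where
  ε := S.ε
  x := S.y
  y := S.x
  unit_of_ne := S.unit_of_ne
  εx := S.εy
  εy := S.εx
  decomp h hh := by
    obtain ⟨u, v, huv⟩ := S.decomp h hh
    exact ⟨v, u, by rw [huv]; ring⟩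

theorem ε_aeval_x (P : k[X]) : S.ε (aeval S.x P) = P.coeff 0 := by
  rw [← aeval_algHom_apply, S.εx, ← coeff_zero_eq_aeval_zero]

theorem isUnit_aeval_x (P : k[X]) (hP : P.coeff 0 ≠ 0) : IsUnit (aeval S.x P) :=
  S.unit_of_ne _ (by rwa [S.ε_aeval_x])

/-- Lemma U: a nonzero polynomial in `x` lying in `J` forces a power of `x` into `J`. -/
theorem x_pow_mem (J : Ideal R) (P : k[X]) (hP : P ≠ 0) (h : aeval S.x P ∈ J) :
    S.x ^ P.natTrailingDegree ∈ J := by
  obtain ⟨P₁, hP₁⟩ : X ^ P.natTrailingDegree ∣ P :=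
    X_pow_dvd_iff.2 fun d hd => coeff_eq_zero_of_lt_natTrailingDegree hd
  have h0 : P₁.coeff 0 ≠ 0 := by
    have h1 : P.coeff P.natTrailingDegree ≠ 0 := by
      have := (trailingCoeff_nonzero_iff_nonzero (p := P)).2 hP
      exact this
    rw [hP₁] at h1
    have h2 : (X ^ P.natTrailingDegree * P₁).coeff (0 + P.natTrailingDegree) = P₁.coeff 0 :=
      coeff_X_pow_mul P₁ P.natTrailingDegree 0
    rw [zero_add] at h2
    rw [← hP₁] at h2 h1
    rwa [← h2]
  have h3 : aeval S.x P = S.x ^ P.natTrailingDegree * aeval S.x P₁ := by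
    conv_lhs => rw [hP₁]
    rw [map_mul, map_pow, aeval_X]
  rw [h3] at h
  exact (Ideal.mul_unit_mem_iff_mem J (S.isUnit_aeval_x P₁ h0)).1 h

theorem mem_span3 {p q r z : R} :
    z ∈ Ideal.span ({p, q, r} : Set R) ↔ ∃ a b c : R, a * p + b * q + c * r = z :=
  Submodule.mem_span_triple

theorem decomp' (h : R) : ∃ (c : k) (u v : R), h = algebraMap k R c + (S.x * u + S.y * v) := by
  obtain ⟨u, v, huv⟩ := S.decomp (h - algebraMap k R (S.ε h)) (by
    rw [map_sub, AlgHom.commutes]; simp)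
  exact ⟨S.ε h, u, v, by rw [← huv]; ring⟩

/-- every element is, modulo `(xy, x^a, y^b)`, a polynomial in `x` of degree `< a` plus `y` times a polynomial
in `y` of degree `< b - 1`. -/
theorem decomp_mod : ∀ a : ℕ, 1 ≤ a → ∀ b : ℕ, 1 ≤ b → ∀ h : R, ∃ A B : k[X],
    A.degree < (a : ℕ) ∧ B.degree < ((b - 1 : ℕ) : ℕ) ∧
      h - aeval S.x A - S.y * aeval S.y B ∈
        Ideal.span ({S.x * S.y, S.x ^ a, S.y ^ b} : Set R) := by
  have base : ∀ b : ℕ, 1 ≤ b → ∀ h : R, ∃ A B : k[X],
      A.degree < (1 : ℕ) ∧ B.degree < ((b - 1 : ℕ) : ℕ) ∧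
        h - aeval S.x A - S.y * aeval S.y B ∈
          Ideal.span ({S.x * S.y, S.x ^ 1, S.y ^ b} : Set R) := by
    intro b hb
    induction b, hb using Nat.le_induction with
    | base =>
      intro h
      obtain ⟨c, u, v, huv⟩ := S.decomp' h
      refine ⟨C c, 0, ?_, ?_, ?_⟩
      · exact_mod_cast degree_C_lt
      · rw [degree_zero]; exact WithBot.bot_lt_coe _
      · rw [mem_span3]
        refine ⟨0, u, v, ?_⟩
        rw [aeval_C, map_zero, mul_zero, sub_zero, huv]
        ring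
    | succ b hb ih =>
      intro h
      obtain ⟨A, B, hA, hB, hmem⟩ := ih h
      rw [mem_span3] at hmem
      obtain ⟨r, u, v, hruv⟩ := hmem
      obtain ⟨c, v₁, v₂, hv⟩ := S.decomp' v
      refine ⟨A, B + C c * X ^ (b - 1), hA, ?_, ?_⟩
      · refine lt_of_le_of_lt (degree_add_le _ _) (max_lt ?_ ?_)
        · refine lt_of_lt_of_le hB ?_
          exact_mod_cast Nat.sub_le_sub_right (Nat.le_succ b) 1
        · refine lt_of_le_of_lt (degree_C_mul_X_pow_le _ _) ?_
          have : b - 1 < b + 1 - 1 := by omega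
          exact_mod_cast this
      · rw [mem_span3]
        refine ⟨r + S.y ^ (b - 1) * v₁, u, v₂, ?_⟩
        have hyb : S.y ^ b = S.y ^ (b - 1) * S.y := by
          rw [← pow_succ]; congr 1; omega
        rw [map_add, map_mul, aeval_C, map_pow, aeval_X]
        have e1 : h - aeval S.x A - S.y * (aeval S.y B + algebraMap k R c * S.y ^ (b - 1)) =
            (h - aeval S.x A - S.y * aeval S.y B) - algebraMap k R c * S.y ^ b := by
          rw [hyb]; ring
        rw [e1, ← hruv, hv, pow_succ]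
        linear_combination (-(S.x * v₁)) * hyb
  intro a ha
  induction a, ha using Nat.le_induction with
  | base => exact base
  | succ a ha ih =>
    intro b hb h
    obtain ⟨A, B, hA, hB, hmem⟩ := ih b hb h
    rw [mem_span3] at hmem
    obtain ⟨r, u, v, hruv⟩ := hmem
    obtain ⟨c, u₁, u₂, hu⟩ := S.decomp' u
    refine ⟨A + C c * X ^ a, B, ?_, hB, ?_⟩
    · refine lt_of_le_of_lt (degree_add_le _ _) (max_lt ?_ ?_)
      · refine lt_of_lt_of_le hA ?_
        exact_mod_cast Nat.le_succ a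
      · refine lt_of_le_of_lt (degree_C_mul_X_pow_le _ _) ?_
        exact_mod_cast Nat.lt_succ_self a
    · rw [mem_span3]
      refine ⟨r + S.x ^ (a - 1) * u₂, u₁, v, ?_⟩
      have hxa : S.x ^ a = S.x ^ (a - 1) * S.x := by
        rw [← pow_succ]; congr 1; omega
      rw [map_add, map_mul, aeval_C, map_pow, aeval_X]
      have e1 : h - (aeval S.x A + algebraMap k R c * S.x ^ a) - S.y * aeval S.y B =
          (h - aeval S.x A - S.y * aeval S.y B) - algebraMap k R c * S.x ^ a := by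
        ring
      rw [e1, ← hruv, hu, pow_succ]
      linear_combination (-(S.y * u₂)) * hxa

theorem ε_aeval_y (P : k[X]) : S.ε (aeval S.y P) = P.coeff 0 := S.swap.ε_aeval_x P

/-- (KA0) if `P(x) + Q(y) ∈ J` with `P(0) = Q(0) = 0` and `a` is minimal with `x ^ a ∈ J`, then `P = 0` or
`a ≤ natTrailingDegree P + 1`. -/
theorem le_natTrailingDegree_of_mem (J : Ideal R) (hxy : S.x * S.y ∈ J) (a : ℕ)
    (hmin : ∀ m : ℕ, S.x ^ m ∈ J → a ≤ m) (P Q : k[X]) (hQ : Q.coeff 0 = 0)
    (hmem : aeval S.x P + aeval S.y Q ∈ J) : P = 0 ∨ a ≤ P.natTrailingDegree + 1 := by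
  by_cases hP : P = 0
  · exact Or.inl hP
  · right
    obtain ⟨Q₁, hQ₁⟩ : X ∣ Q := X_dvd_iff.2 hQ
    have h1 : S.x * aeval S.y Q ∈ J := by
      rw [hQ₁, map_mul, aeval_X, ← mul_assoc]
      exact J.mul_mem_right _ hxy
    have h2 : S.x * (aeval S.x P + aeval S.y Q) ∈ J := J.mul_mem_left _ hmem
    have h3 : aeval S.x (P * X ^ 1) ∈ J := by
      have : aeval S.x (P * X ^ 1) = S.x * (aeval S.x P + aeval S.y Q) - S.x * aeval S.y Q := by
        rw [map_mul, map_pow, aeval_X]; ring
      rw [this]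
      exact J.sub_mem h2 h1
    have h4 := S.x_pow_mem J (P * X ^ 1) (mul_ne_zero hP (pow_ne_zero _ X_ne_zero)) h3
    rw [natTrailingDegree_mul_X_pow hP] at h4
    exact hmin _ h4

/-- a polynomial of degree `< m + 1` whose coefficients of index `< m` vanish is a monomial. -/
theorem eq_monomial_of_coeff (A : k[X]) (m : ℕ) (hdeg : A.degree < ((m + 1 : ℕ) : ℕ))
    (hlow : ∀ i, i < m → A.coeff i = 0) : A = C (A.coeff m) * X ^ m := by
  ext i
  rw [coeff_C_mul_X_pow]
  split_ifs with h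
  · rw [h]
  · rcases lt_or_gt_of_ne h with h' | h'
    · exact hlow i h'
    · exact coeff_eq_zero_of_degree_lt (lt_of_lt_of_le hdeg (by exact_mod_cast h'))

section Classification

variable (J : Ideal R)

/-- The linear map `(A, B) ↦ [A(x) + y B(y)]`. -/
noncomputable def Θ (a b : ℕ) : (degreeLT k a × degreeLT k (b - 1)) →ₗ[k] (R ⧸ J) :=
  ((Ideal.Quotient.mkₐ k J).toLinearMap ∘ₗ (aeval S.x).toLinearMap ∘ₗ (degreeLT k a).subtype).coprod
    ((Ideal.Quotient.mkₐ k J).toLinearMap ∘ₗ (LinearMap.mulLeft k S.y) ∘ₗ (aeval S.y).toLinearMap ∘ₗ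
      (degreeLT k (b - 1)).subtype)

theorem Θ_apply (a b : ℕ) (w : degreeLT k a × degreeLT k (b - 1)) :
    S.Θ J a b w = Ideal.Quotient.mk J (aeval S.x (w.1 : k[X]) + S.y * aeval S.y (w.2 : k[X])) := by
  simp [Θ, LinearMap.coprod_apply]

theorem mem_ker_Θ (a b : ℕ) (w : degreeLT k a × degreeLT k (b - 1)) :
    w ∈ LinearMap.ker (S.Θ J a b) ↔
      aeval S.x (w.1 : k[X]) + S.y * aeval S.y (w.2 : k[X]) ∈ J := by
  rw [LinearMap.mem_ker, Θ_apply, Ideal.Quotient.eq_zero_iff_mem]

theorem ε_eq_zero_of_mem (hJ : J ≠ ⊤) (h : R) (hh : h ∈ J) : S.ε h = 0 := by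
  by_contra hne
  exact hJ (Ideal.eq_top_of_isUnit_mem J hh (S.unit_of_ne h hne))

theorem exists_x_pow_mem [Module.Finite k (R ⧸ J)] : ∃ N : ℕ, S.x ^ N ∈ J := by
  have hint : IsIntegral k (Ideal.Quotient.mk J S.x) :=
    Algebra.IsIntegral.isIntegral (R := k) _
  obtain ⟨P, hmonic, hP⟩ := hint
  have h1 : aeval (Ideal.Quotient.mkₐ k J S.x) P = 0 := hP
  rw [aeval_algHom_apply] at h1
  have h2 : aeval S.x P ∈ J := Ideal.Quotient.eq_zero_iff_mem.1 h1
  exact ⟨_, S.x_pow_mem J P hmonic.ne_zero h2⟩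

/-- kernel analysis. -/
theorem ker_analysis (hJ : J ≠ ⊤) (hxy : S.x * S.y ∈ J) (a b : ℕ)
    (hamin : ∀ m : ℕ, S.x ^ m ∈ J → a ≤ m) (hbmin : ∀ m : ℕ, S.y ^ m ∈ J → b ≤ m)
    (A B : k[X]) (hmem : aeval S.x A + S.y * aeval S.y B ∈ J) :
    A.coeff 0 = 0 ∧ (∀ i, i + 1 < a → A.coeff i = 0) ∧ (∀ j, j + 2 < b → B.coeff j = 0) := by
  have hA0 : A.coeff 0 = 0 := by
    have := S.ε_eq_zero_of_mem J hJ _ hmem
    rwa [map_add, map_mul, S.εy, zero_mul, add_zero, S.ε_aeval_x] at this
  have hXB : aeval S.y (B * X ^ 1) = S.y * aeval S.y B := by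
    rw [map_mul, map_pow, aeval_X]; ring
  have hXB0 : (B * X ^ 1).coeff 0 = 0 := by
    rw [pow_one, coeff_mul_X_zero]
  refine ⟨hA0, ?_, ?_⟩
  · intro i hi
    rcases S.le_natTrailingDegree_of_mem J hxy a hamin A (B * X ^ 1) hXB0 (by rwa [hXB]) with h | h
    · rw [h, coeff_zero]
    · exact coeff_eq_zero_of_lt_natTrailingDegree (by omega)
  · intro j hj
    by_cases hB : B = 0
    · rw [hB, coeff_zero]
    · rcases S.swap.le_natTrailingDegree_of_mem J (by rw [mul_comm]; exact hxy) b hbmin (B * X ^ 1) A hA0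
          (by
            have : aeval S.swap.x (B * X ^ 1) + aeval S.swap.y A =
                aeval S.x A + S.y * aeval S.y B := by
              change aeval S.y (B * X ^ 1) + aeval S.x A = _
              rw [hXB]; ring
            rwa [this]) with h | h
      · exact absurd h (mul_ne_zero hB (pow_ne_zero _ X_ne_zero))
      · rw [natTrailingDegree_mul_X_pow hB] at h
        exact coeff_eq_zero_of_lt_natTrailingDegree (by omega)

/-- the functional `w ↦ coefficient of index a - 1 of the first component` is injective on the kernel. -/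
theorem ker_injective (hJ : J ≠ ⊤) (hxy : S.x * S.y ∈ J) (a b : ℕ)
    (hamin : ∀ m : ℕ, S.x ^ m ∈ J → a ≤ m) (hbmin : ∀ m : ℕ, S.y ^ m ∈ J → b ≤ m)
    (w : degreeLT k a × degreeLT k (b - 1)) (hw : w ∈ LinearMap.ker (S.Θ J a b))
    (hc : (w.1 : k[X]).coeff (a - 1) = 0) : w = 0 := by
  obtain ⟨⟨A, hA⟩, ⟨B, hB⟩⟩ := w
  rw [mem_ker_Θ] at hw
  simp only at hw hc
  rw [mem_degreeLT] at hA hB
  obtain ⟨hA0, hAi, hBj⟩ := S.ker_analysis J hJ hxy a b hamin hbmin A B hw
  have hAz : A = 0 := by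
    ext i
    rw [coeff_zero]
    by_cases hi : i + 1 < a
    · exact hAi i hi
    · by_cases hi' : i = a - 1
      · rw [hi']; exact hc
      · exact coeff_eq_zero_of_degree_lt (lt_of_lt_of_le hA (by exact_mod_cast (by omega : a ≤ i)))
  have hBz : B = 0 := by
    by_contra hB0
    rw [hAz, map_zero, zero_add] at hw
    have h1 : aeval S.y (B * X ^ 1) ∈ J := by
      have : aeval S.y (B * X ^ 1) = S.y * aeval S.y B := by
        rw [map_mul, map_pow, aeval_X]; ring
      rwa [this]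
    have h2 := S.swap.x_pow_mem J (B * X ^ 1) (mul_ne_zero hB0 (pow_ne_zero _ X_ne_zero)) h1
    rw [natTrailingDegree_mul_X_pow hB0] at h2
    have h3 := hbmin _ h2
    have h4 : B.natDegree < b - 1 := by
      rw [← natDegree_lt_iff_degree_lt hB0] at hB
      exact hB
    have h5 := natTrailingDegree_le_natDegree B
    omega
  subst hAz hBz
  rfl

theorem finrank_degreeLT (m : ℕ) : Module.finrank k (degreeLT k m) = m := by
  rw [LinearEquiv.finrank_eq (degreeLTEquiv k m), Module.finrank_fin_fun]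

instance finite_degreeLT (m : ℕ) : Module.Finite k (degreeLT k m) :=
  Module.Finite.equiv (degreeLTEquiv k m).symm

theorem span3_le (hxy : S.x * S.y ∈ J) {a b : ℕ} (ha : S.x ^ a ∈ J) (hb : S.y ^ b ∈ J) :
    Ideal.span ({S.x * S.y, S.x ^ a, S.y ^ b} : Set R) ≤ J := by
  rw [Ideal.span_le]
  intro z hz
  simp only [Set.mem_insert_iff, Set.mem_singleton_iff] at hz
  rcases hz with rfl | rfl | rfl
  · exact hxy
  · exact ha
  · exact hb

theorem Θ_surjective (hxy : S.x * S.y ∈ J) {a b : ℕ} (ha1 : 1 ≤ a) (hb1 : 1 ≤ b)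
    (ha : S.x ^ a ∈ J) (hb : S.y ^ b ∈ J) : Function.Surjective (S.Θ J a b) := by
  intro q
  obtain ⟨h, rfl⟩ := Ideal.Quotient.mk_surjective q
  obtain ⟨A, B, hA, hB, hmem⟩ := S.decomp_mod a ha1 b hb1 h
  refine ⟨(⟨A, mem_degreeLT.2 hA⟩, ⟨B, mem_degreeLT.2 hB⟩), ?_⟩
  rw [Θ_apply]
  symm
  rw [Ideal.Quotient.mk_eq_mk_iff_sub_mem]
  have := S.span3_le J hxy ha hb hmem
  rwa [sub_sub] at this

/-- the classification in the abstract setting. -/
theorem classification (hxy : S.x * S.y ∈ J) [Module.Finite k (R ⧸ J)] (n : ℕ)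
    (hn : Module.finrank k (R ⧸ J) = n) (h2 : 2 ≤ n) :
    ∃ a b : ℕ, 1 ≤ a ∧ 1 ≤ b ∧
      ((a + b = n + 1 ∧ J = Ideal.span ({S.x * S.y, S.x ^ a, S.y ^ b} : Set R)) ∨
       (a + b = n ∧ ∃ α : k, α ≠ 0 ∧
        J = Ideal.span ({S.x * S.y, S.x ^ a + algebraMap k R α * S.y ^ b} : Set R))) := by
  classical
  -- `J` is proper
  have hJ : J ≠ ⊤ := by
    intro hJ
    have : Subsingleton (R ⧸ J) := Ideal.Quotient.subsingleton_iff.2 hJ
    have := Module.finrank_zero_of_subsingleton (R := k) (M := R ⧸ J)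
    omega
  have hJε := S.ε_eq_zero_of_mem J hJ
  -- minimal exponents
  have hxN := S.exists_x_pow_mem J
  have hyN := S.swap.exists_x_pow_mem J
  set a := Nat.find hxN with ha_def
  set b := Nat.find hyN with hb_def
  have ha : S.x ^ a ∈ J := Nat.find_spec hxN
  have hb : S.y ^ b ∈ J := Nat.find_spec hyN
  have hamin : ∀ m : ℕ, S.x ^ m ∈ J → a ≤ m := fun m hm => Nat.find_min' hxN hm
  have hbmin : ∀ m : ℕ, S.y ^ m ∈ J → b ≤ m := fun m hm => Nat.find_min' hyN hm
  have h1J : (1 : R) ∉ J := fun h => hJ ((Ideal.eq_top_iff_one J).2 h)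
  have ha1 : 1 ≤ a := by
    rcases Nat.eq_zero_or_pos a with h | h
    · rw [h, pow_zero] at ha; exact absurd ha h1J
    · exact h
  have hb1 : 1 ≤ b := by
    rcases Nat.eq_zero_or_pos b with h | h
    · rw [h, pow_zero] at hb; exact absurd hb h1J
    · exact h
  have hI₀ := S.span3_le J hxy ha hb
  -- the map Θ
  have hsurj := S.Θ_surjective J hxy ha1 hb1 ha hb
  have hrn := LinearMap.finrank_range_add_finrank_ker (S.Θ J a b)
  rw [LinearMap.range_eq_top.2 hsurj, finrank_top, hn, Module.finrank_prod, finrank_degreeLT,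
    finrank_degreeLT] at hrn
  -- the kernel has dimension at most one
  let lam : LinearMap.ker (S.Θ J a b) →ₗ[k] k :=
    (lcoeff k (a - 1)) ∘ₗ (degreeLT k a).subtype ∘ₗ (LinearMap.fst k _ _) ∘ₗ
      (LinearMap.ker (S.Θ J a b)).subtype
  have hlam : ∀ w : LinearMap.ker (S.Θ J a b), lam w = (w.1.1 : k[X]).coeff (a - 1) :=
    fun w => rfl
  have hinj : Function.Injective lam := by
    rw [injective_iff_map_eq_zero]
    intro w hw
    rw [hlam] at hw
    exact Subtype.ext (S.ker_injective J hJ hxy a b hamin hbmin w.1 w.2 hw)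
  have hker_le : Module.finrank k (LinearMap.ker (S.Θ J a b)) ≤ 1 := by
    have := LinearMap.finrank_le_finrank_of_injective hinj
    rwa [Module.finrank_self] at this
  rcases Nat.le_one_iff_eq_zero_or_eq_one.1 hker_le with hk0 | hk1
  · -- the kernel is trivial
    refine ⟨a, b, ha1, hb1, Or.inl ⟨by omega, ?_⟩⟩
    have hbot : LinearMap.ker (S.Θ J a b) = ⊥ := Submodule.finrank_eq_zero.1 hk0
    refine le_antisymm ?_ hI₀
    intro h hh
    obtain ⟨A, B, hA, hB, hmem⟩ := S.decomp_mod a ha1 b hb1 h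
    have hmemJ := hI₀ hmem
    have hAB : aeval S.x A + S.y * aeval S.y B ∈ J := by
      have : aeval S.x A + S.y * aeval S.y B = h - (h - aeval S.x A - S.y * aeval S.y B) := by ring
      rw [this]
      exact J.sub_mem hh hmemJ
    have hw : ((⟨A, mem_degreeLT.2 hA⟩, ⟨B, mem_degreeLT.2 hB⟩) :
        degreeLT k a × degreeLT k (b - 1)) ∈ LinearMap.ker (S.Θ J a b) := by
      rw [mem_ker_Θ]; exact hAB
    rw [hbot, Submodule.mem_bot, Prod.mk_eq_zero] at hw
    have hA0 : A = 0 := congrArg Subtype.val hw.1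
    have hB0 : B = 0 := congrArg Subtype.val hw.2
    rw [hA0, hB0, map_zero, map_zero, mul_zero, sub_zero, sub_zero] at hmem
    exact hmem
  · -- the kernel is a line
    obtain ⟨w₀, hw₀⟩ : ∃ w₀ : LinearMap.ker (S.Θ J a b), w₀ ≠ 0 := by
      by_contra hall'
      have hall : ∀ w : LinearMap.ker (S.Θ J a b), w = 0 :=
        fun w => by_contra fun h => hall' ⟨w, h⟩
      have hbot : LinearMap.ker (S.Θ J a b) = ⊥ := by
        rw [Submodule.eq_bot_iff]
        intro w hw
        exact congrArg Subtype.val (hall ⟨w, hw⟩)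
      rw [hbot, finrank_bot] at hk1
      exact zero_ne_one hk1
    have hlam₀ : lam w₀ ≠ 0 := fun h0 => hw₀ (hinj (by rw [h0, map_zero]))
    have hspan : ∀ w : LinearMap.ker (S.Θ J a b), ∃ t : k, t • w₀ = w := by
      intro w
      refine ⟨lam w / lam w₀, ?_⟩
      apply hinj
      rw [map_smul, smul_eq_mul, div_mul_cancel₀ _ hlam₀]
    obtain ⟨⟨⟨A₀, hA₀⟩, ⟨B₀, hB₀⟩⟩, hw₀ker⟩ := w₀
    have hmem₀ : aeval S.x A₀ + S.y * aeval S.y B₀ ∈ J := (S.mem_ker_Θ J a b _).1 hw₀ker
    rw [mem_degreeLT] at hA₀ hB₀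
    obtain ⟨hA0, hAi, hBj⟩ := S.ker_analysis J hJ hxy a b hamin hbmin A₀ B₀ hmem₀
    set c := A₀.coeff (a - 1) with hc_def
    have hc : c ≠ 0 := by
      intro hc0
      apply hw₀
      apply hinj
      rw [map_zero, hlam]
      exact hc0
    have ha2 : 2 ≤ a := by
      by_contra hlt
      have : a - 1 = 0 := by omega
      rw [hc_def, this] at hc
      exact hc hA0
    have hAeq : A₀ = C c * X ^ (a - 1) := by
      apply eq_monomial_of_coeff A₀ (a - 1)
      · have : a - 1 + 1 = a := by omega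
        rw [this]; exact hA₀
      · intro i hi
        exact hAi i (by omega)
    have hxa1 : S.x ^ (a - 1) ∉ J := fun h => by
      have := hamin _ h
      omega
    have hb2 : 2 ≤ b := by
      by_contra hlt
      have hb' : b - 1 = 0 := by omega
      rw [hb'] at hB₀
      have hBz : B₀ = 0 := by
        rw [← degree_eq_bot]
        exact (Nat.WithBot.lt_zero_iff).1 (by exact_mod_cast hB₀)
      rw [hBz, map_zero, mul_zero, add_zero, hAeq, map_mul, aeval_C, map_pow, aeval_X] at hmem₀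
      have hu : IsUnit (algebraMap k R c) := (IsUnit.mk0 c hc).map (algebraMap k R)
      exact hxa1 ((Ideal.unit_mul_mem_iff_mem J hu).1 hmem₀)
    set d := B₀.coeff (b - 2) with hd_def
    have hBeq : B₀ = C d * X ^ (b - 2) := by
      apply eq_monomial_of_coeff B₀ (b - 2)
      · have : b - 2 + 1 = b - 1 := by omega
        rw [this]; exact hB₀
      · intro j hj
        exact hBj j (by omega)
    have hgen : algebraMap k R c * S.x ^ (a - 1) + algebraMap k R d * S.y ^ (b - 1) ∈ J := by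
      have : aeval S.x A₀ + S.y * aeval S.y B₀ =
          algebraMap k R c * S.x ^ (a - 1) + algebraMap k R d * S.y ^ (b - 1) := by
        rw [hAeq, hBeq, map_mul, aeval_C, map_pow, aeval_X, map_mul, aeval_C, map_pow, aeval_X]
        have : S.y ^ (b - 1) = S.y * S.y ^ (b - 2) := by
          rw [← pow_succ']; congr 1; omega
        rw [this]; ring
      rwa [← this]
    have hd : d ≠ 0 := by
      intro hd0
      rw [hd0, map_zero, zero_mul, add_zero] at hgen
      have hu : IsUnit (algebraMap k R c) := (IsUnit.mk0 c hc).map (algebraMap k R)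
      exact hxa1 ((Ideal.unit_mul_mem_iff_mem J hu).1 hgen)
    -- the generator
    set g := S.x ^ (a - 1) + algebraMap k R (d / c) * S.y ^ (b - 1) with hg_def
    have hcg : algebraMap k R c * g =
        algebraMap k R c * S.x ^ (a - 1) + algebraMap k R d * S.y ^ (b - 1) := by
      rw [hg_def, mul_add, ← mul_assoc, ← map_mul, mul_div_cancel₀ d hc]
    have hgJ : g ∈ J := by
      have hu : IsUnit (algebraMap k R c) := (IsUnit.mk0 c hc).map (algebraMap k R)
      rw [← Ideal.unit_mul_mem_iff_mem J hu, hcg]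
      exact hgen
    have hα : d / c ≠ 0 := div_ne_zero hd hc
    refine ⟨a - 1, b - 1, by omega, by omega, Or.inr ⟨by omega, d / c, hα, ?_⟩⟩
    have hJ₁le : Ideal.span ({S.x * S.y, g} : Set R) ≤ J := by
      rw [Ideal.span_le]
      intro z hz
      simp only [Set.mem_insert_iff, Set.mem_singleton_iff] at hz
      rcases hz with rfl | rfl
      · exact hxy
      · exact hgJ
    refine le_antisymm ?_ hJ₁le
    -- `I₀ ≤ J₁`
    have hxyJ₁ : S.x * S.y ∈ Ideal.span ({S.x * S.y, g} : Set R) :=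
      Ideal.subset_span (Set.mem_insert _ _)
    have hgJ₁ : g ∈ Ideal.span ({S.x * S.y, g} : Set R) :=
      Ideal.subset_span (Set.mem_insert_of_mem _ rfl)
    have hxaJ₁ : S.x ^ a ∈ Ideal.span ({S.x * S.y, g} : Set R) := by
      have : S.x ^ a = S.x * g - algebraMap k R (d / c) * S.y ^ (b - 2) * (S.x * S.y) := by
        have e1 : S.x ^ a = S.x * S.x ^ (a - 1) := by
          rw [← pow_succ']; congr 1; omega
        have e2 : S.y ^ (b - 1) = S.y ^ (b - 2) * S.y := by
          rw [← pow_succ]; congr 1; omega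
        rw [hg_def, e1, e2]; ring
      rw [this]
      exact Ideal.sub_mem _ (Ideal.mul_mem_left _ _ hgJ₁) (Ideal.mul_mem_left _ _ hxyJ₁)
    have hybJ₁ : S.y ^ b ∈ Ideal.span ({S.x * S.y, g} : Set R) := by
      have hu : IsUnit (algebraMap k R (d / c)) := (IsUnit.mk0 _ hα).map (algebraMap k R)
      rw [← Ideal.unit_mul_mem_iff_mem _ hu]
      have : algebraMap k R (d / c) * S.y ^ b = S.y * g - S.x ^ (a - 2) * (S.x * S.y) := by
        have e1 : S.x ^ (a - 1) = S.x ^ (a - 2) * S.x := by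
          rw [← pow_succ]; congr 1; omega
        have e2 : S.y ^ b = S.y * S.y ^ (b - 1) := by
          rw [← pow_succ']; congr 1; omega
        rw [hg_def, e1, e2]; ring
      rw [this]
      exact Ideal.sub_mem _ (Ideal.mul_mem_left _ _ hgJ₁) (Ideal.mul_mem_left _ _ hxyJ₁)
    have hI₀J₁ := S.span3_le _ hxyJ₁ hxaJ₁ hybJ₁
    intro h hh
    obtain ⟨A, B, hA, hB, hmem⟩ := S.decomp_mod a ha1 b hb1 h
    have hmemJ := hI₀ hmem
    have hAB : aeval S.x A + S.y * aeval S.y B ∈ J := by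
      have : aeval S.x A + S.y * aeval S.y B = h - (h - aeval S.x A - S.y * aeval S.y B) := by ring
      rw [this]
      exact J.sub_mem hh hmemJ
    have hw : ((⟨A, mem_degreeLT.2 hA⟩, ⟨B, mem_degreeLT.2 hB⟩) :
        degreeLT k a × degreeLT k (b - 1)) ∈ LinearMap.ker (S.Θ J a b) := by
      rw [mem_ker_Θ]; exact hAB
    obtain ⟨t, ht⟩ := hspan ⟨_, hw⟩
    have ht' := congrArg Subtype.val ht
    simp only [Submodule.coe_smul, Prod.smul_mk, Prod.mk.injEq] at ht'
    have hA' : A = t • A₀ := (congrArg Subtype.val ht'.1).symm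
    have hB' : B = t • B₀ := (congrArg Subtype.val ht'.2).symm
    have hABg : aeval S.x A + S.y * aeval S.y B = algebraMap k R (t * c) * g := by
      rw [map_mul, mul_assoc, hcg, hA', hB', smul_eq_C_mul, smul_eq_C_mul, hAeq, hBeq]
      simp only [map_mul, aeval_C, map_pow, aeval_X]
      have : S.y ^ (b - 1) = S.y * S.y ^ (b - 2) := by
        rw [← pow_succ']; congr 1; omega
      rw [this]; ring
    have : h = (h - aeval S.x A - S.y * aeval S.y B) + algebraMap k R (t * c) * g := by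
      rw [← hABg]; ring
    rw [this]
    exact Ideal.add_mem _ (hI₀J₁ hmem) (Ideal.mul_mem_left _ _ hgJ₁)

end Classification

end Setup

end Groth.Agent.Lib.Seat95.Nodal
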