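import Mathlib
import Groth.Prelude.Def_Omega2
import Groth.Prelude.Def_FlatMod2
import Groth.Agent.Lib.Helper20OmegaQCoh
import Groth.Agent.Lib.Helper20LocFree
import Groth.Agent.Lib.Helper20PullbackAff
import Groth.Agent.Lib.Helper2SemiLocFree

/-!
# `Omega.sheaf f` on charts: freeness and ranks (helper95)
-/

set_option autoImplicit false
set_option linter.style.haveILetI false
universe u
open CategoryTheory AlgebraicGeometry TensorProduct KaehlerDifferential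

namespace Groth.Agent.Lib.Seat95.OmegaRank

open Groth.Agent.Lib.Helper20.Thickening Groth.Agent.Lib.Helper20.OmegaQCoh

variable {X Y : Scheme.{u}} (f : X ⟶ Y)

/-- Sections of `Ω_f` over an affine chart are the Kähler differentials of the chart. -/
noncomputable def omegaSectionsIso [QuasiSeparated f] {U : X.Opens} (hU : IsAffineOpen U)
    {V : Y.Opens} (hV : IsAffineOpen V) (h : U ≤ f ⁻¹ᵁ V) :
    letI := (f.appLE V U h).hom.toAlgebra
    (ΓUF hU).obj (Omega.sheaf f) ≅ ModuleCat.of Γ(X, U) (Ω[Γ(X, U)⁄Γ(Y, V)]) :=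
  letI := (f.appLE V U h).hom.toAlgebra
  (moduleSpecΓFunctor (R := Γ(X, U))).mapIso (omegaRestrictIso' f hU hV h) ≪≫
    ((tilde.toTildeΓNatIso (R := Γ(X, U))).app
      (ModuleCat.of Γ(X, U) (Ω[Γ(X, U)⁄Γ(Y, V)]))).symm

/-- `Ω_f` is locally free of rank `n` for `f` smooth of relative dimension `n`. -/
theorem isFinLocFreeOfRank_omega [QuasiSeparated f] (n : ℕ) [SmoothOfRelativeDimension n f] :
    FlatMod.IsFinLocFreeOfRank n (Omega.sheaf f) := by
  haveI := isQuasicoherent_omega f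
  intro x
  obtain ⟨V, hV, U, hU, hxU, hUV, hn⟩ :=
    SmoothOfRelativeDimension.exists_isStandardSmoothOfRelativeDimension (n := n) (f := f) x
  letI algAB : Algebra Γ(Y, V) Γ(X, U) := (f.appLE V U hUV).hom.toAlgebra
  haveI : Algebra.IsStandardSmoothOfRelativeDimension n Γ(Y, V) Γ(X, U) := hn
  haveI : Algebra.IsStandardSmooth Γ(Y, V) Γ(X, U) :=
    Algebra.IsStandardSmoothOfRelativeDimension.isStandardSmooth n
  haveI : Nonempty U := ⟨⟨x, hxU⟩⟩
  haveI : Nontrivial Γ(X, U) := inferInstance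
  have hrank : Module.rank Γ(X, U) Ω[Γ(X, U)⁄Γ(Y, V)] = n :=
    Algebra.IsStandardSmoothOfRelativeDimension.rank_kaehlerDifferential n
  haveI : Module.Free Γ(X, U) Ω[Γ(X, U)⁄Γ(Y, V)] := inferInstance
  haveI : Module.Finite Γ(X, U) Ω[Γ(X, U)⁄Γ(Y, V)] := inferInstance
  have hfin : Module.finrank Γ(X, U) Ω[Γ(X, U)⁄Γ(Y, V)] = n := by
    rw [Module.finrank, hrank]
    exact Cardinal.toNat_natCast n
  let b : Module.Basis (Fin n) Γ(X, U) Ω[Γ(X, U)⁄Γ(Y, V)] := Module.finBasisOfFinrankEq _ _ hfin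
  let e : ((ΓUF hU).obj (Omega.sheaf f)) ≃ₗ[Γ(X, U)] Ω[Γ(X, U)⁄Γ(Y, V)] :=
    (omegaSectionsIso f hU hV hUV).toLinearEquiv
  exact ⟨U, hxU, ⟨Groth.Agent.Lib.Helper20.LocFree.restrictIsoFreeMod' (Omega.sheaf f) hU
    (b.map e.symm)⟩⟩

section rank

open Groth.Agent.Lib.Helper2.FlatOver Groth.Agent.Lib.Helper2.QCoh Groth.Agent.Lib.Helper2.LocFree
open Groth.Agent.Lib.Helper2.RankLoc Groth.Agent.Lib.Helper2.FPAff Groth.Agent.Lib.Helper20.LocFree
open Groth.Agent.Lib.Helper2.SemiLocFree Groth.Agent.Lib.Helper20.PullbackAff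

/-- If `Ω_f` is locally free of rank `n`, the Kähler differentials of every affine chart are flat
of rank `n` at every point of the chart. -/
theorem flat_and_rankAtStalk_kaehler [QuasiSeparated f] {n : ℕ}
    (hfree : FlatMod.IsFinLocFreeOfRank n (Omega.sheaf f)) {U : X.Opens} (hU : IsAffineOpen U)
    {V : Y.Opens} (hV : IsAffineOpen V) (h : U ≤ f ⁻¹ᵁ V) (x : X) (hxU : x ∈ U) :
    letI := (f.appLE V U h).hom.toAlgebra
    Module.Flat Γ(X, U) Ω[Γ(X, U)⁄Γ(Y, V)] ∧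
      Module.rankAtStalk Ω[Γ(X, U)⁄Γ(Y, V)] (hU.primeIdealOf ⟨x, hxU⟩) = n := by
  letI := (f.appLE V U h).hom.toAlgebra
  haveI := isQuasicoherent_omega f
  have hlf : FlatMod.IsFinLocFree (Omega.sheaf f) := fun x => by
    obtain ⟨W, hx, hW⟩ := hfree x
    exact ⟨W, n, hx, hW⟩
  haveI : Module.Flat Γ(X, U) Γ(Omega.sheaf f, U) :=
    flat_sections_of_isFlatAt (Omega.sheaf f) hU
      (fun x _ => isFlat_of_isFinLocFree (Omega.sheaf f) hlf x)
  have hr : Module.rankAtStalk Γ(Omega.sheaf f, U) (hU.primeIdealOf ⟨x, hxU⟩) = n := by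
    rw [rankAtStalk_sections]
    obtain ⟨W, hxW, ⟨e⟩⟩ := hfree x
    obtain ⟨hfr, hrk⟩ := fibreRank_eq_of_restrict_iso_freeMod W.ι (Omega.sheaf f) e ⟨x, hxW⟩
    haveI : Module.Free (X.presheaf.stalk x) ((Omega.sheaf f).presheaf.stalk x) := hfr
    rw [← hrk]
    exact (Module.finrank_baseChange (R := IsLocalRing.ResidueField (X.presheaf.stalk x))
      (S := X.presheaf.stalk x) (M' := (Omega.sheaf f).presheaf.stalk x)).symm
  let e : Γ(Omega.sheaf f, U) ≃ₗ[Γ(X, U)] Ω[Γ(X, U)⁄Γ(Y, V)] :=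
    (ΓUEquiv hU (Omega.sheaf f)).trans (omegaSectionsIso f hU hV h).toLinearEquiv
  refine ⟨Module.Flat.of_linearEquiv e.symm, ?_⟩
  rw [← Module.rankAtStalk_eq_of_equiv e]
  exact hr

end rank

end Groth.Agent.Lib.Seat95.OmegaRank
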