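import Mathlib
import Groth.Agent.Lib.Helper6Tower
import Groth.Agent.Lib.Seat95RelDimRank

/-!
# Smoothness at a prime from the rank of relative differentials (helper95)
-/

set_option autoImplicit false
set_option linter.style.haveILetI false
universe u
open TensorProduct KaehlerDifferential IsLocalRing

namespace Groth.Agent.Lib.Seat95.RankSmooth

section linalg

variable {K V₁ V₂ V₃ : Type*} [Field K] [AddCommGroup V₁] [AddCommGroup V₂] [AddCommGroup V₃]
  [Module K V₁] [Module K V₂] [Module K V₃]

/-- Rank–nullity: in an exact sequence `V₁ → V₂ → V₃ → 0` of finite dimensional spaces with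
`dim V₁ + dim V₃ ≤ dim V₂`, the first map is injective. -/
theorem injective_of_exact_of_finrank_le [FiniteDimensional K V₁] [FiniteDimensional K V₂]
    (f : V₁ →ₗ[K] V₂) (g : V₂ →ₗ[K] V₃) (hex : Function.Exact f g)
    (hg : Function.Surjective g)
    (h : Module.finrank K V₁ + Module.finrank K V₃ ≤ Module.finrank K V₂) :
    Function.Injective f := by
  have h1 := LinearMap.finrank_range_add_finrank_ker f
  have h2 := LinearMap.finrank_range_add_finrank_ker g
  have h3 : LinearMap.ker g = LinearMap.range f := (LinearMap.exact_iff.mp hex)
  have h4 : Module.finrank K (LinearMap.range g) = Module.finrank K V₃ := by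
    rw [LinearMap.range_eq_top.mpr hg, finrank_top]
  rw [h3, h4] at h2
  have h5 : Module.finrank K (LinearMap.ker f) = 0 := by omega
  rw [← LinearMap.ker_eq_bot]
  exact Submodule.finrank_eq_zero.mp h5

end linalg

section loc

variable (B : Type u) [CommRing B] [IsLocalRing B] (M : Type u) [AddCommGroup M] [Module B M]
  [Module.Finite B M] [Module.Flat B M]

theorem finrank_residue_tensor :
    Module.finrank (ResidueField B) (ResidueField B ⊗[B] M) =
      Module.rankAtStalk M (closedPoint B) := by
  haveI : Module.Free B M := Module.free_of_flat_of_isLocalRing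
  rw [Module.finrank_baseChange, Module.rankAtStalk_eq_finrank_of_free]
  rfl

end loc

variable (k R S : Type u) [Field k] [IsAlgClosed k] [CommRing R] [CommRing S]
  [Algebra k R] [Algebra k S] [Algebra R S] [IsScalarTower k R S]
  [Algebra.FiniteType k R] [Algebra.FiniteType k S] [IsDomain R] [IsDomain S]

/-- If `R → S` is a map of smooth domains of finite type over an algebraically closed field,
of dimensions `dY` and `dY + n`, and `Ω[S⁄R]` is flat of rank at most `n` at the prime `q`, then
`S_q` is formally smooth over `R`. -/
theorem formallySmooth_localization_of_rankAtStalk_le [Algebra.FormallySmooth k R]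
    [Algebra.FormallySmooth k S] (dY n : ℕ) (hR : ringKrullDim R = dY)
    (hS : ringKrullDim S = ((dY + n : ℕ) : WithBot ℕ∞)) (q : Ideal S) [hq : q.IsPrime]
    [Module.Flat S Ω[S⁄R]] (hrank : Module.rankAtStalk Ω[S⁄R] ⟨q, hq⟩ ≤ n) :
    Algebra.FormallySmooth R (Localization.AtPrime q) := by
  haveI : Algebra.FiniteType R S := Algebra.FiniteType.of_restrictScalars_finiteType k R S
  haveI : Algebra.FormallyEtale S (Localization.AtPrime q) :=
    Algebra.FormallyEtale.of_isLocalization q.primeCompl
  haveI : Algebra.FormallySmooth k (Localization.AtPrime q) :=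
    Algebra.FormallySmooth.comp k S _
  haveI : Algebra.EssFiniteType k (Localization.AtPrime q) := Algebra.EssFiniteType.comp k S _
  haveI : Algebra.EssFiniteType R (Localization.AtPrime q) := Algebra.EssFiniteType.comp R S _
  haveI : Module.Free (Localization.AtPrime q) Ω[Localization.AtPrime q⁄k] :=
    Module.free_of_flat_of_isLocalRing
  -- base change descriptions
  have hbc1 : IsBaseChange (Localization.AtPrime q) (KaehlerDifferential.map k k S
      (Localization.AtPrime q)) :=
    KaehlerDifferential.isBaseChange_of_formallyEtale k S (Localization.AtPrime q)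
  have hbc2 : IsBaseChange (Localization.AtPrime q) (KaehlerDifferential.map R R S
      (Localization.AtPrime q)) :=
    KaehlerDifferential.isBaseChange_of_formallyEtale R S (Localization.AtPrime q)
  haveI : Module.Flat (Localization.AtPrime q) Ω[Localization.AtPrime q⁄R] :=
    Module.Flat.isBaseChange S (Localization.AtPrime q) Ω[S⁄R] _ hbc2
  have hcp : (closedPoint (Localization.AtPrime q)).comap
      (algebraMap S (Localization.AtPrime q)) = ⟨q, hq⟩ :=
    PrimeSpectrum.ext (IsLocalization.AtPrime.under_maximalIdeal (Localization.AtPrime q) q)
  -- the three dimensions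
  have d1 : Module.finrank (ResidueField (Localization.AtPrime q))
      (ResidueField (Localization.AtPrime q) ⊗[Localization.AtPrime q]
        (Localization.AtPrime q ⊗[R] Ω[R⁄k])) = dY := by
    rw [finrank_residue_tensor, Module.rankAtStalk_baseChange]
    exact Groth.Agent.Lib.Seat95.RelDimRank.rankAtStalk_kaehler_eq_dim k R dY hR _
  have d2 : Module.finrank (ResidueField (Localization.AtPrime q))
      (ResidueField (Localization.AtPrime q) ⊗[Localization.AtPrime q]
        Ω[Localization.AtPrime q⁄k]) = dY + n := by
    rw [finrank_residue_tensor, Module.rankAtStalk_isBaseChange hbc1]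
    exact Groth.Agent.Lib.Seat95.RelDimRank.rankAtStalk_kaehler_eq_dim k S (dY + n) hS _
  have d3 : Module.finrank (ResidueField (Localization.AtPrime q))
      (ResidueField (Localization.AtPrime q) ⊗[Localization.AtPrime q]
        Ω[Localization.AtPrime q⁄R]) ≤ n := by
    rw [finrank_residue_tensor, Module.rankAtStalk_isBaseChange hbc2, hcp]
    exact hrank
  rw [Groth.Agent.Lib.Helper6.Tower.formallySmooth_iff_exists_retraction k R
      (Localization.AtPrime q),
    IsLocalRing.split_injective_iff_lTensor_residueField_injective]
  show Function.Injective ((mapBaseChange k R (Localization.AtPrime q)).baseChange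
    (ResidueField (Localization.AtPrime q)))
  refine injective_of_exact_of_finrank_le _
    ((KaehlerDifferential.map k R (Localization.AtPrime q) (Localization.AtPrime q)).baseChange
      (ResidueField (Localization.AtPrime q))) ?_ ?_ ?_
  · exact lTensor_exact _ (KaehlerDifferential.exact_mapBaseChange_map k R _)
      (KaehlerDifferential.map_surjective k R _)
  · exact LinearMap.lTensor_surjective _ (KaehlerDifferential.map_surjective k R _)
  · rw [d1, d2]
    omega

end Groth.Agent.Lib.Seat95.RankSmooth
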