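import Mathlib
import Groth.Agent.Lib.Seat95CotSmoothSch
import Groth.Agent.Lib.Seat95RankSmooth
import Groth.Agent.Lib.Seat95OmegaRank

/-!
# Hartshorne III.10.4 (a)⇔(b): smooth of relative dimension `n` iff `Ω_{X/Y}` locally free of
rank `n`, for morphisms of smooth varieties over an algebraically closed field (helper95)
-/

set_option autoImplicit false
set_option linter.style.haveILetI false
universe u
open CategoryTheory AlgebraicGeometry TensorProduct KaehlerDifferential IsLocalRing

namespace Groth.Agent.Lib.Seat95.OmegaSmooth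

open Groth.Agent.Lib.Helper4.VarDim Groth.Agent.Lib.Seat95.CotSmoothSch

attribute [local instance] Curv2.stalkAlgebra sectionsAlgebra Curv2.resAlgebra

variable (k : Type u) [Field k] {X Y : Scheme.{u}} [X.Over (Spec (CommRingCat.of k))]
  [Y.Over (Spec (CommRingCat.of k))] (f : X ⟶ Y) [f.IsOver (Spec (CommRingCat.of k))]

/-- If `Ω_{X/Y}` is locally free of rank `n = dim X - dim Y`, then `f` is smooth. -/
theorem smooth_of_isFinLocFreeOfRank_omega [IsAlgClosed k] [IsIntegral X] [IsIntegral Y]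
    [LocallyOfFiniteType (X ↘ Spec (CommRingCat.of k))]
    [LocallyOfFiniteType (Y ↘ Spec (CommRingCat.of k))]
    [Smooth (X ↘ Spec (CommRingCat.of k))] [Smooth (Y ↘ Spec (CommRingCat.of k))]
    [QuasiSeparated f] (n dY : ℕ) (hY : topologicalKrullDim Y = dY)
    (hX : topologicalKrullDim X = ((dY + n : ℕ) : WithBot ℕ∞))
    (hfree : FlatMod.IsFinLocFreeOfRank n (Omega.sheaf f)) : Smooth f := by
  haveI : LocallyOfFiniteType (f ≫ (Y ↘ Spec (CommRingCat.of k))) := by
    rw [comp_over]; infer_instance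
  haveI : LocallyOfFiniteType f := locallyOfFiniteType_of_comp f (Y ↘ Spec (CommRingCat.of k))
  haveI : IsLocallyNoetherian Y :=
    LocallyOfFiniteType.isLocallyNoetherian (Y ↘ Spec (CommRingCat.of k))
  haveI : LocallyOfFinitePresentation f := inferInstance
  rw [← Scheme.Hom.smoothLocus_eq_top_iff, ← top_le_iff]
  rintro x -
  obtain ⟨V, hV, hxV, -⟩ := exists_isAffineOpen_mem_and_subset (x := f x) (U := ⊤) trivial
  obtain ⟨U, hU, hxU, hUV⟩ := exists_isAffineOpen_mem_and_subset (x := x) (U := f ⁻¹ᵁ V) hxV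
  rw [Scheme.Hom.mem_smoothLocus, formallySmooth_stalkMap_iff V hV U hU hUV hxU]
  letI : Algebra Γ(Y, V) Γ(X, U) := (f.appLE V U hUV).hom.toAlgebra
  haveI : IsScalarTower k Γ(Y, V) Γ(X, U) := isScalarTower_sections k f V U hUV
  haveI := finiteType_sections k X hU
  haveI := finiteType_sections k Y hV
  haveI : Nonempty U := ⟨⟨x, hxU⟩⟩
  haveI : Nonempty V := ⟨⟨f x, hxV⟩⟩
  haveI : IsDomain Γ(X, U) := inferInstance
  haveI : IsDomain Γ(Y, V) := inferInstance
  haveI := formallySmooth_sections k X hU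
  haveI := formallySmooth_sections k Y hV
  have hS : ringKrullDim Γ(X, U) = ((dY + n : ℕ) : WithBot ℕ∞) := by
    rw [← topologicalKrullDim_eq_ringKrullDim hU,
      topologicalKrullDim_opens_eq_of_irreducible k X U ⟨x, hxU⟩, hX]
  have hR : ringKrullDim Γ(Y, V) = dY := by
    rw [← topologicalKrullDim_eq_ringKrullDim hV,
      topologicalKrullDim_opens_eq_of_irreducible k Y V ⟨f x, hxV⟩, hY]
  obtain ⟨hflat, hrank⟩ := Groth.Agent.Lib.Seat95.OmegaRank.flat_and_rankAtStalk_kaehler f hfree
    hU hV hUV x hxU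
  haveI := hflat
  exact Groth.Agent.Lib.Seat95.RankSmooth.formallySmooth_localization_of_rankAtStalk_le k
    Γ(Y, V) Γ(X, U) dY n hR hS (hU.primeIdealOf ⟨x, hxU⟩).asIdeal hrank.le

/-- **Hartshorne III.10.4 (a)⇔(b).** -/
theorem smoothOfRelativeDimension_iff_isFinLocFreeOfRank_omega [IsAlgClosed k] [IsIntegral X]
    [IsIntegral Y] [LocallyOfFiniteType (X ↘ Spec (CommRingCat.of k))]
    [LocallyOfFiniteType (Y ↘ Spec (CommRingCat.of k))]
    [Smooth (X ↘ Spec (CommRingCat.of k))] [Smooth (Y ↘ Spec (CommRingCat.of k))]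
    [QuasiSeparated f] (n dY : ℕ) (hY : topologicalKrullDim Y = dY)
    (hX : topologicalKrullDim X = ((dY + n : ℕ) : WithBot ℕ∞)) :
    SmoothOfRelativeDimension n f ↔ FlatMod.IsFinLocFreeOfRank n (Omega.sheaf f) := by
  constructor
  · intro h
    exact Groth.Agent.Lib.Seat95.OmegaRank.isFinLocFreeOfRank_omega f n
  · intro h
    haveI := smooth_of_isFinLocFreeOfRank_omega k f n dY hY hX h
    exact smoothOfRelativeDimension_of_smooth k f n dY hY hX

end Groth.Agent.Lib.Seat95.OmegaSmooth
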