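import Mathlib

set_option autoImplicit false
universe u v w
open scoped Pointwise

namespace Groth.Agent.Lib.Seat95.QuotEtale

section Residue

variable (k : Type u) [Field k] [IsAlgClosed k]
  (R : Type v) [CommRing R] [Algebra k R] [Algebra.FiniteType k R]
  (m : Ideal R) [m.IsMaximal]

theorem exists_sub_mem (r : R) : ∃ c : k, r - algebraMap k R c ∈ m := by
  letI := Ideal.Quotient.field m
  haveI : Algebra.FiniteType k (R ⧸ m) :=
    Algebra.FiniteType.of_surjective (Ideal.Quotient.mkₐ k m) (Ideal.Quotient.mkₐ_surjective k m)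
  haveI : Module.Finite k (R ⧸ m) := finite_of_finite_type_of_isJacobsonRing k (R ⧸ m)
  haveI : Algebra.IsIntegral k (R ⧸ m) := Algebra.IsIntegral.of_finite k (R ⧸ m)
  obtain ⟨c, hc⟩ := (IsAlgClosed.algebraMap_bijective_of_isIntegral (k := k) (K := R ⧸ m)).2
    (Ideal.Quotient.mk m r)
  refine ⟨c, ?_⟩
  rw [← Ideal.Quotient.eq, ← hc]
  rfl

theorem exists_sub_mem_maximalIdeal (x : Localization.AtPrime m) :
    ∃ c : k, x - algebraMap k (Localization.AtPrime m) c ∈
      IsLocalRing.maximalIdeal (Localization.AtPrime m) := by
  obtain ⟨r, hr⟩ := m.algebraMap_residueField_surjective (IsLocalRing.residue _ x)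
  obtain ⟨c, hc⟩ := exists_sub_mem k R m r
  refine ⟨c, ?_⟩
  have h1 : x - algebraMap R (Localization.AtPrime m) r ∈
      IsLocalRing.maximalIdeal (Localization.AtPrime m) := by
    rw [← IsLocalRing.residue_eq_zero_iff, map_sub, sub_eq_zero]
    exact hr.symm
  have h2 : algebraMap R (Localization.AtPrime m) (r - algebraMap k R c) ∈
      IsLocalRing.maximalIdeal (Localization.AtPrime m) := by
    rw [← Localization.AtPrime.map_eq_maximalIdeal]
    exact Ideal.mem_map_of_mem _ hc
  have h3 : x - algebraMap k (Localization.AtPrime m) c =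
      (x - algebraMap R (Localization.AtPrime m) r) +
        algebraMap R (Localization.AtPrime m) (r - algebraMap k R c) := by
    rw [map_sub, ← IsScalarTower.algebraMap_apply k R (Localization.AtPrime m)]
    ring
  rw [h3]
  exact Ideal.add_mem _ h1 h2

end Residue

section Forward

variable (k : Type u) [Field k] [IsAlgClosed k]
  (R : Type v) [CommRing R] [IsDomain R] [Algebra k R] [Algebra.FiniteType k R]
  (G : Type w) [Group G] [MulSemiringAction G R] [FaithfulSMul G R] [SMulCommClass G k R]
  (B : Type v) [CommRing B] [Algebra k B] [Algebra B R] [IsScalarTower k B R]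
  [SMulCommClass G B R]
  (m : Ideal R) [m.IsMaximal]

include k in
theorem stabilizer_eq_bot_of_formallyUnramified
    [Algebra.FormallyUnramified B (Localization.AtPrime m)] :
    MulAction.stabilizer G m = ⊥ := by
  rw [eq_bot_iff]
  intro g hg
  rw [MulAction.mem_stabilizer_iff] at hg
  rw [Subgroup.mem_bot]
  -- the induced automorphism of the local ring
  let σ : R →ₐ[B] R := MulSemiringAction.toAlgHom B R g
  have hσ : ∀ x, σ x = g • x := fun x => rfl
  have hcomap : m = m.comap σ.toRingHom := by
    ext x
    rw [Ideal.mem_comap]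
    change x ∈ m ↔ g • x ∈ m
    conv_rhs => rw [← hg]
    exact (Ideal.smul_mem_pointwise_smul_iff).symm
  let Rm := Localization.AtPrime m
  let τ0 : Rm →+* Rm := Localization.localRingHom m m σ.toRingHom hcomap
  have hτ0 : ∀ x : R, τ0 (algebraMap R Rm x) = algebraMap R Rm (g • x) := fun x =>
    Localization.localRingHom_to_map m m σ.toRingHom hcomap x
  let τ : Rm →ₐ[B] Rm :=
    { τ0 with
      commutes' := fun b => by
        change τ0 (algebraMap B Rm b) = algebraMap B Rm b
        rw [IsScalarTower.algebraMap_apply B R Rm, hτ0, ← hσ, AlgHom.commutes] }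
  have hτ : ∀ x : R, τ (algebraMap R Rm x) = algebraMap R Rm (g • x) := hτ0
  haveI : IsLocalHom τ0 := Localization.isLocalHom_localRingHom m m σ.toRingHom hcomap
  haveI : IsNoetherianRing R := Algebra.FiniteType.isNoetherianRing k R
  haveI : IsNoetherianRing Rm := IsLocalization.isNoetherianRing m.primeCompl Rm inferInstance
  have hK : ⨅ i, (IsLocalRing.maximalIdeal Rm) ^ i = ⊥ :=
    Ideal.iInf_pow_eq_bot_of_isLocalRing _ (IsLocalRing.maximalIdeal.isMaximal Rm).ne_top
  have key : τ = AlgHom.id B Rm := by
    apply Algebra.FormallyUnramified.ext_of_iInf (I := IsLocalRing.maximalIdeal Rm) hK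
    intro x
    rw [Ideal.Quotient.eq]
    obtain ⟨c, hc⟩ := exists_sub_mem_maximalIdeal k R m x
    have hτc : τ (algebraMap k Rm c) = algebraMap k Rm c := by
      have : algebraMap k Rm c = algebraMap B Rm (algebraMap k B c) := by
        rw [IsScalarTower.algebraMap_apply k R Rm, IsScalarTower.algebraMap_apply k B R,
          ← IsScalarTower.algebraMap_apply B R Rm]
      rw [this, AlgHom.commutes]
    have h1 : τ (x - algebraMap k Rm c) ∈ IsLocalRing.maximalIdeal Rm := by
      change τ0 (x - algebraMap k Rm c) ∈ IsLocalRing.maximalIdeal Rm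
      rw [IsLocalRing.mem_maximalIdeal, mem_nonunits_iff] at hc ⊢
      intro hu
      exact hc (isUnit_of_map_unit τ0 _ hu)
    have h2 : τ x - (AlgHom.id B Rm) x =
        τ (x - algebraMap k Rm c) - (x - algebraMap k Rm c) := by
      rw [map_sub, hτc, AlgHom.id_apply]
      ring
    rw [h2]
    exact Ideal.sub_mem _ h1 hc
  -- hence `g` acts trivially on `R`
  have hinj : Function.Injective (algebraMap R Rm) :=
    IsLocalization.injective Rm m.primeCompl_le_nonZeroDivisors
  apply FaithfulSMul.eq_of_smul_eq_smul (α := R)
  intro x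
  apply hinj
  rw [← hτ, key, AlgHom.id_apply, one_smul]

end Forward

section Orbit

variable {R : Type v} [CommRing R] {G : Type w} [Group G] [MulSemiringAction G R]
  (m : Ideal R) [hmax : m.IsMaximal]

theorem isMaximal_smul (g : G) : (g • m).IsMaximal := by
  rw [Ideal.pointwise_smul_eq_comap]
  exact Ideal.comap_isMaximal_of_equiv _

variable {m}

theorem smul_ne_smul (hm : MulAction.stabilizer G m = ⊥) {g h : G} (hgh : g ≠ h) :
    g • m ≠ h • m := by
  intro he
  apply hgh
  have h1 : (h⁻¹ * g) • m = m := by
    rw [mul_smul, he, inv_smul_smul]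
  have h2 : h⁻¹ * g ∈ MulAction.stabilizer G m := MulAction.mem_stabilizer_iff.2 h1
  rw [hm, Subgroup.mem_bot] at h2
  have := congrArg (fun t => h * t) h2
  simpa using this

theorem isCoprime_smul (hm : MulAction.stabilizer G m = ⊥) {g h : G} (hgh : g ≠ h) :
    IsCoprime (g • m) (h • m) := by
  haveI := isMaximal_smul m g
  haveI := isMaximal_smul m h
  rw [Ideal.isCoprime_iff_sup_eq]
  exact Ideal.IsMaximal.coprime_of_ne (isMaximal_smul m g) (isMaximal_smul m h)
    (smul_ne_smul hm hgh)

end Orbit


section Unram

variable (R : Type v) [CommRing R] [IsNoetherianRing R]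
  (G : Type w) [Group G] [Finite G] [MulSemiringAction G R]
  (B : Type v) [CommRing B] [Algebra B R] [SMulCommClass G B R] [Algebra.IsInvariant B R G]
  (m : Ideal R) [m.IsMaximal]

/-- trivial stabilizer implies `n R_m = m R_m` -/
theorem map_under_eq_maximalIdeal (hm : MulAction.stabilizer G m = ⊥) :
    (m.under B).map (algebraMap B (Localization.AtPrime m)) =
      IsLocalRing.maximalIdeal (Localization.AtPrime m) := by
  classical
  cases nonempty_fintype G
  set Rm := Localization.AtPrime m with hRm
  set M := IsLocalRing.maximalIdeal Rm with hM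
  set N := (m.under B).map (algebraMap B Rm) with hN
  have hMmap : Ideal.map (algebraMap R Rm) m = M := Localization.AtPrime.map_eq_maximalIdeal
  apply le_antisymm
  · rw [hN, Ideal.map_le_iff_le_comap]
    intro b hb
    rw [Ideal.mem_comap, IsScalarTower.algebraMap_apply B R Rm, ← hMmap]
    exact Ideal.mem_map_of_mem _ hb
  · haveI : IsNoetherianRing Rm := IsLocalization.isNoetherianRing m.primeCompl Rm inferInstance
    have hfg : (M : Submodule Rm Rm).FG := IsNoetherian.noetherian M
    refine Submodule.le_of_le_smul_of_le_jacobson_bot (N := N) (N' := M) (I := M) hfg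
      (IsLocalRing.maximalIdeal_le_jacobson _) ?_
    rw [← hMmap, Ideal.map_le_iff_le_comap]
    intro x hx
    rw [Ideal.mem_comap]
    -- CRT
    let I : G → Ideal R := fun g => if g = 1 then m ^ 2 else g⁻¹ • m
    have hI : Pairwise (Function.onFun IsCoprime I) := by
      intro g h hgh
      change IsCoprime (I g) (I h)
      by_cases hg : g = 1
      · have hh : h ≠ 1 := fun hh => hgh (hg.trans hh.symm)
        simp only [I, hg, hh, if_true, if_false]
        have : IsCoprime m (h⁻¹ • m) := by
          have := isCoprime_smul (m := m) hm (g := 1) (h := h⁻¹)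
            (by intro h1; exact hh (by simpa using h1.symm))
          rwa [one_smul] at this
        exact this.pow_left
      · by_cases hh : h = 1
        · simp only [I, hg, hh, if_true, if_false]
          have : IsCoprime (g⁻¹ • m) m := by
            have := isCoprime_smul (m := m) hm (g := g⁻¹) (h := 1)
              (by intro h1; exact hg (by simpa using h1))
            rwa [one_smul] at this
          exact this.pow_right
        · simp only [I, hg, hh, if_false]
          exact isCoprime_smul hm (fun h1 => hgh (inv_injective h1))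
    obtain ⟨y, hy⟩ := Ideal.exists_forall_sub_mem_ideal hI (fun g => if g = 1 then x else 1)
    have hy1 : y - x ∈ m ^ 2 := by simpa [I] using hy 1
    have hyg : ∀ g : G, g ≠ 1 → y - 1 ∈ g⁻¹ • m := by
      intro g hg
      simpa [I, hg] using hy g
    have hym : y ∈ m := by
      have h1 : y - x ∈ m := Ideal.pow_le_self two_ne_zero hy1
      have := Ideal.add_mem _ h1 hx
      rwa [sub_add_cancel] at this
    -- the norm
    set P : R := ∏ g : G, g • y with hP
    have hPinv : ∀ h : G, h • P = P := by
      intro h
      rw [hP, Finset.smul_prod']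
      simp only [smul_smul]
      exact Fintype.prod_equiv (Equiv.mulLeft h) _ _ (fun g => rfl)
    obtain ⟨b, hb⟩ := Algebra.IsInvariant.isInvariant (A := B) (G := G) P hPinv
    set uu : R := ∏ g ∈ (Finset.univ : Finset G).erase 1, g • y with huu
    have hPy : P = y * uu := by
      rw [hP, huu, ← Finset.mul_prod_erase Finset.univ (fun g : G => g • y) (Finset.mem_univ 1),
        one_smul]
    have hPm : P ∈ m := by rw [hPy]; exact Ideal.mul_mem_right _ _ hym
    have hbn : b ∈ m.under B := by
      rw [Ideal.under_def, Ideal.mem_comap, hb]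
      exact hPm
    have huum : uu ∉ m := by
      rw [huu, Ideal.IsPrime.prod_mem_iff]
      rintro ⟨g, hg, hgy⟩
      have hg1 : g ≠ 1 := (Finset.mem_erase.1 hg).1
      have h1 : y ∈ g⁻¹ • m := Ideal.mem_inv_pointwise_smul_iff.2 hgy
      have h2 : (1 : R) ∈ g⁻¹ • m := by
        have := Ideal.sub_mem _ h1 (hyg g hg1)
        rwa [sub_sub_cancel] at this
      exact (isMaximal_smul m g⁻¹).ne_top ((Ideal.eq_top_iff_one _).2 h2)
    have huunit : IsUnit (algebraMap R Rm uu) :=
      IsLocalization.map_units Rm (⟨uu, huum⟩ : m.primeCompl)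
    have hyN : algebraMap R Rm y ∈ N := by
      have h1 : algebraMap R Rm y * algebraMap R Rm uu ∈ N := by
        rw [← map_mul, ← hPy, ← hb, ← IsScalarTower.algebraMap_apply B R Rm]
        exact Ideal.mem_map_of_mem _ hbn
      exact (Ideal.mul_unit_mem_iff_mem N huunit).1 h1
    have hyx : algebraMap R Rm (y - x) ∈ M • M := by
      have : algebraMap R Rm (y - x) ∈ Ideal.map (algebraMap R Rm) (m ^ 2) :=
        Ideal.mem_map_of_mem _ hy1
      rwa [Ideal.map_pow, hMmap, pow_two] at this
    have hx' : algebraMap R Rm x = algebraMap R Rm y - algebraMap R Rm (y - x) := by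
      rw [map_sub]; ring
    rw [hx', hMmap]
    exact Submodule.sub_mem _ (Submodule.mem_sup_left hyN) (Submodule.mem_sup_right hyx)

end Unram

section Fibre

variable (R : Type v) [CommRing R] [IsNoetherianRing R]
  (G : Type w) [Group G] [Finite G] [MulSemiringAction G R]
  (B : Type v) [CommRing B] [Algebra B R] [SMulCommClass G B R] [Algebra.IsInvariant B R G]
  (m : Ideal R) [m.IsMaximal]

theorem stabilizer_smul_eq_bot (hm : MulAction.stabilizer G m = ⊥) (g : G) :
    MulAction.stabilizer G (g • m) = ⊥ := by
  rw [MulAction.stabilizer_smul_eq_stabilizer_map_conj, hm, Subgroup.map_bot]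

/-- the fibre ideal is the intersection of the conjugates -/
theorem map_under_eq_iInf (hm : MulAction.stabilizer G m = ⊥) :
    (m.under B).map (algebraMap B R) = ⨅ g : G, g • m := by
  haveI : Algebra.IsIntegral B R := Algebra.IsInvariant.isIntegral B R G
  apply le_antisymm
  · rw [Ideal.map_le_iff_le_comap]
    intro b hb
    rw [Ideal.mem_comap, Ideal.mem_iInf]
    intro g
    have h1 : algebraMap B R b = g • algebraMap B R b := by
      rw [Algebra.algebraMap_eq_smul_one, smul_comm, smul_one]
    rw [h1]
    exact Ideal.smul_mem_pointwise_smul _ _ _ hb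
  · apply Ideal.le_of_localization_maximal
    intro P hP
    by_cases hPorb : ∃ g : G, P = g • m
    · obtain ⟨g, rfl⟩ := hPorb
      have hU := map_under_eq_maximalIdeal R G B (g • m) (stabilizer_smul_eq_bot R G m hm g)
      rw [Ideal.under_smul] at hU
      rw [Ideal.map_map, ← IsScalarTower.algebraMap_eq, hU,
        ← Localization.AtPrime.map_eq_maximalIdeal]
      exact Ideal.map_mono (iInf_le _ g)
    · have hne : P.under B ≠ m.under B := by
        intro he
        obtain ⟨g, hg⟩ := Algebra.IsInvariant.exists_smul_of_under_eq B R G m P he.symm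
        exact hPorb ⟨g, hg⟩
      haveI hnmax : (m.under B).IsMaximal :=
        Ideal.isMaximal_comap_of_isIntegral_of_isMaximal m
      haveI hPmax : (P.under B).IsMaximal :=
        Ideal.isMaximal_comap_of_isIntegral_of_isMaximal P
      have hnle : ¬ (m.under B ≤ P.under B) := fun hle =>
        hne (hnmax.eq_of_le hPmax.ne_top hle).symm
      obtain ⟨b, hbn, hbP⟩ := Set.not_subset.1 hnle
      have hbP' : algebraMap B R b ∉ P := hbP
      have hunit : IsUnit (algebraMap R (Localization.AtPrime P) (algebraMap B R b)) :=
        IsLocalization.map_units (Localization.AtPrime P) (⟨_, hbP'⟩ : P.primeCompl)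
      have htop : Ideal.map (algebraMap R (Localization.AtPrime P))
          ((m.under B).map (algebraMap B R)) = ⊤ :=
        Ideal.eq_top_of_isUnit_mem _
          (Ideal.mem_map_of_mem _ (Ideal.mem_map_of_mem _ hbn)) hunit
      rw [htop]
      exact le_top

end Fibre

section Gens

variable (k : Type u) [Field k] [IsAlgClosed k]
  (R : Type v) [CommRing R] [Algebra k R] [Algebra.FiniteType k R]
  (G : Type w) [Group G] [Fintype G] [MulSemiringAction G R]
  (B : Type v) [CommRing B] [Algebra k B] [Algebra B R] [IsScalarTower k B R]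
  (m : Ideal R) [m.IsMaximal]

include k in
theorem exists_generators (hm : MulAction.stabilizer G m = ⊥) :
    ∃ e : G → R, ∀ x : R, ∃ c : G → B, x - ∑ g, c g • e g ∈ ⨅ g : G, g • m := by
  classical
  have hI : Pairwise (Function.onFun IsCoprime (fun h : G => h • m)) := by
    intro g h hgh
    exact isCoprime_smul hm hgh
  have hex : ∀ g : G, ∃ r : R, ∀ h : G, r - (if h = g then (1 : R) else 0) ∈ h • m :=
    fun g => Ideal.exists_forall_sub_mem_ideal hI (fun h => if h = g then (1 : R) else 0)
  choose e he using hex
  refine ⟨e, fun x => ?_⟩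
  have hc : ∀ h : G, ∃ c : k, x - algebraMap k R c ∈ h • m := by
    intro h
    haveI := isMaximal_smul m h
    exact exists_sub_mem k R (h • m) x
  choose c hc using hc
  refine ⟨fun g => algebraMap k B (c g), ?_⟩
  rw [Ideal.mem_iInf]
  intro h
  have hsum : algebraMap k R (c h) =
      ∑ g, algebraMap k B (c g) • (if h = g then (1 : R) else 0) := by
    rw [Finset.sum_eq_single h]
    · rw [if_pos rfl, Algebra.smul_def, mul_one, ← IsScalarTower.algebraMap_apply]
    · intro g _ hg
      rw [if_neg (Ne.symm hg), smul_zero]
    · intro hh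
      exact absurd (Finset.mem_univ h) hh
  have hz : x - ∑ g, algebraMap k B (c g) • e g =
      (x - algebraMap k R (c h)) -
        ∑ g, algebraMap k B (c g) • (e g - (if h = g then (1 : R) else 0)) := by
    rw [hsum]
    simp only [smul_sub, Finset.sum_sub_distrib]
    ring
  rw [hz]
  refine Ideal.sub_mem _ (hc h) (Ideal.sum_mem _ fun g _ => ?_)
  rw [Algebra.smul_def]
  exact Ideal.mul_mem_left _ _ (he g h)

end Gens

section Free

variable (k : Type u) [Field k] [IsAlgClosed k]
  (R : Type v) [CommRing R] [IsDomain R] [Algebra k R] [Algebra.FiniteType k R]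
  (G : Type w) [Group G] [Finite G] [MulSemiringAction G R] [FaithfulSMul G R]
  (B : Type v) [CommRing B] [Algebra k B] [Algebra B R] [IsScalarTower k B R] [FaithfulSMul B R]
  [SMulCommClass G B R] [Algebra.IsInvariant B R G]
  (m : Ideal R) [m.IsMaximal]

include k in
theorem free_localization (hm : MulAction.stabilizer G m = ⊥) :
    Module.Free (Localization.AtPrime (m.under B))
      (Localization (Algebra.algebraMapSubmonoid R (m.under B).primeCompl)) := by
  classical
  cases nonempty_fintype G
  haveI : IsNoetherianRing R := Algebra.FiniteType.isNoetherianRing k R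
  haveI : Algebra.IsIntegral B R := Algebra.IsInvariant.isIntegral B R G
  haveI : IsDomain B := IsDomain.of_faithfulSMul B R
  set n := m.under B with hn
  set Bn := Localization.AtPrime n with hBn
  set Rn := Localization (Algebra.algebraMapSubmonoid R n.primeCompl) with hRn
  haveI : Algebra.FiniteType B R := Algebra.FiniteType.of_restrictScalars_finiteType k B R
  haveI : Module.Finite B R := Algebra.IsIntegral.finite
  obtain ⟨e, he⟩ := exists_generators k R G B m hm
  rw [← map_under_eq_iInf R G B m hm] at he
  set b : G → Rn := fun g => algebraMap R Rn (e g) with hb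
  set I := IsLocalRing.maximalIdeal Bn with hI
  have hImap : Ideal.map (algebraMap B Bn) n = I := Localization.AtPrime.map_eq_maximalIdeal
  -- Nakayama
  have hspan : ⊤ ≤ Submodule.span Bn (Set.range b) := by
    refine Submodule.le_of_le_smul_of_le_jacobson_bot (N := Submodule.span Bn (Set.range b))
      (N' := ⊤) (I := I) Module.Finite.fg_top (IsLocalRing.maximalIdeal_le_jacobson _) ?_
    intro y _
    obtain ⟨x, s, rfl⟩ := IsLocalization.exists_mk'_eq
      (Algebra.algebraMapSubmonoid R n.primeCompl) y
    obtain ⟨s0, hs0, hs0'⟩ := s.2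
    have hx : algebraMap R Rn x ∈ Submodule.span Bn (Set.range b) ⊔ I • ⊤ := by
      obtain ⟨c, hc⟩ := he x
      have h1 : algebraMap R Rn (∑ g, c g • e g) ∈ Submodule.span Bn (Set.range b) := by
        rw [map_sum]
        refine Submodule.sum_mem _ fun g _ => ?_
        have : algebraMap R Rn (c g • e g) = algebraMap B Bn (c g) • b g := by
          rw [Algebra.smul_def, map_mul, ← IsScalarTower.algebraMap_apply B R Rn,
            IsScalarTower.algebraMap_apply B Bn Rn, ← Algebra.smul_def]
        rw [this]
        exact Submodule.smul_mem _ _ (Submodule.subset_span ⟨g, rfl⟩)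
      have h2 : algebraMap R Rn (x - ∑ g, c g • e g) ∈ (I • ⊤ : Submodule Bn Rn) := by
        rw [Ideal.smul_top_eq_map, Submodule.restrictScalars_mem, ← hImap, Ideal.map_map,
          ← IsScalarTower.algebraMap_eq, IsScalarTower.algebraMap_eq B R Rn, ← Ideal.map_map]
        exact Ideal.mem_map_of_mem _ hc
      have h3 : algebraMap R Rn x =
          algebraMap R Rn (∑ g, c g • e g) + algebraMap R Rn (x - ∑ g, c g • e g) := by
        rw [← map_add]; congr 1; ring
      rw [h3]
      exact Submodule.add_mem _ (Submodule.mem_sup_left h1) (Submodule.mem_sup_right h2)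
    have hunit : IsUnit (algebraMap B Bn s0) :=
      IsLocalization.map_units Bn (⟨s0, hs0⟩ : n.primeCompl)
    obtain ⟨t, ht⟩ := hunit.exists_left_inv
    have hy : IsLocalization.mk' Rn x s = t • algebraMap R Rn x := by
      rw [IsLocalization.mk'_eq_iff_eq_mul, Algebra.smul_def, mul_assoc, ← hs0',
        ← IsScalarTower.algebraMap_apply B R Rn, IsScalarTower.algebraMap_apply B Bn Rn,
        mul_comm (algebraMap R Rn x), ← mul_assoc, ← map_mul, ht, map_one, one_mul]
    rw [hy]
    exact Submodule.smul_mem _ _ hx
  -- rank
  have hp : n.primeCompl ≤ nonZeroDivisors B := Ideal.primeCompl_le_nonZeroDivisors n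
  haveI : IsGaloisGroup G B R := ⟨inferInstance, inferInstance, inferInstance⟩
  have hcard : Nat.card G = Module.finrank B R := IsGaloisGroup.card_eq_finrank' G B R
  have hloc : IsLocalizedModule n.primeCompl (IsScalarTower.toAlgHom B R Rn).toLinearMap :=
    (isLocalizedModule_iff_isLocalization).2 inferInstance
  have h1 : Module.finrank Bn Rn = Module.finrank B Rn :=
    IsLocalization.finrank_eq Bn n.primeCompl hp
  have h2 : Module.finrank B Rn = Module.finrank B R :=
    IsLocalizedModule.finrank_eq n.primeCompl (IsScalarTower.toAlgHom B R Rn).toLinearMap hp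
  have hcard' : Fintype.card G = Module.finrank Bn Rn := by
    rw [h1, h2, ← hcard, Nat.card_eq_fintype_card]
  exact Module.Free.of_basis (basisOfTopLeSpanOfCardEqFinrank b hspan hcard')

end Free

end Groth.Agent.Lib.Seat95.QuotEtale
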