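import Mathlib

set_option autoImplicit false
universe u v w

namespace Groth.Agent.Lib.Seat95.QuotEtale2

open Algebra TensorProduct IsLocalRing

attribute [local instance] Algebra.FormallyEtale.of_formallyUnramified_of_field in
/-- Local criterion: finitely presented, flat at `q` (in the form: the localization of `S` at the
complement of `p` is flat over `R_p`) and unramified at `q` implies étale at `q`. -/
theorem isEtaleAt_of_flat_of_isUnramifiedAt {R S : Type*} [CommRing R] [CommRing S] [Algebra R S]
    [Algebra.FinitePresentation R S] (p : Ideal R) (q : Ideal S) [p.IsPrime] [q.IsPrime]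
    [q.LiesOver p]
    [Module.Flat (Localization.AtPrime p) (Localization (algebraMapSubmonoid S p.primeCompl))]
    [Algebra.IsUnramifiedAt R q] : Algebra.IsEtaleAt R q := by
  let Rp := Localization.AtPrime p
  let Sp := Localization (algebraMapSubmonoid S p.primeCompl)
  let Sq := Localization.AtPrime q
  let := Localization.AtPrime.algebraOfLiesOver p q
  let f : Sp →ₐ[S] Sq := IsLocalization.liftAlgHom (M := algebraMapSubmonoid S p.primeCompl)
        (f := Algebra.ofId _ _) (by
      rintro ⟨_, x, hx, rfl⟩
      simpa using! IsLocalization.map_units (M := q.primeCompl) Sq ⟨algebraMap _ _ x,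
        by simp_all [q.over_def p]⟩)
  algebraize [f.toRingHom]
  have : IsScalarTower R Sp Sq := .to₁₃₄ _ S _ _
  have : IsScalarTower Rp Sp Sq := .of_algebraMap_eq' <| by
    apply IsLocalization.ringHom_ext p.primeCompl
    simp only [RingHom.comp_assoc, ← IsScalarTower.algebraMap_eq]
  have : IsLocalization (algebraMapSubmonoid Sp q.primeCompl) Sq :=
    .isLocalization_of_submonoid_le _ _ (algebraMapSubmonoid S p.primeCompl) _
    (by rintro _ ⟨x, hx, rfl⟩; simp_all [q.over_def p])
  have : FinitePresentation Rp Sp := by
    have : Algebra.IsPushout R Rp S Sp :=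
      .symm <| Algebra.isPushout_of_isLocalization p.primeCompl _ _ _
    exact .equiv (Algebra.IsPushout.equiv R Rp S Sp)
  have : Module.Flat Sp Sq := IsLocalization.flat Sq (algebraMapSubmonoid Sp q.primeCompl)
  have : Module.Flat Rp Sq := .trans Rp Sp Sq
  have : FormallyUnramified R Sq := ‹Algebra.IsUnramifiedAt R q›
  have : FormallyUnramified Rp Sq := .of_restrictScalars R _ _
  have : EssFiniteType R Sq := .comp R S Sq
  have : EssFiniteType Rp Sq := .of_comp R Rp Sq
  have : FormallySmooth (ResidueField Rp) ((ResidueField Rp) ⊗[Rp] Sq) := inferInstance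
  have : FormallySmooth Rp Sq := FormallySmooth.of_formallySmooth_residueField_tensor
    (R := Rp) (S := Sq) (P := Sp) (algebraMapSubmonoid _ q.primeCompl)
  have : FormallySmooth R Sq := .comp R Rp Sq
  exact FormallyEtale.iff_formallyUnramified_and_formallySmooth.2 ⟨inferInstance, inferInstance⟩

end Groth.Agent.Lib.Seat95.QuotEtale2
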