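import Groth.Agent.Lib.Seat95QuotEtale
import Groth.Agent.Lib.Seat95QuotEtale2

set_option autoImplicit false
universe u v w
open scoped Pointwise

namespace Groth.Agent.Lib.Seat95.QuotEtale

open IsLocalRing

section Backward

variable (k : Type u) [Field k] [IsAlgClosed k]
  (R : Type v) [CommRing R] [IsDomain R] [Algebra k R] [Algebra.FiniteType k R]
  (G : Type w) [Group G] [Finite G] [MulSemiringAction G R] [FaithfulSMul G R]
  (B : Type v) [CommRing B] [Algebra k B] [Algebra B R] [IsScalarTower k B R] [FaithfulSMul B R]
  [SMulCommClass G B R] [Algebra.IsInvariant B R G]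
  (m : Ideal R) [m.IsMaximal]

include k G in
theorem finitePresentation_of_isInvariant : Algebra.FinitePresentation B R := by
  haveI : IsNoetherianRing R := Algebra.FiniteType.isNoetherianRing k R
  haveI : Algebra.IsIntegral B R := Algebra.IsInvariant.isIntegral B R G
  haveI : Algebra.FiniteType B R := Algebra.FiniteType.of_restrictScalars_finiteType k B R
  haveI : Module.Finite B R := Algebra.IsIntegral.finite
  haveI : Algebra.FiniteType k B :=
    ⟨fg_of_fg_of_fg k B R (Algebra.FiniteType.out) Module.Finite.fg_top
      (FaithfulSMul.algebraMap_injective B R)⟩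
  haveI : IsNoetherianRing B := Algebra.FiniteType.isNoetherianRing k B
  exact Algebra.FinitePresentation.of_finiteType.1 inferInstance

include k in
theorem isUnramifiedAt_of_stabilizer_eq_bot (hm : MulAction.stabilizer G m = ⊥) :
    Algebra.IsUnramifiedAt B m := by
  haveI : IsNoetherianRing R := Algebra.FiniteType.isNoetherianRing k R
  haveI : Algebra.FiniteType B R := Algebra.FiniteType.of_restrictScalars_finiteType k B R
  let _ := Localization.AtPrime.algebraOfLiesOver (m.under B) m
  rw [Algebra.isUnramifiedAt_iff_map_eq B (m.under B) m]
  refine ⟨?_, map_under_eq_maximalIdeal R G B m hm⟩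
  -- the residue field extension is trivial
  have hsurj : Function.Surjective
      (algebraMap (m.under B).ResidueField m.ResidueField) := by
    intro x
    obtain ⟨y, rfl⟩ := IsLocalRing.residue_surjective x
    obtain ⟨c, hc⟩ := exists_sub_mem_maximalIdeal k R m y
    refine ⟨IsLocalRing.residue _ (algebraMap B (Localization.AtPrime (m.under B))
      (algebraMap k B c)), ?_⟩
    rw [IsLocalRing.ResidueField.algebraMap_residue,
      ← IsScalarTower.algebraMap_apply B (Localization.AtPrime (m.under B))
        (Localization.AtPrime m)]
    symm
    rw [← sub_eq_zero, ← map_sub, IsLocalRing.residue_eq_zero_iff]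
    have : algebraMap k (Localization.AtPrime m) c =
        algebraMap B (Localization.AtPrime m) (algebraMap k B c) := by
      rw [IsScalarTower.algebraMap_apply k R (Localization.AtPrime m),
        IsScalarTower.algebraMap_apply k B R,
        ← IsScalarTower.algebraMap_apply B R (Localization.AtPrime m)]
    rw [← this]
    exact hc
  exact ⟨fun x => by obtain ⟨a, rfl⟩ := hsurj x; exact isSeparable_algebraMap a⟩

include k in
theorem isEtaleAt_of_stabilizer_eq_bot (hm : MulAction.stabilizer G m = ⊥) :
    Algebra.IsEtaleAt B m := by
  haveI : Algebra.FinitePresentation B R := finitePresentation_of_isInvariant k R G B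
  haveI : Module.Free (Localization.AtPrime (m.under B))
      (Localization (Algebra.algebraMapSubmonoid R (m.under B).primeCompl)) :=
    free_localization k R G B m hm
  haveI : Algebra.IsUnramifiedAt B m := isUnramifiedAt_of_stabilizer_eq_bot k R G B m hm
  exact Groth.Agent.Lib.Seat95.QuotEtale2.isEtaleAt_of_flat_of_isUnramifiedAt (m.under B) m

end Backward

end Groth.Agent.Lib.Seat95.QuotEtale
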