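import Mathlib
import Groth.Prelude.Def_W4c6modpairsegaMP
import Groth.Agent.S18743

/-!
# Scheme-theoretic closure of closed subschemes of the interior of a modulus pair (seat 95)

Namespace `Groth.Agent.Lib.Seat95.SchImage`.
* `exists_specializes_interior`: every point is a specialization of a point of the interior.
* `isPullback_toImage`: for a closed immersion `g : V ⟶ U` into a quasi-compact open `U` of `S`, the
  scheme-theoretic image `V̄` of `V ⟶ S` satisfies `V = V̄ ×_S U`.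
* `ker_toImage_eq_bot`.
-/

set_option autoImplicit false
universe u
open CategoryTheory AlgebraicGeometry Limits Opposite TopologicalSpace

namespace Groth.Agent.Lib.Seat95.SchImage

theorem exists_specializes_interior {S : Scheme.{u}} (I : S.IdealSheafData)
    (hI : BlowUp.IsEffCartierIdeal I) (s : S) :
    ∃ u : S, u ∈ ModPair.interior I ∧ u ⤳ s := by
  obtain ⟨⟨W, hW⟩, hsW, a, ha0, ha⟩ := hI s
  let 𝔭 := hW.primeIdealOf ⟨s, hsW⟩
  obtain ⟨𝔮, h𝔮, hle⟩ := Ideal.exists_minimalPrimes_le (J := 𝔭.asIdeal) (I := ⊥) bot_le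
  have h𝔮p : 𝔮.IsPrime := h𝔮.1.1
  have ha𝔮 : a ∉ 𝔮 := fun h =>
    Set.disjoint_left.mp (Ideal.disjoint_nonZeroDivisors_of_mem_minimalPrimes h𝔮) h ha0
  let q : PrimeSpectrum Γ(S, W) := ⟨𝔮, h𝔮p⟩
  have hqp : q ⤳ 𝔭 := (PrimeSpectrum.le_iff_specializes q 𝔭).mp hle
  have hspec : hW.fromSpec q ⤳ hW.fromSpec 𝔭 := hqp.map hW.fromSpec.continuous
  rw [hW.fromSpec_primeIdealOf ⟨s, hsW⟩] at hspec
  refine ⟨hW.fromSpec q, ?_, hspec⟩
  have h1 : q ∈ hW.fromSpec ⁻¹ᵁ S.basicOpen a := by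
    rw [hW.fromSpec_preimage_basicOpen]
    exact ha𝔮
  have h2 : hW.fromSpec q ∈ S.basicOpen a := h1
  rw [← Groth.Agent.S18743.interior_inf_eq_basicOpen I ⟨W, hW⟩ a ha] at h2
  exact h2.1

theorem ker_toImage_eq_bot {X Y : Scheme.{u}} (f : X ⟶ Y) [QuasiCompact f] :
    f.toImage.ker = ⊥ := by
  refine Scheme.IdealSheafData.ext_of_iSup_eq_top (ι := Y.affineOpens)
    (fun U => ⟨f.imageι ⁻¹ᵁ U.1, U.2.preimage f.imageι⟩)
    (f.imageι.iSup_preimage_eq_top (iSup_affineOpens_eq_top Y)) ?_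
  intro U
  rw [Scheme.Hom.ker_apply]
  simp only [Scheme.IdealSheafData.ideal_bot, Pi.bot_apply]
  exact (RingHom.injective_iff_ker_eq_bot _).mp (f.toImage_app_injective U)

theorem isPullback_toImage {S : Scheme.{u}} (U : S.Opens) [QuasiCompact U.ι] {V : Scheme.{u}}
    (g : V ⟶ U.toScheme) [IsClosedImmersion g] :
    IsPullback g (g ≫ U.ι).toImage U.ι (g ≫ U.ι).imageι := by
  have H : IsPullback g (𝟙 V) U.ι (g ≫ U.ι) :=
    ⟨⟨by simp⟩, ⟨PullbackCone.IsLimit.mk _ (fun s => s.snd)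
      (fun s => by
        rw [← cancel_mono U.ι]
        simpa using s.condition.symm)
      (fun s => by simp)
      (fun s m _ h2 => by simpa using h2)⟩⟩
  apply isPullback_of_isClosedImmersion
  · rw [Scheme.Hom.toImage_imageι]
  · apply Scheme.IdealSheafData.ext
    funext W
    rw [Scheme.IdealSheafData.ideal_comap_of_isOpenImmersion,
      Scheme.ker_ideal_of_isPullback_of_isOpenImmersion _ _ _ _ H W,
      Scheme.IdealSheafData.ker_subschemeι]

end Groth.Agent.Lib.Seat95.SchImage
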