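import Mathlib
import Groth.Agent.Lib.Seat95CotSmoothSch
import Groth.Agent.Lib.Helper3RelDim
import Groth.Agent.Lib.Helper3RelDimFlat
import Groth.Agent.Lib.Helper3SmDim
import Groth.Agent.Lib.Helper4VarDim7
import Groth.Agent.Lib.Seat66DiagReg

/-!
# Fibres of a morphism of smooth varieties with surjective tangent maps (helper95)
-/

set_option autoImplicit false
set_option linter.style.haveILetI false
universe u
open CategoryTheory CategoryTheory.Limits AlgebraicGeometry

namespace Groth.Agent.Lib.Seat95.SmoothFibre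

open Groth.Agent.Lib.Helper4.VarDim Groth.Agent.Lib.Seat95.CotSmoothSch

attribute [local instance] Curv2.stalkAlgebra sectionsAlgebra Curv2.resAlgebra

variable (k : Type u) [Field k] {X Y : Scheme.{u}} [X.Over (Spec (CommRingCat.of k))]
  [Y.Over (Spec (CommRingCat.of k))] (f : X ⟶ Y) [f.IsOver (Spec (CommRingCat.of k))]

/-- The local ring at a closed point of an integral scheme of finite type over a field has the
dimension of the scheme; the same holds at the image of a closed point. -/
theorem ringKrullDim_stalk_of_trdeg_eq_zero [IsIntegral X]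
    [LocallyOfFiniteType (X ↘ Spec (CommRingCat.of k))] (x : X)
    (h0 : Algebra.trdeg k (X.residueField x) = 0) :
    ringKrullDim (X.presheaf.stalk x) = topologicalKrullDim X := by
  rw [← localDim_eq_of_trdeg_eq_zero k X x h0]
  exact Groth.Agent.Lib.Seat66.DiagReg.localDim_eq_of_irreducible k X x

theorem trdeg_image_eq_zero [LocallyOfFiniteType (X ↘ Spec (CommRingCat.of k))]
    [LocallyOfFiniteType (Y ↘ Spec (CommRingCat.of k))] (x : X)
    (h0 : Algebra.trdeg k (X.residueField x) = 0) :
    Algebra.trdeg k (Y.residueField (f x)) = 0 := by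
  have h1 := trdegNat_le_of_hom k f (comp_over f (Spec (CommRingCat.of k))) x
  rw [trdeg_eq_trdegNat k X x] at h0
  have h2 : trdegNat k X x = 0 := by exact_mod_cast h0
  rw [trdeg_eq_trdegNat k Y (f x)]
  have h3 : trdegNat k Y (f x) = 0 := by omega
  rw [h3]
  rfl

/-- A morphism of smooth integral varieties over an algebraically closed field with injective
cotangent maps at all closed points is dominant, `dim Y ≤ dim X`, and all nonempty fibres are
smooth of pure dimension `dim X - dim Y`. -/
theorem main [IsAlgClosed k] [IsIntegral X] [IsIntegral Y]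
    [LocallyOfFiniteType (X ↘ Spec (CommRingCat.of k))]
    [LocallyOfFiniteType (Y ↘ Spec (CommRingCat.of k))]
    [Smooth (X ↘ Spec (CommRingCat.of k))] [Smooth (Y ↘ Spec (CommRingCat.of k))]
    [CompactSpace X] (dX dY : ℕ) (hX : topologicalKrullDim X = dX)
    (hY : topologicalKrullDim Y = dY)
    (hT : ∀ x : X, IsClosed ({x} : Set X) →
      Function.Injective (FixPt.cotangentMapAt f x (f x) rfl)) :
    DenseRange f ∧ dY ≤ dX ∧
      ∀ y : Y, Smooth (f.fiberToSpecResidueField y) ∧
        ∀ Z ∈ irreducibleComponents ↥(f.fiber y),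
          topologicalKrullDim ↥Z = ((dX - dY : ℕ) : WithBot ℕ∞) := by
  haveI hsm : Smooth f := (smooth_iff_forall_injective_cotangentMapAt k f).mpr hT
  haveI : LocallyOfFiniteType (f ≫ (Y ↘ Spec (CommRingCat.of k))) := by
    rw [comp_over]; infer_instance
  haveI : LocallyOfFiniteType f := locallyOfFiniteType_of_comp f (Y ↘ Spec (CommRingCat.of k))
  haveI : IsLocallyNoetherian Y :=
    LocallyOfFiniteType.isLocallyNoetherian (Y ↘ Spec (CommRingCat.of k))
  haveI : IsLocallyNoetherian X :=
    LocallyOfFiniteType.isLocallyNoetherian (X ↘ Spec (CommRingCat.of k))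
  haveI : Flat f := inferInstance
  -- dominance
  have hdense : DenseRange f := by
    have hopen : IsOpen (Set.range f) := f.isOpenMap.isOpen_range
    exact hopen.dense (Set.range_nonempty _)
  -- dimension inequality
  obtain ⟨x, -, hxc⟩ := (isClosed_univ (X := X)).exists_closed_singleton Set.univ_nonempty
  have h0 := trdeg_eq_zero_of_isClosed k X x hxc
  have h0' := trdeg_image_eq_zero k f x h0
  have hdx := ringKrullDim_stalk_of_trdeg_eq_zero k x h0
  have hdy := ringKrullDim_stalk_of_trdeg_eq_zero k (f x) h0'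
  have hform := Groth.Agent.Lib.Helper3.RelDimFlat.stalk_dim_formula f x
  rw [hdx, hdy, hX, hY] at hform
  have hle : dY ≤ dX := by
    have h1 : (0 : WithBot ℕ∞) ≤
        ringKrullDim ((f.fiber (f x)).presheaf.stalk (f.asFiber x)) :=
      ringKrullDim_nonneg_of_nontrivial
    have h2 : ((dY : ℕ) : WithBot ℕ∞) ≤ ((dX : ℕ) : WithBot ℕ∞) := by
      rw [hform]
      exact le_add_of_nonneg_right h1
    exact_mod_cast h2
  have hX' : topologicalKrullDim X = ((dY + (dX - dY) : ℕ) : WithBot ℕ∞) := by
    rw [hX, Nat.add_sub_cancel' hle]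
  haveI := smoothOfRelativeDimension_of_smooth k f (dX - dY) dY hY hX'
  refine ⟨hdense, hle, fun y => ⟨?_, fun Z hZ => ?_⟩⟩
  · exact MorphismProperty.pullback_snd (P := @Smooth) f (Y.fromSpecResidueField y) hsm
  · exact (Groth.Agent.Lib.Helper3.RelDim.hasRelDim_iff_forall_fibreDimAt_eq f (dX - dY)).mpr
      (fun x => Groth.Agent.Lib.Helper3.SmDim.fibreDimAt_eq_of_smoothOfRelativeDimension
        (dX - dY) f x) y Z hZ

end Groth.Agent.Lib.Seat95.SmoothFibre
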