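import Mathlib.Algebra.Homology.SpectralSequence.Basic
import Groth.Prelude.Def_SpSeq

/-!
# Abstract spectral sequences: passing from one page to the next (seat 95)

Small lemmas on Mathlib's `SpectralSequence` objects: monomorphy of maps induced on homology when
the incoming differentials vanish, the formula for the map of a morphism of spectral sequences on the
next page, and vanishing of a position on all later pages.
-/

set_option autoImplicit false
universe v u w
open CategoryTheory CategoryTheory.Limits

namespace Groth.Agent.Lib.Seat95.SpSeq

section Complexes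

variable {C : Type u} [Category.{v} C] [Abelian C] {ι : Type w} {c : ComplexShape ι}

/-- If the differentials arriving at `j` vanish in `K` and `K'` and `φ` is a monomorphism in degree `j`, then
`φ` induces a monomorphism on homology in degree `j`. -/
theorem mono_homologyMap_of_d_to_eq_zero {K K' : HomologicalComplex C c} (φ : K ⟶ K') (j : ι)
    [Mono (φ.f j)] (hK : K.d (c.prev j) j = 0) (hK' : K'.d (c.prev j) j = 0) :
    Mono (HomologicalComplex.homologyMap φ j) := by
  have := K.isIso_homologyπ (c.prev j) j rfl hK
  have := K'.isIso_homologyπ (c.prev j) j rfl hK'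
  have : Mono (HomologicalComplex.cyclesMap φ j) := by
    have h : HomologicalComplex.cyclesMap φ j ≫ K'.iCycles j = K.iCycles j ≫ φ.f j :=
      HomologicalComplex.cyclesMap_i φ j
    have : Mono (HomologicalComplex.cyclesMap φ j ≫ K'.iCycles j) := by
      rw [h]; infer_instance
    exact mono_of_mono (HomologicalComplex.cyclesMap φ j) (K'.iCycles j)
  have h2 : HomologicalComplex.homologyMap φ j =
      inv (K.homologyπ j) ≫ HomologicalComplex.cyclesMap φ j ≫ K'.homologyπ j := by
    rw [IsIso.eq_inv_comp]
    exact HomologicalComplex.homologyπ_naturality φ j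
  rw [h2]
  infer_instance

/-- The homology at `j` is zero when the object at `j` is. -/
theorem isZero_homology_of_isZero_X (K : HomologicalComplex C c) (j : ι) (h : IsZero (K.X j)) :
    IsZero (K.homology j) := by
  have : Mono (K.iCycles j) := inferInstance
  have hc : IsZero (K.cycles j) := IsZero.of_mono (K.iCycles j) h
  exact IsZero.of_epi (K.homologyπ j) hc

end Complexes

section Spectral

variable {C : Type u} [Category.{v} C] [Abelian C] {κ : Type w} {c : ℤ → ComplexShape κ} {r₀ : ℤ}

/-- The component of a morphism of spectral sequences on the next page, in terms of the map on homology. -/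
theorem hom_next_eq {E E' : SpectralSequence C c r₀} (φ : E ⟶ E') (r r' : ℤ) (pq : κ)
    (hrr' : r + 1 = r') (hr : r₀ ≤ r) :
    (φ.hom r' (by lia)).f pq =
      (E.iso r r' pq hrr' hr).inv ≫ HomologicalComplex.homologyMap (φ.hom r hr) pq ≫
        (E'.iso r r' pq hrr' hr).hom := by
  rw [Iso.eq_inv_comp]
  exact (φ.comm r r' pq hrr' hr).symm

/-- A position which is zero on a page is zero on the next one. -/
theorem isZero_next (E : SpectralSequence C c r₀) (r r' : ℤ) (pq : κ) (hrr' : r + 1 = r')
    (hr : r₀ ≤ r) (h : IsZero ((E.page r hr).X pq)) : IsZero ((E.page r' (by lia)).X pq) :=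
  IsZero.of_iso (isZero_homology_of_isZero_X _ pq h) (E.iso r r' pq hrr' hr).symm

/-- A position which is zero on a page is zero on all later pages. -/
theorem isZero_of_le (E : SpectralSequence C c r₀) (r : ℤ) (hr : r₀ ≤ r) (pq : κ)
    (h : IsZero ((E.page r hr).X pq)) :
    ∀ (r' : ℤ) (hrr' : r ≤ r'), IsZero ((E.page r' (hr.trans hrr')).X pq) := by
  intro r' hrr'
  induction r', hrr' using Int.leInduction with
  | base => exact h
  | succ k hk ih => exact isZero_next E k (k + 1) pq rfl (hr.trans hk) ih

end Spectral

end Groth.Agent.Lib.Seat95.SpSeq
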