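import Mathlib
import Groth.Agent.Lib.Seat95SpSeq

/-!
# Dimension counts for spectral sequences of vector spaces (seat 95)

* finite-dimensionality and dimension inequalities along monomorphisms / epimorphisms in `ModuleCat k`;
* the dimension of the homology of a complex at a position is at most that of the object, with equality
  only if the differentials into and out of that position vanish;
* on the pages of a spectral sequence the dimensions decrease, with equality only if the intermediate
  differentials vanish;
* the dimension of a finitely filtered vector space is the sum of the dimensions of the graded pieces.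
-/

set_option autoImplicit false
universe v u w
open CategoryTheory CategoryTheory.Limits

namespace Groth.Agent.Lib.Seat95.SpSeqDim

variable {k : Type u} [Field k]

section ModuleCat

variable {M N : ModuleCat.{v} k}

theorem finite_of_mono (f : M ⟶ N) [Mono f] [Module.Finite k N] : Module.Finite k M :=
  Module.Finite.of_injective f.hom ((ModuleCat.mono_iff_injective f).1 inferInstance)

theorem finrank_le_of_mono (f : M ⟶ N) [Mono f] [Module.Finite k N] :
    Module.finrank k M ≤ Module.finrank k N :=
  LinearMap.finrank_le_finrank_of_injective (f := f.hom) ((ModuleCat.mono_iff_injective f).1 inferInstance)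

theorem finite_of_epi (f : M ⟶ N) [Epi f] [Module.Finite k M] : Module.Finite k N :=
  Module.Finite.of_surjective f.hom ((ModuleCat.epi_iff_surjective f).1 inferInstance)

theorem finrank_le_of_epi (f : M ⟶ N) [Epi f] [Module.Finite k M] :
    Module.finrank k N ≤ Module.finrank k M :=
  LinearMap.finrank_le_finrank_of_surjective (f := f.hom) ((ModuleCat.epi_iff_surjective f).1 inferInstance)

theorem epi_of_mono_of_finrank_eq (f : M ⟶ N) [Mono f] [Module.Finite k N]
    (h : Module.finrank k M = Module.finrank k N) : Epi f := by
  have := finite_of_mono f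
  rw [ModuleCat.epi_iff_surjective]
  exact (LinearMap.injective_iff_surjective_of_finrank_eq_finrank h).1
    ((ModuleCat.mono_iff_injective f).1 inferInstance)

theorem mono_of_epi_of_finrank_eq (f : M ⟶ N) [Epi f] [Module.Finite k M]
    (h : Module.finrank k M = Module.finrank k N) : Mono f := by
  have := finite_of_epi f
  rw [ModuleCat.mono_iff_injective]
  exact (LinearMap.injective_iff_surjective_of_finrank_eq_finrank h).2
    ((ModuleCat.epi_iff_surjective f).1 inferInstance)

theorem finrank_eq_of_iso (e : M ≅ N) : Module.finrank k M = Module.finrank k N :=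
  LinearEquiv.finrank_eq e.toLinearEquiv

theorem finite_of_iso (e : M ≅ N) [Module.Finite k M] : Module.Finite k N :=
  Module.Finite.equiv e.toLinearEquiv

theorem finrank_eq_zero_of_isZero (h : IsZero M) : Module.finrank k M = 0 := by
  have : Subsingleton M := ModuleCat.subsingleton_of_isZero h
  exact Module.finrank_zero_of_subsingleton

end ModuleCat

section Complex

variable {ι : Type w} {c : ComplexShape ι} (K : HomologicalComplex (ModuleCat.{v} k) c) (j : ι)

theorem homology_finite [Module.Finite k (K.X j)] : Module.Finite k (K.homology j) := by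
  have : Module.Finite k (K.cycles j) := finite_of_mono (K.iCycles j)
  exact finite_of_epi (K.homologyπ j)

theorem finrank_homology_le [Module.Finite k (K.X j)] :
    Module.finrank k (K.homology j) ≤ Module.finrank k (K.X j) := by
  have : Module.Finite k (K.cycles j) := finite_of_mono (K.iCycles j)
  exact (finrank_le_of_epi (K.homologyπ j)).trans (finrank_le_of_mono (K.iCycles j))

theorem d_eq_zero_of_finrank_homology_eq [Module.Finite k (K.X j)]
    (h : Module.finrank k (K.homology j) = Module.finrank k (K.X j)) :
    (∀ i, K.d i j = 0) ∧ (∀ i, K.d j i = 0) := by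
  have hfc : Module.Finite k (K.cycles j) := finite_of_mono (K.iCycles j)
  have h1 := finrank_le_of_epi (K.homologyπ j)
  have h2 := finrank_le_of_mono (K.iCycles j)
  have e1 : Module.finrank k (K.cycles j) = Module.finrank k (K.X j) := by lia
  have e2 : Module.finrank k (K.cycles j) = Module.finrank k (K.homology j) := by lia
  have hepi : Epi (K.iCycles j) := epi_of_mono_of_finrank_eq _ e1
  have hmono : Mono (K.homologyπ j) := mono_of_epi_of_finrank_eq _ e2
  refine ⟨fun i => ?_, fun i => ?_⟩
  · have hz : K.toCycles i j = 0 := by
      rw [← cancel_mono (K.homologyπ j), zero_comp, K.toCycles_comp_homologyπ]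
    rw [← K.toCycles_i i j, hz, zero_comp]
  · rw [← cancel_epi (K.iCycles j), comp_zero, K.iCycles_d]

end Complex

section Spectral

variable {κ : Type w} {c : ℤ → ComplexShape κ} {r₀ : ℤ}
  (E : SpectralSequence (ModuleCat.{v} k) c r₀)

/-- Finite-dimensionality and decrease of the dimensions along the pages, with vanishing of the intermediate
differentials in case of equality. -/
theorem pages_le (r : ℤ) (hr : r₀ ≤ r) (pq : κ) [Module.Finite k ((E.page r hr).X pq)] :
    ∀ (r' : ℤ) (hrr' : r ≤ r'),
      Module.Finite k ((E.page r' (hr.trans hrr')).X pq) ∧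
      Module.finrank k ((E.page r' (hr.trans hrr')).X pq) ≤ Module.finrank k ((E.page r hr).X pq) ∧
      (Module.finrank k ((E.page r' (hr.trans hrr')).X pq) = Module.finrank k ((E.page r hr).X pq) →
        ∀ (s : ℤ) (hs : r ≤ s) (_ : s < r'),
          (∀ i, (E.page s (hr.trans hs)).d i pq = 0) ∧ (∀ i, (E.page s (hr.trans hs)).d pq i = 0)) := by
  intro r' hrr'
  induction r', hrr' using Int.leInduction with
  | base =>
    exact ⟨inferInstance, le_rfl, fun _ s hs hs' => by lia⟩
  | succ m hm ih =>
    obtain ⟨hfin, hle, heq⟩ := ih
    have hfinH : Module.Finite k ((E.page m (hr.trans hm)).homology pq) := homology_finite _ pq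
    have hfin' : Module.Finite k ((E.page (m + 1) (by lia)).X pq) :=
      finite_of_iso (E.iso m (m + 1) pq rfl (hr.trans hm))
    have hdim : Module.finrank k ((E.page (m + 1) (by lia)).X pq) =
        Module.finrank k ((E.page m (hr.trans hm)).homology pq) :=
      (finrank_eq_of_iso (E.iso m (m + 1) pq rfl (hr.trans hm))).symm
    have hHle := finrank_homology_le (E.page m (hr.trans hm)) pq
    refine ⟨hfin', by lia, fun heq' s hs hs' => ?_⟩
    have e1 : Module.finrank k ((E.page m (hr.trans hm)).X pq) =
        Module.finrank k ((E.page r hr).X pq) := by lia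
    have e2 : Module.finrank k ((E.page m (hr.trans hm)).homology pq) =
        Module.finrank k ((E.page m (hr.trans hm)).X pq) := by lia
    by_cases hsm : s < m
    · exact heq e1 s hs hsm
    · obtain rfl : s = m := by lia
      exact d_eq_zero_of_finrank_homology_eq _ pq e2

end Spectral

section Filtration

variable {V : ModuleCat.{v} k}

theorem finrank_top : Module.finrank k ((⊤ : Subobject V) : ModuleCat.{v} k) = Module.finrank k V :=
  finrank_eq_of_iso (asIso (⊤ : Subobject V).arrow)

theorem finrank_bot : Module.finrank k ((⊥ : Subobject V) : ModuleCat.{v} k) = 0 :=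
  finrank_eq_zero_of_isZero (IsZero.of_iso (isZero_zero _) Subobject.botCoeIsoZero)

theorem subobject_finite [Module.Finite k V] (P : Subobject V) :
    Module.Finite k (P : ModuleCat.{v} k) :=
  finite_of_mono P.arrow

/-- dimension of a subquotient. -/
theorem finrank_subquot [Module.Finite k V] (Z B : Subobject V) (h : B ≤ Z) :
    Module.finrank k (Z : ModuleCat.{v} k) =
      Module.finrank k (B : ModuleCat.{v} k) +
        Module.finrank k (_root_.SpSeq.subquot Z B h : ModuleCat.{v} k) := by
  have hZ := subobject_finite Z
  have hB := subobject_finite B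
  let S : ShortComplex (ModuleCat.{v} k) :=
    ShortComplex.mk (B.ofLE Z h) (cokernel.π (B.ofLE Z h)) (cokernel.condition _)
  have hS : S.ShortExact :=
    { exact := ShortComplex.exact_cokernel _
      mono_f := by dsimp [S]; infer_instance
      epi_g := by dsimp [S]; infer_instance }
  have hfin3 : Module.Finite k S.X₃ :=
    finite_of_epi (M := (Z : ModuleCat.{v} k)) (cokernel.π (B.ofLE Z h))
  have hfin1 : Module.Finite k S.X₁ := hB
  exact ModuleCat.free_shortExact_finrank_add hS rfl rfl

/-- numeric telescoping. -/
theorem telescope_aux (f g : ℤ → ℕ) (h : ∀ p, f p = f (p + 1) + g p) (a : ℤ) :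
    ∀ n : ℕ, f a = f (a + n) + ∑ p ∈ Finset.Ico a (a + n), g p := by
  intro n
  induction n with
  | zero => simp
  | succ n ih =>
    have h2 : Finset.Ico a (a + (n + 1 : ℕ)) = insert (a + n) (Finset.Ico a (a + n)) := by
      ext x
      simp only [Finset.mem_Ico, Finset.mem_insert]
      push_cast
      lia
    rw [h2, Finset.sum_insert (by simp), ih, h (a + n)]
    push_cast
    rw [show a + ((n : ℤ) + 1) = a + n + 1 by ring]
    lia

/-- telescoping for an antitone family of subobjects. -/
theorem finrank_fil_telescope [Module.Finite k V] (F : ℤ → Subobject V) (hF : Antitone F) (a : ℤ)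
    (n : ℕ) : Module.finrank k (F a : ModuleCat.{v} k) =
      Module.finrank k (F (a + n) : ModuleCat.{v} k) +
        ∑ p ∈ Finset.Ico a (a + n),
          Module.finrank k (_root_.SpSeq.grPiece F hF p : ModuleCat.{v} k) :=
  telescope_aux (fun p => Module.finrank k (F p : ModuleCat.{v} k))
    (fun p => Module.finrank k (_root_.SpSeq.grPiece F hF p : ModuleCat.{v} k))
    (fun p => finrank_subquot (F p) (F (p + 1)) (hF (Int.le_add_one le_rfl))) a n

/-- The dimension of a finitely filtered finite-dimensional vector space is at most the sum of the dimensions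
of the graded pieces over any finite set of indices containing all the nonzero ones. -/
theorem finrank_le_sum_grPiece [Module.Finite k V] (F : ℤ → Subobject V) (hF : Antitone F)
    (hfin : (∃ a : ℤ, F a = ⊤) ∧ ∃ b : ℤ, F b = ⊥) (s : Finset ℤ)
    (hs : ∀ p, p ∉ s → Module.finrank k (_root_.SpSeq.grPiece F hF p : ModuleCat.{v} k) = 0) :
    Module.finrank k V ≤
      ∑ p ∈ s, Module.finrank k (_root_.SpSeq.grPiece F hF p : ModuleCat.{v} k) := by
  obtain ⟨⟨a, ha⟩, ⟨b, hb⟩⟩ := hfin
  by_cases hab : a ≤ b
  · obtain ⟨n, rfl⟩ : ∃ n : ℕ, b = a + n := ⟨(b - a).toNat, by lia⟩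
    have h := finrank_fil_telescope F hF a n
    rw [ha, hb, finrank_top, finrank_bot, zero_add] at h
    rw [h]
    calc ∑ p ∈ Finset.Ico a (a + n), Module.finrank k (_root_.SpSeq.grPiece F hF p : ModuleCat.{v} k)
        = ∑ p ∈ Finset.Ico a (a + n) ∩ s,
            Module.finrank k (_root_.SpSeq.grPiece F hF p : ModuleCat.{v} k) := by
          symm
          apply Finset.sum_subset Finset.inter_subset_left
          intro p hp hp'
          apply hs
          intro hps
          exact hp' (Finset.mem_inter.2 ⟨hp, hps⟩)
      _ ≤ ∑ p ∈ s, Module.finrank k (_root_.SpSeq.grPiece F hF p : ModuleCat.{v} k) :=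
          Finset.sum_le_sum_of_subset Finset.inter_subset_right
  · have hle : F a ≤ F b := hF (by lia)
    rw [ha, hb] at hle
    have htb : (⊤ : Subobject V) = ⊥ := le_antisymm hle bot_le
    have : Module.finrank k V = 0 := by
      rw [← finrank_top, htb, finrank_bot]
    rw [this]
    exact Nat.zero_le _

end Filtration

end Groth.Agent.Lib.Seat95.SpSeqDim
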