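import Mathlib
import Groth.Agent.Lib.Seat95CotDominant

set_option autoImplicit false
set_option linter.style.haveILetI false
universe u

open IsLocalRing

namespace Groth.Agent.Lib.Seat95.TangentRank

open Groth.Agent.Lib.Seat95.CotDominant

section alg

variable {B B' : Type u} [CommRing B] [CommRing B'] [IsLocalRing B] [IsLocalRing B']
  (β : B →+* B') [IsLocalHom β]

theorem maximalIdeal_le_comap : maximalIdeal B ≤ (maximalIdeal B').comap β.toIntAlgHom := by
  intro b hb
  rw [Ideal.mem_comap, mem_maximalIdeal]
  exact (map_mem_nonunits_iff β b).mpr ((mem_maximalIdeal _).mp hb)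

/-- the cotangent map of a local homomorphism (a `ℤ`-linear map). -/
noncomputable def cotMap : CotangentSpace B →ₗ[ℤ] CotangentSpace B' :=
  Ideal.mapCotangent _ _ β.toIntAlgHom (maximalIdeal_le_comap β)

theorem cotMap_toCotangent (b : maximalIdeal B) :
    cotMap β ((maximalIdeal B).toCotangent b) =
      (maximalIdeal B').toCotangent ⟨β b, maximalIdeal_le_comap β b.2⟩ :=
  Ideal.mapCotangent_toCotangent _ _ _ _ b

theorem cotMap_smul (c : ResidueField B) (v : CotangentSpace B) :
    cotMap β (c • v) = ResidueField.map β c • cotMap β v := by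
  obtain ⟨c, rfl⟩ := residue_surjective c
  obtain ⟨m, rfl⟩ := (maximalIdeal B).toCotangent_surjective v
  have h1 : residue B c • (maximalIdeal B).toCotangent m = (maximalIdeal B).toCotangent (c • m) := by
    rw [map_smul]; rfl
  rw [h1, cotMap_toCotangent, cotMap_toCotangent, ResidueField.map_residue]
  have h2 : residue B' (β c) • (maximalIdeal B').toCotangent ⟨β m, maximalIdeal_le_comap β m.2⟩ =
      (maximalIdeal B').toCotangent (β c • ⟨β m, maximalIdeal_le_comap β m.2⟩) := by
    rw [map_smul]; rfl
  rw [h2]
  congr 1
  ext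
  simp

theorem cotMap_mem_span (S : Set (CotangentSpace B)) (v : CotangentSpace B)
    (hv : v ∈ Submodule.span (ResidueField B) S) :
    cotMap β v ∈ Submodule.span (ResidueField B') (cotMap β '' S) := by
  induction hv using Submodule.span_induction with
  | mem x hx => exact Submodule.subset_span ⟨x, hx, rfl⟩
  | zero => rw [map_zero]; exact Submodule.zero_mem _
  | add x y _ _ hx hy => rw [map_add]; exact Submodule.add_mem _ hx hy
  | smul c x _ hx => rw [cotMap_smul]; exact Submodule.smul_mem _ _ hx

end alg

/-- **Rank bound from a commutative square of local rings.** -/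
theorem spanFinrank_le_of_square {A B A' B' : Type u} [CommRing A] [CommRing B] [CommRing A']
    [CommRing B'] [IsLocalRing A] [IsLocalRing B] [IsLocalRing A'] [IsLocalRing B']
    [IsNoetherianRing A']
    (φ : A →+* B) (φ' : A' →+* B') (α : A →+* A') (β : B →+* B') [IsLocalHom φ] [IsLocalHom φ']
    [IsLocalHom α] [IsLocalHom β] (comm : β.comp φ = φ'.comp α) (hα : Function.Surjective α)
    (hφ' : φ'.FormallySmooth) (hres : Function.Surjective (ResidueField.map φ'))
    (r : ℕ) (S : Finset (CotangentSpace B)) (hS : S.card ≤ r)
    (hrange : ∀ a : maximalIdeal A,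
      (maximalIdeal B).toCotangent ⟨φ a, maximalIdeal_le_comap φ a.2⟩ ∈
        Submodule.span (ResidueField B) (S : Set (CotangentSpace B))) :
    (maximalIdeal A').spanFinrank ≤ r := by
  classical
  obtain ⟨a', ha'⟩ := exists_fin_generators (A := A')
  let b' : Fin (maximalIdeal A').spanFinrank → maximalIdeal B' := fun i => ⟨φ' (a' i), maximalIdeal_le_comap φ' (a' i).2⟩
  have hv := linearIndependent_cot φ' hres
    (fun a _ ha => mem_sq_of_formallySmooth φ' hφ' hres a ha) a' rfl ha' b' (fun _ => rfl)
  let w : Finset (CotangentSpace B') := S.image (cotMap β)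
  have hsub : Set.range (fun i => (maximalIdeal B').toCotangent (b' i)) ≤
      Submodule.span (ResidueField B') (w : Set (CotangentSpace B')) := by
    rintro _ ⟨i, rfl⟩
    obtain ⟨a, haa⟩ := hα (a' i)
    have ham : a ∈ maximalIdeal A := by
      rw [mem_maximalIdeal, ← map_mem_nonunits_iff α, haa]
      exact (mem_maximalIdeal _).mp (a' i).2
    have h1 := cotMap_mem_span β _ _ (hrange ⟨a, ham⟩)
    rw [cotMap_toCotangent] at h1
    have h2 : (⟨β (φ a), maximalIdeal_le_comap β (maximalIdeal_le_comap φ ham)⟩ : maximalIdeal B') =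
        b' i := by
      ext
      show β (φ a) = φ' (a' i)
      rw [← haa]
      exact congrArg (fun g => g a) comm
    rw [h2] at h1
    have h3 : (w : Set (CotangentSpace B')) = cotMap β '' (S : Set (CotangentSpace B)) := by
      simp [w]
    rw [h3]
    exact h1
  have h4 := linearIndependent_le_span' _ hv (w : Set (CotangentSpace B')) hsub
  have h5 : (maximalIdeal A').spanFinrank ≤ w.card := by
    simpa using h4
  exact h5.trans (Finset.card_image_le.trans hS)

end Groth.Agent.Lib.Seat95.TangentRank
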