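import Mathlib
import Groth.Agent.Lib.Seat95CotDominant
import Groth.Agent.Lib.Seat95CotSmoothSch
import Groth.Agent.Lib.Seat95TangentRankAlg

set_option autoImplicit false
set_option linter.style.haveILetI false
universe u

open IsLocalRing CategoryTheory AlgebraicGeometry

namespace Groth.Agent.Lib.Seat95.TangentRank

/-- **Rank bound from a commutative square of schemes.** -/
theorem spanFinrank_le_of_comm {X Y X' Y' : Scheme.{u}} (f : X ⟶ Y) (f' : X' ⟶ Y') (jX : X' ⟶ X)
    (jY : Y' ⟶ Y) (comm : jX ≫ f = f' ≫ jY) (x' : X') [IsLocallyNoetherian Y']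
    (hjY : Function.Surjective (jY.stalkMap (f' x')).hom)
    (hsm : (f'.stalkMap x').hom.FormallySmooth)
    (hres : Function.Surjective (ResidueField.map (f'.stalkMap x').hom))
    (r : ℕ) (S : Finset (CotangentSpace (X.presheaf.stalk (jX x')))) (hS : S.card ≤ r)
    (hrange : (LinearMap.range (FixPt.cotangentMapAt f (jX x') (f (jX x')) rfl) :
        Set (CotangentSpace (X.presheaf.stalk (jX x')))) ⊆
      (Submodule.span (ResidueField (X.presheaf.stalk (jX x')))
        (S : Set (CotangentSpace (X.presheaf.stalk (jX x')))) : Set _)) :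
    (maximalIdeal (Y'.presheaf.stalk (f' x'))).spanFinrank ≤ r := by
  have h : f (jX x') = jY (f' x') := by
    rw [← Scheme.Hom.comp_apply, ← Scheme.Hom.comp_apply, comm]
  let c : Y.presheaf.stalk (f (jX x')) ⟶ Y.presheaf.stalk (jY (f' x')) :=
    (Y.presheaf.stalkCongr (.of_eq h)).hom
  let α : Y.presheaf.stalk (f (jX x')) →+* Y'.presheaf.stalk (f' x') :=
    (c ≫ jY.stalkMap (f' x')).hom
  haveI : IsLocalHom α := inferInstanceAs (IsLocalHom (c ≫ jY.stalkMap (f' x')).hom)
  have hα : Function.Surjective α := by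
    show Function.Surjective ((jY.stalkMap (f' x')).hom ∘ c.hom)
    exact hjY.comp (ConcreteCategory.bijective_of_isIso c).2
  have hcomm : (jX.stalkMap x').hom.comp (f.stalkMap (jX x')).hom = (f'.stalkMap x').hom.comp α := by
    have h1 := Scheme.Hom.stalkMap_comp jX f x'
    have h2 := Scheme.Hom.stalkMap_comp f' jY x'
    have h3 := Scheme.Hom.stalkMap_congr_hom (jX ≫ f) (f' ≫ jY) comm x'
    rw [h1, h2] at h3
    have := congrArg CommRingCat.Hom.hom h3
    simpa [α, c, RingHom.comp_assoc] using this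
  refine spanFinrank_le_of_square (f.stalkMap (jX x')).hom (f'.stalkMap x').hom α
    (jX.stalkMap x').hom hcomm hα hsm hres r S hS ?_
  intro a
  apply hrange
  refine ⟨(maximalIdeal _).toCotangent a, ?_⟩
  show FixPt.cotangentMapAt f (jX x') (f (jX x')) rfl _ = _
  unfold FixPt.cotangentMapAt
  rw [Ideal.mapCotangent_toCotangent]
  congr 1
  ext
  show FixPt.stalkMapAt f (jX x') (f (jX x')) rfl a = (f.stalkMap (jX x')).hom a
  rw [Groth.Agent.Lib.Seat95.CotSmoothSch.stalkMapAt_rfl]

end Groth.Agent.Lib.Seat95.TangentRank
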