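import Mathlib
import Groth.Agent.Lib.Seat95TangentRankSq
import Groth.Agent.Lib.Seat95CotDominantSch
import Groth.Agent.Lib.Seat95GenSmooth
import Groth.Agent.Lib.Seat95SmoothFibre

set_option autoImplicit false
set_option linter.style.haveILetI false
universe u

open IsLocalRing CategoryTheory AlgebraicGeometry

namespace Groth.Agent.Lib.Seat95.TangentRank

open Groth.Agent.Lib.Helper4.VarDim

attribute [local instance] Curv2.stalkAlgebra sectionsAlgebra Curv2.resAlgebra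

/-- the set of closed points where the cotangent map has rank at most `r`. -/
def lowRank {X Y : Scheme.{u}} (f : X ⟶ Y) (r : ℕ) : Set X :=
  {x : X | IsClosed ({x} : Set X) ∧
    ∃ S : Finset (CotangentSpace (X.presheaf.stalk x)), S.card ≤ r ∧
      (LinearMap.range (FixPt.cotangentMapAt f x (f x) rfl) :
        Set (CotangentSpace (X.presheaf.stalk x))) ⊆
      (Submodule.span (ResidueField (X.presheaf.stalk x))
        (S : Set (CotangentSpace (X.presheaf.stalk x))) : Set _)}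

/-- **Key proposition.** -/
theorem trdegNat_le_of_dense (k : Type u) [Field k] [IsAlgClosed k] [CharZero k]
    {X Y : Scheme.{u}} [X.Over (Spec (CommRingCat.of k))] [Y.Over (Spec (CommRingCat.of k))]
    [LocallyOfFiniteType (X ↘ Spec (CommRingCat.of k))]
    [LocallyOfFiniteType (Y ↘ Spec (CommRingCat.of k))]
    (f : X ⟶ Y) [f.IsOver (Spec (CommRingCat.of k))] (r : ℕ) (ξ : X)
    (hξ : ∀ M : X.Opens, ξ ∈ M → ∃ x ∈ M, ξ ⤳ x ∧ x ∈ lowRank f r) :
    trdegNat k Y (f ξ) ≤ r := by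
  obtain ⟨V, hV, hζV, -⟩ := exists_isAffineOpen_mem_and_subset (X := Y) (x := f ξ) (U := ⊤) trivial
  obtain ⟨W, hW, hξW, hWV⟩ := exists_isAffineOpen_mem_and_subset (X := X) (x := ξ)
    (U := f ⁻¹ᵁ V) hζV
  let φ₀ : Γ(Y, V) →+* Γ(X, W) := (f.appLE V W hWV).hom
  let q : Ideal Γ(X, W) := (hW.primeIdealOf ⟨ξ, hξW⟩).asIdeal
  let p : Ideal Γ(Y, V) := q.comap φ₀
  let φ' : Γ(Y, V) ⧸ p →+* Γ(X, W) ⧸ q := Ideal.quotientMap q φ₀ le_rfl
  have hφ'inj : Function.Injective φ' := Ideal.quotientMap_injective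
  let X' : Scheme.{u} := Spec (CommRingCat.of (Γ(X, W) ⧸ q))
  let Y' : Scheme.{u} := Spec (CommRingCat.of (Γ(Y, V) ⧸ p))
  let f' : X' ⟶ Y' := Spec.map (CommRingCat.ofHom φ')
  let cX : X' ⟶ Spec Γ(X, W) := Spec.map (CommRingCat.ofHom (Ideal.Quotient.mk q))
  let cY : Y' ⟶ Spec Γ(Y, V) := Spec.map (CommRingCat.ofHom (Ideal.Quotient.mk p))
  let jX : X' ⟶ X := cX ≫ hW.fromSpec
  let jY : Y' ⟶ Y := cY ≫ hV.fromSpec
  have comm : jX ≫ f = f' ≫ jY := by
    show (cX ≫ hW.fromSpec) ≫ f = f' ≫ cY ≫ hV.fromSpec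
    rw [Category.assoc, ← IsAffineOpen.SpecMap_appLE_fromSpec f hV hW hWV, ← Category.assoc,
      ← Category.assoc]
    congr 1
    show Spec.map _ ≫ Spec.map _ = Spec.map _ ≫ Spec.map _
    rw [← Spec.map_comp, ← Spec.map_comp]
    congr 1
  -- instances
  haveI : IsDomain (Γ(X, W) ⧸ q) := Ideal.Quotient.isDomain q
  haveI : p.IsPrime := Ideal.comap_isPrime φ₀ q
  haveI : IsDomain (Γ(Y, V) ⧸ p) := Ideal.Quotient.isDomain p
  haveI : IsIntegral X' := inferInstanceAs (IsIntegral (Spec (CommRingCat.of (Γ(X, W) ⧸ q))))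
  haveI : IsIntegral Y' := inferInstanceAs (IsIntegral (Spec (CommRingCat.of (Γ(Y, V) ⧸ p))))
  haveI : IsClosedImmersion cX := IsClosedImmersion.spec_of_quotient_mk q
  haveI : IsClosedImmersion cY := IsClosedImmersion.spec_of_quotient_mk p
  haveI : IsPreimmersion jX := inferInstanceAs (IsPreimmersion (cX ≫ hW.fromSpec))
  haveI : IsPreimmersion jY := inferInstanceAs (IsPreimmersion (cY ≫ hV.fromSpec))
  haveI : LocallyOfFiniteType jX := inferInstanceAs (LocallyOfFiniteType (cX ≫ hW.fromSpec))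
  haveI : LocallyOfFiniteType jY := inferInstanceAs (LocallyOfFiniteType (cY ≫ hV.fromSpec))
  letI : Y'.Over (Spec (CommRingCat.of k)) := ⟨jY ≫ (Y ↘ Spec (CommRingCat.of k))⟩
  letI : X'.Over (Spec (CommRingCat.of k)) := ⟨jX ≫ (X ↘ Spec (CommRingCat.of k))⟩
  haveI : jY.IsOver (Spec (CommRingCat.of k)) := ⟨rfl⟩
  haveI : jX.IsOver (Spec (CommRingCat.of k)) := ⟨rfl⟩
  haveI : f'.IsOver (Spec (CommRingCat.of k)) := ⟨by
    show f' ≫ jY ≫ (Y ↘ Spec (CommRingCat.of k)) = jX ≫ (X ↘ Spec (CommRingCat.of k))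
    rw [← Category.assoc, ← comm, Category.assoc, comp_over]⟩
  haveI : LocallyOfFiniteType (Y' ↘ Spec (CommRingCat.of k)) :=
    inferInstanceAs (LocallyOfFiniteType (jY ≫ (Y ↘ Spec (CommRingCat.of k))))
  haveI : LocallyOfFiniteType (X' ↘ Spec (CommRingCat.of k)) :=
    inferInstanceAs (LocallyOfFiniteType (jX ≫ (X ↘ Spec (CommRingCat.of k))))
  haveI : IsLocallyNoetherian Y' :=
    LocallyOfFiniteType.isLocallyNoetherian (Y' ↘ Spec (CommRingCat.of k))
  haveI : LocallyOfFiniteType (f' ≫ (Y' ↘ Spec (CommRingCat.of k))) := by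
    rw [comp_over]; infer_instance
  haveI : LocallyOfFiniteType f' := locallyOfFiniteType_of_comp f' (Y' ↘ Spec (CommRingCat.of k))
  haveI : LocallyOfFinitePresentation f' := inferInstance
  -- generic smoothness
  have hdom : DenseRange f' := by
    show DenseRange (PrimeSpectrum.comap φ')
    rw [PrimeSpectrum.denseRange_comap_iff_ker_le_nilRadical,
      (RingHom.injective_iff_ker_eq_bot φ').mp hφ'inj]
    exact bot_le
  have e := Groth.Agent.Lib.Seat95.GenSmooth.map_genericPoint_of_denseRange f' hdom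
  haveI : Nonempty (⊤ : Y'.Opens) := ⟨⟨genericPoint Y', trivial⟩⟩
  let ψ : k →+* Y'.functionField :=
    ((Scheme.ΓSpecIso (CommRingCat.of k)).inv ≫ (Y' ↘ Spec (CommRingCat.of k)).appTop ≫
      Y'.germToFunctionField ⊤).hom
  haveI : CharZero Y'.functionField := charZero_of_injective_ringHom ψ.injective
  haveI : PerfectField Y'.functionField := inferInstance
  obtain ⟨U', hU'ne, hU'sm⟩ := Groth.Agent.Lib.Seat95.GenSmooth.main f' e
  -- the generic point of `X'`
  let η' : X' := (⟨⊥, Ideal.isPrime_bot⟩ : PrimeSpectrum (Γ(X, W) ⧸ q))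
  have hη'U : η' ∈ U' := by
    obtain ⟨u, hu⟩ := hU'ne
    have : η' ⤳ u := (PrimeSpectrum.le_iff_specializes η' u).mp bot_le
    exact this.mem_open U'.isOpen hu
  have hjη' : jX η' = ξ := by
    show hW.fromSpec (cX η') = ξ
    have : cX η' = hW.primeIdealOf ⟨ξ, hξW⟩ := by
      apply PrimeSpectrum.ext
      show Ideal.comap (Ideal.Quotient.mk q) ⊥ = q
      rw [← RingHom.ker_eq_comap_bot, Ideal.mk_ker]
    rw [this]
    exact hW.fromSpec_primeIdealOf ⟨ξ, hξW⟩
  -- the open `M₁`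
  obtain ⟨M₀, hM₀open, hM₀⟩ := jX.isEmbedding.isInducing.isOpen_iff.mp U'.isOpen
  let M₁ : X.Opens := ⟨M₀, hM₀open⟩ ⊓ W
  have hξM₁ : ξ ∈ M₁ := by
    refine ⟨?_, hξW⟩
    show ξ ∈ M₀
    rw [← hjη']
    have : η' ∈ jX ⁻¹' M₀ := hM₀ ▸ hη'U
    exact this
  obtain ⟨x, hxM₁, hξx, hxcl, S, hS, hrange⟩ := hξ M₁ hξM₁
  have hxW : x ∈ W := hxM₁.2
  -- `x` comes from `X'`
  obtain ⟨x', hx'⟩ : ∃ x' : X', jX x' = x := by
    have h1 : (hW.primeIdealOf ⟨ξ, hξW⟩ : ↥(Spec Γ(X, W))) ⤳ hW.primeIdealOf ⟨x, hxW⟩ := by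
      apply hW.fromSpec.isOpenEmbedding.isInducing.specializes_iff.mp
      rw [hW.fromSpec_primeIdealOf ⟨ξ, hξW⟩, hW.fromSpec_primeIdealOf ⟨x, hxW⟩]
      exact hξx
    have h2 : q ≤ (hW.primeIdealOf ⟨x, hxW⟩).asIdeal :=
      (PrimeSpectrum.le_iff_specializes _ _).mpr h1
    have h3 : hW.primeIdealOf ⟨x, hxW⟩ ∈ Set.range (PrimeSpectrum.comap (Ideal.Quotient.mk q)) := by
      rw [range_comap_of_surjective _ _ Ideal.Quotient.mk_surjective, Ideal.mk_ker]
      exact h2
    obtain ⟨x', hx'⟩ := h3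
    refine ⟨x', ?_⟩
    show hW.fromSpec (cX x') = x
    have : cX x' = hW.primeIdealOf ⟨x, hxW⟩ := hx'
    rw [this]
    exact hW.fromSpec_primeIdealOf ⟨x, hxW⟩
  have hx'U : x' ∈ U' := by
    have : x' ∈ jX ⁻¹' M₀ := by
      show jX x' ∈ M₀
      rw [hx']
      exact hxM₁.1
    rw [hM₀] at this
    exact this
  -- formal smoothness at `x'`
  have hsm : (f'.stalkMap x').hom.FormallySmooth := by
    have h3 := Scheme.Hom.smoothLocus_eq_top_iff.mpr hU'sm
    rw [← Scheme.Hom.preimage_smoothLocus_eq] at h3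
    have : (⟨x', hx'U⟩ : U'.toScheme) ∈ U'.ι ⁻¹ᵁ f'.smoothLocus := h3 ▸ trivial
    exact this
  -- `x'` is closed
  have hx'cl : IsClosed ({x'} : Set X') := by
    have : ({x'} : Set X') = jX ⁻¹' {x} := by
      ext z
      simp only [Set.mem_singleton_iff, Set.mem_preimage]
      constructor
      · rintro rfl; exact hx'
      · intro hz; exact jX.isEmbedding.injective (hz.trans hx'.symm)
    rw [this]
    exact hxcl.preimage jX.continuous
  have hres := Groth.Agent.Lib.Seat95.CotDominantSch.residueField_map_surjective k f' x' hx'cl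
  subst hx'
  have hbound := spanFinrank_le_of_comm f f' jX jY comm x' (jY.stalkMap_surjective (f' x'))
    hsm hres r S hS hrange
  -- the dimension chain
  have h0 := trdeg_eq_zero_of_isClosed k X' x' hx'cl
  have h0' := Groth.Agent.Lib.Seat95.SmoothFibre.trdeg_image_eq_zero k f' x' h0
  have hdim := Groth.Agent.Lib.Seat95.SmoothFibre.ringKrullDim_stalk_of_trdeg_eq_zero k (f' x') h0'
  have h1 : trdegNat k Y (f ξ) ≤ trdegNat k Y' (f' η') := by
    have := trdegNat_le_of_hom k jY (comp_over jY (Spec (CommRingCat.of k))) (f' η')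
    have h2 : jY (f' η') = f ξ := by
      rw [← hjη', ← Scheme.Hom.comp_apply, ← Scheme.Hom.comp_apply, comm]
    rwa [h2] at this
  have h2 := trdegNat_le_topologicalKrullDim k Y' (f' η')
  rw [← hdim] at h2
  have h3 := h2.trans (ringKrullDim_le_spanFinrank_maximalIdeal (Y'.presheaf.stalk (f' x')))
  have h4 : trdegNat k Y' (f' η') ≤ (maximalIdeal (Y'.presheaf.stalk (f' x'))).spanFinrank := by
    exact_mod_cast h3
  exact h1.trans (h4.trans hbound)

end Groth.Agent.Lib.Seat95.TangentRank
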