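import Mathlib
import Groth.Agent.Lib.Seat95TangentRankKey

set_option autoImplicit false
set_option linter.style.haveILetI false
universe u

open IsLocalRing CategoryTheory AlgebraicGeometry TopologicalSpace

namespace Groth.Agent.Lib.Seat95.TangentRank

open Groth.Agent.Lib.Helper4.VarDim

/-- In a Noetherian quasi-sober space, every point of the closure of `g '' D` is a specialization
of the image of a point `ξ` near which `D ∩ closure {ξ}` is dense. -/
theorem exists_generic_of_mem_closure_image {α β : Type*} [TopologicalSpace α]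
    [TopologicalSpace β] [NoetherianSpace α] [QuasiSober α] (g : α → β) (hg : Continuous g)
    (F : Closeds α) :
    ∀ D : Set α, closure D = F → ∀ z ∈ closure (g '' D), ∃ ξ, g ξ ⤳ z ∧
      ∀ M : Set α, IsOpen M → ξ ∈ M → ∃ x ∈ D, x ∈ M ∧ ξ ⤳ x := by
  induction F using WellFoundedLT.induction with
  | ind F ih =>
  intro D hD z hz
  by_cases hirr : IsIrreducible (F : Set α)
  · obtain ⟨ξ, hξ⟩ := QuasiSober.sober hirr F.isClosed
    refine ⟨ξ, ?_, ?_⟩
    · rw [specializes_iff_mem_closure]
      have h1 : g '' D ⊆ closure {g ξ} := by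
        rintro _ ⟨d, hd, rfl⟩
        have hdF : d ∈ closure ({ξ} : Set α) := by
          rw [hξ.def, ← hD]; exact subset_closure hd
        have := image_closure_subset_closure_image hg (s := {ξ}) ⟨d, hdF, rfl⟩
        simpa using this
      exact closure_minimal h1 isClosed_closure hz
    · intro M hM hξM
      have hξF : ξ ∈ closure D := by
        rw [hD, ← hξ.def]; exact subset_closure rfl
      obtain ⟨x, hxM, hxD⟩ := mem_closure_iff.mp hξF M hM hξM
      refine ⟨x, hxD, hxM, ?_⟩
      rw [specializes_iff_mem_closure, hξ.def, ← hD]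
      exact subset_closure hxD
  · by_cases hne : (F : Set α).Nonempty
    · have hpre : ¬ IsPreirreducible (F : Set α) := fun h => hirr ⟨hne, h⟩
      rw [isPreirreducible_iff_isClosed_union_isClosed] at hpre
      push Not at hpre
      obtain ⟨z₁, z₂, hz₁, hz₂, hsub, hn₁, hn₂⟩ := hpre
      have hDF : D ⊆ F := hD ▸ subset_closure
      have hcl : ∀ (w : Set α), IsClosed w → ¬ (F : Set α) ⊆ w →
          (⟨closure (D ∩ w), isClosed_closure⟩ : Closeds α) < F := by
        intro w hw hnw
        have hle : closure (D ∩ w) ⊆ (F : Set α) ∩ w :=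
          closure_minimal (Set.inter_subset_inter_left _ hDF) (F.isClosed.inter hw)
        refine lt_of_le_of_ne (fun a ha => (hle ha).1) ?_
        intro heq
        apply hnw
        intro a ha
        have : a ∈ closure (D ∩ w) := by
          have : a ∈ ((⟨closure (D ∩ w), isClosed_closure⟩ : Closeds α) : Set α) := heq ▸ ha
          exact this
        exact (hle this).2
      have hunion : g '' D = g '' (D ∩ z₁) ∪ g '' (D ∩ z₂) := by
        rw [← Set.image_union, ← Set.inter_union_distrib_left]
        congr 1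
        exact (Set.inter_eq_left.mpr (hDF.trans hsub)).symm
      rw [hunion, closure_union] at hz
      rcases hz with hz | hz
      · obtain ⟨ξ, h1, h2⟩ := ih _ (hcl z₁ hz₁ hn₁) (D ∩ z₁) rfl z hz
        exact ⟨ξ, h1, fun M hM hξM => let ⟨x, hx, hxM, hξx⟩ := h2 M hM hξM; ⟨x, hx.1, hxM, hξx⟩⟩
      · obtain ⟨ξ, h1, h2⟩ := ih _ (hcl z₂ hz₂ hn₂) (D ∩ z₂) rfl z hz
        exact ⟨ξ, h1, fun M hM hξM => let ⟨x, hx, hxM, hξx⟩ := h2 M hM hξM; ⟨x, hx.1, hxM, hξx⟩⟩
    · rw [Set.not_nonempty_iff_eq_empty] at hne
      have hDe : D = ∅ := Set.subset_empty_iff.mp (hne ▸ hD ▸ subset_closure)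
      rw [hDe, Set.image_empty, closure_empty] at hz
      exact hz.elim

/-- **Hartshorne III.10.6.** -/
theorem main (k : Type u) [Field k] [IsAlgClosed k] [CharZero k]
    {X Y : Scheme.{u}} [X.Over (Spec (CommRingCat.of k))] [Y.Over (Spec (CommRingCat.of k))]
    [LocallyOfFiniteType (X ↘ Spec (CommRingCat.of k))] [QuasiCompact (X ↘ Spec (CommRingCat.of k))]
    [LocallyOfFiniteType (Y ↘ Spec (CommRingCat.of k))]
    (f : X ⟶ Y) [f.IsOver (Spec (CommRingCat.of k))] (r : ℕ) :
    topologicalKrullDim ↥(closure (f '' lowRank f r)) ≤ r := by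
  haveI : IsLocallyNoetherian X :=
    LocallyOfFiniteType.isLocallyNoetherian (X ↘ Spec (CommRingCat.of k))
  haveI : CompactSpace X := QuasiCompact.compactSpace_of_compactSpace (X ↘ Spec (CommRingCat.of k))
  haveI : IsNoetherian X := {}
  haveI : QuasiSober ↥(closure (f '' lowRank f r)) :=
    quasiSober_of_isLocallyClosed _ isClosed_closure.isLocallyClosed
  refine topologicalKrullDim_le_of_forall_trdegNat_le k Y _ _ fun z hz => ?_
  obtain ⟨ξ, hξz, hξ⟩ := exists_generic_of_mem_closure_image f f.continuous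
    ⟨closure (lowRank f r), isClosed_closure⟩ (lowRank f r) rfl z hz
  have h1 := trdegNat_le_of_dense k f r ξ (fun M hM =>
    let ⟨x, hxD, hxM, hξx⟩ := hξ M M.isOpen hM; ⟨x, hxM, hξx, hxD⟩)
  have h2 := trdegNat_le_of_specializes k Y (f ξ) z hξz
  exact_mod_cast h2.trans h1

end Groth.Agent.Lib.Seat95.TangentRank
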