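import Mathlib
import Groth.Prelude.Def_W4c6modpairsegaMP
import Groth.Agent.Lib.Helper20EffCartier

/-!
# Ring-valued points of a scheme through an affine open, and pulled-back ideal sheaves (seat 95)

Namespace `Groth.Agent.Lib.Seat95.ValPt`.
For an affine open `U` of `X`, `A = Γ(X, U)` and `φ : A →+* R`, `specPt hU φ : Spec R ⟶ X`.
* `ideal_comap_specPt`: `(I.comap (specPt hU φ)).ideal ⊤ = ((I.ideal U).map φ).map (ΓSpecIso R).inv`.
* `comap_specPt_eq_iff`, `comap_specPt_eq_top_iff`, `isEffCartier_comap_specPt`, `mem_interior_comap_specPt`.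
-/

set_option autoImplicit false
universe u
open CategoryTheory AlgebraicGeometry Limits Opposite TopologicalSpace

namespace Groth.Agent.Lib.Seat95.ValPt

open Groth.Agent.Lib.Helper20.EffCartier

variable {X : Scheme.{u}} {U : X.Opens} (hU : IsAffineOpen U) {R : Type u} [CommRing R]

/-- the `R`-valued point of `X` given by a ring map out of the sections over an affine open. -/
noncomputable def specPt (φ : Γ(X, U) →+* R) : Spec (CommRingCat.of R) ⟶ X :=
  Spec.map (CommRingCat.ofHom φ) ≫ hU.fromSpec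

theorem specPt_preimage (φ : Γ(X, U) →+* R) : (⊤ : (Spec (CommRingCat.of R)).Opens) ≤
    specPt hU φ ⁻¹ᵁ U := by
  unfold specPt
  rw [Scheme.Hom.comp_preimage, hU.fromSpec_preimage_self]
  exact le_of_eq rfl

theorem specPt_appLE (φ : Γ(X, U) →+* R) :
    (specPt hU φ).appLE U ⊤ (specPt_preimage hU φ) =
      CommRingCat.ofHom φ ≫ (Scheme.ΓSpecIso (CommRingCat.of R)).inv := by
  have e : (⊤ : (Spec Γ(X, U)).Opens) ≤ hU.fromSpec ⁻¹ᵁ U := by
    rw [hU.fromSpec_preimage_self]
  have h2 : hU.fromSpec.appLE U ⊤ e = (Scheme.ΓSpecIso Γ(X, U)).inv := by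
    rw [Scheme.Hom.appLE, hU.fromSpec_app_self, Category.assoc, ← Functor.map_comp]
    convert Category.comp_id _
    exact CategoryTheory.Functor.map_id _ _
  have h3 : (specPt hU φ).appLE U ⊤ (specPt_preimage hU φ) =
      hU.fromSpec.appLE U ⊤ e ≫ (Spec.map (CommRingCat.ofHom φ)).appLE ⊤ ⊤ le_top := by
    rw [Scheme.Hom.appLE_comp_appLE]
    rfl
  rw [h3, h2, Scheme.ΓSpecIso_inv_naturality]
  congr 1

theorem ideal_comap_specPt (I : X.IdealSheafData) (φ : Γ(X, U) →+* R) :
    (I.comap (specPt hU φ)).ideal ⟨⊤, isAffineOpen_top _⟩ =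
      ((I.ideal ⟨U, hU⟩).map φ).map (Scheme.ΓSpecIso (CommRingCat.of R)).inv.hom := by
  rw [ideal_comap_eq_map (specPt hU φ) I (isAffineOpen_top _) hU (specPt_preimage hU φ),
    specPt_appLE, CommRingCat.hom_comp, ← Ideal.map_map]
  rfl

theorem comap_specPt_eq_iff (I J : X.IdealSheafData) (φ : Γ(X, U) →+* R) :
    I.comap (specPt hU φ) = J.comap (specPt hU φ) ↔
      (I.ideal ⟨U, hU⟩).map φ = (J.ideal ⟨U, hU⟩).map φ := by
  constructor
  · intro h
    have h1 := congrArg (fun K => K.ideal ⟨⊤, isAffineOpen_top _⟩) h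
    simp only [ideal_comap_specPt] at h1
    have hbij : Function.Bijective (Scheme.ΓSpecIso (CommRingCat.of R)).inv.hom :=
      (Scheme.ΓSpecIso (CommRingCat.of R)).symm.commRingCatIsoToRingEquiv.bijective
    have h2 := congrArg (Ideal.comap (Scheme.ΓSpecIso (CommRingCat.of R)).inv.hom) h1
    rwa [Ideal.comap_map_of_bijective _ hbij, Ideal.comap_map_of_bijective _ hbij] at h2
  · intro h
    apply Scheme.IdealSheafData.ext_of_isAffine
    rw [ideal_comap_specPt, ideal_comap_specPt, h]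

theorem comap_specPt_eq_top_iff (I : X.IdealSheafData) (φ : Γ(X, U) →+* R) :
    I.comap (specPt hU φ) = ⊤ ↔ (I.ideal ⟨U, hU⟩).map φ = ⊤ := by
  have h1 : (⊤ : X.IdealSheafData).comap (specPt hU φ) = ⊤ := by
    apply Scheme.IdealSheafData.ext_of_isAffine
    rw [ideal_comap_specPt]
    show ((⊤ : Ideal _).map φ).map _ = ⊤
    rw [Ideal.map_top, Ideal.map_top]
  rw [← h1, comap_specPt_eq_iff]
  show _ = (⊤ : Ideal _).map φ ↔ _
  rw [Ideal.map_top]

open nonZeroDivisors in
theorem isEffCartier_comap_specPt [IsDomain R] (I : X.IdealSheafData) (φ : Γ(X, U) →+* R)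
    (a : Γ(X, U)) (ha : I.ideal ⟨U, hU⟩ = Ideal.span {a}) (hφa : φ a ≠ 0) :
    BlowUp.IsEffCartierIdeal (I.comap (specPt hU φ)) := by
  intro x
  refine ⟨⟨⊤, isAffineOpen_top _⟩, trivial,
    (Scheme.ΓSpecIso (CommRingCat.of R)).inv.hom (φ a), ?_, ?_⟩
  · let e : R ≃+* Γ(Spec (CommRingCat.of R), ⊤) :=
      (Scheme.ΓSpecIso (CommRingCat.of R)).symm.commRingCatIsoToRingEquiv
    have h1 : e (φ a) ∈ (Γ(Spec (CommRingCat.of R), ⊤))⁰ := by
      rw [← MulEquivClass.map_nonZeroDivisors e]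
      exact Submonoid.mem_map_of_mem _ (mem_nonZeroDivisors_of_ne_zero hφa)
    exact h1
  · rw [ideal_comap_specPt, ha, Ideal.map_span, Set.image_singleton, Ideal.map_span,
      Set.image_singleton]

theorem mem_interior_comap_specPt (I : X.IdealSheafData) (φ : Γ(X, U) →+* R)
    (a : Γ(X, U)) (ha : I.ideal ⟨U, hU⟩ = Ideal.span {a}) (x : Spec (CommRingCat.of R)) :
    x ∈ (ModPair.interior (I.comap (specPt hU φ)) : Set (Spec (CommRingCat.of R))) ↔
      φ a ∉ x.asIdeal := by
  have hx : x ∈ (⟨⊤, isAffineOpen_top _⟩ : (Spec (CommRingCat.of R)).affineOpens).1 := trivial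
  show x ∉ (I.comap (specPt hU φ)).support ↔ _
  rw [Scheme.IdealSheafData.mem_support_iff_of_mem hx, ideal_comap_specPt, ha, Ideal.map_span,
    Set.image_singleton, Ideal.map_span, Set.image_singleton, Scheme.zeroLocus_span,
    Scheme.zeroLocus_singleton]
  rw [Set.mem_compl_iff, not_not, SetLike.mem_coe]
  have := basicOpen_eq_of_affine (R := CommRingCat.of R) (φ a)
  rw [show (Scheme.ΓSpecIso (CommRingCat.of R)).inv.hom (φ a) =
    (Scheme.ΓSpecIso (CommRingCat.of R)).inv (φ a) from rfl, this]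
  exact PrimeSpectrum.mem_basicOpen _ _

end Groth.Agent.Lib.Seat95.ValPt
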