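import Mathlib

/-!
# Valuation rings detecting non-units (seat 95)

Namespace `Groth.Agent.Lib.Seat95.ValRing`.
* `exists_valuationRing_map`: for a prime `𝔭` of `A` and a nonzerodivisor `a`, a map `φ : A → R` to a
  valuation ring with `φ a ≠ 0` and `φ x` a non-unit for all `x ∈ 𝔭`.
* `exists_largest_prime_not_mem`: in a valuation ring, the largest prime not containing a non-unit `t ≠ 0`.
* `exists_valuationRing_map_rankOne`: as the first, but moreover every nonzero prime of `R` contains `φ a`.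
-/

set_option autoImplicit false
universe u

namespace Groth.Agent.Lib.Seat95.ValRing

open nonZeroDivisors

theorem exists_valuationRing_map (A : Type u) [CommRing A] (𝔭 : Ideal A) [𝔭.IsPrime] (a : A)
    (ha : a ∈ A⁰) :
    ∃ (R : Type u) (_ : CommRing R) (_ : IsDomain R) (_ : ValuationRing R) (φ : A →+* R),
      φ a ≠ 0 ∧ ∀ x ∈ 𝔭, ¬ IsUnit (φ x) := by
  let L := Localization.AtPrime 𝔭
  have haL : algebraMap A L a ∈ L⁰ :=
    IsLocalization.map_nonZeroDivisors_le 𝔭.primeCompl L (Submonoid.mem_map_of_mem _ ha)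
  have hdisj : Disjoint ((⊥ : Ideal L) : Set L) (Submonoid.powers (algebraMap A L a)) := by
    rw [Set.disjoint_left]
    rintro x hx ⟨n, rfl⟩
    have h0 : (algebraMap A L a) ^ n = 0 := hx
    have h1 : (algebraMap A L a) ^ n ∈ L⁰ := pow_mem haL n
    exact zero_notMem_nonZeroDivisors (h0 ▸ h1)
  obtain ⟨𝔮, h𝔮, -, h𝔮a⟩ := Ideal.exists_le_prime_disjoint ⊥ _ hdisj
  have haq : algebraMap A L a ∉ 𝔮 := fun h =>
    Set.disjoint_left.mp h𝔮a h (Submonoid.mem_powers _)
  let f : L →+* 𝔮.ResidueField := algebraMap L 𝔮.ResidueField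
  obtain ⟨V, hV, hloc⟩ := IsLocalRing.exists_factor_valuationRing f
  refine ⟨V, inferInstance, inferInstance, inferInstance,
    (f.codRestrict V.toSubring hV).comp (algebraMap A L), ?_, ?_⟩
  · intro h0
    apply haq
    have h1 : f (algebraMap A L a) = 0 := by
      have := congrArg (Subtype.val) h0
      simpa using this
    exact (Ideal.algebraMap_residueField_eq_zero).mp h1
  · intro x hx hu
    have h1 : IsUnit (algebraMap A L x) := hloc.map_nonunit _ hu
    rw [IsLocalization.AtPrime.isUnit_to_map_iff L 𝔭] at h1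
    exact h1 hx

theorem exists_largest_prime_not_mem (V : Type u) [CommRing V] [IsDomain V] [ValuationRing V]
    (t : V) (ht0 : t ≠ 0) (htu : ¬ IsUnit t) :
    ∃ 𝔯 : Ideal V, 𝔯.IsPrime ∧ t ∉ 𝔯 ∧ ∀ 𝔮 : Ideal V, 𝔮.IsPrime → t ∉ 𝔮 → 𝔮 ≤ 𝔯 := by
  let 𝔯 : Ideal V := ⨅ n : ℕ, Ideal.span {t ^ n}
  have hmem : ∀ x, x ∈ 𝔯 ↔ ∀ n : ℕ, t ^ n ∣ x := by
    intro x
    simp only [𝔯, Ideal.mem_iInf, Ideal.mem_span_singleton]
  have htr : t ∉ 𝔯 := by
    intro h
    obtain ⟨z, hz⟩ := (hmem t).mp h 2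
    apply htu
    have h1 : t * 1 = t * (t * z) := by rw [mul_one, ← mul_assoc, ← pow_two]; exact hz
    have h2 := mul_left_cancel₀ ht0 h1
    exact IsUnit.of_mul_eq_one z h2.symm
  refine ⟨𝔯, ?_, htr, ?_⟩
  · refine ⟨fun h => htr (h ▸ Submodule.mem_top), ?_⟩
    intro x y hxy
    by_contra hcon
    push Not at hcon
    obtain ⟨hx, hy⟩ := hcon
    rw [hmem] at hx hy
    push Not at hx hy
    obtain ⟨m, hm⟩ := hx
    obtain ⟨n, hn⟩ := hy
    -- `x ∣ t^m` and `y ∣ t^n`
    have hxm : x ∣ t ^ m := by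
      obtain ⟨c, hc | hc⟩ := ValuationRing.cond x (t ^ m)
      · exact ⟨c, hc.symm⟩
      · exact absurd ⟨c, hc.symm⟩ hm
    have hyn : y ∣ t ^ n := by
      obtain ⟨c, hc | hc⟩ := ValuationRing.cond y (t ^ n)
      · exact ⟨c, hc.symm⟩
      · exact absurd ⟨c, hc.symm⟩ hn
    have h1 : x * y ∣ t ^ (m + n) := by
      rw [pow_add]; exact mul_dvd_mul hxm hyn
    have h2 : t ^ (m + n + 1) ∣ x * y := (hmem _).mp hxy _
    have h3 : t ^ (m + n + 1) ∣ t ^ (m + n) := h2.trans h1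
    obtain ⟨z, hz⟩ := h3
    apply htu
    have h4 : t ^ (m + n) * 1 = t ^ (m + n) * (t * z) := by
      rw [mul_one, ← mul_assoc, ← pow_succ]; exact hz
    have h5 := mul_left_cancel₀ (pow_ne_zero _ ht0) h4
    exact IsUnit.of_mul_eq_one z h5.symm
  · intro 𝔮 h𝔮 htq s hs
    rw [hmem]
    intro n
    obtain ⟨c, hc | hc⟩ := ValuationRing.cond (t ^ n) s
    · exact ⟨c, hc.symm⟩
    · exfalso
      have h1 : t ^ n ∈ 𝔮 := hc ▸ 𝔮.mul_mem_right c hs
      exact htq (h𝔮.mem_of_pow_mem n h1)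

theorem exists_valuationRing_map_rankOne (A : Type u) [CommRing A] (𝔭 : Ideal A) [𝔭.IsPrime]
    (a c : A) (hac : a * c ∈ A⁰) (hc : c ∈ 𝔭) :
    ∃ (R : Type u) (_ : CommRing R) (_ : IsDomain R) (_ : ValuationRing R) (φ : A →+* R),
      φ a ≠ 0 ∧ (∀ P : Ideal R, P.IsPrime → (φ a ∉ P ↔ P = ⊥)) ∧ ¬ IsUnit (φ c) := by
  by_cases hap : a ∈ 𝔭
  · have ha : a ∈ A⁰ := by
      rw [mem_nonZeroDivisors_iff_right] at hac ⊢
      intro x hx
      apply hac
      rw [← mul_assoc, hx, zero_mul]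
    obtain ⟨V, iC, iD, iV, ψ, hψa, hψ⟩ := exists_valuationRing_map A 𝔭 a ha
    obtain ⟨𝔯, h𝔯, ht𝔯, hmax⟩ := exists_largest_prime_not_mem V (ψ a) hψa (hψ a hap)
    have hsurj : Function.Surjective (Ideal.Quotient.mk 𝔯) := Ideal.Quotient.mk_surjective
    haveI : IsDomain (V ⧸ 𝔯) := Ideal.Quotient.isDomain 𝔯
    refine ⟨V ⧸ 𝔯, inferInstance, inferInstance,
      Function.Surjective.valuationRing (Ideal.Quotient.mk 𝔯) hsurj,
      (Ideal.Quotient.mk 𝔯).comp ψ, ?_, ?_, ?_⟩
    · intro h0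
      exact ht𝔯 (Ideal.Quotient.eq_zero_iff_mem.mp h0)
    · intro P hP
      constructor
      · intro hnot
        have hP' : (P.comap (Ideal.Quotient.mk 𝔯)).IsPrime := Ideal.comap_isPrime _ P
        have h1 : P.comap (Ideal.Quotient.mk 𝔯) ≤ 𝔯 := hmax _ hP' (fun h => hnot h)
        rw [eq_bot_iff]
        intro y hy
        obtain ⟨v, rfl⟩ := hsurj y
        have : v ∈ 𝔯 := h1 hy
        rw [Ideal.mem_bot]
        exact Ideal.Quotient.eq_zero_iff_mem.mpr this
      · rintro rfl h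
        rw [Ideal.mem_bot] at h
        exact ht𝔯 (Ideal.Quotient.eq_zero_iff_mem.mp h)
    · intro hu
      -- `ψ c` is a non-unit of the local ring `V`, so its image mod `𝔯` is a non-unit
      have h1 : ¬ IsUnit (ψ c) := hψ c hc
      obtain ⟨w, hw⟩ := hu.exists_right_inv
      obtain ⟨v, rfl⟩ := hsurj w
      have h2 : ψ c * v - 1 ∈ 𝔯 := by
        rw [← Ideal.Quotient.eq_zero_iff_mem, map_sub, map_mul, map_one, sub_eq_zero]
        exact hw
      have h3 : 𝔯 ≤ IsLocalRing.maximalIdeal V := IsLocalRing.le_maximalIdeal h𝔯.ne_top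
      have h4 : ψ c ∈ IsLocalRing.maximalIdeal V := (IsLocalRing.mem_maximalIdeal _).mpr h1
      have h5 : (1 : V) ∈ IsLocalRing.maximalIdeal V := by
        have := (IsLocalRing.maximalIdeal V).sub_mem
          ((IsLocalRing.maximalIdeal V).mul_mem_right v h4) (h3 h2)
        simpa using this
      exact (IsLocalRing.maximalIdeal.isMaximal V).ne_top
        ((Ideal.eq_top_iff_one _).mpr h5)
  · -- residue field at `𝔭`
    refine ⟨𝔭.ResidueField, inferInstance, inferInstance, inferInstance,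
      algebraMap A 𝔭.ResidueField, ?_, ?_, ?_⟩
    · intro h0
      exact hap (Ideal.algebraMap_residueField_eq_zero.mp h0)
    · intro P hP
      have hPbot : P = ⊥ := (Ideal.eq_bot_or_top P).resolve_right hP.ne_top
      constructor
      · intro _; exact hPbot
      · intro _ h
        rw [hPbot, Ideal.mem_bot] at h
        exact hap (Ideal.algebraMap_residueField_eq_zero.mp h)
    · intro hu
      have h0 : algebraMap A 𝔭.ResidueField c = 0 :=
        Ideal.algebraMap_residueField_eq_zero.mpr hc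
      rw [h0] at hu
      exact not_isUnit_zero hu

end Groth.Agent.Lib.Seat95.ValRing
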