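import Mathlib
import Groth.Agent.Lib.Helper26Witt

/-!
# Witt vector bookkeeping for the graded pieces of the filtration (helper for S19268)
-/

set_option autoImplicit false
universe u

namespace Groth.Agent.Lib.Seat95.WittGr

open WittVector

section Pure

variable {p : ℕ} [hp : Fact p.Prime] {R : Type*} [CommRing R]

theorem coeff_init' (x : WittVector p R) (s n : ℕ) :
    (init s x).coeff n = if n < s then x.coeff n else 0 := by
  unfold init select
  rw [coeff_mk]
  split_ifs <;> rfl

theorem coeff_tail' (x : WittVector p R) (s n : ℕ) :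
    (tail s x).coeff n = if s ≤ n then x.coeff n else 0 := by
  unfold tail select
  rw [coeff_mk]
  split_ifs <;> rfl

theorem iterate_verschiebung_sub (s : ℕ) (a b : WittVector p R) :
    (verschiebung^[s]) (a - b) = (verschiebung^[s]) a - (verschiebung^[s]) b := by
  induction s generalizing a b with
  | zero => rfl
  | succ s ih =>
    rw [Function.iterate_succ_apply', Function.iterate_succ_apply', Function.iterate_succ_apply',
      ih, map_sub]

theorem tail_eq_iterate_verschiebung (x : WittVector p R) (s : ℕ) :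
    tail s x = (verschiebung^[s]) (x.shift s) := by
  have h : ∀ i < s, (tail s x).coeff i = 0 := by
    intro i hi
    rw [coeff_tail', if_neg (not_le.2 hi)]
  have h2 : (tail s x).shift s = x.shift s := by
    ext k
    rw [shift_coeff, shift_coeff, coeff_tail', if_pos (Nat.le_add_right s k)]
  rw [← h2]
  exact eq_iterate_verschiebung h

/-- `x - V^s w = init_s x + V^s (shift_s x - w)` -/
theorem sub_iterate_verschiebung (x w : WittVector p R) (s : ℕ) :
    x - (verschiebung^[s]) w = init s x + (verschiebung^[s]) (x.shift s - w) := by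
  rw [iterate_verschiebung_sub, ← tail_eq_iterate_verschiebung]
  conv_lhs => rw [← init_add_tail x s]
  ring

theorem coeff_init_add_iterate_verschiebung (x E : WittVector p R) (s j : ℕ) :
    (init s x + (verschiebung^[s]) E).coeff j =
      if j < s then x.coeff j else E.coeff (j - s) := by
  rw [coeff_add_of_disjoint]
  · rw [coeff_init']
    split_ifs with h
    · rw [iterate_verschiebung_coeff_eq_zero E h, add_zero]
    · have hj : j = (j - s) + s := by omega
      conv_lhs => rw [hj, iterate_verschiebung_coeff]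
      rw [zero_add]
  · intro n
    by_cases h : n < s
    · right
      exact iterate_verschiebung_coeff_eq_zero E h
    · left
      rw [coeff_init', if_neg h]

theorem coeff_iterate_verschiebung' (E : WittVector p R) (s j : ℕ) :
    ((verschiebung^[s]) E).coeff j = if j < s then 0 else E.coeff (j - s) := by
  split_ifs with h
  · exact iterate_verschiebung_coeff_eq_zero E h
  · have hj : j = (j - s) + s := by omega
    conv_lhs => rw [hj, iterate_verschiebung_coeff]

theorem truncate_eq_of_coeff_eq (k : ℕ) (a b : WittVector p R)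
    (h : ∀ j < k, a.coeff j = b.coeff j) : truncate k a = truncate k b := by
  ext i
  rw [coeff_truncate, coeff_truncate]
  exact h i i.2

theorem coeff_eq_of_truncate_eq (k : ℕ) (a b : WittVector p R)
    (h : truncate k a = truncate k b) (j : ℕ) (hj : j < k) : a.coeff j = b.coeff j := by
  have := congrArg (TruncatedWittVector.coeff ⟨j, hj⟩) h
  rwa [coeff_truncate, coeff_truncate] at this

end Pure

open PowerSeries

section PS

variable {S B : Type u} [CommRing S] [IsDomain S] [CommRing B] [Algebra (PowerSeries S) B]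
  [IsLocalization.Away (PowerSeries.X : PowerSeries S) B]

theorem algebraMap_injective : Function.Injective (algebraMap (PowerSeries S) B) :=
  IsLocalization.injective B
    (powers_le_nonZeroDivisors_of_noZeroDivisors (PowerSeries.X_ne_zero (R := S)))

variable (u : Bˣ) (hu : (u : B) = algebraMap (PowerSeries S) B PowerSeries.X)

include hu in
theorem mem_range_of_X_dvd (d : PowerSeries S) (hd : (PowerSeries.X : PowerSeries S) ∣ d)
    (P : ℕ) (hP : 0 < P) :
    algebraMap (PowerSeries S) B d ^ P * ((u⁻¹ : Bˣ) : B) ∈ (algebraMap (PowerSeries S) B).range := by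
  obtain ⟨d', rfl⟩ := hd
  obtain ⟨Q, rfl⟩ : ∃ Q, P = Q + 1 := ⟨P - 1, by omega⟩
  refine ⟨PowerSeries.X ^ Q * d' ^ (Q + 1), ?_⟩
  rw [map_mul, map_pow, map_pow, map_mul, ← hu, mul_pow, pow_succ (u : B) Q]
  have : (u : B) * ((u⁻¹ : Bˣ) : B) = 1 := by rw [← Units.val_mul, mul_inv_cancel, Units.val_one]
  calc (u : B) ^ Q * algebraMap (PowerSeries S) B d' ^ (Q + 1)
      = (u : B) ^ Q * algebraMap (PowerSeries S) B d' ^ (Q + 1) * ((u : B) * ((u⁻¹ : Bˣ) : B)) := by
        rw [this, mul_one]
    _ = _ := by ring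

include hu in
theorem eq_zero_of_C_mul_inv_mem (σ : S)
    (h : algebraMap (PowerSeries S) B (PowerSeries.C σ) * ((u⁻¹ : Bˣ) : B) ∈
      (algebraMap (PowerSeries S) B).range) : σ = 0 := by
  obtain ⟨a, ha⟩ := h
  have h1 : algebraMap (PowerSeries S) B (a * PowerSeries.X) =
      algebraMap (PowerSeries S) B (PowerSeries.C σ) := by
    rw [map_mul, ← hu]
    change algebraMap (PowerSeries S) B a * (u : B) = _
    rw [ha, mul_assoc, ← Units.val_mul, inv_mul_cancel, Units.val_one, mul_one]
  have h2 := algebraMap_injective h1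
  have h3 := congrArg PowerSeries.constantCoeff h2
  rw [map_mul, PowerSeries.constantCoeff_X, mul_zero, PowerSeries.constantCoeff_C] at h3
  exact h3.symm

include hu in
theorem mem_range_succ_of_not_dvd (y : B) (P : ℕ) (hP : 0 < P) (n : ℤ) (hPn : ¬ ((P : ℤ) ∣ n))
    (h : y ^ P * ((u ^ (-n) : Bˣ) : B) ∈ (algebraMap (PowerSeries S) B).range) :
    y ^ P * ((u ^ (-n - 1) : Bˣ) : B) ∈ (algebraMap (PowerSeries S) B).range := by
  obtain ⟨a, ha⟩ := h
  have hsplit : ((u ^ (-n - 1) : Bˣ) : B) = ((u ^ (-n) : Bˣ) : B) * ((u⁻¹ : Bˣ) : B) := by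
    rw [← Units.val_mul, sub_eq_add_neg, zpow_add, zpow_neg_one]
  rw [hsplit, ← mul_assoc, ← ha]
  suffices hX : (PowerSeries.X : PowerSeries S) ∣ a by
    have := mem_range_of_X_dvd u hu a hX 1 Nat.one_pos
    rwa [pow_one] at this
  rw [PowerSeries.X_dvd_iff]
  by_contra hca
  -- write `y = b / X^k` with `k` large
  obtain ⟨k0, b0, hb0⟩ := IsLocalization.Away.surj (PowerSeries.X : PowerSeries S) y
  set l := n.natAbs with hl
  set k := k0 + l with hk
  set b := b0 * PowerSeries.X ^ l with hb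
  have hyb : y * (u : B) ^ k = algebraMap (PowerSeries S) B b := by
    rw [hb, map_mul, ← hb0, map_pow, ← hu, hk, pow_add, mul_assoc]
  have hN : (0 : ℤ) ≤ (k : ℤ) * P + n := by
    have h1 : (l : ℤ) = |n| := by rw [hl]; exact Int.natCast_natAbs n
    have h2 : -n ≤ |n| := neg_le_abs n
    have h3 : (k : ℤ) = k0 + l := by rw [hk]; push_cast; ring
    have h4 : (1 : ℤ) ≤ P := by exact_mod_cast hP
    have h5 : (0 : ℤ) ≤ k0 := Int.natCast_nonneg _
    have h6 : (0 : ℤ) ≤ l := Int.natCast_nonneg _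
    nlinarith
  obtain ⟨N', hN'⟩ : ∃ N' : ℕ, (N' : ℤ) = (k : ℤ) * P + n :=
    ⟨Int.toNat _, Int.toNat_of_nonneg hN⟩
  have hbP : b ^ P = a * PowerSeries.X ^ N' := by
    apply algebraMap_injective (B := B)
    rw [map_pow, ← hyb, map_mul, ha, map_pow, ← hu, mul_pow, ← pow_mul]
    have hunits : ((u ^ (-n) : Bˣ) : B) * (u : B) ^ N' = (u : B) ^ (k * P) := by
      rw [← Units.val_pow_eq_pow_val, ← Units.val_pow_eq_pow_val, ← Units.val_mul]
      congr 1
      rw [← zpow_natCast u N', ← zpow_natCast u (k * P), ← zpow_add, hN']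
      congr 1
      push_cast
      ring
    rw [mul_assoc, hunits]
  -- factor `b`
  have hb0' : b ≠ 0 := by
    intro hb0'
    rw [hb0', zero_pow hP.ne'] at hbP
    have := (mul_eq_zero.1 hbP.symm).resolve_right (pow_ne_zero _ PowerSeries.X_ne_zero)
    exact hca (by rw [this, map_zero])
  set e := b.order.toNat with he
  set b' := PowerSeries.divXPowOrder b with hb'
  have hbe : PowerSeries.X ^ e * b' = b := PowerSeries.X_pow_order_mul_divXPowOrder
  have hcb' : PowerSeries.constantCoeff b' ≠ 0 := by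
    rw [hb', Ne, PowerSeries.constantCoeff_divXPowOrder_eq_zero_iff]
    exact hb0'
  have hcb'P : PowerSeries.constantCoeff (b' ^ P) ≠ 0 := by
    rw [map_pow]
    exact pow_ne_zero _ hcb'
  rw [← hbe, mul_pow, ← pow_mul] at hbP
  have hXne : ∀ j : ℕ, (PowerSeries.X : PowerSeries S) ^ j ≠ 0 := fun j =>
    pow_ne_zero _ PowerSeries.X_ne_zero
  rcases lt_trichotomy (e * P) N' with hlt | heq | hgt
  · obtain ⟨t, ht⟩ : ∃ t, N' = e * P + (t + 1) := ⟨N' - e * P - 1, by omega⟩
    rw [ht, pow_add, ← mul_assoc, mul_comm a, mul_assoc] at hbP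
    have := mul_left_cancel₀ (hXne _) hbP
    apply hcb'P
    rw [this, map_mul, map_pow, PowerSeries.constantCoeff_X, zero_pow (Nat.succ_ne_zero t),
      mul_zero]
  · apply hPn
    refine ⟨(e : ℤ) - k, ?_⟩
    have : (N' : ℤ) = (e : ℤ) * P := by rw [← heq]; push_cast; ring
    rw [hN'] at this
    linarith
  · obtain ⟨t, ht⟩ : ∃ t, e * P = N' + (t + 1) := ⟨e * P - N' - 1, by omega⟩
    rw [ht, pow_add, mul_comm a, mul_assoc] at hbP
    have := mul_left_cancel₀ (hXne _) hbP
    apply hca
    rw [← this, map_mul, map_pow, PowerSeries.constantCoeff_X, zero_pow (Nat.succ_ne_zero t),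
      zero_mul]

end PS

section PS2

variable {S B : Type u} [CommRing S] [IsDomain S] [CommRing B] [Algebra (PowerSeries S) B]
  [IsLocalization.Away (PowerSeries.X : PowerSeries S) B]

/-- root closure of `S[[X]]` in `S[[X]][1/X]` -/
theorem mem_range_of_pow_mem (w : B) (P : ℕ) (hP : 0 < P)
    (h : w ^ P ∈ (algebraMap (PowerSeries S) B).range) :
    w ∈ (algebraMap (PowerSeries S) B).range := by
  obtain ⟨a, ha⟩ := h
  obtain ⟨k, b, hb⟩ := IsLocalization.Away.surj (PowerSeries.X : PowerSeries S) w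
  have hunit : IsUnit (algebraMap (PowerSeries S) B PowerSeries.X ^ k) :=
    (IsLocalization.Away.algebraMap_isUnit (S := B) (PowerSeries.X : PowerSeries S)).pow k
  by_cases hb0 : b = 0
  · refine ⟨0, ?_⟩
    rw [hb0, map_zero] at hb
    rw [map_zero]
    exact (hunit.mul_left_eq_zero.1 hb).symm
  have hbP : b ^ P = a * PowerSeries.X ^ (k * P) := by
    apply algebraMap_injective (B := B)
    rw [map_pow, ← hb, map_mul, ha, map_pow, mul_pow, ← pow_mul]
  set e := b.order.toNat with he
  set b' := PowerSeries.divXPowOrder b with hb'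
  have hbe : PowerSeries.X ^ e * b' = b := PowerSeries.X_pow_order_mul_divXPowOrder
  have hcb' : PowerSeries.constantCoeff b' ≠ 0 := by
    rw [hb', Ne, PowerSeries.constantCoeff_divXPowOrder_eq_zero_iff]
    exact hb0
  have hcb'P : PowerSeries.constantCoeff (b' ^ P) ≠ 0 := by
    rw [map_pow]
    exact pow_ne_zero _ hcb'
  have hXne : ∀ j : ℕ, (PowerSeries.X : PowerSeries S) ^ j ≠ 0 := fun j =>
    pow_ne_zero _ PowerSeries.X_ne_zero
  by_cases hek : k ≤ e
  · obtain ⟨t, ht⟩ : ∃ t, e = k + t := ⟨e - k, by omega⟩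
    refine ⟨PowerSeries.X ^ t * b', ?_⟩
    apply hunit.mul_left_injective
    change _ * algebraMap (PowerSeries S) B PowerSeries.X ^ k =
      w * algebraMap (PowerSeries S) B PowerSeries.X ^ k
    rw [hb, ← map_pow, ← map_mul, ← hbe, ht, pow_add]
    congr 1
    ring
  · exfalso
    obtain ⟨t, ht⟩ : ∃ t, k = e + (t + 1) := ⟨k - e - 1, by omega⟩
    rw [← hbe, mul_pow, ← pow_mul, ht, add_mul, pow_add, ← mul_assoc, mul_comm a, mul_assoc] at hbP
    have := mul_left_cancel₀ (hXne _) hbP
    apply hcb'P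
    have hpos : (t + 1) * P ≠ 0 := Nat.mul_ne_zero (Nat.succ_ne_zero t) hP.ne'
    rw [this, map_mul, map_pow, PowerSeries.constantCoeff_X, zero_pow hpos, mul_zero]

end PS2

section Units

variable {B : Type*} [CommRing B] (p : ℕ) (u : Bˣ)

theorem unit_identity (m s j : ℕ) (hsj : s ≤ j) (hjm : j < m) (i : ℤ) :
    ((((u ^ i : Bˣ) : B) ^ p ^ (j - s)) ^ p ^ (m - 1 - j)) *
      ((u ^ (-((p : ℤ) ^ (m - 1 - s) * i)) : Bˣ) : B) = 1 := by
  have key : (((u ^ i : Bˣ) ^ p ^ (j - s)) ^ p ^ (m - 1 - j)) *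
      (u ^ (-((p : ℤ) ^ (m - 1 - s) * i)) : Bˣ) = 1 := by
    rw [← zpow_natCast, ← zpow_natCast, ← zpow_mul, ← zpow_mul, ← zpow_add]
    have h : m - 1 - s = (j - s) + (m - 1 - j) := by omega
    have h0 : i * (((p ^ (j - s) : ℕ) : ℤ) * ((p ^ (m - 1 - j) : ℕ) : ℤ)) +
        -((p : ℤ) ^ (m - 1 - s) * i) = 0 := by
      rw [h, pow_add]
      push_cast
      ring
    rw [h0, zpow_zero]
  have := congrArg Units.val key
  rwa [Units.val_mul, Units.val_pow_eq_pow_val, Units.val_pow_eq_pow_val, Units.val_one] at this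

theorem unit_identity' (m s j : ℕ) (hsj : s ≤ j) (hjm : j < m) (i : ℤ) :
    ((((u ^ i : Bˣ) : B) ^ p ^ (j - s)) ^ p ^ (m - 1 - j)) *
      ((u ^ (-((p : ℤ) ^ (m - 1 - s) * i) - 1) : Bˣ) : B) = ((u⁻¹ : Bˣ) : B) := by
  have hsplit : ((u ^ (-((p : ℤ) ^ (m - 1 - s) * i) - 1) : Bˣ) : B) =
      ((u ^ (-((p : ℤ) ^ (m - 1 - s) * i)) : Bˣ) : B) * ((u⁻¹ : Bˣ) : B) := by
    rw [← Units.val_mul, sub_eq_add_neg, zpow_add, zpow_neg_one]
  rw [hsplit, ← mul_assoc, unit_identity p u m s j hsj hjm i, one_mul]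

end Units

section Coeff

variable {p : ℕ} [hp : Fact p.Prime] {S B : Type*} [CommRing S] [CommRing B] [Algebra S B]

theorem coeff_vShift (s : ℕ) (v : B) (c : WittVector p S) (j : ℕ) :
    ((verschiebung^[s]) (WittVector.map (algebraMap S B) c * teichmuller p v)).coeff j =
      if j < s then 0 else algebraMap S B (c.coeff (j - s)) * v ^ p ^ (j - s) := by
  rw [coeff_iterate_verschiebung', Groth.Agent.Lib.Helper26.coeff_mul_teichmuller, map_coeff]

end Coeff

end Groth.Agent.Lib.Seat95.WittGr
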