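import Mathlib.RingTheory.AdicCompletion.RingHom
import Mathlib.RingTheory.AdicCompletion.Completeness
import Mathlib.RingTheory.MvPolynomial.Basic
import Mathlib.RingTheory.Ideal.Quotient.Operations
import Mathlib.Algebra.Regular.Pow

/-!
# The p-adic dilatation algebra (seat 96)

For a commutative ring `A`, a natural number `p` and elements `a₁, …, aₙ` of `A`:
* `D1 p a`: the quotient of `A[X₁, …, Xₙ]` by the `p`-saturation of the ideal `(p Xᵢ - aᵢ)`; it is the
  universal `p`-torsion-free `A`-algebra in which every `aᵢ` is divisible by `p`.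
-/

set_option autoImplicit false
universe u

open MvPolynomial

namespace Groth.Agent.Lib.Seat96.Dilat

variable (p : ℕ) {A : Type u} [CommRing A] {n : ℕ} (a : Fin n → A)

/-- the ideal of relations `p Xᵢ - aᵢ` -/
noncomputable def relIdeal : Ideal (MvPolynomial (Fin n) A) :=
  Ideal.span (Set.range fun i => (p : MvPolynomial (Fin n) A) * X i - C (a i))

/-- the `p`-saturation of the relation ideal -/
noncomputable def satIdeal : Ideal (MvPolynomial (Fin n) A) where
  carrier := {f | ∃ m : ℕ, (p : MvPolynomial (Fin n) A) ^ m * f ∈ relIdeal p a}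
  zero_mem' := ⟨0, by simp⟩
  add_mem' := by
    rintro f g ⟨m, hm⟩ ⟨m', hm'⟩
    refine ⟨m + m', ?_⟩
    have : (p : MvPolynomial (Fin n) A) ^ (m + m') * (f + g)
        = (p : MvPolynomial (Fin n) A) ^ m' * ((p : MvPolynomial (Fin n) A) ^ m * f)
          + (p : MvPolynomial (Fin n) A) ^ m * ((p : MvPolynomial (Fin n) A) ^ m' * g) := by ring
    rw [this]
    exact Ideal.add_mem _ (Ideal.mul_mem_left _ _ hm) (Ideal.mul_mem_left _ _ hm')
  smul_mem' := by
    rintro c f ⟨m, hm⟩
    refine ⟨m, ?_⟩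
    have : (p : MvPolynomial (Fin n) A) ^ m * (c • f) = c * ((p : MvPolynomial (Fin n) A) ^ m * f) := by
      rw [smul_eq_mul]; ring
    rw [this]
    exact Ideal.mul_mem_left _ _ hm

theorem mem_satIdeal {f : MvPolynomial (Fin n) A} :
    f ∈ satIdeal p a ↔ ∃ m : ℕ, (p : MvPolynomial (Fin n) A) ^ m * f ∈ relIdeal p a := Iff.rfl

theorem relIdeal_le_satIdeal : relIdeal p a ≤ satIdeal p a := fun f hf => ⟨0, by simpa using hf⟩

/-- the universal `p`-torsion-free `A`-algebra in which the `aᵢ` are divisible by `p` -/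
abbrev D1 : Type u := MvPolynomial (Fin n) A ⧸ satIdeal p a

/-- the class of `Xᵢ` -/
noncomputable def x (i : Fin n) : D1 p a := Ideal.Quotient.mk _ (X i)

theorem isSMulRegular_D1 : IsSMulRegular (D1 p a) (p : D1 p a) := by
  intro f g h
  obtain ⟨f, rfl⟩ := Ideal.Quotient.mk_surjective f
  obtain ⟨g, rfl⟩ := Ideal.Quotient.mk_surjective g
  simp only [smul_eq_mul] at h
  rw [← map_natCast (Ideal.Quotient.mk (satIdeal p a)), ← map_mul, ← map_mul, Ideal.Quotient.eq] at h
  rw [Ideal.Quotient.eq]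
  obtain ⟨m, hm⟩ := h
  refine ⟨m + 1, ?_⟩
  have : (p : MvPolynomial (Fin n) A) ^ (m + 1) * (f - g)
      = (p : MvPolynomial (Fin n) A) ^ m * ((p : MvPolynomial (Fin n) A) * f - (p : MvPolynomial (Fin n) A) * g) := by ring
  rw [this]; exact hm

theorem algebraMap_a (i : Fin n) : algebraMap A (D1 p a) (a i) = (p : D1 p a) * x p a i := by
  have h1 : algebraMap A (D1 p a) (a i) = Ideal.Quotient.mk (satIdeal p a) (C (a i)) := rfl
  rw [h1, x, ← map_natCast (Ideal.Quotient.mk (satIdeal p a)), ← map_mul, eq_comm, Ideal.Quotient.eq]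
  exact relIdeal_le_satIdeal p a (Ideal.subset_span ⟨i, rfl⟩)

section UP
variable {B : Type*} [CommRing B] [Algebra A B] (hB : IsSMulRegular B (p : B))
include hB

/-- the universal property of `D1`: existence -/
theorem exists_algHom (b : Fin n → B) (hb : ∀ i, algebraMap A B (a i) = (p : B) * b i) :
    ∃ φ : D1 p a →ₐ[A] B, ∀ i, φ (x p a i) = b i := by
  have hker : ∀ f ∈ satIdeal p a, aeval b f = 0 := by
    rintro f ⟨m, hm⟩
    have h1 : ∀ g ∈ relIdeal p a, aeval b g = 0 := by
      intro g hg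
      refine Submodule.span_induction ?_ ?_ ?_ ?_ hg
      · rintro _ ⟨i, rfl⟩
        simp [hb i]
      · simp
      · intro g g' _ _ h h'; rw [map_add, h, h', add_zero]
      · intro c g _ h; rw [smul_eq_mul, map_mul, h, mul_zero]
    have h2 := h1 _ hm
    rw [map_mul, map_pow, map_natCast] at h2
    have h3 : IsSMulRegular B ((p : B) ^ m) := hB.pow m
    exact h3 (by simpa using h2)
  refine ⟨Ideal.Quotient.liftₐ (satIdeal p a) (aeval b) hker, fun i => ?_⟩
  simp [x]

/-- the universal property of `D1`: uniqueness -/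
theorem algHom_ext (φ ψ : D1 p a →ₐ[A] B) : φ = ψ := by
  have key : ∀ (φ ψ : D1 p a →ₐ[A] B) (i : Fin n), φ (x p a i) = ψ (x p a i) := by
    intro φ ψ i
    apply hB
    simp only [smul_eq_mul]
    have h1 : (p : B) * φ (x p a i) = φ (algebraMap A (D1 p a) (a i)) := by
      rw [algebraMap_a, map_mul, map_natCast]
    have h2 : (p : B) * ψ (x p a i) = ψ (algebraMap A (D1 p a) (a i)) := by
      rw [algebraMap_a, map_mul, map_natCast]
    rw [h1, h2, AlgHom.commutes, AlgHom.commutes]
  apply Ideal.Quotient.algHom_ext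
  apply MvPolynomial.algHom_ext
  intro i
  exact key φ ψ i

end UP

section Completion

open AdicCompletion Submodule

variable {R : Type u} [CommRing R] (π : R)

/-- the completion of `R` along `(π)` -/
abbrev Cpl : Type u := AdicCompletion (Ideal.span {π}) R

theorem isAdicComplete_Cpl :
    IsAdicComplete (Ideal.span {algebraMap R (Cpl π) π}) (Cpl π) := by
  have h1 : IsAdicComplete (Ideal.span {π}) (Cpl π) :=
    AdicCompletion.isAdicComplete ⟨{π}, by simp⟩
  have h2 := (IsAdicComplete.map_algebraMap_iff (I := Ideal.span {π}) (M := Cpl π) (S := Cpl π)).2 h1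
  rwa [Ideal.map_span, Set.image_singleton] at h2

theorem val_eq_zero_of_smul {z : Cpl π} (hπ : IsSMulRegular R π) (h : π • z = 0) (n : ℕ) :
    z.val n = 0 := by
  have h1 : π • z.val (n + 1) = 0 := by
    rw [← val_smul_apply, h]; rfl
  obtain ⟨w, hw⟩ := Submodule.Quotient.mk_surjective _ (z.val (n + 1))
  rw [← hw, ← Submodule.Quotient.mk_smul, Submodule.Quotient.mk_eq_zero,
    Ideal.span_singleton_pow, Submodule.ideal_span_singleton_smul,
    Submodule.mem_smul_pointwise_iff_exists] at h1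
  obtain ⟨c, -, hc⟩ := h1
  have h2 : w = π ^ n * c := by
    apply hπ
    simp only [smul_eq_mul] at hc ⊢
    rw [← hc]; ring
  have h3 := z.property (Nat.le_succ n)
  rw [← h3, ← hw]
  change Submodule.Quotient.mk w = 0
  rw [Submodule.Quotient.mk_eq_zero, Ideal.span_singleton_pow, Submodule.ideal_span_singleton_smul,
    Submodule.mem_smul_pointwise_iff_exists]
  exact ⟨c, trivial, by rw [h2]; rfl⟩

theorem isSMulRegular_Cpl (hπ : IsSMulRegular R π) :
    IsSMulRegular (Cpl π) (algebraMap R (Cpl π) π) := by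
  intro x y h
  have h' : π • (x - y) = 0 := by
    simp only [smul_eq_mul] at h
    rw [smul_sub, Algebra.smul_def, Algebra.smul_def, h, sub_self]
  have := fun n => val_eq_zero_of_smul π hπ h' n
  rw [← sub_eq_zero]
  exact AdicCompletion.ext fun n => by rw [this n]; rfl

/-- approximation of elements of the completion -/
theorem exists_approx (x : Cpl π) (m : ℕ) :
    ∃ (d : R) (y : Cpl π), x = of (Ideal.span {π}) R d + (algebraMap R (Cpl π) π) ^ m * y := by
  obtain ⟨d, hd⟩ := Submodule.Quotient.mk_surjective _ (x.val m)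
  have h1 : x - of (Ideal.span {π}) R d ∈ LinearMap.ker (eval (Ideal.span {π}) R m) := by
    rw [LinearMap.mem_ker, map_sub, eval_apply, eval_of, ← hd]
    exact sub_self _
  rw [← pow_smul_top_eq_ker_eval ⟨{π}, by simp⟩, Ideal.span_singleton_pow,
    Submodule.ideal_span_singleton_smul, Submodule.mem_smul_pointwise_iff_exists] at h1
  obtain ⟨y, -, hy⟩ := h1
  refine ⟨d, y, ?_⟩
  rw [← map_pow, ← Algebra.smul_def, hy]
  abel

end Completion

section Lift

open AdicCompletion

variable {A : Type u} [CommRing A] {R : Type u} [CommRing R] [Algebra A R] (π : R)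
  {B : Type u} [CommRing B] [Algebra A B] (πB : B)

theorem pow_le_comap (φ₁ : R →ₐ[A] B) (hφ : φ₁ π = πB) (m : ℕ) :
    (Ideal.span {π}) ^ m ≤ ((Ideal.span {πB}) ^ m).comap φ₁ := by
  rw [Ideal.span_singleton_pow, Ideal.span_singleton_pow, Ideal.span_le]
  intro r hr
  rw [Set.mem_singleton_iff] at hr
  subst hr
  change φ₁ (π ^ m) ∈ Ideal.span {πB ^ m}
  rw [map_pow, hφ]
  exact Ideal.mem_span_singleton_self _

/-- the levelwise maps used to define the lift -/
noncomputable def levelMap (φ₁ : R →ₐ[A] B) (hφ : φ₁ π = πB) (m : ℕ) :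
    Cpl π →ₐ[A] B ⧸ (Ideal.span {πB}) ^ m :=
  (Ideal.quotientMapₐ ((Ideal.span {πB}) ^ m) φ₁ (pow_le_comap π πB φ₁ hφ m)).comp
    ((evalₐ (Ideal.span {π}) m).restrictScalars A)

theorem levelMap_mk (φ₁ : R →ₐ[A] B) (hφ : φ₁ π = πB) (m : ℕ)
    (c : AdicCauchySequence (Ideal.span {π}) R) :
    levelMap π πB φ₁ hφ m (mk (Ideal.span {π}) R c) = Ideal.Quotient.mk _ (φ₁ (c.val m)) := by
  simp only [levelMap, AlgHom.comp_apply, AlgHom.restrictScalars_apply, evalₐ_mk]
  rfl

theorem levelMap_compat (φ₁ : R →ₐ[A] B) (hφ : φ₁ π = πB) {m m' : ℕ} (hle : m ≤ m') :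
    (Ideal.Quotient.factorₐ A (Ideal.pow_le_pow_right hle)).comp (levelMap π πB φ₁ hφ m') =
      levelMap π πB φ₁ hφ m := by
  ext x
  obtain ⟨c, rfl⟩ := mk_surjective (Ideal.span {π}) R x
  rw [AlgHom.comp_apply, levelMap_mk, levelMap_mk]
  change Ideal.Quotient.mk _ (φ₁ (c.val m')) = Ideal.Quotient.mk _ (φ₁ (c.val m))
  rw [Ideal.Quotient.eq, ← map_sub]
  apply pow_le_comap π πB φ₁ hφ m
  rw [← Ideal.Quotient.eq]
  exact Ideal.mk_eq_mk (Ideal.span {π}) hle c

/-- a map to a complete algebra extends to the completion -/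
theorem exists_lift [IsAdicComplete (Ideal.span {πB}) B] (φ₁ : R →ₐ[A] B) (hφ : φ₁ π = πB) :
    Nonempty (Cpl π →ₐ[A] B) :=
  ⟨IsAdicComplete.liftAlgHom (Ideal.span {πB}) (levelMap π πB φ₁ hφ)
    (fun hle => levelMap_compat π πB φ₁ hφ hle)⟩

/-- two algebra maps from the completion to a Hausdorff algebra which agree on `R` are equal -/
theorem ext_of_comp_of [IsHausdorff (Ideal.span {πB}) B] (ψ ψ' : Cpl π →ₐ[A] B)
    (hψ : ψ (algebraMap R (Cpl π) π) = πB) (hψ' : ψ' (algebraMap R (Cpl π) π) = πB)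
    (h : ∀ d : R, ψ (of (Ideal.span {π}) R d) = ψ' (of (Ideal.span {π}) R d)) : ψ = ψ' := by
  ext x
  rw [← sub_eq_zero]
  apply IsHausdorff.haus ‹_›
  intro m
  obtain ⟨d, y, rfl⟩ := exists_approx π x m
  rw [SModEq.zero, Ideal.span_singleton_pow, Submodule.ideal_span_singleton_smul,
    Submodule.mem_smul_pointwise_iff_exists]
  refine ⟨ψ y - ψ' y, trivial, ?_⟩
  rw [map_add, map_add, map_mul, map_mul, map_pow, map_pow, hψ, hψ', h d, smul_eq_mul]
  ring

end Lift

end Groth.Agent.Lib.Seat96.Dilat
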