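import Mathlib
import Groth.Agent.S5096
import Groth.Agent.Lib.Helper23SecTw6

/-!
# Frames of `O_X(D)` (seat 96)

For a divisor `D` on a scheme `X` (prelude `Mero.Divisor`), an open `U` and a unit `f` of `Γ(U, K_X)` with
`D = div f` on `U`:

* `isGen_invSec` : the section `f⁻¹` (`Groth.Agent.S5096.invSec`) generates `Mero.divMod D` over every `W ≤ U`, in the
  sense of helper23's `IsGen`.
* `invSec_apply`, `res_invSec`, `divMod_smul_apply'`, `divModι_app_apply` : pointwise formulas.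
* `unitOfReg` : the unit `toK b` of `Γ(U, K_X)` of a regular section `b`; `unitOfReg_inv_apply`.
* `germOf_unitOfReg` : the germ of `div (toK b)` in the form used by `Mero.IsDivOfIdeal`.
* `oneSec D hD` : the section `1` of `O_X(D)` for `D` effective.
-/

set_option autoImplicit false
universe u
open CategoryTheory Limits AlgebraicGeometry TopologicalSpace Opposite

namespace Groth.Agent.Lib.Seat96.DivFrames

open Mero Groth.Agent.Lib.Helper20.Kmod Groth.Agent.Lib.Helper20.Kmod5 Groth.Agent.S5097 Groth.Agent.S5096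
open Groth.Agent.Lib.Helper23.SecTw Groth.Agent.Lib.Helper6

variable {X : Scheme.{u}}

theorem divMod_smul_apply' {D : Divisor X} {U : X.Opens} (r : Γ(X, U)) (t : Γ(divMod D, U)) (x : U) :
    (r • t).1 x = X.presheaf.germ U x.1 x.2 r • t.1 x := rfl

theorem divMod_res_apply {D : Divisor X} {U V : X.Opens} (h : V ≤ U) (t : Γ(divMod D, U)) (x : V) :
    (res (divMod D) h t).1 x = t.1 ⟨x.1, h x.2⟩ := rfl

theorem divMod_ext' {D : Divisor X} {U : X.Opens} {t t' : Γ(divMod D, U)} (h : ∀ x : U, t.1 x = t'.1 x) : t = t' :=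
  Subtype.ext (funext h)

theorem divModι_app_apply (D : Divisor X) (U : X.Opens) (t : Γ(divMod D, U)) (x : U) :
    ((divModι D).app U t).1 x = t.1 x := rfl

theorem invSec_apply (D : Divisor X) {U : X.Opens} (f : (Γ(kmod X, U))ˣ)
    (hf : ∀ y : U, D.1 y.1 = germOf f y) (W : X.Opens) (hW : W ≤ U) (y : W) :
    (invSec D f hf W hW).1 y = ((f⁻¹ : (Γ(kmod X, U))ˣ) : Γ(kmod X, U)).1 ⟨y.1, hW y.2⟩ := rfl

theorem res_invSec (D : Divisor X) {U : X.Opens} (f : (Γ(kmod X, U))ˣ)
    (hf : ∀ y : U, D.1 y.1 = germOf f y) {W W' : X.Opens} (hW : W ≤ U) (h : W' ≤ W) :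
    res (divMod D) h (invSec D f hf W hW) = invSec D f hf W' (h.trans hW) := rfl

theorem unit_mul_inv_apply {U : X.Opens} (f : (Γ(kmod X, U))ˣ) (y : U) :
    ((f : Γ(kmod X, U)).1 y) * ((f⁻¹ : (Γ(kmod X, U))ˣ) : Γ(kmod X, U)).1 y = 1 := by
  have h1 : (f : Γ(kmod X, U)) * ((f⁻¹ : (Γ(kmod X, U))ˣ) : Γ(kmod X, U)) = 1 := f.mul_inv
  exact congrArg (fun g : Γ(kmod X, U) => g.1 y) h1

/-- `f⁻¹` generates `O_X(D)` wherever `D = div f` -/
theorem isGen_invSec (D : Divisor X) {U : X.Opens} (f : (Γ(kmod X, U))ˣ)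
    (hf : ∀ y : U, D.1 y.1 = germOf f y) (W : X.Opens) (hW : W ≤ U) :
    IsGen (divMod D) W (invSec D f hf W hW) := by
  intro W' hW'
  have hWU : W' ≤ U := hW'.trans hW
  rw [res_invSec D f hf hW hW']
  constructor
  · intro r r' hrr'
    apply TopCat.Presheaf.section_ext X.sheaf
    intro y hy
    have h2 := congrArg (fun t : Γ(divMod D, W') => t.1 ⟨y, hy⟩) hrr'
    change X.presheaf.germ _ y hy r •
        ((f⁻¹ : (Γ(kmod X, U))ˣ) : Γ(kmod X, U)).1 ⟨y, hWU hy⟩ =
      X.presheaf.germ _ y hy r' •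
        ((f⁻¹ : (Γ(kmod X, U))ˣ) : Γ(kmod X, U)).1 ⟨y, hWU hy⟩ at h2
    rw [Algebra.smul_def, Algebra.smul_def] at h2
    have h3 := congrArg (fun t => t * (f : Γ(kmod X, U)).1 ⟨y, hWU hy⟩) h2
    simp only [mul_assoc] at h3
    rw [mul_comm _ ((f : Γ(kmod X, U)).1 ⟨y, hWU hy⟩), unit_mul_inv_apply, mul_one, mul_one] at h3
    exact algebraMap_KStalk_injective y h3
  · intro t
    let tK : Γ(kmod X, W') := ⟨t.1, t.2.1⟩
    let fW : Γ(kmod X, W') := (kmod X).presheaf.map (homOfLE hWU).op (f : Γ(kmod X, U))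
    have hrange : ∀ y : W', (tK * fW).1 y ∈
        (algebraMap (X.presheaf.stalk y.1) (KStalk X y.1)).range := by
      intro y
      exact t.2.2 y (valU f ⟨y.1, hWU y.2⟩) (hf ⟨y.1, hWU y.2⟩)
    obtain ⟨r', hr'⟩ := exists_toK_eq (tK * fW) hrange
    refine ⟨r', ?_⟩
    apply Subtype.ext
    funext y
    change X.presheaf.germ _ y.1 y.2 r' •
          ((f⁻¹ : (Γ(kmod X, U))ˣ) : Γ(kmod X, U)).1 ⟨y.1, hWU y.2⟩ = t.1 y
    rw [Algebra.smul_def, Groth.Agent.S10856.algebraMap_eq_mk, ← toK_apply, hr']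
    change (t.1 y * (f : Γ(kmod X, U)).1 ⟨y.1, hWU y.2⟩) * _ = _
    rw [mul_assoc, unit_mul_inv_apply, mul_one]

/-- the unit `toK b` of `Γ(U, K_X)` of a regular section `b` -/
noncomputable def unitOfReg {U : X.Opens} (b : regSub X U) : (Γ(kmod X, U))ˣ where
  val := toK X U b.1
  inv := Groth.Agent.Lib.Helper20.Kmod.invReg b
  val_inv := Groth.Agent.Lib.Helper20.Kmod.toK_mul_invReg b
  inv_val := by rw [mul_comm]; exact Groth.Agent.Lib.Helper20.Kmod.toK_mul_invReg b

theorem unitOfReg_apply {U : X.Opens} (b : regSub X U) (y : U) :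
    ((unitOfReg b : (Γ(kmod X, U))ˣ) : Γ(kmod X, U)).1 y =
      algebraMap (X.presheaf.stalk y.1) (KStalk X y.1) (X.presheaf.germ U y.1 y.2 b.1) := by
  rw [Groth.Agent.S10856.algebraMap_eq_mk]
  rfl

/-- the germ of `div (toK b)` in the form used by `Mero.IsDivOfIdeal` -/
theorem germOf_unitOfReg {U : X.Opens} (b : regSub X U) (y : U) :
    germOf (unitOfReg b) y =
      QuotientGroup.mk (IsLocalization.map_units (KStalk X y.1) (regGerm y b)).unit := by
  refine congrArg _ (Units.ext ?_)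
  change ((unitOfReg b : (Γ(kmod X, U))ˣ) : Γ(kmod X, U)).1 y = _
  rw [unitOfReg_apply]
  rfl

/-- a germ of a unit section of `K_X` whose value is the image of a germ `c` of a function has `c` a nonzerodivisor -/
theorem mem_nonZeroDivisors_of_isUnit_algebraMap {x : X} (c : X.presheaf.stalk x)
    (h : IsUnit (algebraMap (X.presheaf.stalk x) (KStalk X x) c)) : c ∈ nonZeroDivisors (X.presheaf.stalk x) := by
  rw [mem_nonZeroDivisors_iff_right]
  intro z hz
  apply algebraMap_KStalk_injective x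
  have h1 : algebraMap (X.presheaf.stalk x) (KStalk X x) c * algebraMap (X.presheaf.stalk x) (KStalk X x) z = 0 := by
    rw [← map_mul, mul_comm, hz, map_zero]
  rw [map_zero]
  exact (h.mul_right_eq_zero).1 h1

/-- the section `1` of `O_X(D)` for an effective divisor -/
noncomputable def oneSec (D : Divisor X) (hD : IsEffective D) (U : X.Opens) : Γ(divMod D, U) :=
  ⟨fun _ => 1, ⟨kLoc_one X U, fun x => by
    intro g hg
    obtain ⟨a, ha⟩ := hD x.1
    rw [ha] at hg
    have h1 := QuotientGroup.eq.1 hg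
    obtain ⟨w, hw⟩ := h1
    have hw' : algebraMap (X.presheaf.stalk x.1) (KStalk X x.1) w =
        (((IsLocalization.map_units (KStalk X x.1) a).unit⁻¹ : (KStalk X x.1)ˣ) : KStalk X x.1) * (g : KStalk X x.1) := by
      have := congrArg Units.val hw
      rw [Units.val_mul] at this
      exact this
    refine ⟨(a : X.presheaf.stalk x.1) * w, ?_⟩
    rw [map_mul, hw', ← mul_assoc, one_mul]
    have h5 := (IsLocalization.map_units (KStalk X x.1) a).mul_val_inv
    rw [h5, one_mul]⟩⟩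

theorem oneSec_apply (D : Divisor X) (hD : IsEffective D) (U : X.Opens) (x : U) : (oneSec D hD U).1 x = 1 := rfl

theorem res_oneSec (D : Divisor X) (hD : IsEffective D) {U V : X.Opens} (h : V ≤ U) :
    res (divMod D) h (oneSec D hD U) = oneSec D hD V := rfl

end Groth.Agent.Lib.Seat96.DivFrames
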