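import Mathlib
import Groth.Agent.Lib.Seat96DivFrames

/-!
# `O_X(D) ⊗ O_X(E) ≅ O_X(D · E)` (seat 96)

* `Eqn D E` : an open with local equations `u`, `v` of the divisors `D`, `E`; `exists_eqn`.
* `exists_mul_iso` : the isomorphism `O_X(D) ⊗ O_X(E) ≅ O_X(D * E)` given by the product in `K_X`.
-/

set_option autoImplicit false
universe u
open CategoryTheory Limits AlgebraicGeometry TopologicalSpace Opposite

namespace Groth.Agent.Lib.Seat96.DivTensor

open Mero Groth.Agent.Lib.Helper20.Kmod Groth.Agent.Lib.Helper20.Kmod5 Groth.Agent.S5097 Groth.Agent.S5096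
open Groth.Agent.Lib.Helper23.SecTw Groth.Agent.Lib.Helper6 Groth.Agent.Lib.Helper23.GenLocus
  Groth.Agent.Lib.Helper23.Extend
open Groth.Agent.Lib.Seat96.DivFrames

variable {X : Scheme.{u}} (D E : Divisor X)

/-- common local equations of two divisors -/
structure Eqn where
  /-- the open -/
  U : X.Opens
  /-- the equation of `D` -/
  u : (Γ(kmod X, U))ˣ
  /-- the equation of `E` -/
  v : (Γ(kmod X, U))ˣ
  hu : ∀ y : U, D.1 y.1 = germOf u y
  hv : ∀ y : U, E.1 y.1 = germOf v y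

theorem exists_eqn (x : X) : ∃ P : Eqn D E, x ∈ P.U := by
  obtain ⟨U₁, hx₁, u₁, hu₁⟩ := D.2 x
  obtain ⟨U₂, hx₂, v₂, hv₂⟩ := E.2 x
  refine ⟨⟨U₁ ⊓ U₂, Units.map ((kring X).obj.map (homOfLE inf_le_left).op).hom.toMonoidHom u₁,
    Units.map ((kring X).obj.map (homOfLE inf_le_right).op).hom.toMonoidHom v₂, fun y => ?_, fun y => ?_⟩,
    ⟨hx₁, hx₂⟩⟩
  · exact (hu₁ ⟨y.1, y.2.1⟩).trans (congrArg _ (Units.ext rfl))
  · exact (hv₂ ⟨y.1, y.2.2⟩).trans (congrArg _ (Units.ext rfl))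

variable {D E}

theorem Eqn.huv (P : Eqn D E) (y : P.U) : (D * E).1 y.1 = germOf (P.u * P.v) y := by
  change D.1 y.1 * E.1 y.1 = _
  rw [P.hu y, P.hv y, germOf, germOf, germOf, ← QuotientGroup.mk_mul, map_mul]

/-- the generator `u⁻¹` of `O_X(D)` -/
noncomputable def Eqn.iD (P : Eqn D E) (A : X.Opens) (hA : A ≤ P.U) : Γ(divMod D, A) := invSec D P.u P.hu A hA

/-- the generator `v⁻¹` of `O_X(E)` -/
noncomputable def Eqn.iE (P : Eqn D E) (A : X.Opens) (hA : A ≤ P.U) : Γ(divMod E, A) := invSec E P.v P.hv A hA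

/-- the generator `(uv)⁻¹` of `O_X(D * E)` -/
noncomputable def Eqn.iDE (P : Eqn D E) (A : X.Opens) (hA : A ≤ P.U) : Γ(divMod (D * E), A) :=
  invSec (D * E) (P.u * P.v) P.huv A hA

theorem Eqn.isGen_iD (P : Eqn D E) (A : X.Opens) (hA : A ≤ P.U) : IsGen (divMod D) A (P.iD A hA) :=
  isGen_invSec _ _ _ _ _

theorem Eqn.isGen_iE (P : Eqn D E) (A : X.Opens) (hA : A ≤ P.U) : IsGen (divMod E) A (P.iE A hA) :=
  isGen_invSec _ _ _ _ _

theorem Eqn.isGen_iDE (P : Eqn D E) (A : X.Opens) (hA : A ≤ P.U) : IsGen (divMod (D * E)) A (P.iDE A hA) :=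
  isGen_invSec _ _ _ _ _

theorem Eqn.res_iD (P : Eqn D E) {A A' : X.Opens} (hA : A ≤ P.U) (h : A' ≤ A) :
    res (divMod D) h (P.iD A hA) = P.iD A' (h.trans hA) := rfl

theorem Eqn.res_iE (P : Eqn D E) {A A' : X.Opens} (hA : A ≤ P.U) (h : A' ≤ A) :
    res (divMod E) h (P.iE A hA) = P.iE A' (h.trans hA) := rfl

theorem Eqn.res_iDE (P : Eqn D E) {A A' : X.Opens} (hA : A ≤ P.U) (h : A' ≤ A) :
    res (divMod (D * E)) h (P.iDE A hA) = P.iDE A' (h.trans hA) := rfl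

theorem Eqn.iDE_apply (P : Eqn D E) (A : X.Opens) (hA : A ≤ P.U) (y : A) :
    (P.iDE A hA).1 y = (P.iD A hA).1 y * (P.iE A hA).1 y := by
  change (((P.u * P.v)⁻¹ : (Γ(kmod X, P.U))ˣ) : Γ(kmod X, P.U)).1 ⟨y.1, hA y.2⟩ =
    ((P.u⁻¹ : (Γ(kmod X, P.U))ˣ) : Γ(kmod X, P.U)).1 ⟨y.1, hA y.2⟩ *
      ((P.v⁻¹ : (Γ(kmod X, P.U))ˣ) : Γ(kmod X, P.U)).1 ⟨y.1, hA y.2⟩
  rw [mul_inv, Units.val_mul]
  rfl

/-- the generator `u⁻¹ ⊗ v⁻¹` of the tensor product -/
noncomputable def Eqn.a (P : Eqn D E) (A : X.Opens) (hA : A ≤ P.U) :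
    Γ(CohB1.tensorMod (divMod D) (divMod E), A) :=
  tm (divMod D) (divMod E) A (P.iD A hA) (P.iE A hA)

theorem Eqn.isGen_a (P : Eqn D E) (A : X.Opens) (hA : A ≤ P.U) :
    IsGen (CohB1.tensorMod (divMod D) (divMod E)) A (P.a A hA) :=
  isGen_tm _ _ _ _ _ (P.isGen_iD A hA) (P.isGen_iE A hA)

theorem Eqn.res_a (P : Eqn D E) {A A' : X.Opens} (hA : A ≤ P.U) (h : A' ≤ A) :
    res (CohB1.tensorMod (divMod D) (divMod E)) h (P.a A hA) = P.a A' (h.trans hA) := by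
  rw [Eqn.a, res_tm]
  rfl

/-- expansion of a pure tensor in a frame -/
theorem Eqn.tm_eq (P : Eqn D E) (A : X.Opens) (hA : A ≤ P.U) (t : Γ(divMod D, A)) (t' : Γ(divMod E, A)) :
    tm (divMod D) (divMod E) A t t' =
      (coef (P.isGen_iD A hA) le_rfl t * coef (P.isGen_iE A hA) le_rfl t') • P.a A hA := by
  have h1 := coef_spec (P.isGen_iD A hA) le_rfl t
  have h2 := coef_spec (P.isGen_iE A hA) le_rfl t'
  rw [res_self] at h1 h2
  conv_lhs => rw [← h1, ← h2]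
  rw [tm_smul_left, tm_smul_right, ← mul_smul, Eqn.a]

theorem Eqn.mul_eq (P : Eqn D E) (A : X.Opens) (hA : A ≤ P.U) (t : Γ(divMod D, A)) (t' : Γ(divMod E, A)) (y : A) :
    ((coef (P.isGen_iD A hA) le_rfl t * coef (P.isGen_iE A hA) le_rfl t') • P.iDE A hA).1 y = t.1 y * t'.1 y := by
  have h1 := coef_spec (P.isGen_iD A hA) le_rfl t
  have h2 := coef_spec (P.isGen_iE A hA) le_rfl t'
  rw [res_self] at h1 h2
  have h1' := congrArg (fun z : Γ(divMod D, A) => z.1 y) h1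
  have h2' := congrArg (fun z : Γ(divMod E, A) => z.1 y) h2
  simp only [divMod_smul_apply'] at h1' h2'
  rw [divMod_smul_apply', ← h1', ← h2', P.iDE_apply, map_mul, Algebra.smul_def, Algebra.smul_def, Algebra.smul_def,
    map_mul]
  ring

variable (D E)

/-- the chosen local equations at a point -/
noncomputable def eqnAt (x : X) : Eqn D E := Classical.choose (exists_eqn D E x)

theorem mem_eqnAt (x : X) : x ∈ (eqnAt D E x).U := Classical.choose_spec (exists_eqn D E x)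

/-- **`O_X(D) ⊗ O_X(E) ≅ O_X(D * E)` by the product of meromorphic functions** -/
theorem exists_mul_iso :
    ∃ μ : CohB1.tensorMod (Mero.divMod D) (Mero.divMod E) ⟶ Mero.divMod (D * E),
      (∀ (U : X.Opens) (t : Γ(Mero.divMod D, U)) (t' : Γ(Mero.divMod E, U)),
        (Mero.divModι (D * E)).app U (μ.app U (SecTwist.tmul (Mero.divMod D) (Mero.divMod E) U t t')) =
          (Mero.divModι D).app U t * (Mero.divModι E).app U t') ∧
      IsIso μ := by
  obtain ⟨Φ, hΦ⟩ := exists_iso_of_frames (CohB1.tensorMod (divMod D) (divMod E)) (divMod (D * E))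
    (fun P : Eqn D E => P.U) (fun x => ⟨eqnAt D E x, mem_eqnAt D E x⟩)
    (fun P => P.a P.U le_rfl) (fun P => P.iDE P.U le_rfl)
    (fun P => P.isGen_a P.U le_rfl) (fun P => P.isGen_iDE P.U le_rfl)
    (by
      intro P Q g hg
      rw [P.res_a, Q.res_a] at hg
      rw [P.res_iDE, Q.res_iDE]
      have hA : P.U ⊓ Q.U ≤ Q.U := inf_le_right
      have hA' : P.U ⊓ Q.U ≤ P.U := inf_le_left
      have h1 := Q.tm_eq (P.U ⊓ Q.U) hA (P.iD _ hA') (P.iE _ hA')
      change P.a (P.U ⊓ Q.U) hA' = _ at h1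
      have h2 : g = coef (Q.isGen_iD _ hA) le_rfl (P.iD _ hA') * coef (Q.isGen_iE _ hA) le_rfl (P.iE _ hA') := by
        have hb := Q.isGen_a (P.U ⊓ Q.U) hA (P.U ⊓ Q.U) le_rfl
        rw [res_self] at hb
        apply hb.1
        change g • Q.a (P.U ⊓ Q.U) hA = _ • Q.a (P.U ⊓ Q.U) hA
        rw [← h1]
        exact hg.symm
      apply divMod_ext'
      intro y
      rw [h2, Q.mul_eq (P.U ⊓ Q.U) hA (P.iD _ hA') (P.iE _ hA') y, P.iDE_apply])
  refine ⟨Φ.hom, ?_, inferInstance⟩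
  intro U t t'
  apply kmod_ext
  intro x
  rw [kmod_mul_apply, divModι_app_apply, divModι_app_apply, divModι_app_apply]
  set P := eqnAt D E x.1 with hP
  have hxP : x.1 ∈ P.U := mem_eqnAt D E x.1
  set A : X.Opens := U ⊓ P.U with hA
  have hA₁ : A ≤ U := inf_le_left
  have hA₂ : A ≤ P.U := inf_le_right
  have hxA : x.1 ∈ A := ⟨x.2, hxP⟩
  have h1 : (Φ.hom.app U (SecTwist.tmul (divMod D) (divMod E) U t t')).1 x =
      (res (divMod (D * E)) hA₁ (Φ.hom.app U (tm (divMod D) (divMod E) U t t'))).1 ⟨x.1, hxA⟩ := rfl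
  have h2 : res (divMod (D * E)) hA₁ (Φ.hom.app U (tm (divMod D) (divMod E) U t t')) =
      Φ.hom.app A (tm (divMod D) (divMod E) A (res (divMod D) hA₁ t) (res (divMod E) hA₁ t')) := by
    rw [← res_tm]
    exact (app_map Φ.hom (homOfLE hA₁) _).symm
  have h3 := hΦ P A hA₂ (coef (P.isGen_iD A hA₂) le_rfl (res (divMod D) hA₁ t) *
    coef (P.isGen_iE A hA₂) le_rfl (res (divMod E) hA₁ t'))
  rw [P.res_a, P.res_iDE, ← P.tm_eq A hA₂] at h3
  rw [h1, h2, h3, P.mul_eq A hA₂ _ _ ⟨x.1, hxA⟩]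
  rfl

end Groth.Agent.Lib.Seat96.DivTensor
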