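import Mathlib.Algebra.DualNumber
import Mathlib.RingTheory.Flat.EquationalCriterion

/-!
# A flatness criterion over the dual numbers (seat 96)

`flat_dualNumber`: let `M` be a module over `B = A[ε]`, `M₀` an `A`-module and `π : M → M₀` a
surjective additive map, semilinear over `fst : A[ε] → A`, whose kernel is `ε M` and which kills
the annihilator of `ε`.  If `M₀` is flat over `A` then `M` is flat over `A[ε]`.
(The local criterion of flatness for the square-zero ideal `(ε)`.)
-/

set_option autoImplicit false
universe u v w

open DualNumber TrivSqZeroExt Module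

namespace Groth.Agent.Lib.Seat96.DualFlat

variable {A : Type u} [CommRing A]

/-- A version of `Module.IsTrivialRelation` with an arbitrary finite index type for the new generators. -/
theorem isTrivialRelation_of_fintype {R : Type u} [CommRing R] {M : Type v} [AddCommGroup M] [Module R M]
    {ι : Type*} [Fintype ι] {f : ι → R} {x : ι → M}
    {κ : Type*} [Fintype κ] (a : ι → κ → R) (y : κ → M)
    (h1 : ∀ i, x i = ∑ j, a i j • y j) (h2 : ∀ j, ∑ i, f i * a i j = 0) :
    IsTrivialRelation f x := by
  let e := Fintype.equivFin κ
  refine ⟨Fintype.card κ, fun i j => a i (e.symm j), fun j => y (e.symm j), fun i => ?_, fun j => ?_⟩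
  · rw [h1 i]
    exact (e.symm.sum_comp (fun j => a i j • y j)).symm
  · exact h2 (e.symm j)

theorem eps_smul_eps_smul {M : Type v} [AddCommGroup M] [Module (DualNumber A) M] (m : M) :
    (ε : DualNumber A) • (ε : DualNumber A) • m = 0 := by
  rw [smul_smul, eps_mul_eps, zero_smul]

/-- The local criterion of flatness over the dual numbers. -/
theorem flat_dualNumber {M : Type v} [AddCommGroup M] [Module (DualNumber A) M]
    {M₀ : Type w} [AddCommGroup M₀] [Module A M₀] [Module.Flat A M₀]
    (π : M →+ M₀) (hπ : ∀ (b : DualNumber A) (m : M), π (b • m) = b.fst • π m)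
    (hsurj : Function.Surjective π)
    (hker : ∀ m : M, π m = 0 → ∃ m' : M, m = (ε : DualNumber A) • m')
    (hann : ∀ m : M, (ε : DualNumber A) • m = 0 → π m = 0) :
    Module.Flat (DualNumber A) M := by
  apply Module.Flat.of_forall_isTrivialRelation
  intro l f x hfx
  -- Step 1: reduce the relation modulo `ε`
  have h1 : ∑ i, (f i).fst • π (x i) = 0 := by
    have := congrArg π hfx
    simpa [map_sum, hπ] using this
  obtain ⟨k, c, ybar, hc1, hc2⟩ := Module.Flat.isTrivialRelation_of_sum_smul_eq_zero h1
  beta_reduce at hc1 hc2
  choose y hy using fun j => hsurj (ybar j)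
  -- Step 2: the error terms
  have h2 : ∀ i, ∃ z : M, x i - ∑ j, (inl (c i j) : DualNumber A) • y j = (ε : DualNumber A) • z := by
    intro i
    apply hker
    rw [map_sub, map_sum, hc1 i]
    simp [hπ, hy]
  choose z hz using h2
  have hx : ∀ i, x i = ∑ j, (inl (c i j) : DualNumber A) • y j + (ε : DualNumber A) • z i := by
    intro i
    rw [← hz i]; abel
  -- Step 3: the second relation
  set b : Fin k → A := fun j => ∑ i, (f i).snd * c i j with hb
  set w : M := ∑ j, (inl (b j) : DualNumber A) • y j + ∑ i, (inl (f i).fst : DualNumber A) • z i with hw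
  have hfe : ∀ g : DualNumber A, g * ε = ε * inl g.fst := by
    intro g
    ext <;> simp
  have hfc : ∀ (g : DualNumber A) (a : A), g * inl a = inl (g.fst * a) + ε * inl (g.snd * a) := by
    intro g a
    ext <;> simp
  have hεw : (ε : DualNumber A) • w = 0 := by
    have e1 : ∑ i, f i • x i
        = ∑ j, (inl (∑ i, (f i).fst * c i j) : DualNumber A) • y j + (ε : DualNumber A) • w := by
      calc ∑ i, f i • x i
          = ∑ i, (∑ j, (f i * inl (c i j)) • y j + (f i * ε) • z i) := by
            refine Finset.sum_congr rfl fun i _ => ?_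
            rw [hx i, smul_add, Finset.smul_sum, smul_smul]
            simp only [smul_smul]
        _ = ∑ i, (∑ j, ((inl ((f i).fst * c i j) : DualNumber A) • y j
              + (ε : DualNumber A) • (inl ((f i).snd * c i j) : DualNumber A) • y j)
              + (ε : DualNumber A) • (inl (f i).fst : DualNumber A) • z i) := by
            refine Finset.sum_congr rfl fun i _ => ?_
            congr 1
            · refine Finset.sum_congr rfl fun j _ => ?_
              rw [hfc, add_smul, mul_smul]
            · rw [hfe, mul_smul]
        _ = _ := by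
            simp only [Finset.sum_add_distrib, hw, smul_add, Finset.smul_sum, hb, inl_sum, Finset.sum_smul]
            rw [Finset.sum_comm, add_assoc]
            congr 1
            congr 1
            rw [Finset.sum_comm]
    rw [hfx] at e1
    have e2 : ∑ j, (inl (∑ i, (f i).fst * c i j) : DualNumber A) • y j = 0 := by
      refine Finset.sum_eq_zero fun j _ => ?_
      rw [hc2 j, inl_zero, zero_smul]
    rw [e2, zero_add] at e1
    exact e1.symm
  have hπw : π w = 0 := hann w hεw
  -- Step 4: apply flatness again
  have h3 : ∑ s : Fin k ⊕ Fin l, (Sum.elim b (fun i => (f i).fst) s) • (Sum.elim ybar (fun i => π (z i)) s) = 0 := by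
    rw [Fintype.sum_sum_type]
    simp only [Sum.elim_inl, Sum.elim_inr]
    have := hπw
    rw [hw, map_add, map_sum, map_sum] at this
    simpa [hπ, hy] using this
  obtain ⟨k', d, ubar, hd1, hd2⟩ := Module.Flat.isTrivialRelation_of_sum_smul_eq_zero h3
  choose u hu using fun m => hsurj (ubar m)
  have h4 : ∀ j, ∃ y' : M, y j - ∑ m, (inl (d (Sum.inl j) m) : DualNumber A) • u m = (ε : DualNumber A) • y' := by
    intro j
    apply hker
    rw [map_sub, map_sum, hy j]
    have := hd1 (Sum.inl j)
    simp only [Sum.elim_inl] at this
    rw [this]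
    simp [hπ, hu]
  choose y' hy' using h4
  have h5 : ∀ i, ∃ z' : M, z i - ∑ m, (inl (d (Sum.inr i) m) : DualNumber A) • u m = (ε : DualNumber A) • z' := by
    intro i
    apply hker
    rw [map_sub, map_sum]
    have := hd1 (Sum.inr i)
    simp only [Sum.elim_inr] at this
    rw [this]
    simp [hπ, hu]
  choose z' hz' using h5
  have hy2 : ∀ j, y j = ∑ m, (inl (d (Sum.inl j) m) : DualNumber A) • u m + (ε : DualNumber A) • y' j := by
    intro j; rw [← hy' j]; abel
  have hz2 : ∀ i, z i = ∑ m, (inl (d (Sum.inr i) m) : DualNumber A) • u m + (ε : DualNumber A) • z' i := by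
    intro i; rw [← hz' i]; abel
  -- Step 5: assemble
  refine isTrivialRelation_of_fintype (κ := Fin k' ⊕ Fin k)
    (fun i => Sum.elim (fun m => (inl (∑ j, c i j * d (Sum.inl j) m) + ε * inl (d (Sum.inr i) m) : DualNumber A))
      (fun j => (ε * inl (c i j) : DualNumber A)))
    (Sum.elim u y') (fun i => ?_) (fun s => ?_)
  · rw [Fintype.sum_sum_type]
    simp only [Sum.elim_inl, Sum.elim_inr]
    rw [hx i, hz2 i]
    have : ∀ j, (inl (c i j) : DualNumber A) • y j
        = ∑ m, (inl (c i j * d (Sum.inl j) m) : DualNumber A) • u m + (ε * inl (c i j) : DualNumber A) • y' j := by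
      intro j
      rw [hy2 j, smul_add, Finset.smul_sum]
      congr 1
      · refine Finset.sum_congr rfl fun m _ => ?_
        rw [smul_smul, inl_mul_inl]
      · rw [smul_smul, mul_comm]
    simp only [this, Finset.sum_add_distrib, smul_add, eps_smul_eps_smul, add_zero, add_smul,
      Finset.smul_sum, inl_sum, Finset.sum_smul, mul_smul]
    rw [Finset.sum_comm]
    abel
  · rcases s with m | j
    · simp only [Sum.elim_inl]
      have := hd2 m
      rw [Fintype.sum_sum_type] at this
      simp only [Sum.elim_inl, Sum.elim_inr] at this
      ext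
      · simp only [fst_sum, fst_mul, fst_add, fst_inl, fst_eps, zero_mul, add_zero, fst_zero]
        calc ∑ i, (f i).fst * ∑ j, c i j * d (Sum.inl j) m
            = ∑ j, (∑ i, (f i).fst * c i j) * d (Sum.inl j) m := by
              simp only [Finset.mul_sum, Finset.sum_mul]
              rw [Finset.sum_comm]
              refine Finset.sum_congr rfl fun j _ => Finset.sum_congr rfl fun i _ => by ring
          _ = 0 := by simp [hc2]
      · simp only [snd_sum, DualNumber.snd_mul, fst_add, fst_inl, fst_mul, fst_eps, zero_mul, add_zero,
          snd_add, snd_inl, snd_eps, one_mul, zero_add, snd_zero, mul_zero]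
        rw [← this, hb]
        simp only [Finset.sum_add_distrib, Finset.mul_sum, Finset.sum_mul]
        rw [add_comm]
        congr 1
        rw [Finset.sum_comm]
        refine Finset.sum_congr rfl fun j _ => Finset.sum_congr rfl fun i _ => by ring
    · simp only [Sum.elim_inr]
      ext
      · simp [fst_sum]
      · simp only [snd_sum, DualNumber.snd_mul, fst_mul, fst_eps, zero_mul, mul_zero, fst_inl, snd_eps,
          one_mul, snd_inl, add_zero, zero_add, snd_zero]
        exact hc2 j

end Groth.Agent.Lib.Seat96.DualFlat
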