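import Mathlib.AlgebraicGeometry.Morphisms.Flat
import Mathlib.AlgebraicGeometry.Morphisms.QuasiSeparated
import Mathlib.AlgebraicGeometry.Morphisms.QuasiCompact
import Mathlib.Topology.Sheaves.SheafCondition.Sites

/-!
# `O_Y ≅ f_* O_X` is stable under flat base change (seat 96)

Namespace `Groth.Agent.Lib.Seat96.FibBC`.

* `bijective_of_isLocalization_away` : a map between localizations `A_s → B_{ψ s}` over a bijection `ψ : A → B`
  is bijective.
* `isIso_app_basicOpen` : for `ψ : X' ⟶ Y'` qcqs and `V` affine with `ψ.app V` iso, `ψ.app (D(s))` is iso.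
* `isIso_app_of_affine_cover` : if `ψ.app V` is iso for a covering family of affine opens, it is iso for all opens.
* `isIso_app_of_flat_baseChange` : flat base change (between affine bases) of a qcqs morphism `φ` with all
  `φ.app V` iso has the same property.
-/

set_option autoImplicit false
set_option linter.style.haveILetI false
universe u
open CategoryTheory CategoryTheory.Limits AlgebraicGeometry TopologicalSpace Opposite

namespace Groth.Agent.Lib.Seat96.FibBC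

theorem bijective_of_isLocalization_away {A B A' B' : Type*} [CommRing A] [CommRing B] [CommRing A']
    [CommRing B'] [Algebra A A'] [Algebra B B'] (ψ : A →+* B) (hψ : Function.Bijective ψ) (s : A)
    [IsLocalization.Away s A'] [IsLocalization.Away (ψ s) B'] (h : A' →+* B')
    (hh : h.comp (algebraMap A A') = (algebraMap B B').comp ψ) : Function.Bijective h := by
  let e : A ≃+* B := RingEquiv.ofBijective ψ hψ
  have H : (Submonoid.powers s).map e.toMonoidHom = Submonoid.powers (ψ s) := by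
    rw [Submonoid.map_powers]
    rfl
  let E : A' ≃+* B' := IsLocalization.ringEquivOfRingEquiv (M := Submonoid.powers s)
    (T := Submonoid.powers (ψ s)) A' B' e H
  have hE : h = E.toRingHom := by
    apply IsLocalization.ringHom_ext (Submonoid.powers s)
    rw [hh]
    ext a
    exact (IsLocalization.ringEquivOfRingEquiv_eq (S := A') (Q := B') H a).symm
  rw [hE]
  exact E.bijective

variable {X' Y' : Scheme.{u}}

theorem isIso_app_of_isIso_appLE (ψ : X' ⟶ Y') (V : Y'.Opens) (W : X'.Opens) (hW : W = ψ ⁻¹ᵁ V)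
    (h : IsIso (ψ.appLE V W (le_of_eq hW))) : IsIso (ψ.app V) := by
  subst hW
  rwa [Scheme.Hom.appLE_eq_app] at h

theorem isIso_app_basicOpen (ψ : X' ⟶ Y') [QuasiCompact ψ] [QuasiSeparated ψ] (V : Y'.Opens)
    (hV : IsAffineOpen V) (hψV : IsIso (ψ.app V)) (s : Γ(Y', V)) :
    IsIso (ψ.app (Y'.basicOpen s)) := by
  have hc : IsCompact (ψ ⁻¹ᵁ V : Set X') := ψ.isCompact_preimage hV.isCompact
  have hqs : IsQuasiSeparated (ψ ⁻¹ᵁ V : Set X') := ψ.isQuasiSeparated_preimage hV.isQuasiSeparated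
  have hpre : X'.basicOpen (ψ.app V s) = ψ ⁻¹ᵁ Y'.basicOpen s := (Scheme.preimage_basicOpen ψ s).symm
  refine isIso_app_of_isIso_appLE ψ _ _ hpre ?_
  haveI := hV.isLocalization_basicOpen s
  haveI := isLocalization_basicOpen_of_qcqs hc hqs (ψ.app V s)
  have hbij := bijective_of_isLocalization_away (A := Γ(Y', V)) (B := Γ(X', ψ ⁻¹ᵁ V))
    (A' := Γ(Y', Y'.basicOpen s)) (B' := Γ(X', X'.basicOpen (ψ.app V s))) (ψ.app V).hom
    (ConcreteCategory.bijective_of_isIso (ψ.app V)) s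
    (ψ.appLE (Y'.basicOpen s) (X'.basicOpen (ψ.app V s)) (le_of_eq hpre)).hom (by
      change (Y'.presheaf.map (homOfLE (Y'.basicOpen_le s)).op ≫
          ψ.appLE (Y'.basicOpen s) (X'.basicOpen (ψ.app V s)) (le_of_eq hpre)).hom =
        (ψ.app V ≫ X'.presheaf.map (homOfLE (X'.basicOpen_le (ψ.app V s))).op).hom
      rw [Scheme.Hom.map_appLE]
      rfl)
  exact (ConcreteCategory.isIso_iff_bijective _).mpr hbij

theorem isIso_app_of_affine_cover (ψ : X' ⟶ Y') [QuasiCompact ψ] [QuasiSeparated ψ]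
    (𝒜 : Set Y'.Opens) (h𝒜 : ∀ V ∈ 𝒜, IsAffineOpen V) (hcov : ∀ y : Y', ∃ V ∈ 𝒜, y ∈ V)
    (hiso : ∀ V ∈ 𝒜, IsIso (ψ.app V)) (V' : Y'.Opens) : IsIso (ψ.app V') := by
  let ι : Type u := Σ V : 𝒜, Γ(Y', V.1)
  let B : ι → Y'.Opens := fun i => Y'.basicOpen i.2
  have hB : Opens.IsBasis (Set.range B) := by
    rw [Opens.isBasis_iff_nbhd]
    intro O y hyO
    obtain ⟨V, hV𝒜, hyV⟩ := hcov y
    obtain ⟨s, hs1, hs2⟩ := (h𝒜 V hV𝒜).exists_basicOpen_le (⟨y, hyO⟩ : O) hyV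
    exact ⟨_, ⟨⟨⟨V, hV𝒜⟩, s⟩, rfl⟩, hs2, hs1⟩
  have hBiso : ∀ i, IsIso (ψ.app (B i)) := fun i =>
    isIso_app_basicOpen ψ i.1.1 (h𝒜 _ i.1.2) (hiso _ i.1.2) i.2
  let F : TopCat.Sheaf CommRingCat Y' := Y'.sheaf
  let G : TopCat.Sheaf CommRingCat Y' := (TopCat.Sheaf.pushforward CommRingCat ψ.base).obj X'.sheaf
  let α : F ⟶ G := ⟨ψ.c⟩
  have hα : IsIso α := TopCat.Sheaf.isIso_iff_isIso_basis (B := B) hB hBiso
  have h2 : IsIso ((TopCat.Sheaf.forget CommRingCat Y').map α) := Functor.map_isIso _ α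
  have h3 : IsIso ψ.c := h2
  exact (NatTrans.isIso_iff_isIso_app ψ.c).mp h3 (op V')

theorem appLE_congr_hom {X Y : Scheme.{u}} {a b : X ⟶ Y} (h : a = b) (U : Y.Opens) (V : X.Opens)
    (e : V ≤ a ⁻¹ᵁ U) : a.appLE U V e = b.appLE U V (h ▸ e) := by
  subst h
  rfl

/-- **Flat base change of a fibration**: if `φ : X ⟶ Y` is qcqs with all `φ.app V` isomorphisms, then so is
its base change along a flat morphism `f : T ⟶ S` of affine schemes. -/
theorem isIso_app_of_flat_baseChange {X Y S T : Scheme.{u}} [IsAffine S] [IsAffine T]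
    (φ : X ⟶ Y) [QuasiCompact φ] [QuasiSeparated φ] (iY : Y ⟶ S) (f : T ⟶ S) [Flat f]
    (gX : X' ⟶ X) (iX' : X' ⟶ T) (gY : Y' ⟶ Y) (iY' : Y' ⟶ T)
    (HX : IsPullback gX iX' (φ ≫ iY) f) (HY : IsPullback gY iY' iY f)
    (φ' : X' ⟶ Y') (h1 : φ' ≫ gY = gX ≫ φ) (h2 : φ' ≫ iY' = iX')
    (hφ : ∀ V : Y.Opens, IsIso (φ.app V)) (V' : Y'.Opens) : IsIso (φ'.app V') := by
  have HP : IsPullback φ' gX gY φ := by
    have big : IsPullback (φ' ≫ iY') gX f (φ ≫ iY) := by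
      rw [h2]
      exact HX.flip
    exact IsPullback.of_right big h1 HY.flip
  haveI : QuasiCompact φ' := MorphismProperty.of_isPullback HP.flip inferInstance
  haveI : QuasiSeparated φ' := MorphismProperty.of_isPullback HP.flip inferInstance
  haveI : IsAffineHom gY := MorphismProperty.of_isPullback HY.flip inferInstance
  refine isIso_app_of_affine_cover φ' {V₁ | ∃ V : Y.Opens, IsAffineOpen V ∧ V₁ = gY ⁻¹ᵁ V}
    ?_ ?_ ?_ V'
  · rintro _ ⟨V, hV, rfl⟩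
    exact hV.preimage gY
  · intro y'
    obtain ⟨_, ⟨V, hV, rfl⟩, hyV, -⟩ :=
      Y.isBasis_affineOpens.exists_subset_of_mem_open (Set.mem_univ (gY y')) isOpen_univ
    exact ⟨gY ⁻¹ᵁ V, ⟨V, hV, rfl⟩, hyV⟩
  · rintro _ ⟨V, hV, rfl⟩
    have hUST : (⊤ : T.Opens) ≤ f ⁻¹ᵁ ⊤ := le_top
    have hUSX_Y : V ≤ iY ⁻¹ᵁ ⊤ := le_top
    have hUSX_X : φ ⁻¹ᵁ V ≤ (φ ≫ iY) ⁻¹ᵁ ⊤ := le_top
    have hUY_Y : gY ⁻¹ᵁ V = gY ⁻¹ᵁ V ⊓ iY' ⁻¹ᵁ ⊤ := by simp
    have hUY_X : gX ⁻¹ᵁ (φ ⁻¹ᵁ V) = gX ⁻¹ᵁ (φ ⁻¹ᵁ V) ⊓ iX' ⁻¹ᵁ ⊤ := by simp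
    haveI hPY : IsIso (pushoutSection HY hUST hUSX_Y hUY_Y) :=
      isIso_pushoutSection_of_isAffineOpen HY hUST hUSX_Y hUY_Y (isAffineOpen_top S)
        (isAffineOpen_top T) hV
    haveI hPX : IsIso (pushoutSection HX hUST hUSX_X hUY_X) :=
      isIso_pushoutSection_of_isQuasiSeparated_of_flat_right HX hUST hUSX_X hUY_X
        (isAffineOpen_top S) (isAffineOpen_top T) (φ.isCompact_preimage hV.isCompact)
        (φ.isQuasiSeparated_preimage hV.isQuasiSeparated)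
    haveI hφV : IsIso (φ.appLE V (φ ⁻¹ᵁ V) le_rfl) := by
      rw [Scheme.Hom.appLE_eq_app]
      exact hφ V
    have comm1 : iY.appLE ⊤ V hUSX_Y ≫ φ.appLE V (φ ⁻¹ᵁ V) le_rfl =
        𝟙 _ ≫ (φ ≫ iY).appLE ⊤ (φ ⁻¹ᵁ V) hUSX_X := by
      rw [Category.id_comp, Scheme.Hom.appLE_comp_appLE]
    have comm2 : f.appLE ⊤ ⊤ hUST ≫ 𝟙 _ = 𝟙 _ ≫ f.appLE ⊤ ⊤ hUST := by
      rw [Category.id_comp, Category.comp_id]
    let m := pushout.map (iY.appLE ⊤ V hUSX_Y) (f.appLE ⊤ ⊤ hUST)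
      ((φ ≫ iY).appLE ⊤ (φ ⁻¹ᵁ V) hUSX_X) (f.appLE ⊤ ⊤ hUST)
      (φ.appLE V (φ ⁻¹ᵁ V) le_rfl) (𝟙 _) (𝟙 _) comm1 comm2
    haveI : IsIso m := pushout.map_isIso _ _ _ _ _ _ _ comm1 comm2
    have hWeq : gX ⁻¹ᵁ (φ ⁻¹ᵁ V) = φ' ⁻¹ᵁ (gY ⁻¹ᵁ V) := by
      rw [← Scheme.Hom.comp_preimage, ← Scheme.Hom.comp_preimage, h1]
    have key : m ≫ pushoutSection HX hUST hUSX_X hUY_X =
        pushoutSection HY hUST hUSX_Y hUY_Y ≫
          φ'.appLE (gY ⁻¹ᵁ V) (gX ⁻¹ᵁ (φ ⁻¹ᵁ V)) (le_of_eq hWeq) := by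
      apply pushout.hom_ext
      · rw [pushout.inl_desc_assoc, Category.assoc, pushout.inl_desc, pushout.inl_desc_assoc,
          Scheme.Hom.appLE_comp_appLE, Scheme.Hom.appLE_comp_appLE]
        exact (appLE_congr_hom h1 _ _ _).symm
      · rw [pushout.inr_desc_assoc, Category.assoc, pushout.inr_desc, pushout.inr_desc_assoc,
          Category.id_comp, Scheme.Hom.appLE_comp_appLE]
        exact (appLE_congr_hom h2 _ _ _).symm
    refine isIso_app_of_isIso_appLE φ' _ _ hWeq ?_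
    have h3 : φ'.appLE (gY ⁻¹ᵁ V) (gX ⁻¹ᵁ (φ ⁻¹ᵁ V)) (le_of_eq hWeq) =
        inv (pushoutSection HY hUST hUSX_Y hUY_Y) ≫ m ≫ pushoutSection HX hUST hUSX_X hUY_X := by
      rw [key, IsIso.inv_hom_id_assoc]
    rw [h3]
    infer_instance

/-- integrality descends along a fibration -/
theorem isIntegral_of_fibration {X Y : Scheme.{u}} (φ : X ⟶ Y) (hφ : ∀ V : Y.Opens, IsIso (φ.app V))
    [IsIntegral X] : IsIntegral Y := by
  have hne : ∀ U : Y.Opens, Nonempty U → Nonempty (φ ⁻¹ᵁ U : X.Opens) := by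
    intro U hU
    by_contra hemp
    have hbot : φ ⁻¹ᵁ U = ⊥ := by
      ext x
      simp only [Opens.coe_bot, Set.mem_empty_iff_false, iff_false]
      intro hx
      exact hemp ⟨⟨x, hx⟩⟩
    have hs1 : Subsingleton Γ(X, φ ⁻¹ᵁ U) := by
      rw [hbot]
      infer_instance
    have hs2 : Subsingleton Γ(Y, U) :=
      (ConcreteCategory.bijective_of_isIso (φ.app U)).injective.subsingleton
    have hUbot : U = ⊥ := by
      rw [← Y.basicOpen_of_isUnit (f := (1 : Γ(Y, U))) isUnit_one,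
        Subsingleton.elim (1 : Γ(Y, U)) 0, Y.basicOpen_zero]
    obtain ⟨⟨y, hy⟩⟩ := hU
    rw [hUbot] at hy
    exact hy
  refine ⟨⟨φ (Nonempty.some inferInstance)⟩, fun U hU => ?_⟩
  haveI := hne U hU
  haveI : IsDomain Γ(X, φ ⁻¹ᵁ U) := inferInstance
  haveI := hφ U
  exact (asIso (φ.app U)).commRingCatIsoToRingEquiv.toMulEquiv.isDomain Γ(X, φ ⁻¹ᵁ U)

end Groth.Agent.Lib.Seat96.FibBC
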