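import Mathlib
import Groth.Agent.Lib.Seat96ModSec
import Groth.Agent.Lib.Seat96CohCentre
import Groth.Agent.Lib.Seat85FunFieldAlg
import Groth.Agent.Lib.Seat94BiratFlat
import Groth.Agent.Lib.Helper23QCohLocal
import Groth.Agent.Lib.Helper23FinTypeLocal
import Groth.Agent.Lib.Helper23QCohAbelian
import Groth.Agent.Lib.Helper20OmegaAff

/-!
# Seat96: generically free direct images under finite surjective morphisms

ns `Groth.Agent.Lib.Seat96.GenFree`.
-/

set_option autoImplicit false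
set_option linter.style.haveILetI false
universe u u' v'
open CategoryTheory Limits AlgebraicGeometry TopologicalSpace Opposite

namespace Groth.Agent.Lib.Seat96.GenFree

section Stalk

variable {T : TopCat.{u}} {𝒢 ℋ : TopCat.Presheaf AddCommGrpCat.{u} T}

/-- a local criterion for a morphism of abelian presheaves to be bijective on a stalk -/
theorem stalkFunctor_map_bijective_of_local (φ : 𝒢 ⟶ ℋ) (y : T)
    (hinj : ∀ (V : Opens T) (_ : y ∈ V) (c : 𝒢.obj (op V)), φ.app (op V) c = 0 →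
      ∃ (V' : Opens T) (_ : y ∈ V') (le : V' ≤ V), 𝒢.map (homOfLE le).op c = 0)
    (hsurj : ∀ (V : Opens T) (_ : y ∈ V) (m : ℋ.obj (op V)),
      ∃ (V' : Opens T) (_ : y ∈ V') (le : V' ≤ V) (c : 𝒢.obj (op V')),
        φ.app (op V') c = ℋ.map (homOfLE le).op m) :
    Function.Bijective ((TopCat.Presheaf.stalkFunctor AddCommGrpCat.{u} y).map φ) := by
  constructor
  · rw [injective_iff_map_eq_zero]
    intro x hx
    obtain ⟨V, hyV, c, rfl⟩ := 𝒢.exists_germ_eq x
    rw [TopCat.Presheaf.stalkFunctor_map_germ_apply] at hx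
    have h0 : ℋ.germ V y hyV (φ.app (op V) c) = ℋ.germ V y hyV 0 := by rw [hx]; exact (map_zero _).symm
    obtain ⟨W, hyW, iU, iV, heq⟩ := ℋ.germ_eq y hyV hyV _ _ h0
    rw [map_zero] at heq
    have h1 : φ.app (op W) (𝒢.map iU.op c) = 0 := by
      have := congrArg (fun g => g c) (φ.naturality iU.op)
      simp only [ConcreteCategory.comp_apply] at this
      rw [this, heq]
    obtain ⟨V', hyV', le, h2⟩ := hinj W hyW _ h1
    have h3 : 𝒢.germ V y hyV c = 𝒢.germ V' y hyV' (𝒢.map (homOfLE le).op (𝒢.map iU.op c)) := by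
      rw [TopCat.Presheaf.germ_res_apply', TopCat.Presheaf.germ_res_apply']
    rw [h3, h2]; exact map_zero _
  · intro x
    obtain ⟨V, hyV, m, rfl⟩ := ℋ.exists_germ_eq x
    obtain ⟨V', hyV', le, c, hc⟩ := hsurj V hyV m
    refine ⟨𝒢.germ V' y hyV' c, ?_⟩
    rw [TopCat.Presheaf.stalkFunctor_map_germ_apply, hc, TopCat.Presheaf.germ_res_apply']

end Stalk

section Free

variable {C : Type u'} [Category.{v'} C] {J : GrothendieckTopology C} {R : Sheaf J RingCat.{u}}
  [HasWeakSheafify J AddCommGrpCat.{u}] [J.WEqualsLocallyBijective AddCommGrpCat.{u}]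

/-- sections of a finite free sheaf of modules are combinations of the basis sections -/
theorem free_section_eq_sum (I : Type u) [Fintype I] (Y : Cᵒᵖ)
    (x : (SheafOfModules.free (R := R) I).val.obj Y) :
    ∃ r : I → R.obj.obj Y,
      x = ∑ j, r j • (SheafOfModules.ιFree j).val.app Y (1 : R.obj.obj Y) := by
  classical
  let p : ∀ j : I, SheafOfModules.free (R := R) I ⟶ SheafOfModules.unit R :=
    fun j => Cofan.IsColimit.desc (SheafOfModules.isColimitFreeCofan I)
      (fun k => if k = j then 𝟙 _ else 0)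
  have hp : ∀ k j, SheafOfModules.ιFree k ≫ p j = if k = j then 𝟙 _ else 0 := fun k j =>
    Cofan.IsColimit.fac (SheafOfModules.isColimitFreeCofan I) _ k
  have key : ∀ k, SheafOfModules.ιFree (R := R) k ≫ (∑ j, p j ≫ SheafOfModules.ιFree j) =
      SheafOfModules.ιFree k ≫ 𝟙 (SheafOfModules.free (R := R) I) := by
    intro k
    rw [Preadditive.comp_sum]
    have : ∀ j, SheafOfModules.ιFree (R := R) k ≫ p j ≫ SheafOfModules.ιFree j =
        if k = j then SheafOfModules.ιFree j else 0 := by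
      intro j
      rw [← Category.assoc, hp]
      split_ifs <;> simp
    simp only [this, Finset.sum_ite_eq, Finset.mem_univ, if_true, Category.comp_id]
  have hsum : ∑ j, p j ≫ SheafOfModules.ιFree j = 𝟙 (SheafOfModules.free (R := R) I) :=
    Cofan.IsColimit.hom_ext (SheafOfModules.isColimitFreeCofan I) _ _ fun k => key k
  have hx : x = ∑ j, (SheafOfModules.ιFree j).val.app Y ((p j).val.app Y x) := by
    have hadd : (SheafOfModules.evaluation R Y).Additive := by
      unfold SheafOfModules.evaluation; infer_instance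
    have h := congrArg (fun f => ((SheafOfModules.evaluation R Y).map f).hom x) hsum
    beta_reduce at h
    rw [Functor.map_sum, ModuleCat.hom_sum, LinearMap.sum_apply] at h
    exact h.symm
  refine ⟨fun j => (p j).val.app Y x, ?_⟩
  conv_lhs => rw [hx]
  refine Finset.sum_congr rfl fun j _ => ?_
  let r : R.obj.obj Y := (p j).val.app Y x
  have h1 : ((p j).val.app Y x : (SheafOfModules.unit R).val.obj Y) =
      r • (1 : R.obj.obj Y) := (mul_one r).symm
  rw [h1]
  exact ((SheafOfModules.ιFree j).val.app Y).hom.map_smul r _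

end Free

section Common

/-- finitely many elements of a stalk are germs of sections over a common open -/
theorem exists_common_germ {T : TopCat.{u}} (F : TopCat.Presheaf CommRingCat.{u} T) (x : T)
    {ι : Type*} [Finite ι] (l : ι → F.stalk x) (V₀ : Opens T) (hx₀ : x ∈ V₀) :
    ∃ (W : Opens T) (hxW : x ∈ W) (_ : W ≤ V₀) (s : ι → F.obj (op W)),
      ∀ i, F.germ W x hxW (s i) = l i := by
  classical
  haveI := Fintype.ofFinite ι
  have key : ∀ S : Finset ι, ∃ (W : Opens T) (hxW : x ∈ W), W ≤ V₀ ∧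
      ∀ i ∈ S, ∃ t : F.obj (op W), F.germ W x hxW t = l i := by
    intro S
    induction S using Finset.induction_on with
    | empty => exact ⟨V₀, hx₀, le_rfl, by simp⟩
    | insert a S ha ih =>
      obtain ⟨W, hxW, hWV, hW⟩ := ih
      obtain ⟨U, hUW, hxU, t, ht⟩ := F.exists_le_germ_eq (l a) hxW
      refine ⟨U, hxU, hUW.trans hWV, ?_⟩
      intro i hi
      rcases Finset.mem_insert.1 hi with rfl | hi
      · exact ⟨t, ht⟩
      · obtain ⟨t', ht'⟩ := hW i hi
        refine ⟨F.map (homOfLE hUW).op t', ?_⟩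
        rw [TopCat.Presheaf.germ_res_apply']
        exact ht'
  obtain ⟨W, hxW, hWV, hW⟩ := key Finset.univ
  choose s hs using fun i => hW i (Finset.mem_univ i)
  exact ⟨W, hxW, hWV, s, hs⟩

end Common

section Main

variable {X Y : Scheme.{u}}

/-- the direct image of the structure sheaf of an open subscheme -/
noncomputable abbrev NW (W : X.Opens) : X.Modules :=
  (Scheme.Modules.pushforward W.ι).obj (Coh.structureModule (W : Scheme.{u}))

/-- the open `W ∩ U`, in the form in which it appears in the sections of `NW W` -/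
abbrev PW (W U : X.Opens) : X.Opens := W.ι ''ᵁ (W.ι ⁻¹ᵁ U)

theorem mem_PW {W U : X.Opens} {ξ : X} (hξW : ξ ∈ W) (hξU : ξ ∈ U) : ξ ∈ PW W U :=
  ⟨⟨ξ, hξW⟩, hξU, rfl⟩

/-- the germ at `ξ` of a section of `NW W` -/
noncomputable def γ (W : X.Opens) (ξ : X) (hξW : ξ ∈ W) (U : X.Opens) (hξU : ξ ∈ U)
    (n : Γ(NW W, U)) : X.presheaf.stalk ξ :=
  X.presheaf.germ (PW W U) ξ (mem_PW hξW hξU) (show Γ(X, PW W U) from n)

theorem γ_add (W : X.Opens) (ξ : X) (hξW : ξ ∈ W) (U : X.Opens) (hξU : ξ ∈ U)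
    (n n' : Γ(NW W, U)) : γ W ξ hξW U hξU (n + n') = γ W ξ hξW U hξU n + γ W ξ hξW U hξU n' :=
  map_add (X.presheaf.germ (PW W U) ξ (mem_PW hξW hξU)).hom _ _

theorem γ_smul (W : X.Opens) (ξ : X) (hξW : ξ ∈ W) (U : X.Opens) (hξU : ξ ∈ U)
    (a : Γ(X, U)) (n : Γ(NW W, U)) :
    γ W ξ hξW U hξU (a • n) = X.presheaf.germ U ξ hξU a * γ W ξ hξW U hξU n := by
  have h1 : (show Γ(X, PW W U) from (a • n)) =
      (show Γ(X, PW W U) from (W.ι.app U).hom a) * (show Γ(X, PW W U) from n) := rfl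
  unfold γ
  rw [h1, map_mul]
  congr 1
  rw [Scheme.Opens.ι_app]
  exact TopCat.Presheaf.germ_res_apply' _ _ _ _ _

theorem γ_res (W : X.Opens) (ξ : X) (hξW : ξ ∈ W) (U U' : X.Opens) (hξU' : ξ ∈ U') (le : U' ≤ U)
    (n : Γ(NW W, U)) :
    γ W ξ hξW U' hξU' ((NW W).presheaf.map (homOfLE le).op n) = γ W ξ hξW U (le hξU') n := by
  have hle : PW W U' ≤ PW W U := by
    rintro _ ⟨z, hz, rfl⟩
    exact ⟨z, le hz, rfl⟩
  have h1 : (show Γ(X, PW W U') from ((NW W).presheaf.map (homOfLE le).op n)) =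
      X.presheaf.map (homOfLE hle).op (show Γ(X, PW W U) from n) := rfl
  unfold γ
  rw [h1]
  exact TopCat.Presheaf.germ_res_apply' _ _ _ _ _

theorem γ_injective [IsIntegral X] (W : X.Opens) (ξ : X) (hξW : ξ ∈ W) (U : X.Opens)
    (hξU : ξ ∈ U) : Function.Injective (γ W ξ hξW U hξU) := by
  intro n n' h
  exact germ_injective_of_isIntegral X ξ (mem_PW hξW hξU) h

/-- a module with a finite family of global generating sections is of finite type -/
theorem isFiniteType_of_generatingSections {M : X.Modules} (G : M.GeneratingSections)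
    [G.IsFiniteType] : CohB1.IsFT M := by
  constructor
  refine ⟨G.localGeneratorsData, ?_⟩
  constructor
  intro x
  exact (⟨inferInstanceAs (Finite G.I)⟩ : (G.map (SheafOfModules.pushforward
    (𝟙 (X.ringCatSheaf.over x))) (Iso.refl _)).IsFiniteType)

/-- the tautological generating sections of a free module -/
noncomputable def freeGen (I : Type u) :
    (SheafOfModules.free (R := X.ringCatSheaf) I).GeneratingSections where
  I := I
  s := (SheafOfModules.free (R := X.ringCatSheaf) I).freeHomEquiv (𝟙 _)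
  epi := by rw [Equiv.symm_apply_apply]; infer_instance

theorem germ_funFieldMap' [IsIntegral X] [IsIntegral Y] (f : X ⟶ Y)
    (hgen : f (genericPoint X) = genericPoint Y) (V : Y.Opens) (hy : genericPoint Y ∈ V)
    (hξ : genericPoint X ∈ f ⁻¹ᵁ V) (a : Γ(Y, V)) :
    (Groth.Agent.Lib.Seat85.FunFieldAlg.funFieldMap f hgen).hom
      (Y.presheaf.germ V (genericPoint Y) hy a) =
      X.presheaf.germ (f ⁻¹ᵁ V) (genericPoint X) hξ ((f.app V).hom a) := by
  unfold Groth.Agent.Lib.Seat85.FunFieldAlg.funFieldMap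
  have h1 : Y.presheaf.germ V (genericPoint Y) hy ≫
      Y.presheaf.stalkSpecializes (Inseparable.of_eq hgen).specializes =
      Y.presheaf.germ V (f (genericPoint X)) hξ := Y.presheaf.germ_stalkSpecializes _ _
  have h2 := Scheme.Hom.germ_stalkMap f V (genericPoint X) hξ
  have h3 : Y.presheaf.germ V (genericPoint Y) hy ≫
      (Y.presheaf.stalkSpecializes (Inseparable.of_eq hgen).specializes ≫
        f.stalkMap (genericPoint X)) =
      f.app V ≫ X.presheaf.germ (f ⁻¹ᵁ V) (genericPoint X) hξ := by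
    rw [← Category.assoc, h1, h2]
  exact congrArg (fun g => g.hom a) h3

end Main

open Groth.Agent.Lib.Seat96.CohCentre

section FreeSec

variable {X : Scheme.{u}}

theorem ofSec_app_one' (N : X.Modules) (t : Γ(N, ⊤)) (U : X.Opens) :
    (ofSec N t).app U (1 : X.ringCatSheaf.obj.obj (op U)) =
      N.presheaf.map (homOfLE (le_top : U ≤ ⊤)).op t := by
  have h3 : N.unitHomEquiv (N.unitHomEquiv.symm (secTop N t)) = secTop N t :=
    Equiv.apply_symm_apply _ _
  have h4 := congrArg (fun s : N.sections => s.1 (op U)) h3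
  exact h4

/-- the morphism from a free module attached to a family of global sections -/
noncomputable def ofSecs (N : X.Modules) {I : Type u} (t : I → Γ(N, ⊤)) :
    @Quiver.Hom X.Modules _ (SheafOfModules.free (R := X.ringCatSheaf) I) N :=
  SheafOfModules.freeHomEquiv (R := X.ringCatSheaf) N |>.symm (fun i => secTop N (t i))

theorem ιFree_ofSecs (N : X.Modules) {I : Type u} (t : I → Γ(N, ⊤)) (i : I) :
    (SheafOfModules.ιFree (R := X.ringCatSheaf) i : Coh.structureModule X ⟶ _) ≫ ofSecs N t =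
      ofSec N (t i) := by
  have h := SheafOfModules.unitHomEquiv_symm_freeHomEquiv_apply (R := X.ringCatSheaf)
    (M := N) (ofSecs N t) i
  rw [← h]
  unfold ofSecs ofSec
  rw [Equiv.apply_symm_apply]

theorem ofSecs_app_ιFree_one (N : X.Modules) {I : Type u} (t : I → Γ(N, ⊤)) (i : I) (U : X.Opens) :
    (ofSecs N t).app U ((SheafOfModules.ιFree (R := X.ringCatSheaf) i).val.app (op U)
      (1 : X.ringCatSheaf.obj.obj (op U))) =
      N.presheaf.map (homOfLE (le_top : U ≤ ⊤)).op (t i) := by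
  rw [← ofSec_app_one', ← ιFree_ofSecs N t i]
  rfl

theorem ofSecs_app_sum (N : X.Modules) {I : Type u} [Fintype I] (t : I → Γ(N, ⊤)) (U : X.Opens)
    (ρ : I → Γ(X, U)) :
    (ofSecs N t).app U (∑ j, ρ j • (SheafOfModules.ιFree (R := X.ringCatSheaf) j).val.app (op U)
      (1 : X.ringCatSheaf.obj.obj (op U))) =
      ∑ j, ρ j • N.presheaf.map (homOfLE (le_top : U ≤ ⊤)).op (t j) := by
  rw [map_sum]
  refine Finset.sum_congr rfl fun j _ => ?_
  rw [← ofSecs_app_ιFree_one N t j U]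
  exact Scheme.Modules.Hom.app_smul (ofSecs N t) (ρ j) _

end FreeSec

section Main2

variable {X Y : Scheme.{u}}

theorem isQuasicoherent_free (I : Type u) :
    (SheafOfModules.free (R := X.ringCatSheaf) I : X.Modules).IsQuasicoherent := by
  haveI h1 : (Coh.structureModule X).IsQuasicoherent :=
    Groth.Agent.Lib.Helper20.OmegaAff.isQuasicoherent_structureModule
  let D : Discrete I ⥤ X.Modules := Discrete.functor (fun _ : I => Coh.structureModule X)
  exact Groth.Agent.Lib.Helper23.QCohLocal.isQuasicoherent_colimit D (fun _ => h1)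

theorem isQuasicoherent_NW [IsNoetherian X] (W : X.Opens) : (NW W).IsQuasicoherent := by
  haveI h1 : (Coh.structureModule (W : Scheme.{u})).IsQuasicoherent :=
    Groth.Agent.Lib.Helper20.OmegaAff.isQuasicoherent_structureModule
  exact Groth.Agent.Lib.Helper23.QCohLocal.isQuasicoherent_pushforward W.ι _

theorem app_map_apply {M N : X.Modules} (φ : M ⟶ N) {U V : X.Opens} (i : op U ⟶ op V)
    (x : Γ(M, U)) : φ.app V (M.presheaf.map i x) = N.presheaf.map i (φ.app U x) := by
  have h := congrArg (fun g => g.hom x) (φ.mapPresheaf.naturality i)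
  exact h

theorem γ_sum (W : X.Opens) (ξ : X) (hξW : ξ ∈ W) (U : X.Opens) (hξU : ξ ∈ U)
    {J : Type*} (S : Finset J) (n : J → Γ(NW W, U)) :
    γ W ξ hξW U hξU (∑ j ∈ S, n j) = ∑ j ∈ S, γ W ξ hξW U hξU (n j) :=
  map_sum (X.presheaf.germ (PW W U) ξ (mem_PW hξW hξU)).hom _ _

theorem γ_zero (W : X.Opens) (ξ : X) (hξW : ξ ∈ W) (U : X.Opens) (hξU : ξ ∈ U) :
    γ W ξ hξW U hξU 0 = 0 :=
  map_zero (X.presheaf.germ (PW W U) ξ (mem_PW hξW hξU)).hom

set_option maxHeartbeats 1600000 in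
theorem exists_generically_free [IsIntegral X] [IsNoetherian X] [IsIntegral Y] [IsNoetherian Y]
    (f : X ⟶ Y) [IsFinite f] [Surjective f] :
    ∃ (r : ℕ) (M : X.Modules) (α : (SheafOfModules.free (ULift.{u} (Fin r)) : Y.Modules) ⟶
        (Scheme.Modules.pushforward f).obj M),
      0 < r ∧ Coh.IsCoh M ∧
      IsIso ((TopCat.Presheaf.stalkFunctor AddCommGrpCat.{u} (genericPoint ↥Y)).map
        ((SheafOfModules.toSheaf Y.ringCatSheaf).map α).hom) := by
  classical
  let ξ : X := genericPoint X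
  have hgen : f ξ = genericPoint Y := Groth.Agent.Lib.Seat94.BiratFlat.map_genericPoint f
  let ψ := Groth.Agent.Lib.Seat85.FunFieldAlg.funFieldMap f hgen
  letI algKL : Algebra Y.functionField X.functionField := ψ.hom.toAlgebra
  haveI hfin : Module.Finite Y.functionField X.functionField :=
    Groth.Agent.Lib.Seat85.FunFieldAlg.funFieldMap_finite f hgen
  let r := Module.finrank Y.functionField X.functionField
  have hr : 0 < r := Module.finrank_pos
  let b : Module.Basis (ULift.{u} (Fin r)) Y.functionField X.functionField :=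
    (Module.finBasis _ _).reindex Equiv.ulift.symm
  -- common open
  obtain ⟨W, hξW, -, s, hs⟩ := exists_common_germ X.presheaf ξ (fun i => b i) ⊤ trivial
  let N : X.Modules := NW W
  haveI hNq : N.IsQuasicoherent := isQuasicoherent_NW W
  have hWle : PW W ⊤ ≤ W := by
    rintro _ ⟨z, -, rfl⟩
    exact z.2
  let e : ULift.{u} (Fin r) → Γ(N, ⊤) := fun i =>
    (show Γ(N, ⊤) from X.presheaf.map (homOfLE hWle).op (s i))
  have he : ∀ i, γ W ξ hξW ⊤ trivial (e i) = b i := by
    intro i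
    rw [← hs i]
    exact TopCat.Presheaf.germ_res_apply' _ _ _ _ _
  let F : X.Modules := SheafOfModules.free (R := X.ringCatSheaf) (ULift.{u} (Fin r))
  haveI hFq : F.IsQuasicoherent := isQuasicoherent_free _
  let θ : F ⟶ N := ofSecs N e
  haveI hCq : (cokernel θ).IsQuasicoherent :=
    Groth.Agent.Lib.Helper23.QCohLocal.isQuasicoherent_cokernel θ
  let M : X.Modules := kernel (cokernel.π θ)
  have hMq : M.IsQuasicoherent := Groth.Agent.Lib.Helper23.QCohLocal.isQuasicoherent_kernel _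
  let ι : M ⟶ N := kernel.ι (cokernel.π θ)
  haveI hι : Mono ι := inferInstanceAs (Mono (kernel.ι (cokernel.π θ)))
  let π : F ⟶ M := Abelian.factorThruImage θ
  haveI hπ : Epi π := inferInstanceAs (Epi (Abelian.factorThruImage θ))
  have hπι : π ≫ ι = θ := Abelian.image.fac θ
  have hMft : CohB1.IsFT M := by
    haveI : @Epi (SheafOfModules.{u} X.ringCatSheaf) _ F M π := hπ
    haveI : (freeGen (X := X) (ULift.{u} (Fin r))).IsFiniteType :=
      ⟨inferInstanceAs (Finite (ULift.{u} (Fin r)))⟩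
    exact isFiniteType_of_generatingSections
      ((freeGen (X := X) (ULift.{u} (Fin r))).ofEpi (N := M) π)
  let m' : ULift.{u} (Fin r) → Γ(M, ⊤) := fun i =>
    π.app ⊤ ((SheafOfModules.ιFree (R := X.ringCatSheaf) i).val.app (op ⊤)
      (1 : X.ringCatSheaf.obj.obj (op ⊤)))
  have hm' : ∀ i, ι.app ⊤ (m' i) = e i := by
    intro i
    have h1 : ι.app ⊤ (m' i) = θ.app ⊤ ((SheafOfModules.ιFree (R := X.ringCatSheaf) i).val.app
        (op ⊤) (1 : X.ringCatSheaf.obj.obj (op ⊤))) := by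
      rw [← hπι]; rfl
    rw [h1, ofSecs_app_ιFree_one]
    have h : homOfLE (le_top : (⊤ : X.Opens) ≤ ⊤) = 𝟙 _ := Subsingleton.elim _ _
    rw [h]
    simp
  let P : Y.Modules := (Scheme.Modules.pushforward f).obj M
  let m : ULift.{u} (Fin r) → Γ(P, ⊤) := fun i =>
    M.presheaf.map (homOfLE (le_top : f ⁻¹ᵁ ⊤ ≤ ⊤)).op (m' i)
  let α : @Quiver.Hom Y.Modules _
      (SheafOfModules.free (R := Y.ringCatSheaf) (ULift.{u} (Fin r))) P := ofSecs P m
  have hPm : ∀ (V : Y.Opens) (j : ULift.{u} (Fin r)),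
      (P.presheaf.map (homOfLE (le_top : V ≤ ⊤)).op (m j) : Γ(M, f ⁻¹ᵁ V)) =
        M.presheaf.map (homOfLE (le_top : f ⁻¹ᵁ V ≤ ⊤)).op (m' j) := by
    intro V j
    change M.presheaf.map _ (M.presheaf.map _ (m' j)) = _
    rw [← ConcreteCategory.comp_apply, ← Functor.map_comp]
    rfl
  have hαsum : ∀ (V : Y.Opens) (ρ : ULift.{u} (Fin r) → Γ(Y, V)),
      (α.app V (∑ j, ρ j • (SheafOfModules.ιFree (R := Y.ringCatSheaf) j).val.app (op V)
          (1 : Y.ringCatSheaf.obj.obj (op V))) : Γ(M, f ⁻¹ᵁ V)) =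
        ∑ j, (f.app V).hom (ρ j) • M.presheaf.map (homOfLE (le_top : f ⁻¹ᵁ V ≤ ⊤)).op (m' j) := by
    intro V ρ
    refine (ofSecs_app_sum P m V ρ).trans ?_
    refine Finset.sum_congr rfl fun j _ => ?_
    exact congrArg (fun z : Γ(M, f ⁻¹ᵁ V) => (f.app V).hom (ρ j) • z) (hPm V j)
  have key : ∀ (V : Y.Opens) (hyV : genericPoint Y ∈ V) (hξV : ξ ∈ f ⁻¹ᵁ V)
      (ρ : ULift.{u} (Fin r) → Γ(Y, V)),
      γ W ξ hξW (f ⁻¹ᵁ V) hξV (ι.app (f ⁻¹ᵁ V) (α.app V
        (∑ j, ρ j • (SheafOfModules.ιFree (R := Y.ringCatSheaf) j).val.app (op V)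
          (1 : Y.ringCatSheaf.obj.obj (op V))))) =
      ∑ j, Y.presheaf.germ V (genericPoint Y) hyV (ρ j) • b j := by
    intro V hyV hξV ρ
    rw [hαsum, map_sum, γ_sum]
    refine Finset.sum_congr rfl fun j _ => ?_
    rw [Scheme.Modules.Hom.app_smul, γ_smul, app_map_apply, hm',
      γ_res W ξ hξW ⊤ (f ⁻¹ᵁ V) hξV le_top, he, Algebra.smul_def, RingHom.algebraMap_toAlgebra,
      germ_funFieldMap' f hgen V hyV hξV]
  refine ⟨r, M, α, hr, ⟨hMq, hMft⟩, ?_⟩
  refine (ConcreteCategory.isIso_iff_bijective _).2 ?_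
  refine stalkFunctor_map_bijective_of_local _ (genericPoint Y) ?_ ?_
  · intro V hyV c hc
    have hξV : ξ ∈ f ⁻¹ᵁ V := by
      change f ξ ∈ V
      rw [hgen]; exact hyV
    obtain ⟨ρ, hρ⟩ := free_section_eq_sum (R := Y.ringCatSheaf) (ULift.{u} (Fin r)) (op V) c
    subst hρ
    have h1 := key V hyV hξV ρ
    have hc' : (α.app V (∑ j, ρ j • (SheafOfModules.ιFree (R := Y.ringCatSheaf) j).val.app (op V)
          (1 : Y.ringCatSheaf.obj.obj (op V))) : Γ(M, f ⁻¹ᵁ V)) = 0 := hc
    have h0 : γ W ξ hξW (f ⁻¹ᵁ V) hξV (ι.app (f ⁻¹ᵁ V) (α.app V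
        (∑ j, ρ j • (SheafOfModules.ιFree (R := Y.ringCatSheaf) j).val.app (op V)
          (1 : Y.ringCatSheaf.obj.obj (op V))))) = 0 :=
      (congrArg (fun z : Γ(M, f ⁻¹ᵁ V) => γ W ξ hξW (f ⁻¹ᵁ V) hξV (ι.app (f ⁻¹ᵁ V) z)) hc').trans
        (by
          have hz : ι.app (f ⁻¹ᵁ V) (0 : Γ(M, f ⁻¹ᵁ V)) = 0 := map_zero (ι.app (f ⁻¹ᵁ V)).hom
          change γ W ξ hξW (f ⁻¹ᵁ V) hξV (ι.app (f ⁻¹ᵁ V) (0 : Γ(M, f ⁻¹ᵁ V))) = 0
          rw [hz, γ_zero])
    have h2 := Fintype.linearIndependent_iff.1 b.linearIndependent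
      (fun j => Y.presheaf.germ V (genericPoint Y) hyV (ρ j)) (h1.symm.trans h0)
    have h3 : ∀ j, ρ j = 0 := fun j =>
      germ_injective_of_isIntegral Y _ hyV ((h2 j).trans (map_zero _).symm)
    refine ⟨V, hyV, le_rfl, ?_⟩
    have hc0 : (∑ j, ρ j • (SheafOfModules.ιFree (R := Y.ringCatSheaf) j).val.app (op V)
          (1 : Y.ringCatSheaf.obj.obj (op V))) = 0 :=
      Finset.sum_eq_zero fun j _ => by rw [h3 j, zero_smul]
    rw [hc0]
    exact map_zero _
  · intro V hyV mm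
    have hξV : ξ ∈ f ⁻¹ᵁ V := by
      change f ξ ∈ V
      rw [hgen]; exact hyV
    let mm' : Γ(M, f ⁻¹ᵁ V) := mm
    let l : X.functionField := γ W ξ hξW (f ⁻¹ᵁ V) hξV (ι.app (f ⁻¹ᵁ V) mm')
    obtain ⟨V', hyV', hle, ρ, hρ⟩ := exists_common_germ Y.presheaf (genericPoint Y)
      (fun j => b.repr l j) V hyV
    have hξV' : ξ ∈ f ⁻¹ᵁ V' := by
      change f ξ ∈ V'
      rw [hgen]; exact hyV'
    refine ⟨V', hyV', hle, ∑ j, ρ j • (SheafOfModules.ιFree (R := Y.ringCatSheaf) j).val.app (op V')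
          (1 : Y.ringCatSheaf.obj.obj (op V')), ?_⟩
    have hle' : f ⁻¹ᵁ V' ≤ f ⁻¹ᵁ V := fun x hx => hle hx
    change (α.app V' (∑ j, ρ j • (SheafOfModules.ιFree (R := Y.ringCatSheaf) j).val.app (op V')
          (1 : Y.ringCatSheaf.obj.obj (op V'))) : Γ(M, f ⁻¹ᵁ V')) =
      M.presheaf.map (homOfLE hle').op mm'
    apply Groth.Agent.Lib.Seat96.ModSec.injective_app_of_mono ι (f ⁻¹ᵁ V')
    apply γ_injective W ξ hξW (f ⁻¹ᵁ V') hξV'
    rw [key V' hyV' hξV' ρ, app_map_apply, γ_res W ξ hξW (f ⁻¹ᵁ V) (f ⁻¹ᵁ V') hξV' hle']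
    simp_rw [hρ]
    exact b.sum_repr l

end Main2

end Groth.Agent.Lib.Seat96.GenFree
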