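import Mathlib
import Groth.Prelude.Def_FlatMod2
import Groth.Agent.Lib.Seat96ModSec
import Groth.Agent.Lib.Helper4NormDelta
import Groth.Agent.Lib.Helper23UnitStalk
import Groth.Agent.Lib.Helper2QCoh

/-!
# Seat96: finitely many sections generating the stalks of a sheaf of ideals on a Noetherian scheme

ns `Groth.Agent.Lib.Seat96.IdealGen`.

* `exists_saturation_bound` : in a Noetherian ring, the `p`-saturation of an ideal `I` is killed into `I`
  by a single `f ∉ p`.
* `exists_common_germ_ab` : finitely many elements of a stalk of an abelian presheaf are germs over a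
  common open.
* `fn`, `κ` : a submodule `ι : G ⟶ O_X` of the structure sheaf, on sections and on stalks.
* `exists_local_generators` : near a point `η`, finitely many sections generate `G_x` for all
  specializations `x` of `η` in a neighbourhood.
* `exists_generating_list` : Noetherian induction.
-/

set_option autoImplicit false
set_option linter.style.haveILetI false
universe u
open CategoryTheory Limits AlgebraicGeometry TopologicalSpace Opposite

namespace Groth.Agent.Lib.Seat96.IdealGen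

section Alg

theorem exists_saturation_bound {A : Type*} [CommRing A] [IsNoetherianRing A] (I p : Ideal A)
    [hp : p.IsPrime] :
    ∃ f : A, f ∉ p ∧ ∀ b : A, (∃ s : A, s ∉ p ∧ s * b ∈ I) → f * b ∈ I := by
  classical
  let N : Ideal A :=
    { carrier := {b | ∃ s : A, s ∉ p ∧ s * b ∈ I}
      add_mem' := by
        rintro a b ⟨s, hs, hsa⟩ ⟨t, ht, htb⟩
        refine ⟨s * t, fun h => (hp.mem_or_mem h).elim hs ht, ?_⟩
        have h1 : s * t * (a + b) = t * (s * a) + s * (t * b) := by ring
        rw [h1]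
        exact I.add_mem (I.mul_mem_left _ hsa) (I.mul_mem_left _ htb)
      zero_mem' := ⟨1, fun h => hp.ne_top ((Ideal.eq_top_iff_one _).2 h), by simp⟩
      smul_mem' := by
        rintro c b ⟨s, hs, hsb⟩
        refine ⟨s, hs, ?_⟩
        have h1 : s * (c • b) = c * (s * b) := by simp only [smul_eq_mul]; ring
        rw [h1]
        exact I.mul_mem_left _ hsb }
  obtain ⟨T, hT⟩ := (isNoetherianRing_iff_ideal_fg A).1 inferInstance N
  have hTN : ∀ t ∈ T, ∃ s : A, s ∉ p ∧ s * t ∈ I := by
    intro t ht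
    have : t ∈ N := hT ▸ Ideal.subset_span ht
    exact this
  choose! σ hσp hσI using hTN
  refine ⟨∏ t ∈ T, σ t, ?_, ?_⟩
  · intro h
    obtain ⟨t, ht, hmem⟩ := (hp.prod_mem_iff).1 h
    exact hσp t ht hmem
  · intro b hb
    have hbN : b ∈ Ideal.span (T : Set A) := by rw [hT]; exact hb
    refine Submodule.span_induction (p := fun b _ => (∏ t ∈ T, σ t) * b ∈ I) ?_ ?_ ?_ ?_ hbN
    · intro t ht
      rw [← Finset.mul_prod_erase T σ ht]
      have h1 : (σ t * ∏ x ∈ T.erase t, σ x) * t = (∏ x ∈ T.erase t, σ x) * (σ t * t) := by ring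
      rw [h1]
      exact I.mul_mem_left _ (hσI t ht)
    · simp
    · intro a b _ _ ha hb
      rw [mul_add]
      exact I.add_mem ha hb
    · intro c b _ hb
      have h1 : (∏ t ∈ T, σ t) * (c • b) = c * ((∏ t ∈ T, σ t) * b) := by
        simp only [smul_eq_mul]; ring
      rw [h1]
      exact I.mul_mem_left _ hb

end Alg

section Common

/-- finitely many elements of a stalk are germs of sections over a common open -/
theorem exists_common_germ_ab {T : TopCat.{u}} (F : TopCat.Presheaf AddCommGrpCat.{u} T) (x : T)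
    {ι : Type*} [Finite ι] (l : ι → F.stalk x) (V₀ : Opens T) (hx₀ : x ∈ V₀) :
    ∃ (W : Opens T) (hxW : x ∈ W) (_ : W ≤ V₀) (s : ι → F.obj (op W)),
      ∀ i, F.germ W x hxW (s i) = l i := by
  classical
  haveI := Fintype.ofFinite ι
  have key : ∀ S : Finset ι, ∃ (W : Opens T) (hxW : x ∈ W), W ≤ V₀ ∧
      ∀ i ∈ S, ∃ t : F.obj (op W), F.germ W x hxW t = l i := by
    intro S
    induction S using Finset.induction_on with
    | empty => exact ⟨V₀, hx₀, le_rfl, by simp⟩
    | insert a S ha ih =>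
      obtain ⟨W, hxW, hWV, hW⟩ := ih
      obtain ⟨U, hUW, hxU, t, ht⟩ := F.exists_le_germ_eq (l a) hxW
      refine ⟨U, hxU, hUW.trans hWV, ?_⟩
      intro i hi
      rcases Finset.mem_insert.1 hi with rfl | hi
      · exact ⟨t, ht⟩
      · obtain ⟨t', ht'⟩ := hW i hi
        refine ⟨F.map (homOfLE hUW).op t', ?_⟩
        rw [TopCat.Presheaf.germ_res_apply']
        exact ht'
  obtain ⟨W, hxW, hWV, hW⟩ := key Finset.univ
  choose s hs using fun i => hW i (Finset.mem_univ i)
  exact ⟨W, hxW, hWV, s, hs⟩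

end Common

section Sub

open Groth.Agent.Lib.Helper23.GenLocus Groth.Agent.Lib.Helper23.UnitStalk
open Groth.Agent.Lib.Helper4.NormDelta Groth.Agent.Lib.Helper2.QCoh

variable {X : Scheme.{u}} {G : X.Modules} (ι : G ⟶ Coh.structureModule X)

/-- the function underlying a section of a submodule of the structure sheaf -/
noncomputable def fn (U : X.Opens) (m : Γ(G, U)) : Γ(X, U) := ofS U (ι.app U m)

theorem fn_injective [Mono ι] (U : X.Opens) : Function.Injective (fn ι U) :=
  Groth.Agent.Lib.Seat96.ModSec.injective_app_of_mono ι U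

theorem fn_map {U V : X.Opens} (i : V ⟶ U) (m : Γ(G, U)) :
    fn ι V (G.presheaf.map i.op m) = X.presheaf.map i.op (fn ι U m) := by
  unfold fn
  rw [Groth.Agent.Lib.Helper2.ModExact.app_map]
  rfl

/-- the stalk map of `ι`, with values in the local ring -/
noncomputable def κ (x : X) : G.presheaf.stalk x →ₗ[X.presheaf.stalk x] X.presheaf.stalk x :=
  (unitStalkEquiv x).symm.toLinearMap.comp (stalkLin ι x)

theorem κ_germ (x : X) (U : X.Opens) (hx : x ∈ U) (m : Γ(G, U)) :
    κ ι x (G.presheaf.germ U x hx m) = X.presheaf.germ U x hx (fn ι U m) := by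
  unfold κ
  rw [LinearMap.comp_apply, stalkLin_germ, LinearEquiv.coe_coe, LinearEquiv.symm_apply_eq]
  change _ = toUnitStalk x _
  rw [toUnitStalk_germ]
  rfl

theorem κ_injective [Mono ι] (x : X) : Function.Injective (κ ι x) := by
  rw [injective_iff_map_eq_zero]
  intro g hg
  obtain ⟨V, hxV, t, rfl⟩ := G.presheaf.exists_germ_eq g
  rw [κ_germ] at hg
  have h0 : X.presheaf.germ V x hxV (fn ι V t) = X.presheaf.germ V x hxV 0 := by
    rw [hg, map_zero]
  obtain ⟨W, hxW, i₁, i₂, hW⟩ := X.presheaf.germ_eq x hxV hxV _ _ h0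
  rw [map_zero, ← fn_map] at hW
  have h1 : G.presheaf.map i₁.op t = 0 := by
    apply fn_injective ι W
    rw [hW]
    unfold fn
    rw [map_zero]
    rfl
  rw [← TopCat.Presheaf.germ_res_apply G.presheaf i₁ x hxW t, h1, map_zero]

theorem exists_local_generators [IsLocallyNoetherian X] [Mono ι] (η : X) :
    ∃ (U U' : X.Opens) (hle : U' ≤ U) (_ : η ∈ U') (k : ℕ) (s : Fin k → Γ(G, U)),
      ∀ (x : X) (hx : x ∈ U'), η ⤳ x →
        Submodule.span (X.presheaf.stalk x)
          (Set.range fun i => G.presheaf.germ U x (hle hx) (s i)) = ⊤ := by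
  classical
  haveI : Module.Finite (X.presheaf.stalk η) (G.presheaf.stalk η) :=
    Module.Finite.of_injective (κ ι η) (κ_injective ι η)
  obtain ⟨k, g, hg⟩ := Module.Finite.exists_fin (R := X.presheaf.stalk η)
    (M := G.presheaf.stalk η)
  obtain ⟨W, hηW, -, s₀, hs₀⟩ := exists_common_germ_ab G.presheaf η g ⊤ trivial
  obtain ⟨_, ⟨U, hU, rfl⟩, hηU, hUW⟩ :=
    X.isBasis_affineOpens.exists_subset_of_mem_open hηW W.2
  have hUW' : U ≤ W := hUW
  let s : Fin k → Γ(G, U) := fun i => G.presheaf.map (homOfLE hUW').op (s₀ i)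
  have hs : ∀ i, G.presheaf.germ U η hηU (s i) = g i := by
    intro i
    rw [← hs₀ i]
    exact TopCat.Presheaf.germ_res_apply' _ _ _ _ _
  haveI : IsNoetherianRing Γ(X, U) := IsLocallyNoetherian.component_noetherian ⟨U, hU⟩
  let a : Fin k → Γ(X, U) := fun i => fn ι U (s i)
  let I : Ideal Γ(X, U) := Ideal.span (Set.range a)
  let p : Ideal Γ(X, U) := (hU.primeIdealOf ⟨η, hηU⟩).asIdeal
  obtain ⟨f, hfp, hf⟩ := exists_saturation_bound I p
  have hηf : η ∈ X.basicOpen f :=
    (Groth.Agent.Lib.Helper2.mem_basicOpen_iff_notMem_primeIdealOf hU η hηU f).2 hfp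
  refine ⟨U, X.basicOpen f, X.basicOpen_le f, hηf, k, s, ?_⟩
  intro x hxf hspec
  have hxU : x ∈ U := X.basicOpen_le f hxf
  rw [eq_top_iff]
  intro gx _
  letI algx : Algebra Γ(X, U) (X.presheaf.stalk x) :=
    TopCat.Presheaf.algebra_section_stalk X.presheaf ⟨x, hxU⟩
  haveI locx : IsLocalization.AtPrime (X.presheaf.stalk x) (hU.primeIdealOf ⟨x, hxU⟩).asIdeal :=
    hU.isLocalization_stalk ⟨x, hxU⟩
  letI algη : Algebra Γ(X, U) (X.presheaf.stalk η) :=
    TopCat.Presheaf.algebra_section_stalk X.presheaf ⟨η, hηU⟩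
  haveI locη : IsLocalization.AtPrime (X.presheaf.stalk η) p := hU.isLocalization_stalk ⟨η, hηU⟩
  have halgx : ∀ c : Γ(X, U), algebraMap Γ(X, U) (X.presheaf.stalk x) c =
      X.presheaf.germ U x hxU c := fun _ => rfl
  have halgη : ∀ c : Γ(X, U), algebraMap Γ(X, U) (X.presheaf.stalk η) c =
      X.presheaf.germ U η hηU c := fun _ => rfl
  let q : Ideal Γ(X, U) := (hU.primeIdealOf ⟨x, hxU⟩).asIdeal
  obtain ⟨V, hxV, t, rfl⟩ := G.presheaf.exists_germ_eq gx
  have hηV : η ∈ V := hspec.mem_open V.2 hxV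
  have hz : κ ι x (G.presheaf.germ V x hxV t) = X.presheaf.germ V x hxV (fn ι V t) :=
    κ_germ ι x V hxV t
  obtain ⟨⟨b, h⟩, hbh⟩ := IsLocalization.surj q.primeCompl (κ ι x (G.presheaf.germ V x hxV t))
  have hsp : ∀ (V' : X.Opens) (hxV' : x ∈ V') (c : Γ(X, V')),
      (X.presheaf.stalkSpecializes hspec).hom (X.presheaf.germ V' x hxV' c) =
        X.presheaf.germ V' η (hspec.mem_open V'.2 hxV') c :=
    fun V' hxV' c => TopCat.Presheaf.germ_stalkSpecializes_apply _ _ _ _
  -- the image of `z` in the local ring at `η` lies in `I`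
  have h1 : (X.presheaf.stalkSpecializes hspec).hom (κ ι x (G.presheaf.germ V x hxV t)) ∈
      Ideal.map (algebraMap Γ(X, U) (X.presheaf.stalk η)) I := by
    rw [hz, hsp, ← κ_germ ι η V hηV t]
    have hmem : G.presheaf.germ V η hηV t ∈
        Submodule.span (X.presheaf.stalk η) (Set.range g) := by rw [hg]; trivial
    refine Submodule.span_induction
      (p := fun y _ => κ ι η y ∈ Ideal.map (algebraMap Γ(X, U) (X.presheaf.stalk η)) I)
      ?_ ?_ ?_ ?_ hmem
    · rintro _ ⟨i, rfl⟩
      rw [← hs i, κ_germ]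
      exact Ideal.mem_map_of_mem _ (Ideal.subset_span ⟨i, rfl⟩)
    · rw [map_zero]; exact Ideal.zero_mem _
    · intro y y' _ _ hy hy'
      rw [map_add]; exact Ideal.add_mem _ hy hy'
    · intro c y _ hy
      rw [map_smul]; exact Ideal.mul_mem_left _ _ hy
  have h2 : algebraMap Γ(X, U) (X.presheaf.stalk η) b ∈
      Ideal.map (algebraMap Γ(X, U) (X.presheaf.stalk η)) I := by
    have h3 := congrArg (X.presheaf.stalkSpecializes hspec).hom hbh
    rw [map_mul, halgx, halgx, hsp, hsp] at h3
    rw [halgη, ← h3]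
    exact Ideal.mul_mem_right _ _ h1
  obtain ⟨m, hm, hmb⟩ :=
    (IsLocalization.algebraMap_mem_map_algebraMap_iff p.primeCompl (X.presheaf.stalk η) I b).1 h2
  have hfb : f * b ∈ I := hf b ⟨m, hm, hmb⟩
  have hfu : IsUnit (algebraMap Γ(X, U) (X.presheaf.stalk x) f) :=
    (Scheme.mem_basicOpen X f x hxU).1 hxf
  have hhu : IsUnit (algebraMap Γ(X, U) (X.presheaf.stalk x) h) :=
    IsLocalization.map_units (X.presheaf.stalk x) h
  have h4 : κ ι x (G.presheaf.germ V x hxV t) ∈
      Ideal.map (algebraMap Γ(X, U) (X.presheaf.stalk x)) I := by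
    have h5 : algebraMap Γ(X, U) (X.presheaf.stalk x) (f * b) ∈
        Ideal.map (algebraMap Γ(X, U) (X.presheaf.stalk x)) I := Ideal.mem_map_of_mem _ hfb
    rw [map_mul, ← hbh] at h5
    have h6 : (algebraMap Γ(X, U) (X.presheaf.stalk x) f *
        algebraMap Γ(X, U) (X.presheaf.stalk x) h) * κ ι x (G.presheaf.germ V x hxV t) ∈
        Ideal.map (algebraMap Γ(X, U) (X.presheaf.stalk x)) I := by
      convert h5 using 1
      ring
    exact (Ideal.unit_mul_mem_iff_mem _ (hfu.mul hhu)).1 h6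
  rw [Ideal.map_span, ← Set.range_comp] at h4
  obtain ⟨d, hd⟩ := (Submodule.mem_span_range_iff_exists_fun (X.presheaf.stalk x)).1 h4
  have hfin : G.presheaf.germ V x hxV t = ∑ i, d i • G.presheaf.germ U x hxU (s i) := by
    apply κ_injective ι x
    rw [← hd, map_sum]
    refine Finset.sum_congr rfl fun i _ => ?_
    rw [map_smul, κ_germ]
    rfl
  rw [hfin]
  exact Submodule.sum_mem _ fun i _ => Submodule.smul_mem _ _ (Submodule.subset_span ⟨i, rfl⟩)

end Sub

section Induction

variable {X : Scheme.{u}} (G : X.Modules)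

/-- germs at `x` of the sections in the list that are defined at `x` -/
def germSet (L : List (Σ U : X.Opens, Γ(G, U))) (x : X) : Set (G.presheaf.stalk x) :=
  {g | ∃ p ∈ L, ∃ h : x ∈ p.1, g = G.presheaf.germ p.1 x h p.2}

/-- the list of sections generates the stalk at `x` -/
def Gen (L : List (Σ U : X.Opens, Γ(G, U))) (x : X) : Prop :=
  Submodule.span (X.presheaf.stalk x) (germSet G L x) = ⊤

variable {G} in
theorem Gen.mono {L L' : List (Σ U : X.Opens, Γ(G, U))} (h : ∀ p ∈ L, p ∈ L') {x : X}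
    (hL : Gen G L x) : Gen G L' x := by
  unfold Gen at *
  rw [eq_top_iff, ← hL]
  apply Submodule.span_mono
  rintro g ⟨p, hp, hx, rfl⟩
  exact ⟨p, h p hp, hx, rfl⟩

/-- some finite list of sections generates the stalks at all points of `Z` -/
def Q (Z : Set X) : Prop := ∃ L : List (Σ U : X.Opens, Γ(G, U)), ∀ x ∈ Z, Gen G L x

theorem Q_empty : Q G ∅ := ⟨[], by simp⟩

variable {G} in
theorem Q_union {A B : Set X} (hA : Q G A) (hB : Q G B) : Q G (A ∪ B) := by
  obtain ⟨L₁, h₁⟩ := hA
  obtain ⟨L₂, h₂⟩ := hB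
  refine ⟨L₁ ++ L₂, ?_⟩
  rintro x (hx | hx)
  · exact (h₁ x hx).mono (fun p hp => List.mem_append_left _ hp)
  · exact (h₂ x hx).mono (fun p hp => List.mem_append_right _ hp)

variable {G} in
theorem Q_mono {A B : Set X} (h : A ⊆ B) (hB : Q G B) : Q G A := by
  obtain ⟨L, hL⟩ := hB
  exact ⟨L, fun x hx => hL x (h hx)⟩

variable {G} in
theorem Q_sSup (S : Set (Closeds X)) (hS : S.Finite) (h : ∀ T ∈ S, Q G (T : Set X)) :
    Q G ((sSup S : Closeds X) : Set X) := by
  induction S, hS using Set.Finite.induction_on with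
  | empty =>
    rw [sSup_empty]
    exact Q_empty G
  | insert ha hS ih =>
    rw [sSup_insert, Closeds.coe_sup]
    exact Q_union (h _ (Set.mem_insert _ _)) (ih fun T hT => h T (Set.mem_insert_of_mem _ hT))

variable {G} in
theorem Q_closed [IsNoetherian X] (ι : G ⟶ Coh.structureModule X) [Mono ι] (Z : Closeds X) :
    Q G (Z : Set X) := by
  have hN : NoetherianSpace X := inferInstance
  haveI : WellFoundedLT (Closeds X) := ((noetherianSpace_TFAE X).out 0 1).1 hN
  induction Z using WellFoundedLT.induction with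
  | ind Z IH =>
    obtain ⟨S, hSfin, hSirr, hZ⟩ := NoetherianSpace.exists_finite_set_closeds_irreducible Z
    have hT : ∀ T ∈ S, Q G (T : Set X) := by
      intro T hT
      have hTZ : T ≤ Z := by rw [hZ]; exact le_sSup hT
      have hirr := hSirr T hT
      let η := hirr.genericPoint
      have hη : IsGenericPoint η (T : Set X) :=
        hirr.isGenericPoint_genericPoint T.isClosed
      obtain ⟨U, U', hle, hηU', k, s, hs⟩ := exists_local_generators ι η
      let T' : Closeds X := ⟨(T : Set X) \ U', T.isClosed.sdiff U'.2⟩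
      have hT'lt : T' < Z := by
        refine lt_of_le_of_ne ?_ ?_
        · intro x hx
          exact hTZ hx.1
        · intro h
          have h1 : η ∈ (T' : Set X) := by rw [h]; exact hTZ hη.mem
          exact h1.2 hηU'
      have hQ' : Q G (T' : Set X) := IH T' hT'lt
      have hQ'' : Q G ((T : Set X) ∩ U') := by
        refine ⟨List.ofFn (fun i => (⟨U, s i⟩ : Σ U : X.Opens, Γ(G, U))), ?_⟩
        rintro x ⟨hxT, hxU'⟩
        have h1 := hs x hxU' (hη.specializes hxT)
        unfold Gen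
        rw [eq_top_iff, ← h1]
        apply Submodule.span_mono
        rintro _ ⟨i, rfl⟩
        exact ⟨⟨U, s i⟩, (List.mem_ofFn' _ _).2 ⟨i, rfl⟩, hle hxU', rfl⟩
      refine Q_mono ?_ (Q_union hQ'' hQ')
      intro x hx
      by_cases hxU : x ∈ U'
      · exact Or.inl ⟨hx, hxU⟩
      · exact Or.inr ⟨hx, hxU⟩
    rw [hZ]
    exact Q_sSup S hSfin hT

theorem exists_generating_family [IsNoetherian X] (ι : G ⟶ Coh.structureModule X) [Mono ι] :
    ∃ (m : ℕ) (U : Fin m → X.Opens) (k : Fin m → ℕ)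
      (s : (i : Fin m) → Fin (k i) → (G.presheaf.obj (Opposite.op (U i)) : Type u)),
      ∀ x : X, Submodule.span (X.presheaf.stalk x)
          (Set.range (fun p : (Σ i : {i : Fin m // x ∈ U i}, Fin (k i.1)) =>
            (G.presheaf.germ (U p.1.1) x p.1.2) (s p.1.1 p.2))) = ⊤ := by
  obtain ⟨L, hL⟩ := Q_closed ι (⊤ : Closeds X)
  refine ⟨L.length, fun i => (L.get i).1, fun _ => 1, fun i _ => (L.get i).2, ?_⟩
  intro x
  have h1 : Gen G L x := hL x trivial
  unfold Gen at h1
  rw [eq_top_iff, ← h1]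
  apply Submodule.span_mono
  rintro g ⟨p, hp, hx, rfl⟩
  obtain ⟨i, rfl⟩ := List.mem_iff_get.1 hp
  exact ⟨⟨⟨i, hx⟩, 0⟩, rfl⟩

end Induction

end Groth.Agent.Lib.Seat96.IdealGen
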