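import Groth.Agent.Lib.Seat96SerreCoh
import Groth.Prelude.Def_KZero

/-!
# Dévissage for Grothendieck groups of coherent modules (seat 96)

Namespace `Groth.Agent.Lib.Seat96.K0Dev`.

For an object property `P` of `X.Modules` (e.g. coherent, or coherent with support in a closed subset) and a
subgroup `H` of `KZero.K0sub P`, the class `K M := clSub P M ∈ H` satisfies helper21's dévissage hypotheses
`Seat21.Dev.Hyp K X'` as soon as `P` contains the zero objects, is invariant under isomorphism and holds for
all three terms of a short exact sequence of coherent modules with middle term supported in `X'`.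

* `clSub_of`, `clSub_rel`, `clSub_zero`, `hyp_clSub_mem`, `closure_eq_top_of_forall`.
-/

set_option autoImplicit false
set_option linter.style.haveILetI false
universe u
open CategoryTheory Limits AlgebraicGeometry TopologicalSpace Opposite

noncomputable section

namespace Groth.Agent.Lib.Seat96.K0Dev

open Groth.Agent.Lib.Seat21.Dev

variable {X : Scheme.{u}} (P : ObjectProperty X.Modules)

theorem clSub_of (M : X.Modules) (hM : P M) :
    KZero.clSub P M = QuotientAddGroup.mk (FreeAbelianGroup.of (⟨M, hM⟩ : Subtype P)) := by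
  classical
  unfold KZero.clSub
  rw [dif_pos hM]

theorem clSub_of_not (M : X.Modules) (hM : ¬ P M) : KZero.clSub P M = 0 := by
  classical
  unfold KZero.clSub
  rw [dif_neg hM]

theorem clSub_rel (S : ShortComplex X.Modules) (hS : S.ShortExact) (h₁ : P S.X₁) (h₂ : P S.X₂) (h₃ : P S.X₃) :
    KZero.clSub P S.X₂ = KZero.clSub P S.X₁ + KZero.clSub P S.X₃ := by
  rw [clSub_of P _ h₁, clSub_of P _ h₂, clSub_of P _ h₃, ← QuotientAddGroup.mk_add, QuotientAddGroup.eq]
  have hmem : FreeAbelianGroup.of (⟨S.X₂, h₂⟩ : Subtype P) - FreeAbelianGroup.of ⟨S.X₁, h₁⟩ -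
      FreeAbelianGroup.of ⟨S.X₃, h₃⟩ ∈ KZero.relSub P :=
    AddSubgroup.subset_closure ⟨S, h₁, h₂, h₃, hS, rfl⟩
  have hneg := (KZero.relSub P).neg_mem hmem
  convert hneg using 1
  abel

theorem clSub_zero (hPz : ∀ M : X.Modules, IsZero M → P M) (M : X.Modules) (hM : IsZero M) :
    KZero.clSub P M = 0 := by
  have hS : (ShortComplex.mk (0 : M ⟶ M) (0 : M ⟶ M) zero_comp).ShortExact := by
    haveI : Mono (0 : M ⟶ M) := hM.mono _
    haveI : Epi (0 : M ⟶ M) := hM.epi _
    refine ShortComplex.ShortExact.mk' ?_ inferInstance inferInstance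
    exact ShortComplex.exact_of_isZero_X₂ _ hM
  have h := clSub_rel P _ hS (hPz M hM) (hPz M hM) (hPz M hM)
  simpa using h

/-- the support of a zero module is empty -/
theorem support_of_isZero (M : X.Modules) (hM : IsZero M) : CohB1.support M = ∅ := by
  rw [Set.eq_empty_iff_forall_notMem]
  intro z hz
  rw [mem_support_iff] at hz
  apply hz
  have h0 : ∀ (U : X.Opens) (t : Γ(M, U)), t = 0 := by
    intro U t
    have hid : 𝟙 M = 0 := hM.eq_of_src _ _
    have h1 : (𝟙 M : M ⟶ M).app U t = (0 : M ⟶ M).app U t := by rw [hid]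
    simpa using h1
  refine ⟨fun a b => ?_⟩
  obtain ⟨V, hzV, s, rfl⟩ := Groth.Agent.Lib.Helper1.StalkTensor.exists_gm_eq
    (P := Groth.Agent.Lib.Helper1.StalkTensor.toPM M) a
  obtain ⟨V', hzV', s', rfl⟩ := Groth.Agent.Lib.Helper1.StalkTensor.exists_gm_eq
    (P := Groth.Agent.Lib.Helper1.StalkTensor.toPM M) b
  have e1 : s = 0 := h0 V s
  have e2 : s' = 0 := h0 V' s'
  rw [e1, e2, map_zero, map_zero]

/-- the dévissage hypotheses for membership of classes in a subgroup of `K₀` -/
theorem hyp_clSub_mem (X' : Set X) (hPz : ∀ M : X.Modules, IsZero M → P M)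
    (hPiso : ∀ M N : X.Modules, (M ≅ N) → P M → P N)
    (hPex : ∀ S : ShortComplex X.Modules, S.ShortExact → Coh.IsCoh S.X₁ → Coh.IsCoh S.X₂ → Coh.IsCoh S.X₃ →
      CohB1.support S.X₂ ⊆ X' → P S.X₁ ∧ P S.X₂ ∧ P S.X₃)
    (H : AddSubgroup (KZero.K0sub P)) : Hyp (fun M : X.Modules => KZero.clSub P M ∈ H) X' :=
  { iso := by
      rintro M N ⟨e⟩ hKM
      by_cases hM : P M
      · have hN : P N := hPiso M N e hM
        have hZ : IsZero (kernel e.hom) := isZero_kernel_of_mono e.hom
        have h := clSub_rel P _ (shortExact_kernel e.hom) (hPz _ hZ) hM hN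
        rw [clSub_zero P hPz _ hZ, zero_add] at h
        change KZero.clSub P N ∈ H
        rw [← h]
        exact hKM
      · have hN : ¬ P N := fun hN => hM (hPiso N M e.symm hN)
        change KZero.clSub P N ∈ H
        rw [clSub_of_not P N hN]
        exact H.zero_mem
    zero := by
      intro M hM
      rw [clSub_zero P hPz M hM]
      exact H.zero_mem
    ex := by
      intro S hS h1 h2 h3 hsupp
      obtain ⟨hP₁, hP₂, hP₃⟩ := hPex S hS h1 h2 h3 hsupp
      have h := clSub_rel P S hS hP₁ hP₂ hP₃
      refine ⟨fun k1 k2 => ?_, fun k1 k3 => ?_, fun k2 k3 => ?_⟩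
      · have : KZero.clSub P S.X₃ = KZero.clSub P S.X₂ - KZero.clSub P S.X₁ := by rw [h]; abel
        rw [this]
        exact H.sub_mem k2 k1
      · rw [h]
        exact H.add_mem k1 k3
      · have : KZero.clSub P S.X₁ = KZero.clSub P S.X₂ - KZero.clSub P S.X₃ := by rw [h]; abel
        rw [this]
        exact H.sub_mem k2 k3 }

/-- a subgroup of `K₀` containing all classes is everything -/
theorem eq_top_of_forall_clSub_mem (H : AddSubgroup (KZero.K0sub P))
    (h : ∀ M : X.Modules, P M → KZero.clSub P M ∈ H) : H = ⊤ := by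
  rw [eq_top_iff]
  intro x hx
  clear hx
  obtain ⟨x, rfl⟩ := QuotientAddGroup.mk_surjective x
  induction x using FreeAbelianGroup.induction_on with
  | zero => exact H.zero_mem
  | of M =>
    obtain ⟨M, hM⟩ := M
    rw [← clSub_of P M hM]
    exact h M hM
  | neg M ih =>
    rw [QuotientAddGroup.mk_neg]
    exact H.neg_mem ih
  | add x y hx hy =>
    rw [QuotientAddGroup.mk_add]
    exact H.add_mem hx hy

end Groth.Agent.Lib.Seat96.K0Dev
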