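import Groth.Agent.Lib.Seat96K0Len
import Groth.Agent.Lib.Seat11AssStalk
import Groth.Agent.Lib.Helper2RankLoc
import Groth.Agent.Lib.Seat63CohThick

/-!
# The dimension filtration on `K₀` of coherent modules (seat 96)

Namespace `Groth.Agent.Lib.Seat96.K0Dim`.

* `filtLT n`: the subgroup of `K₀(Coh X)` generated by the classes of coherent modules with support of
  dimension `< n`.
* `main_dim`: `KLen (dim closure{x} = n) (filtLT n) F` for coherent `F` with support in a closed set of
  dimension `≤ n` (`[F] ≡ ∑ length(F_x) [O_{Z(x)}]` modulo `filtLT n`).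
* `length_tensorMod`: `length (E ⊗ F)_x = e * length F_x` for `E` finite locally free of rank `e ≥ 1`.
* `isCoh_tensorMod`.
-/

set_option autoImplicit false
set_option linter.style.haveILetI false
universe u
open CategoryTheory Limits AlgebraicGeometry TopologicalSpace Opposite TensorProduct

noncomputable section

namespace Groth.Agent.Lib.Seat96.K0Dim

open Groth.Agent.Lib.Seat96.K0Len Groth.Agent.Lib.Seat96.K0Dev

variable {X : Scheme.{u}}

/-- classes of coherent modules with support of dimension `< n` -/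
def filtLT (X : Scheme.{u}) (n : ℕ) : AddSubgroup (KZero.K0sub (fun M : X.Modules => Coh.IsCoh M)) :=
  AddSubgroup.closure {c : KZero.K0sub (fun M : X.Modules => Coh.IsCoh M) |
    ∃ G : X.Modules, Coh.IsCoh G ∧ topologicalKrullDim ↥(CohB1.support G) < n ∧
      c = KZero.clSub (fun M : X.Modules => Coh.IsCoh M) G}

theorem main_dim [IsNoetherian X] (n : ℕ) (X' : Set X) (hX' : IsClosed X')
    (hdim : topologicalKrullDim ↥X' ≤ n) (F : X.Modules) (hF : Coh.IsCoh F) (hFX' : CohB1.support F ⊆ X') :
    KLen (fun x : X => topologicalKrullDim ↥(closure ({x} : Set ↥X)) = n) (filtLT X n) F := by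
  have hdimle : ∀ y ∈ X', topologicalKrullDim ↥(closure ({y} : Set ↥X)) ≤ n := by
    intro y hy
    have hsub : closure ({y} : Set ↥X) ⊆ X' := hX'.closure_subset_iff.2 (Set.singleton_subset_iff.2 hy)
    exact (Topology.IsEmbedding.inclusion hsub).isInducing.topologicalKrullDim_le.trans hdim
  have hT : ∀ t : ↥X, topologicalKrullDim ↥(closure ({t} : Set ↥X)) = n → ∀ y ∈ X',
      t ∈ closure ({y} : Set ↥X) → y = t := by
    intro t ht y hy hty
    by_contra hne
    have hsub : closure ({t} : Set ↥X) ⊆ closure ({y} : Set ↥X) :=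
      closure_minimal (Set.singleton_subset_iff.2 hty) isClosed_closure
    have hne' : closure ({t} : Set ↥X) ≠ closure ({y} : Set ↥X) := by
      intro h
      exact hne ((inseparable_iff_closure_eq.2 h).eq).symm
    have h1 := topologicalKrullDim_add_one_le hsub isClosed_closure isIrreducible_singleton.closure hne'
    rw [ht] at h1
    have h2 : ((n + 1 : ℕ) : WithBot ℕ∞) ≤ (n : ℕ) := by
      push_cast
      exact h1.trans (hdimle y hy)
    have h3 : n + 1 ≤ n := by exact_mod_cast h2
    omega
  refine main (fun x : ↥X => topologicalKrullDim ↥(closure ({x} : Set ↥X)) = n) X' hX' hT (filtLT X n) ?_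
    F hF hFX'
  intro y hy hny
  refine AddSubgroup.subset_closure ⟨Cyc.closureStructureSheaf y, isCoh_closureStructureSheaf y, ?_, rfl⟩
  rw [support_closureStructureSheaf]
  exact lt_of_le_of_ne (hdimle y hy) hny

/-- the tensor product of coherent modules is coherent -/
theorem isCoh_tensorMod (F G : X.Modules) (hF : Coh.IsCoh F) (hG : Coh.IsCoh G) :
    Coh.IsCoh (CohB1.tensorMod F G) := by
  haveI : F.IsQuasicoherent := hF.1
  haveI : SheafOfModules.IsFiniteType (R := X.ringCatSheaf) F := hF.2
  haveI : G.IsQuasicoherent := hG.1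
  haveI : SheafOfModules.IsFiniteType (R := X.ringCatSheaf) G := hG.2
  exact ⟨Groth.Agent.Lib.Helper23.TensorQCoh.isQuasicoherent_tensorMod F G,
    Groth.Agent.Lib.Helper23.TensorQCoh.isFiniteType_tensorMod F G⟩

theorem isCoh_of_isFinLocFreeOfRank {e : ℕ} {E : X.Modules} (hE : FlatMod.IsFinLocFreeOfRank e E) :
    Coh.IsCoh E :=
  Groth.Agent.Lib.Seat63.CohThick.isCoh_of_isFinLocFree E (fun x => by
    obtain ⟨U, hxU, h⟩ := hE x
    exact ⟨U, e, hxU, h⟩)

/-- the stalks of a finite locally free module of rank `e ≥ 1` -/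
theorem nonempty_stalk_linearEquiv {e : ℕ} (he : 1 ≤ e) {E : X.Modules} (hE : FlatMod.IsFinLocFreeOfRank e E)
    (x : X) : Nonempty (E.presheaf.stalk x ≃ₗ[X.presheaf.stalk x] (Fin e → X.presheaf.stalk x)) := by
  haveI : E.IsQuasicoherent := (isCoh_of_isFinLocFreeOfRank hE).1
  obtain ⟨U, hxU, ⟨iso⟩⟩ := hE x
  obtain ⟨hfree, hrk⟩ := Groth.Agent.Lib.Helper2.RankLoc.fibreRank_eq_of_restrict_iso_freeMod U.ι E iso ⟨x, hxU⟩
  change Module.Free (X.presheaf.stalk x) (E.presheaf.stalk x) at hfree
  change Groth.Agent.Lib.Helper2.RankLoc.fibreRank E x = e at hrk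
  haveI := hfree
  have h1 : Module.finrank (X.presheaf.stalk x) (E.presheaf.stalk x) = e := by
    rw [← hrk]
    exact (Module.finrank_baseChange (R := IsLocalRing.ResidueField (X.presheaf.stalk x))
      (S := X.presheaf.stalk x) (M' := E.presheaf.stalk x)).symm
  haveI : Module.Finite (X.presheaf.stalk x) (E.presheaf.stalk x) :=
    Module.finite_of_finrank_pos (by rw [h1]; exact he)
  exact ⟨LinearEquiv.ofFinrankEq _ _ (by rw [h1, Module.finrank_fin_fun])⟩

theorem length_tensorMod {e : ℕ} (he : 1 ≤ e) {E : X.Modules} (hE : FlatMod.IsFinLocFreeOfRank e E)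
    (F : X.Modules) (x : X) :
    Module.length (X.presheaf.stalk x) ((CohB1.tensorMod E F).presheaf.stalk x) =
      e * Module.length (X.presheaf.stalk x) (F.presheaf.stalk x) := by
  obtain ⟨φ⟩ := nonempty_stalk_linearEquiv he hE x
  have e1 := Groth.Agent.Lib.Seat11.AssStalk.stalkTensorEquiv E F x
  have e2 : (E.presheaf.stalk x) ⊗[X.presheaf.stalk x] (F.presheaf.stalk x) ≃ₗ[X.presheaf.stalk x]
      (Fin e → F.presheaf.stalk x) :=
    (TensorProduct.congr φ (LinearEquiv.refl _ _)) ≪≫ₗ TensorProduct.comm _ _ _ ≪≫ₗ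
      TensorProduct.piScalarRight (X.presheaf.stalk x) (X.presheaf.stalk x) (F.presheaf.stalk x) (Fin e)
  rw [(e1 ≪≫ₗ e2).length_eq, Module.length_pi, ENat.card_eq_coe_fintype_card, Fintype.card_fin]

end Groth.Agent.Lib.Seat96.K0Dim
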