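import Groth.Agent.Lib.Seat96K0Dev
import Groth.Prelude.Def_ChowK

/-!
# Lengths of stalks at maximal points and the Grothendieck group of coherent modules (seat 96)

Namespace `Groth.Agent.Lib.Seat96.K0Len`.

* `length_shortExact`, `length_eq_zero_iff`, `length_of_rankOne`, `length_of_iso`: lengths of stalks.
* `clSub_iso`: classes of isomorphic modules agree.
* `topologicalKrullDim_add_one_le`: a proper closed subset of an irreducible set has smaller dimension.
* `main`: for a Noetherian scheme `X`, a closed subset `X'` and a set `T` of maximal points of `X'`, every coherent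
  module `F` with support in `X'` has stalks of finite length at the points of `T`, almost all zero, and
  `[F] - ∑ length(F_t) [O_{closure t}]` lies in any subgroup containing the classes `[O_{closure y}]`, `y ∈ X' \ T`.
-/

set_option autoImplicit false
set_option linter.style.haveILetI false
universe u
open CategoryTheory Limits AlgebraicGeometry TopologicalSpace Opposite

noncomputable section

namespace Groth.Agent.Lib.Seat96.K0Len

open Groth.Agent.Lib.Seat21.Dev Groth.Agent.Lib.Helper1.StalkTensor Groth.Agent.Lib.Helper1.Sky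
open Groth.Agent.Lib.Seat96.K0Dev

variable {X : Scheme.{u}}

/-! ### lengths of stalks -/

theorem length_shortExact (S : ShortComplex X.Modules) (hS : S.ShortExact) (y : X) :
    Module.length (X.presheaf.stalk y) (S.X₂.presheaf.stalk y) =
      Module.length (X.presheaf.stalk y) (S.X₁.presheaf.stalk y) +
        Module.length (X.presheaf.stalk y) (S.X₃.presheaf.stalk y) := by
  obtain ⟨h1, h2, h3⟩ := stalk_shortExact y S hS
  exact Module.length_eq_add_of_exact (R := Ox y) (smₗ (toPMMap S.f) y) (smₗ (toPMMap S.g) y) h1 h2 h3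

theorem length_eq_zero_iff (F : X.Modules) (y : X) :
    Module.length (X.presheaf.stalk y) (F.presheaf.stalk y) = 0 ↔ y ∉ CohB1.support F := by
  rw [mem_support_iff, not_not]
  exact Module.length_eq_zero_iff (R := Ox y) (M := St (toPM F) y)

theorem length_of_rankOne {F : X.Modules} {y : X} (h : RankOne F y) :
    Module.length (X.presheaf.stalk y) (F.presheaf.stalk y) = 1 := by
  obtain ⟨e⟩ := h.nonempty_linearEquiv_quotient
  have h1 : Module.length (Ox y) (St (toPM F) y) =
      Module.length (Ox y) (Ox y ⧸ IsLocalRing.maximalIdeal (Ox y)) := e.length_eq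
  have h2 : IsSimpleModule (Ox y) (Ox y ⧸ IsLocalRing.maximalIdeal (Ox y)) :=
    isSimpleModule_iff_quot_maximal.2 ⟨_, inferInstance, ⟨LinearEquiv.refl _ _⟩⟩
  have h3 : Module.length (Ox y) (Ox y ⧸ IsLocalRing.maximalIdeal (Ox y)) = 1 :=
    Module.length_eq_one_iff.2 h2
  exact h1.trans h3

theorem length_of_iso {M N : X.Modules} (e : M ≅ N) (y : X) :
    Module.length (X.presheaf.stalk y) (M.presheaf.stalk y) =
      Module.length (X.presheaf.stalk y) (N.presheaf.stalk y) := by
  have hinj : Function.Injective (smₗ (toPMMap e.hom) y) := by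
    intro a b hab
    have h := congrArg (sm (toPMMap e.inv) y) hab
    simp only [smₗ_apply] at h
    rwa [← sm_comp_apply, ← sm_comp_apply, e.hom_inv_id, sm_id_apply, sm_id_apply] at h
  have hsurj : Function.Surjective (smₗ (toPMMap e.hom) y) := by
    intro b
    refine ⟨sm (toPMMap e.inv) y b, ?_⟩
    rw [smₗ_apply, ← sm_comp_apply, e.inv_hom_id, sm_id_apply]
  exact (LinearEquiv.ofBijective (smₗ (toPMMap e.hom) y) ⟨hinj, hsurj⟩).length_eq

theorem support_of_iso {M N : X.Modules} (e : M ≅ N) : CohB1.support M = CohB1.support N :=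
  le_antisymm (support_subset_of_mono e.hom) (support_subset_of_mono e.inv)

/-! ### classes -/

theorem clSub_iso (P : ObjectProperty X.Modules) (hPz : ∀ M : X.Modules, IsZero M → P M)
    (hPiso : ∀ M N : X.Modules, (M ≅ N) → P M → P N) {M N : X.Modules} (e : M ≅ N) :
    KZero.clSub P M = KZero.clSub P N := by
  by_cases hM : P M
  · have hN : P N := hPiso M N e hM
    have hZ : IsZero (kernel e.hom) := isZero_kernel_of_mono e.hom
    have h := clSub_rel P _ (shortExact_kernel e.hom) (hPz _ hZ) hM hN
    rw [clSub_zero P hPz _ hZ, zero_add] at h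
    exact h
  · have hN : ¬ P N := fun hN => hM (hPiso N M e.symm hN)
    rw [clSub_of_not P M hM, clSub_of_not P N hN]

/-! ### dimension -/

/-- a proper closed subset of an irreducible set has strictly smaller dimension -/
theorem topologicalKrullDim_add_one_le {W : Type*} [TopologicalSpace W] {A B : Set W} (hAB : A ⊆ B)
    (hA : IsClosed A) (hB : IsIrreducible B) (hne : A ≠ B) :
    topologicalKrullDim A + 1 ≤ topologicalKrullDim B := by
  rcases isEmpty_or_nonempty (IrreducibleCloseds A) with hemp | hnon
  · have : topologicalKrullDim A = ⊥ := Order.krullDim_eq_bot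
    rw [this, WithBot.bot_add]
    exact bot_le
  · have hind : Topology.IsInducing (Set.inclusion hAB) := (Topology.IsEmbedding.inclusion hAB).isInducing
    -- the whole of `B` as an irreducible closed subset of itself
    have huniv : IsIrreducible (Set.univ : Set B) := by
      haveI : IrreducibleSpace B := isIrreducible_iff_irreducibleSpace.1 hB
      exact IrreducibleSpace.isIrreducible_univ B
    let top : IrreducibleCloseds B := ⟨Set.univ, huniv, isClosed_univ⟩
    let f : WithTop (IrreducibleCloseds A) → IrreducibleCloseds B := fun z =>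
      match z with
      | ⊤ => top
      | (Z : IrreducibleCloseds A) => IrreducibleCloseds.map (Set.inclusion hAB) hind.continuous Z
    -- the image of `A` in `B` is a proper closed subset
    obtain ⟨b, hbB, hbA⟩ : ∃ b, b ∈ B ∧ b ∉ A := by
      by_contra hcon
      exact hne (le_antisymm hAB (fun x hx => by
        by_contra hxA
        exact hcon ⟨x, hx, hxA⟩))
    have hlt : ∀ Z : IrreducibleCloseds A,
        IrreducibleCloseds.map (Set.inclusion hAB) hind.continuous Z < top := by
      intro Z
      refine lt_of_le_of_ne (fun x _ => Set.mem_univ x) ?_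
      intro h
      have hmem : (⟨b, hbB⟩ : B) ∈ (IrreducibleCloseds.map (Set.inclusion hAB) hind.continuous Z : Set B) := by
        rw [h]; exact Set.mem_univ _
      rw [IrreducibleCloseds.coe_map] at hmem
      have hcl : IsClosed {x : B | (x : W) ∈ A} := hA.preimage continuous_subtype_val
      have hsub : Set.inclusion hAB '' (Z : Set A) ⊆ {x : B | (x : W) ∈ A} := by
        rintro _ ⟨a, _, rfl⟩
        exact a.2
      exact hbA (closure_minimal hsub hcl hmem)
    have hf : StrictMono f := by
      intro a c hac
      induction a using WithTop.recTopCoe with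
      | top => exact absurd hac (not_top_lt)
      | coe a =>
        induction c using WithTop.recTopCoe with
        | top => exact hlt a
        | coe c =>
          exact IrreducibleCloseds.map_strictMono_of_isInducing hind (WithTop.coe_lt_coe.1 hac)
    have := Order.krullDim_le_of_strictMono f hf
    rw [Order.krullDim_WithTop] at this
    exact this

/-! ### the dévissage -/

/-- the class of the structure sheaf of the reduced closure of a point -/
abbrev clO (y : X) : KZero.K0sub (fun M : X.Modules => Coh.IsCoh M) :=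
  KZero.clSub (fun M : X.Modules => Coh.IsCoh M) (Cyc.closureStructureSheaf y)

/-- the dévissage predicate: the stalks of `F` at the points of `p` have finite lengths `c`, almost all zero, and
`[F] - ∑ c_t [O_{closure t}] ∈ H`. -/
def KLen (p : X → Prop) (H : AddSubgroup (KZero.K0sub (fun M : X.Modules => Coh.IsCoh M))) (F : X.Modules) : Prop :=
  ∃ c : X →₀ ℕ, (∀ t, p t → Module.length (X.presheaf.stalk t) (F.presheaf.stalk t) = c t) ∧
    (∀ t, ¬ p t → c t = 0) ∧
    KZero.clSub (fun M : X.Modules => Coh.IsCoh M) F - c.sum (fun t k => k • clO t) ∈ H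

theorem enat_aux (k m : ℕ) (L : ℕ∞) (h : (m : ℕ∞) = k + L) : L = ((m - k : ℕ) : ℕ∞) ∧ k ≤ m := by
  have hL : L ≠ ⊤ := by
    rintro rfl
    rw [add_top] at h
    exact ENat.natCast_ne_top m h
  lift L to ℕ using hL
  have h' : m = k + L := by exact_mod_cast h
  refine ⟨?_, by omega⟩
  have : L = m - k := by omega
  rw [this]

theorem sum_aux {G : Type*} [AddCommGroup G] (g : X → G) (c₁ c₂ c₃ : X →₀ ℕ) (hc : c₂ = c₁ + c₃)
    (a₁ a₂ a₃ : G) (ha : a₂ = a₁ + a₃) :
    a₂ - c₂.sum (fun t k => k • g t) = (a₁ - c₁.sum (fun t k => k • g t)) + (a₃ - c₃.sum (fun t k => k • g t)) := by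
  rw [hc, ha, Finsupp.sum_add_index' (h := fun t k => k • g t) (fun t => zero_smul _ _)
    (fun t k k' => add_smul _ _ _)]
  abel

theorem isCoh_closureStructureSheaf (x : X) : Coh.IsCoh (Cyc.closureStructureSheaf x) :=
  isCoh_quotMod (Scheme.IdealSheafData.vanishingIdeal ⟨closure {x}, isClosed_closure⟩)

theorem support_closureStructureSheaf (x : X) : CohB1.support (Cyc.closureStructureSheaf x) = closure {x} :=
  Groth.Agent.Lib.Seat96.SerreCoh.support_quotMod_vanishingIdeal (X := X) (Z := closure {x}) isClosed_closure

theorem rankOne_closureStructureSheaf (x : X) : RankOne (Cyc.closureStructureSheaf x) x :=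
  rankOne_quotMod isClosed_closure rfl

variable [IsNoetherian X]

theorem hyp_KLen (p : X → Prop) (H : AddSubgroup (KZero.K0sub (fun M : X.Modules => Coh.IsCoh M))) (X' : Set X) :
    Hyp (KLen p H) X' := by
  have hPz : ∀ M : X.Modules, IsZero M → (fun M : X.Modules => Coh.IsCoh M) M := fun M hM => isCoh_of_isZero hM
  have hPiso : ∀ M N : X.Modules, (M ≅ N) → (fun M : X.Modules => Coh.IsCoh M) M →
      (fun M : X.Modules => Coh.IsCoh M) N := fun M N e hM => isCoh_of_iso e hM
  refine ⟨?_, ?_, ?_⟩
  · rintro M N ⟨e⟩ ⟨c, h1, h2, h3⟩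
    refine ⟨c, fun t ht => ?_, h2, ?_⟩
    · rw [← length_of_iso e t]
      exact h1 t ht
    · rw [← clSub_iso _ hPz hPiso e]
      exact h3
  · intro M hM
    refine ⟨0, fun t _ => ?_, fun _ _ => rfl, ?_⟩
    · rw [Finsupp.zero_apply, Nat.cast_zero, length_eq_zero_iff, support_of_isZero M hM]
      exact Set.notMem_empty t
    · rw [Finsupp.sum_zero_index, sub_zero, clSub_zero _ hPz M hM]
      exact H.zero_mem
  · intro S hS hc1 hc2 hc3 _
    have ha := clSub_rel (fun M : X.Modules => Coh.IsCoh M) S hS hc1 hc2 hc3
    have hL := length_shortExact S hS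
    refine ⟨?_, ?_, ?_⟩
    · rintro ⟨c₁, h11, h12, h13⟩ ⟨c₂, h21, h22, h23⟩
      have hle : c₁ ≤ c₂ := by
        intro t
        by_cases ht : p t
        · have := hL t
          rw [h11 t ht, h21 t ht] at this
          exact (enat_aux _ _ _ this).2
        · rw [h12 t ht]
          exact Nat.zero_le _
      have hc : c₂ = c₁ + (c₂ - c₁) := (add_tsub_cancel_of_le hle).symm
      refine ⟨c₂ - c₁, fun t ht => ?_, fun t ht => ?_, ?_⟩
      · have := hL t
        rw [h11 t ht, h21 t ht] at this
        rw [(enat_aux _ _ _ this).1]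
        rfl
      · rw [Finsupp.tsub_apply, h22 t ht, h12 t ht]
      · have := sum_aux (fun t => clO t) c₁ c₂ (c₂ - c₁) hc _ _ _ ha
        have h3 : KZero.clSub (fun M : X.Modules => Coh.IsCoh M) S.X₃ -
            (c₂ - c₁).sum (fun t k => k • clO t) =
            (KZero.clSub (fun M : X.Modules => Coh.IsCoh M) S.X₂ - c₂.sum (fun t k => k • clO t)) -
            (KZero.clSub (fun M : X.Modules => Coh.IsCoh M) S.X₁ - c₁.sum (fun t k => k • clO t)) := by
          rw [this]; abel
        rw [h3]
        exact H.sub_mem h23 h13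
    · rintro ⟨c₁, h11, h12, h13⟩ ⟨c₃, h31, h32, h33⟩
      refine ⟨c₁ + c₃, fun t ht => ?_, fun t ht => ?_, ?_⟩
      · rw [hL t, h11 t ht, h31 t ht, Finsupp.add_apply, Nat.cast_add]
      · rw [Finsupp.add_apply, h12 t ht, h32 t ht]
      · rw [sum_aux (fun t => clO t) c₁ (c₁ + c₃) c₃ rfl _ _ _ ha]
        exact H.add_mem h13 h33
    · rintro ⟨c₂, h21, h22, h23⟩ ⟨c₃, h31, h32, h33⟩
      have hle : c₃ ≤ c₂ := by
        intro t
        by_cases ht : p t
        · have := hL t
          rw [h31 t ht, h21 t ht, add_comm] at this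
          exact (enat_aux _ _ _ this).2
        · rw [h32 t ht]
          exact Nat.zero_le _
      have hc : c₂ = (c₂ - c₃) + c₃ := (tsub_add_cancel_of_le hle).symm
      refine ⟨c₂ - c₃, fun t ht => ?_, fun t ht => ?_, ?_⟩
      · have := hL t
        rw [h31 t ht, h21 t ht, add_comm] at this
        rw [(enat_aux _ _ _ this).1]
        rfl
      · rw [Finsupp.tsub_apply, h22 t ht, h32 t ht]
      · have := sum_aux (fun t => clO t) (c₂ - c₃) c₂ c₃ hc _ _ _ ha
        have h1 : KZero.clSub (fun M : X.Modules => Coh.IsCoh M) S.X₁ -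
            (c₂ - c₃).sum (fun t k => k • clO t) =
            (KZero.clSub (fun M : X.Modules => Coh.IsCoh M) S.X₂ - c₂.sum (fun t k => k • clO t)) -
            (KZero.clSub (fun M : X.Modules => Coh.IsCoh M) S.X₃ - c₃.sum (fun t k => k • clO t)) := by
          rw [this]; abel
        rw [h1]
        exact H.sub_mem h23 h33

/-- **Classes modulo smaller support.** -/
theorem main (p : X → Prop) (X' : Set X) (hX' : IsClosed X')
    (hT : ∀ t, p t → ∀ y ∈ X', t ∈ closure ({y} : Set X) → y = t)
    (H : AddSubgroup (KZero.K0sub (fun M : X.Modules => Coh.IsCoh M)))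
    (hH : ∀ y ∈ X', ¬ p y → clO y ∈ H)
    (F : X.Modules) (hF : Coh.IsCoh F) (hFX' : CohB1.support F ⊆ X') : KLen p H F := by
  refine core (hyp_KLen p H X') hX' ?_ F hF hFX'
  intro Z hZ hirr hZX' y hy _
  subst hy
  have hyX' : y ∈ X' := hZX' (subset_closure rfl)
  refine ⟨Cyc.closureStructureSheaf y, isCoh_closureStructureSheaf y, ?_,
    (support_closureStructureSheaf y).le, ?_⟩
  · by_cases hyT : p y
    · refine ⟨Finsupp.single y 1, ?_, ?_, ?_⟩
      · intro t ht
        by_cases hty : t ∈ closure {y}
        · have := hT t ht y hyX' hty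
          subst this
          rw [Finsupp.single_eq_same, length_of_rankOne (rankOne_closureStructureSheaf y)]
          rfl
        · have hne : t ≠ y := fun h => hty (h ▸ subset_closure rfl)
          rw [Finsupp.single_eq_of_ne hne, Nat.cast_zero, length_eq_zero_iff,
            support_closureStructureSheaf]
          exact hty
      · intro t ht
        exact Finsupp.single_eq_of_ne (fun h => ht (h ▸ hyT))
      · rw [Finsupp.sum_single_index (h := fun t k => k • clO t) (zero_smul _ _), one_smul, sub_self]
        exact H.zero_mem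
    · refine ⟨0, ?_, fun _ _ => rfl, ?_⟩
      · intro t ht
        rw [Finsupp.zero_apply, Nat.cast_zero, length_eq_zero_iff, support_closureStructureSheaf]
        intro hty
        exact hyT (hT t ht y hyX' hty ▸ ht)
      · rw [Finsupp.sum_zero_index, sub_zero]
        exact hH y hyX' hyT
  · intro F' hF' hF'Z hF'1
    exact ⟨F', hF', hF'Z, hF'1.nonempty_linearEquiv (rankOne_closureStructureSheaf y), id⟩

omit [AlgebraicGeometry.IsNoetherian X] in
theorem finsum_eq (p : X → Prop) [DecidablePred p] (F : X.Modules) (c : X →₀ ℕ)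
    (h1 : ∀ t, p t → Module.length (X.presheaf.stalk t) (F.presheaf.stalk t) = c t)
    (h2 : ∀ t, ¬ p t → c t = 0) :
    (finsum fun x : X => if p x then
      (Module.length (X.presheaf.stalk x) (F.presheaf.stalk x)).toNat • clO x else 0) =
      c.sum (fun t k => k • clO t) := by
  have hfun : (fun x : X => if p x then
      (Module.length (X.presheaf.stalk x) (F.presheaf.stalk x)).toNat • clO x else 0) =
      fun x => c x • clO x := by
    funext x
    split_ifs with hx
    · rw [h1 x hx, ENat.toNat_natCast]
    · rw [h2 x hx, zero_smul]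
  rw [hfun, Finsupp.sum]
  apply finsum_eq_sum_of_support_subset
  intro x hx
  rw [Function.mem_support] at hx
  rw [Finset.mem_coe, Finsupp.mem_support_iff]
  intro h0
  exact hx (by rw [h0, zero_smul])

end Groth.Agent.Lib.Seat96.K0Len
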