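import Mathlib.AlgebraicGeometry.Noetherian
import Mathlib.AlgebraicGeometry.AffineScheme
import Mathlib.RingTheory.Polynomial.RationalRoot
import Mathlib.RingTheory.IntegralClosure.IntegrallyClosed
import Mathlib.Topology.Sheaves.SheafCondition.UniqueGluing
import Groth.Prelude.Def_Pi1

/-!
# Normality descends along a fibration `O_Y ≅ f_* O_X` (seat 96)

Namespace `Groth.Agent.Lib.Seat96.NormFib`.

* `exists_mem_forall_mul_eq_zero` : the kernel of a localization of a Noetherian ring is killed by one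
  element of the submonoid.
* `isOpen_germ_ne_zero` : on a locally Noetherian scheme with domain stalks, the support of a section is open.
* `exists_section_of_germs` : gluing a section from a family of germs that is locally a germ of a section.
* `isNormalScheme_of_fibration` : if `X` is locally Noetherian and normal and `f : X ⟶ Y` induces bijections
  `Γ(Y, V) → Γ(X, f⁻¹V)`, then `Y` is normal.
-/

set_option autoImplicit false
set_option linter.style.haveILetI false
universe u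
open CategoryTheory CategoryTheory.Limits AlgebraicGeometry TopologicalSpace Opposite

namespace Groth.Agent.Lib.Seat96.NormFib

theorem exists_mem_forall_mul_eq_zero {R S : Type*} [CommRing R] [IsNoetherianRing R] [CommRing S]
    [Algebra R S] (M : Submonoid R) [IsLocalization M S] :
    ∃ g ∈ M, ∀ s : R, algebraMap R S s = 0 → g * s = 0 := by
  have hfg : (RingHom.ker (algebraMap R S)).FG := IsNoetherian.noetherian _
  obtain ⟨T, hT⟩ := hfg
  have h1 : ∀ t ∈ T, ∃ c : M, (c : R) * t = 0 := fun t ht => by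
    have : t ∈ RingHom.ker (algebraMap R S) := hT ▸ Ideal.subset_span ht
    exact (IsLocalization.map_eq_zero_iff M S t).mp this
  choose! c hc using h1
  classical
  have key : ∀ s ∈ Ideal.span (T : Set R), (∏ t ∈ T, (c t : R)) * s = 0 := by
    intro s hs'
    induction hs' using Submodule.span_induction with
    | mem x hx =>
      rw [← Finset.mul_prod_erase T _ hx, mul_comm _ (∏ t ∈ T.erase x, (c t : R)), mul_assoc,
        hc x hx, mul_zero]
    | zero => exact mul_zero _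
    | add x y _ _ hx hy => rw [mul_add, hx, hy, add_zero]
    | smul a x _ hx => rw [smul_eq_mul, mul_left_comm, hx, mul_zero]
  refine ⟨∏ t ∈ T, (c t : R), prod_mem (fun t _ => (c t).2), ?_⟩
  intro s hs
  apply key
  have : s ∈ RingHom.ker (algebraMap R S) := hs
  rwa [← hT] at this

variable {X : Scheme.{u}}

theorem isOpen_germ_ne_zero [IsLocallyNoetherian X] (hX : ∀ x : X, IsDomain (X.presheaf.stalk x))
    (W : X.Opens) (a : Γ(X, W)) :
    IsOpen {x : X | ∃ hx : x ∈ W, X.presheaf.germ W x hx a ≠ 0} := by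
  rw [isOpen_iff_forall_mem_open]
  rintro x ⟨hxW, hax⟩
  obtain ⟨_, ⟨U, hU, rfl⟩, hxU, hUW⟩ :=
    X.isBasis_affineOpens.exists_subset_of_mem_open hxW W.isOpen
  have hUW' : U ≤ W := hUW
  have : IsNoetherianRing Γ(X, U) := IsLocallyNoetherian.component_noetherian ⟨U, hU⟩
  set aU : Γ(X, U) := X.presheaf.map (homOfLE hUW').op a with haU
  have hgerm : ∀ (z : X) (hz : z ∈ U), X.presheaf.germ U z hz aU = X.presheaf.germ W z (hUW' hz) a :=
    fun z hz => X.presheaf.germ_res_apply (homOfLE hUW') z hz a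
  have hdom := hX x
  -- the element `g`
  obtain ⟨g, hgM, hg⟩ :=
    letI := TopCat.Presheaf.algebra_section_stalk X.presheaf (⟨x, hxU⟩ : U)
    haveI := hU.isLocalization_stalk ⟨x, hxU⟩
    exists_mem_forall_mul_eq_zero (R := Γ(X, U)) (S := X.presheaf.stalk x)
      (hU.primeIdealOf ⟨x, hxU⟩).asIdeal.primeCompl
  have hxg : x ∈ X.basicOpen g := by
    rw [X.mem_basicOpen g x hxU]
    letI := TopCat.Presheaf.algebra_section_stalk X.presheaf (⟨x, hxU⟩ : U)
    haveI := hU.isLocalization_stalk ⟨x, hxU⟩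
    exact IsLocalization.map_units (X.presheaf.stalk x) (⟨g, hgM⟩ : (hU.primeIdealOf ⟨x, hxU⟩).asIdeal.primeCompl)
  refine ⟨(X.basicOpen g : Set X), ?_, (X.basicOpen g).isOpen, hxg⟩
  intro z hzg
  have hzU : z ∈ U := X.basicOpen_le g hzg
  refine ⟨hUW' hzU, fun hz0 => ?_⟩
  rw [← hgerm z hzU] at hz0
  obtain ⟨m, hm⟩ :=
    letI := TopCat.Presheaf.algebra_section_stalk X.presheaf (⟨z, hzU⟩ : U)
    haveI := hU.isLocalization_stalk ⟨z, hzU⟩
    (IsLocalization.map_eq_zero_iff (hU.primeIdealOf ⟨z, hzU⟩).asIdeal.primeCompl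
      (X.presheaf.stalk z) aU).mp hz0
  have hzm : z ∈ X.basicOpen (m : Γ(X, U)) := by
    rw [X.mem_basicOpen _ z hzU]
    letI := TopCat.Presheaf.algebra_section_stalk X.presheaf (⟨z, hzU⟩ : U)
    haveI := hU.isLocalization_stalk ⟨z, hzU⟩
    exact IsLocalization.map_units (X.presheaf.stalk z) m
  -- `germ_x m = 0`
  have h2 : X.presheaf.germ U x hxU (m : Γ(X, U)) = 0 := by
    have h3 : X.presheaf.germ U x hxU (m : Γ(X, U)) * X.presheaf.germ U x hxU aU = 0 := by
      rw [← map_mul, hm, map_zero]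
    rcases mul_eq_zero.mp h3 with h4 | h4
    · exact h4
    · exact absurd ((hgerm x hxU).symm.trans h4) hax
  have h5 : g * (m : Γ(X, U)) = 0 := hg _ h2
  have h6 : z ∈ X.basicOpen (g * (m : Γ(X, U))) := by
    rw [X.basicOpen_mul]
    exact ⟨hzg, hzm⟩
  rw [h5, X.basicOpen_zero] at h6
  exact h6

/-- gluing a section out of a family of germs which is locally the family of germs of a section -/
theorem exists_section_of_germs (W : X.Opens) (δ : ∀ z : X, X.presheaf.stalk z)
    (hδ : ∀ x ∈ W, ∃ (U : X.Opens) (_ : U ≤ W), x ∈ U ∧ ∃ s : Γ(X, U),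
      ∀ (z : X) (hz : z ∈ U), X.presheaf.germ U z hz s = δ z) :
    ∃ d : Γ(X, W), ∀ (z : X) (hz : z ∈ W), X.presheaf.germ W z hz d = δ z := by
  choose U hUW hxU s hs using hδ
  let Uf : W → X.Opens := fun x => U x.1 x.2
  let sf : ∀ i : W, Γ(X, Uf i) := fun x => s x.1 x.2
  have hcompat : TopCat.Presheaf.IsCompatible X.presheaf Uf sf := by
    intro i j
    apply TopCat.Presheaf.section_ext X.sheaf
    intro z hz
    have e1 := X.presheaf.germ_res_apply (Opens.infLELeft (Uf i) (Uf j)) z hz (sf i)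
    have e2 := X.presheaf.germ_res_apply (Opens.infLERight (Uf i) (Uf j)) z hz (sf j)
    exact e1.trans ((hs i.1 i.2 z hz.1).trans ((hs j.1 j.2 z hz.2).symm.trans e2.symm))
  obtain ⟨d, hd, -⟩ := TopCat.Sheaf.existsUnique_gluing' X.sheaf Uf W (fun i => homOfLE (hUW i.1 i.2))
    (fun z hz => Opens.mem_iSup.mpr ⟨⟨z, hz⟩, hxU z hz⟩) sf hcompat
  refine ⟨d, fun z hz => ?_⟩
  have h1 := hd ⟨z, hz⟩
  have h2 := X.presheaf.germ_res_apply (homOfLE (hUW z hz)) z (hxU z hz) d
  rw [← h2]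
  exact (congrArg (X.presheaf.germ (U z hz) z (hxU z hz)) h1).trans (hs z hz z (hxU z hz))

section Algebra
open Polynomial

theorem eval_scaleRoots_map {R S : Type*} [CommRing R] [CommRing S] (f : R →+* S) (p : R[X])
    (hp : p.Monic) (a b : R) :
    ((p.map f).scaleRoots (f b)).eval (f a) = f ((p.scaleRoots b).eval a) := by
  rcases subsingleton_or_nontrivial S with h | h
  · exact Subsingleton.elim _ _
  · have h1 : (p.scaleRoots b).map f = (p.map f).scaleRoots (f b) :=
      map_scaleRoots p b f (by rw [hp.leadingCoeff, map_one]; exact one_ne_zero)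
    rw [← h1, eval_map_apply]

/-- in an integrally closed domain, a "homogeneous integral equation" for `α/β` forces `β ∣ α` -/
theorem exists_mul_eq_of_scaleRoots {O : Type*} [CommRing O] [IsDomain O] [IsIntegrallyClosed O]
    (α β : O) (q : O[X]) (hq : q.Monic) (h : (q.scaleRoots β).eval α = 0) (hβ : β ≠ 0) :
    ∃ d : O, α = β * d := by
  let K := FractionRing O
  have hinj : Function.Injective (algebraMap O K) := IsFractionRing.injective O K
  have hβ' : algebraMap O K β ≠ 0 := fun h0 => hβ (hinj (h0.trans (map_zero _).symm))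
  set x : K := algebraMap O K α / algebraMap O K β with hx
  have h1 : algebraMap O K β * x = algebraMap O K α := by
    rw [hx, mul_div_cancel₀ _ hβ']
  have h2 := scaleRoots_eval₂_mul (p := q) (algebraMap O K) x β
  rw [h1, eval₂_at_apply, h, map_zero] at h2
  have h3 : eval₂ (algebraMap O K) x q = 0 := by
    rcases mul_eq_zero.mp h2.symm with h4 | h4
    · exact absurd (eq_zero_of_pow_eq_zero h4) hβ'
    · exact h4
  have hint : IsIntegral O x := ⟨q, hq, h3⟩
  obtain ⟨d, hd⟩ := IsIntegrallyClosed.algebraMap_eq_of_integral hint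
  refine ⟨d, hinj ?_⟩
  rw [map_mul, hd, h1]

theorem eq_zero_of_scaleRoots_zero {O : Type*} [CommRing O] [IsReduced O]
    (α : O) (q : O[X]) (hq : q.Monic) (h : (q.scaleRoots 0).eval α = 0) : α = 0 := by
  rw [scaleRoots_zero, hq.leadingCoeff, one_smul, eval_pow, eval_X] at h
  exact IsNilpotent.eq_zero ⟨_, h⟩

/-- a criterion for being integrally closed without mentioning the fraction field -/
theorem isIntegrallyClosed_of_scaleRoots {O : Type*} [CommRing O] [IsDomain O]
    (H : ∀ (α β : O) (q : O[X]), q.Monic → (q.scaleRoots β).eval α = 0 → β ≠ 0 → ∃ d : O, α = β * d) :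
    IsIntegrallyClosed O := by
  rw [isIntegrallyClosed_iff (FractionRing O)]
  intro x hx
  obtain ⟨q, hq, hqx⟩ := hx
  obtain ⟨α, ⟨β, hβ⟩, rfl⟩ := IsLocalization.exists_mk'_eq (nonZeroDivisors O) x
  have h1 := scaleRoots_aeval_eq_zero_of_aeval_mk'_eq_zero hqx
  have h2 : (q.scaleRoots β).eval α = 0 := by
    apply IsFractionRing.injective O (FractionRing O)
    rw [map_zero, ← h1, aeval_def, eval₂_at_apply]
  obtain ⟨d, hd⟩ := H α β q hq h2 (nonZeroDivisors.ne_zero hβ)
  refine ⟨d, ?_⟩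
  rw [IsLocalization.eq_mk'_iff_mul_eq, ← map_mul, hd, mul_comm]

end Algebra

theorem isOpen_germ_eq_zero (W : X.Opens) (a : Γ(X, W)) :
    IsOpen {x : X | ∃ hx : x ∈ W, X.presheaf.germ W x hx a = 0} := by
  rw [isOpen_iff_forall_mem_open]
  rintro x ⟨hxW, hax⟩
  obtain ⟨W', hxW', i1, i2, e⟩ := X.presheaf.germ_eq x hxW hxW a 0 (hax.trans (map_zero _).symm)
  refine ⟨(W' : Set X), ?_, W'.isOpen, hxW'⟩
  intro z hz
  refine ⟨i1.le hz, ?_⟩
  rw [← X.presheaf.germ_res_apply i1 z hz a, e, map_zero, map_zero]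

/-- germs of a product, of `1 - e`, ... -/
theorem germ_mul' (W : X.Opens) (z : X) (hz : z ∈ W) (a b : Γ(X, W)) :
    X.presheaf.germ W z hz (a * b) = X.presheaf.germ W z hz a * X.presheaf.germ W z hz b :=
  map_mul (X.presheaf.germ W z hz).hom a b

/-- (P1): on a locally Noetherian scheme with domain stalks, zero divisors on an open are separated by an
idempotent. -/
theorem exists_idempotent_of_mul_eq_zero [IsLocallyNoetherian X]
    (hX : ∀ x : X, IsDomain (X.presheaf.stalk x)) (W : X.Opens) (a b : Γ(X, W)) (hab : a * b = 0) :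
    ∃ e : Γ(X, W), e * e = e ∧ a * e = 0 ∧ b * (1 - e) = 0 := by
  classical
  let δ : ∀ z : X, X.presheaf.stalk z := fun z =>
    if ∃ hz : z ∈ W, X.presheaf.germ W z hz a ≠ 0 then 0 else 1
  have hδ : ∀ x ∈ W, ∃ (U : X.Opens) (_ : U ≤ W), x ∈ U ∧ ∃ s : Γ(X, U),
      ∀ (z : X) (hz : z ∈ U), X.presheaf.germ U z hz s = δ z := by
    intro x hxW
    by_cases hx : X.presheaf.germ W x hxW a = 0
    · refine ⟨⟨_, isOpen_germ_eq_zero W a⟩, fun z hz => hz.1, ⟨hxW, hx⟩, 1, fun z hz => ?_⟩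
      have : ¬ ∃ hz : z ∈ W, X.presheaf.germ W z hz a ≠ 0 := by
        rintro ⟨hz', h⟩
        exact h hz.2
      simp only [δ, if_neg this]
      exact map_one _
    · refine ⟨⟨_, isOpen_germ_ne_zero hX W a⟩, fun z hz => hz.1, ⟨hxW, hx⟩, 0, fun z hz => ?_⟩
      have : ∃ hz : z ∈ W, X.presheaf.germ W z hz a ≠ 0 := hz
      simp only [δ, if_pos this]
      exact map_zero _
  obtain ⟨e, he⟩ := exists_section_of_germs W δ hδ
  have hδ2 : ∀ z, δ z * δ z = δ z := by
    intro z
    by_cases h : ∃ hz : z ∈ W, X.presheaf.germ W z hz a ≠ 0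
    · simp only [δ, if_pos h, mul_zero]
    · simp only [δ, if_neg h, mul_one]
  refine ⟨e, ?_, ?_, ?_⟩
  · apply TopCat.Presheaf.section_ext X.sheaf
    intro z hz
    exact (germ_mul' W z hz e e).trans (((he z hz).symm ▸ hδ2 z : X.presheaf.germ W z hz e * X.presheaf.germ W z hz e = X.presheaf.germ W z hz e))
  · apply TopCat.Presheaf.section_ext X.sheaf
    intro z hz
    refine (germ_mul' W z hz a e).trans ?_
    rw [he z hz]
    by_cases h : ∃ hz : z ∈ W, X.presheaf.germ W z hz a ≠ 0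
    · simp only [δ, if_pos h, mul_zero]; exact (map_zero _).symm
    · have h0 : X.presheaf.germ W z hz a = 0 := by
        by_contra h1
        exact h ⟨hz, h1⟩
      rw [h0, zero_mul]; exact (map_zero _).symm
  · apply TopCat.Presheaf.section_ext X.sheaf
    intro z hz
    refine (germ_mul' W z hz b (1 - e)).trans ?_
    have h1 : X.presheaf.germ W z hz (1 - e) = 1 - δ z := by
      rw [← he z hz]
      exact (map_sub (X.presheaf.germ W z hz).hom 1 e).trans (by rw [map_one])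
    rw [h1]
    by_cases h : ∃ hz : z ∈ W, X.presheaf.germ W z hz a ≠ 0
    · obtain ⟨_, h2⟩ := h
      have h3 : X.presheaf.germ W z hz a * X.presheaf.germ W z hz b = 0 := by
        rw [← germ_mul', hab, map_zero]
      have := hX z
      have h4 : X.presheaf.germ W z hz b = 0 := (mul_eq_zero.mp h3).resolve_left h2
      rw [h4, zero_mul]; exact (map_zero _).symm
    · simp only [δ, if_neg h, sub_self, mul_zero]; exact (map_zero _).symm

/-- (P2): on a locally Noetherian normal scheme, sections over an open satisfy the "divisibility form" of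
being integrally closed. -/
theorem exists_mul_eq_of_scaleRoots_sections [IsLocallyNoetherian X] (hX : Pi1.IsNormalScheme X)
    (W : X.Opens) (a b : Γ(X, W)) (p : Polynomial Γ(X, W)) (hp : p.Monic)
    (h : (p.scaleRoots b).eval a = 0) : ∃ d : Γ(X, W), a = b * d := by
  classical
  have hdom : ∀ x : X, IsDomain (X.presheaf.stalk x) := fun x => (hX x).1
  have hst : ∀ (z : X) (hz : z ∈ W),
      ((p.map (X.presheaf.germ W z hz).hom).scaleRoots (X.presheaf.germ W z hz b)).eval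
        (X.presheaf.germ W z hz a) = 0 := fun z hz => by
    have := eval_scaleRoots_map (X.presheaf.germ W z hz).hom p hp a b
    rw [h, map_zero] at this
    exact this
  have hex : ∀ (z : X) (hz : z ∈ W), X.presheaf.germ W z hz b ≠ 0 →
      ∃ d : X.presheaf.stalk z, X.presheaf.germ W z hz a = X.presheaf.germ W z hz b * d :=
    fun z hz hb => by
      haveI := (hX z).1
      haveI := (hX z).2
      exact exists_mul_eq_of_scaleRoots _ _ _ (hp.map _) (hst z hz) hb
  have hzero : ∀ (z : X) (hz : z ∈ W), X.presheaf.germ W z hz b = 0 →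
      X.presheaf.germ W z hz a = 0 := fun z hz hb => by
    haveI := (hX z).1
    have := hst z hz
    rw [hb] at this
    exact eq_zero_of_scaleRoots_zero _ _ (hp.map _) this
  let δ : ∀ z : X, X.presheaf.stalk z := fun z =>
    if h : ∃ d : X.presheaf.stalk z, ∃ hz : z ∈ W, X.presheaf.germ W z hz b ≠ 0 ∧
      X.presheaf.germ W z hz a = X.presheaf.germ W z hz b * d then h.choose else 0
  have hδ1 : ∀ (z : X) (hz : z ∈ W), X.presheaf.germ W z hz b ≠ 0 →
      X.presheaf.germ W z hz a = X.presheaf.germ W z hz b * δ z := by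
    intro z hz hb
    obtain ⟨d, hd⟩ := hex z hz hb
    have hh : ∃ d : X.presheaf.stalk z, ∃ hz : z ∈ W, X.presheaf.germ W z hz b ≠ 0 ∧
      X.presheaf.germ W z hz a = X.presheaf.germ W z hz b * d := ⟨d, hz, hb, hd⟩
    simp only [δ, dif_pos hh]
    obtain ⟨_, _, h2⟩ := hh.choose_spec
    exact h2
  have hδ0 : ∀ (z : X) (hz : z ∈ W), X.presheaf.germ W z hz b = 0 → δ z = 0 := by
    intro z hz hb
    have hh : ¬ ∃ d : X.presheaf.stalk z, ∃ hz : z ∈ W, X.presheaf.germ W z hz b ≠ 0 ∧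
        X.presheaf.germ W z hz a = X.presheaf.germ W z hz b * d := by
      rintro ⟨d, hz', hb', -⟩
      exact hb' hb
    simp only [δ, dif_neg hh]
  have huniq : ∀ (z : X) (hz : z ∈ W) (d : X.presheaf.stalk z), X.presheaf.germ W z hz b ≠ 0 →
      X.presheaf.germ W z hz a = X.presheaf.germ W z hz b * d → d = δ z := by
    intro z hz d hb hd
    haveI := (hX z).1
    exact mul_left_cancel₀ hb (hd.symm.trans (hδ1 z hz hb))
  have hδ : ∀ x ∈ W, ∃ (U : X.Opens) (_ : U ≤ W), x ∈ U ∧ ∃ s : Γ(X, U),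
      ∀ (z : X) (hz : z ∈ U), X.presheaf.germ U z hz s = δ z := by
    intro x hxW
    by_cases hx : X.presheaf.germ W x hxW b = 0
    · refine ⟨⟨_, isOpen_germ_eq_zero W b⟩, fun z hz => hz.1, ⟨hxW, hx⟩, 0, fun z hz => ?_⟩
      rw [hδ0 z hz.1 hz.2]
      exact map_zero _
    · obtain ⟨U', hxU', s', hs'⟩ := X.presheaf.exists_germ_eq (δ x)
      have e1 : X.presheaf.germ W x hxW a =
          X.presheaf.germ W x hxW b * X.presheaf.germ U' x hxU' s' := by
        rw [hs']
        exact hδ1 x hxW hx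
      let U₁ : X.Opens := U' ⊓ W
      have hxU₁ : x ∈ U₁ := ⟨hxU', hxW⟩
      let iW : U₁ ⟶ W := homOfLE inf_le_right
      let iU' : U₁ ⟶ U' := homOfLE inf_le_left
      let a₁ : Γ(X, U₁) := X.presheaf.map iW.op a
      let b₁ : Γ(X, U₁) := X.presheaf.map iW.op b
      let s₁ : Γ(X, U₁) := X.presheaf.map iU'.op s'
      have ga : ∀ (z : X) (hz : z ∈ U₁), X.presheaf.germ U₁ z hz a₁ = X.presheaf.germ W z hz.2 a :=
        fun z hz => X.presheaf.germ_res_apply iW z hz a
      have gb : ∀ (z : X) (hz : z ∈ U₁), X.presheaf.germ U₁ z hz b₁ = X.presheaf.germ W z hz.2 b :=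
        fun z hz => X.presheaf.germ_res_apply iW z hz b
      have gs : ∀ (z : X) (hz : z ∈ U₁), X.presheaf.germ U₁ z hz s₁ = X.presheaf.germ U' z hz.1 s' :=
        fun z hz => X.presheaf.germ_res_apply iU' z hz s'
      have e2 : X.presheaf.germ U₁ x hxU₁ a₁ = X.presheaf.germ U₁ x hxU₁ (b₁ * s₁) := by
        rw [germ_mul', ga, gb, gs]
        exact e1
      obtain ⟨U₂, hxU₂, i1, i2, e3⟩ := X.presheaf.germ_eq x hxU₁ hxU₁ a₁ (b₁ * s₁) e2
      let N : X.Opens := ⟨_, isOpen_germ_ne_zero hdom W b⟩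
      have hle : U₂ ⊓ N ≤ U' := inf_le_left.trans (i1.le.trans inf_le_left)
      refine ⟨U₂ ⊓ N, inf_le_right.trans (fun z hz => hz.1), ⟨hxU₂, hxW, hx⟩,
        X.presheaf.map (homOfLE hle).op s', fun z hz => ?_⟩
      have hzU₁ : z ∈ U₁ := i1.le hz.1
      have e4 : X.presheaf.germ U₁ z hzU₁ a₁ = X.presheaf.germ U₁ z hzU₁ (b₁ * s₁) := by
        rw [← X.presheaf.germ_res_apply i1 z hz.1 a₁, ← X.presheaf.germ_res_apply i2 z hz.1 (b₁ * s₁),
          e3]
      rw [germ_mul', ga, gb, gs] at e4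
      have e5 := X.presheaf.germ_res_apply (homOfLE hle) z hz s'
      rw [e5]
      exact huniq z hzU₁.2 _ hz.2.2 e4
  obtain ⟨d, hd⟩ := exists_section_of_germs W δ hδ
  refine ⟨d, ?_⟩
  apply TopCat.Presheaf.section_ext X.sheaf
  intro z hz
  refine Eq.trans ?_ (germ_mul' W z hz b d).symm
  rw [hd z hz]
  by_cases hb : X.presheaf.germ W z hz b = 0
  · rw [hb, zero_mul]
    exact hzero z hz hb
  · exact hδ1 z hz hb

section Stalk
open Polynomial

variable {Y : Scheme.{u}} (y : Y)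

theorem germ_comp_res {V' V : Y.Opens} (i : V' ⟶ V) (hy : y ∈ V') :
    (Y.presheaf.germ V' y hy).hom.comp (Y.presheaf.map i.op).hom =
      (Y.presheaf.germ V y (i.le hy)).hom := by
  rw [← CommRingCat.hom_comp, Y.presheaf.germ_res i y hy]

theorem exists_poly_germ (q : (Y.presheaf.stalk y)[X]) :
    ∃ (V : Y.Opens) (hy : y ∈ V) (p : Γ(Y, V)[X]), p.map (Y.presheaf.germ V y hy).hom = q := by
  induction q using Polynomial.induction_on with
  | C z =>
    obtain ⟨V, hy, s, rfl⟩ := Y.presheaf.exists_germ_eq z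
    exact ⟨V, hy, C s, by rw [map_C]⟩
  | add q₁ q₂ ih₁ ih₂ =>
    obtain ⟨V₁, hy₁, p₁, rfl⟩ := ih₁
    obtain ⟨V₂, hy₂, p₂, rfl⟩ := ih₂
    refine ⟨V₁ ⊓ V₂, ⟨hy₁, hy₂⟩,
      p₁.map (Y.presheaf.map (homOfLE (inf_le_left : V₁ ⊓ V₂ ≤ V₁)).op).hom +
      p₂.map (Y.presheaf.map (homOfLE (inf_le_right : V₁ ⊓ V₂ ≤ V₂)).op).hom, ?_⟩
    rw [Polynomial.map_add, map_map, map_map, germ_comp_res, germ_comp_res]
  | monomial n z _ =>
    obtain ⟨V, hy, s, rfl⟩ := Y.presheaf.exists_germ_eq z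
    exact ⟨V, hy, C s * X ^ (n + 1), by rw [Polynomial.map_mul, map_C, Polynomial.map_pow, map_X]⟩

/-- representatives on a common open for a "homogeneous integral equation" in the stalk -/
theorem exists_rep (α β : Y.presheaf.stalk y) (q : (Y.presheaf.stalk y)[X]) (hq : q.Monic)
    (h : (q.scaleRoots β).eval α = 0) :
    ∃ (V : Y.Opens) (hy : y ∈ V) (a b : Γ(Y, V)) (p : Γ(Y, V)[X]), p.Monic ∧
      Y.presheaf.germ V y hy a = α ∧ Y.presheaf.germ V y hy b = β ∧
      (p.scaleRoots b).eval a = 0 := by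
  obtain ⟨V₁, hy₁, p₁, hp₁⟩ := exists_poly_germ y q
  have hl : q ∈ lifts (Y.presheaf.germ V₁ y hy₁).hom := (mem_lifts _).mpr ⟨p₁, hp₁⟩
  obtain ⟨p₁', hp₁', -, hmon⟩ := lifts_and_natDegree_eq_and_monic hl hq
  obtain ⟨V₂, hy₂, a₂, rfl⟩ := Y.presheaf.exists_germ_eq α
  obtain ⟨V₃, hy₃, b₃, rfl⟩ := Y.presheaf.exists_germ_eq β
  let V₀ : Y.Opens := V₁ ⊓ (V₂ ⊓ V₃)
  have hy₀ : y ∈ V₀ := ⟨hy₁, hy₂, hy₃⟩
  let i₁ : V₀ ⟶ V₁ := homOfLE inf_le_left
  let i₂ : V₀ ⟶ V₂ := homOfLE (inf_le_right.trans inf_le_left)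
  let i₃ : V₀ ⟶ V₃ := homOfLE (inf_le_right.trans inf_le_right)
  let p₀ : Γ(Y, V₀)[X] := p₁'.map (Y.presheaf.map i₁.op).hom
  let a₀ : Γ(Y, V₀) := Y.presheaf.map i₂.op a₂
  let b₀ : Γ(Y, V₀) := Y.presheaf.map i₃.op b₃
  have hp₀ : p₀.Monic := hmon.map _
  have ha₀ : Y.presheaf.germ V₀ y hy₀ a₀ = Y.presheaf.germ V₂ y hy₂ a₂ :=
    Y.presheaf.germ_res_apply i₂ y hy₀ a₂
  have hb₀ : Y.presheaf.germ V₀ y hy₀ b₀ = Y.presheaf.germ V₃ y hy₃ b₃ :=
    Y.presheaf.germ_res_apply i₃ y hy₀ b₃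
  have hpq : p₀.map (Y.presheaf.germ V₀ y hy₀).hom = q := by
    rw [map_map, germ_comp_res, hp₁']
  have e0 : Y.presheaf.germ V₀ y hy₀ ((p₀.scaleRoots b₀).eval a₀) = Y.presheaf.germ V₀ y hy₀ 0 := by
    have := eval_scaleRoots_map (Y.presheaf.germ V₀ y hy₀).hom p₀ hp₀ a₀ b₀
    rw [hpq] at this
    refine this.symm.trans ?_
    rw [show (Y.presheaf.germ V₀ y hy₀).hom a₀ = Y.presheaf.germ V₂ y hy₂ a₂ from ha₀,
      show (Y.presheaf.germ V₀ y hy₀).hom b₀ = Y.presheaf.germ V₃ y hy₃ b₃ from hb₀, h]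
    exact (map_zero _).symm
  obtain ⟨V, hy, j1, j2, e1⟩ := Y.presheaf.germ_eq y hy₀ hy₀ _ _ e0
  refine ⟨V, hy, Y.presheaf.map j1.op a₀, Y.presheaf.map j1.op b₀,
    p₀.map (Y.presheaf.map j1.op).hom, hp₀.map _, ?_, ?_, ?_⟩
  · exact (Y.presheaf.germ_res_apply j1 y hy a₀).trans ha₀
  · exact (Y.presheaf.germ_res_apply j1 y hy b₀).trans hb₀
  · have := eval_scaleRoots_map (Y.presheaf.map j1.op).hom p₀ hp₀ a₀ b₀
    refine this.trans ?_
    rw [show (Y.presheaf.map j1.op).hom ((p₀.scaleRoots b₀).eval a₀) =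
      Y.presheaf.map j2.op 0 from e1]
    exact map_zero _

end Stalk

section Main
open Polynomial

variable {Y : Scheme.{u}}

/-- the stalk of `Y` at `y` is a domain if `O_Y → f_* O_X` is bijective on all opens and `X` is locally
Noetherian with domain stalks -/
theorem isDomain_stalk_of_fibration [IsLocallyNoetherian X] (f : X ⟶ Y)
    (hfib : ∀ V : Y.Opens, Function.Bijective (f.app V).hom)
    (hX : ∀ x : X, IsDomain (X.presheaf.stalk x)) (y : Y) : IsDomain (Y.presheaf.stalk y) := by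
  haveI : NoZeroDivisors (Y.presheaf.stalk y) := by
    refine ⟨fun {α β} hαβ => ?_⟩
    obtain ⟨V₁, hy₁, a₁, rfl⟩ := Y.presheaf.exists_germ_eq α
    obtain ⟨V₂, hy₂, b₂, rfl⟩ := Y.presheaf.exists_germ_eq β
    let V₀ : Y.Opens := V₁ ⊓ V₂
    have hy₀ : y ∈ V₀ := ⟨hy₁, hy₂⟩
    let i₁ : V₀ ⟶ V₁ := homOfLE inf_le_left
    let i₂ : V₀ ⟶ V₂ := homOfLE inf_le_right
    let a₀ : Γ(Y, V₀) := Y.presheaf.map i₁.op a₁
    let b₀ : Γ(Y, V₀) := Y.presheaf.map i₂.op b₂
    have ha₀ : Y.presheaf.germ V₀ y hy₀ a₀ = Y.presheaf.germ V₁ y hy₁ a₁ :=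
      Y.presheaf.germ_res_apply i₁ y hy₀ a₁
    have hb₀ : Y.presheaf.germ V₀ y hy₀ b₀ = Y.presheaf.germ V₂ y hy₂ b₂ :=
      Y.presheaf.germ_res_apply i₂ y hy₀ b₂
    have e0 : Y.presheaf.germ V₀ y hy₀ (a₀ * b₀) = Y.presheaf.germ V₀ y hy₀ 0 := by
      refine (map_mul (Y.presheaf.germ V₀ y hy₀).hom a₀ b₀).trans ?_
      rw [show (Y.presheaf.germ V₀ y hy₀).hom a₀ = Y.presheaf.germ V₁ y hy₁ a₁ from ha₀,
        show (Y.presheaf.germ V₀ y hy₀).hom b₀ = Y.presheaf.germ V₂ y hy₂ b₂ from hb₀, hαβ]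
      exact (map_zero _).symm
    obtain ⟨V, hy, j1, j2, e1⟩ := Y.presheaf.germ_eq y hy₀ hy₀ _ _ e0
    let a' : Γ(Y, V) := Y.presheaf.map j1.op a₀
    let b' : Γ(Y, V) := Y.presheaf.map j1.op b₀
    have ha' : Y.presheaf.germ V y hy a' = Y.presheaf.germ V₁ y hy₁ a₁ :=
      (Y.presheaf.germ_res_apply j1 y hy a₀).trans ha₀
    have hb' : Y.presheaf.germ V y hy b' = Y.presheaf.germ V₂ y hy₂ b₂ :=
      (Y.presheaf.germ_res_apply j1 y hy b₀).trans hb₀
    have hab' : a' * b' = 0 := by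
      refine (map_mul (Y.presheaf.map j1.op).hom a₀ b₀).symm.trans ?_
      rw [show (Y.presheaf.map j1.op).hom (a₀ * b₀) = Y.presheaf.map j2.op 0 from e1]
      exact map_zero _
    have hab : (f.app V).hom a' * (f.app V).hom b' = 0 := by
      rw [← map_mul, hab', map_zero]
    obtain ⟨e, he1, he2, he3⟩ := exists_idempotent_of_mul_eq_zero hX (f ⁻¹ᵁ V) _ _ hab
    obtain ⟨e', rfl⟩ := (hfib V).2 e
    have h1 : a' * e' = 0 := (hfib V).1 (by rw [map_mul, he2, map_zero])
    have h2 : b' * (1 - e') = 0 := (hfib V).1 (by rw [map_mul, map_sub, map_one, he3, map_zero])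
    have h3 : e' * e' = e' := (hfib V).1 (by rw [map_mul, he1])
    set ε := (Y.presheaf.germ V y hy).hom e' with hε
    have hε2 : ε * ε = ε := by rw [hε, ← map_mul, h3]
    have hε3 : ε * (1 - ε) = 0 := by rw [mul_sub, mul_one, hε2, sub_self]
    rcases IsLocalRing.isUnit_or_isUnit_one_sub_self ε with hu | hu
    · left
      have h4 : 1 - ε = 0 := hu.mul_right_eq_zero.mp hε3
      have h5 : ε = 1 := (sub_eq_zero.mp h4).symm
      rw [← ha']
      have h6 : (Y.presheaf.germ V y hy).hom a' * ε = 0 := by rw [hε, ← map_mul, h1, map_zero]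
      rw [h5, mul_one] at h6
      exact h6
    · right
      have h4 : ε = 0 := hu.mul_left_eq_zero.mp hε3
      rw [← hb']
      have h6 : (Y.presheaf.germ V y hy).hom b' * (1 - ε) = 0 := by
        rw [hε, ← map_one (Y.presheaf.germ V y hy).hom, ← map_sub, ← map_mul, h2, map_zero]
      rw [h4, sub_zero, mul_one] at h6
      exact h6
  exact NoZeroDivisors.to_isDomain _

/-- **Normality descends along a fibration.** -/
theorem isNormalScheme_of_fibration [IsLocallyNoetherian X] (f : X ⟶ Y)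
    (hfib : ∀ V : Y.Opens, IsIso (f.app V)) (hX : Pi1.IsNormalScheme X) : Pi1.IsNormalScheme Y := by
  have hbij : ∀ V : Y.Opens, Function.Bijective (f.app V).hom := fun V =>
    ConcreteCategory.bijective_of_isIso (f.app V)
  intro y
  have hD : IsDomain (Y.presheaf.stalk y) :=
    isDomain_stalk_of_fibration f hbij (fun x => (hX x).1) y
  refine ⟨hD, isIntegrallyClosed_of_scaleRoots ?_⟩
  intro α β q hq hqe hβ
  obtain ⟨V, hy, a, b, p, hp, rfl, rfl, hpe⟩ := exists_rep y α β q hq hqe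
  have h1 : ((p.map (f.app V).hom).scaleRoots ((f.app V).hom b)).eval ((f.app V).hom a) = 0 := by
    rw [eval_scaleRoots_map _ p hp, hpe, map_zero]
  obtain ⟨d, hd⟩ := exists_mul_eq_of_scaleRoots_sections hX (f ⁻¹ᵁ V) _ _ _ (hp.map _) h1
  obtain ⟨d', rfl⟩ := (hbij V).2 d
  have h2 : a = b * d' := (hbij V).1 (by rw [map_mul]; exact hd)
  exact ⟨(Y.presheaf.germ V y hy).hom d', by rw [h2]; exact map_mul _ _ _⟩

end Main

end Groth.Agent.Lib.Seat96.NormFib
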