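import Mathlib
import Groth.Agent.Lib.Seat96ZeroSch
import Groth.Agent.Lib.Seat96DivFrames

/-!
# The divisor of a nonzero section of an invertible module on an integral scheme (seat 96)

`X` integral, `L` invertible, `s : O_X ⟶ L` nonzero.

* `Frame L s` : affine open `W`, generator `e` of `L` over `W`, coefficient `f` with `s|_W = f • e`; `exists_frameAt`.
* `hom_ext_of_sv'` : a morphism `O_X ⟶ M` is determined by its global section.
* `Frame.f_ne_zero`, `Frame.f_mem_regSub` : the coefficient is a regular section.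
* `Frame.trans_spec`, `Frame.isUnit_trans` : transition functions.
* `secDivisor hL hs : Mero.Divisor X` : the divisor of `s`; `secDivisor_apply`.
* `exists_iso_divMod_secDivisor` : `L ≅ O_X(div s)` carrying `s` to `1`, and `div s` is the divisor of the zero scheme.
-/

set_option autoImplicit false
set_option linter.unusedSectionVars false
universe u
open CategoryTheory Limits AlgebraicGeometry TopologicalSpace Opposite

namespace Groth.Agent.Lib.Seat96.SecDiv

open Mero Groth.Agent.Lib.Helper20.Kmod Groth.Agent.Lib.Helper20.Kmod5 Groth.Agent.S5097 Groth.Agent.S5096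
open Groth.Agent.Lib.Helper23.SecTw Groth.Agent.Lib.Helper6 Groth.Agent.Lib.Helper23.GenLocus
  Groth.Agent.Lib.Helper23.Extend
open Groth.Agent.Lib.Seat96.ZeroSch Groth.Agent.Lib.Seat96.DivFrames

variable {X : Scheme.{u}}

/-- a morphism from the structure module is determined by its global section -/
theorem hom_ext_of_sv' {M : X.Modules} (s t : Coh.structureModule X ⟶ M) (h : sv s ⊤ = sv t ⊤) : s = t := by
  ext U m
  change s.app U m = t.app U m
  have h1 := app_toS s U (ofS U m)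
  have h2 := app_toS t U (ofS U m)
  rw [toS_ofS] at h1 h2
  rw [h1, h2, ← res_sv s (le_top : U ≤ ⊤), ← res_sv t (le_top : U ≤ ⊤), h]

theorem sv_zero {M : X.Modules} (U : X.Opens) : sv (0 : Coh.structureModule X ⟶ M) U = 0 := rfl

/-- a local frame of `L` adapted to the section `s` -/
structure Frame (L : X.Modules) (s : Coh.structureModule X ⟶ L) where
  /-- the open -/
  W : X.Opens
  hW : IsAffineOpen W
  /-- the generator -/
  e : Γ(L, W)
  /-- the coefficient -/
  f : Γ(X, W)
  hs : sv s W = f • e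
  hgen : IsGen L W e

theorem exists_frameAt (L : X.Modules) (hL : PicF.IsInvertible L) (s : Coh.structureModule X ⟶ L) (x : X) :
    ∃ F : Frame L s, x ∈ F.W := by
  obtain ⟨W, hxW, hW, e, f, hs, -, hgen⟩ := exists_frame L hL s x
  exact ⟨⟨W, hW, e, f, hs, hgen⟩, hxW⟩

section trans

variable {L : X.Modules} {s : Coh.structureModule X ⟶ L}

/-- the transition function from `F` to `G` over `A` -/
noncomputable def Frame.trans (F G : Frame L s) {A : X.Opens} (hF : A ≤ F.W) (hG : A ≤ G.W) : Γ(X, A) :=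
  coef G.hgen hG (res L hF F.e)

theorem Frame.trans_spec (F G : Frame L s) {A : X.Opens} (hF : A ≤ F.W) (hG : A ≤ G.W) :
    F.trans G hF hG • res L hG G.e = res L hF F.e := coef_spec G.hgen hG _

theorem Frame.sv_res (F : Frame L s) {A : X.Opens} (hF : A ≤ F.W) :
    sv s A = resf hF F.f • res L hF F.e := by
  rw [← res_sv s hF, F.hs, res_smul]

theorem Frame.f_mul_trans (F G : Frame L s) {A : X.Opens} (hF : A ≤ F.W) (hG : A ≤ G.W) :
    resf hF F.f * F.trans G hF hG = resf hG G.f := by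
  apply (G.hgen A hG).1
  change (resf hF F.f * F.trans G hF hG) • res L hG G.e = resf hG G.f • res L hG G.e
  rw [mul_smul, F.trans_spec G hF hG, ← F.sv_res hF, ← G.sv_res hG]

theorem Frame.trans_mul_trans (F G : Frame L s) {A : X.Opens} (hF : A ≤ F.W) (hG : A ≤ G.W) :
    F.trans G hF hG * G.trans F hG hF = 1 := by
  apply (G.hgen A hG).1
  change (F.trans G hF hG * G.trans F hG hF) • res L hG G.e = (1 : Γ(X, A)) • res L hG G.e
  rw [mul_comm, mul_smul, F.trans_spec G hF hG, G.trans_spec F hG hF, one_smul]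

theorem Frame.isUnit_trans (F G : Frame L s) {A : X.Opens} (hF : A ≤ F.W) (hG : A ≤ G.W) :
    IsUnit (F.trans G hF hG) :=
  IsUnit.of_mul_eq_one _ (F.trans_mul_trans G hF hG)

theorem Frame.trans_unique (F G : Frame L s) {A : X.Opens} (hF : A ≤ F.W) (hG : A ≤ G.W) (g : Γ(X, A))
    (hg : res L hF F.e = g • res L hG G.e) : g = F.trans G hF hG :=
  coef_unique G.hgen hG _ g hg.symm

end trans

section integral

variable [IsIntegral X] {L : X.Modules} {s : Coh.structureModule X ⟶ L}

theorem Frame.f_ne_zero (hL : PicF.IsInvertible L) (hs : s ≠ 0) (F : Frame L s) (hne : Nonempty F.W) : F.f ≠ 0 := by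
  intro hf0
  apply hs
  apply hom_ext_of_sv'
  rw [sv_zero]
  choose G hG using fun x : X => exists_frameAt L hL s x
  refine (modSheaf L).eq_of_locally_eq' (fun x : X => (G x).W) ⊤ (fun x => homOfLE le_top) ?_ _ _ (fun x => ?_)
  · intro x _
    exact Opens.mem_iSup.2 ⟨x, hG x⟩
  · change res L (le_top : (G x).W ≤ ⊤) (sv s ⊤) = res L le_top 0
    rw [res_sv, res_zero, (G x).hs]
    -- compare on the intersection
    have hne' : Nonempty ((G x).W ⊓ F.W : X.Opens) := by
      obtain ⟨y, hy⟩ := hne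
      have h1 : ((G x).W : Set X).Nonempty := ⟨x, hG x⟩
      have h2 : (F.W : Set X).Nonempty := ⟨y, hy⟩
      obtain ⟨z, hz⟩ := (PreirreducibleSpace.isPreirreducible_univ (X := X)) _ _ (G x).W.isOpen F.W.isOpen
        (by simpa using h1) (by simpa using h2)
      exact ⟨⟨z, hz.2.1, hz.2.2⟩⟩
    have h3 := (G x).f_mul_trans F (inf_le_left : (G x).W ⊓ F.W ≤ (G x).W) inf_le_right
    rw [hf0] at h3
    have hz : resf (inf_le_right : (G x).W ⊓ F.W ≤ F.W) (0 : Γ(X, F.W)) = 0 := map_zero _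
    rw [hz] at h3
    have hu := (G x).isUnit_trans F (inf_le_left : (G x).W ⊓ F.W ≤ (G x).W) inf_le_right
    have h4 : resf (inf_le_left : (G x).W ⊓ F.W ≤ (G x).W) (G x).f = 0 := (hu.mul_left_eq_zero).1 h3
    have hinj := map_injective_of_isIntegral X (homOfLE (inf_le_left : (G x).W ⊓ F.W ≤ (G x).W))
    have h5 : (G x).f = 0 := hinj (h4.trans (map_zero _).symm)
    rw [h5, zero_smul]

theorem mem_regSub_of_ne_zero {U : X.Opens} {f : Γ(X, U)} (hf : f ≠ 0) : f ∈ regSub X U := by
  intro x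
  apply mem_nonZeroDivisors_of_ne_zero
  intro h0
  apply hf
  exact germ_injective_of_isIntegral X x.1 x.2 (h0.trans (map_zero _).symm)

theorem Frame.f_mem_regSub (hL : PicF.IsInvertible L) (hs : s ≠ 0) (F : Frame L s) : F.f ∈ regSub X F.W := by
  by_cases hne : Nonempty F.W
  · exact mem_regSub_of_ne_zero (F.f_ne_zero hL hs hne)
  · intro x
    exact absurd ⟨x⟩ hne

/-- the unit `toK f` of a frame -/
noncomputable def Frame.unit (hL : PicF.IsInvertible L) (hs : s ≠ 0) (F : Frame L s) : (Γ(kmod X, F.W))ˣ :=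
  unitOfReg ⟨F.f, F.f_mem_regSub hL hs⟩

/-- the germs of the divisors of two frames agree -/
theorem Frame.germOf_unit_eq (hL : PicF.IsInvertible L) (hs : s ≠ 0) (F G : Frame L s) (y : X)
    (hyF : y ∈ F.W) (hyG : y ∈ G.W) :
    germOf (F.unit hL hs) ⟨y, hyF⟩ = germOf (G.unit hL hs) ⟨y, hyG⟩ := by
  set A : X.Opens := F.W ⊓ G.W with hA
  have hyA : y ∈ A := ⟨hyF, hyG⟩
  have hu := F.isUnit_trans G (inf_le_left : A ≤ F.W) inf_le_right
  have hmul := F.f_mul_trans G (inf_le_left : A ≤ F.W) inf_le_right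
  set g := F.trans G (inf_le_left : A ≤ F.W) inf_le_right with hg
  have hgu : IsUnit (X.presheaf.germ A y hyA g) := hu.map _
  rw [germOf, germOf, QuotientGroup.eq]
  refine ⟨hgu.unit, ?_⟩
  apply Units.ext
  rw [Units.val_mul]
  change algebraMap (X.presheaf.stalk y) (KStalk X y) (X.presheaf.germ A y hyA g) =
    (((Units.map (evalK X F.W ⟨y, hyF⟩).toMonoidHom (F.unit hL hs))⁻¹ : (KStalk X y)ˣ) : KStalk X y) *
      ((G.unit hL hs : (Γ(kmod X, G.W))ˣ) : Γ(kmod X, G.W)).1 ⟨y, hyG⟩
  have h1 : ((G.unit hL hs : (Γ(kmod X, G.W))ˣ) : Γ(kmod X, G.W)).1 ⟨y, hyG⟩ =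
      ((F.unit hL hs : (Γ(kmod X, F.W))ˣ) : Γ(kmod X, F.W)).1 ⟨y, hyF⟩ *
        algebraMap (X.presheaf.stalk y) (KStalk X y) (X.presheaf.germ A y hyA g) := by
    rw [Frame.unit, Frame.unit, unitOfReg_apply, unitOfReg_apply, ← map_mul]
    congr 1
    change X.presheaf.germ G.W y hyG G.f = X.presheaf.germ F.W y hyF F.f * X.presheaf.germ A y hyA g
    rw [← TopCat.Presheaf.germ_res_apply X.presheaf (homOfLE (inf_le_right : A ≤ G.W)) y hyA G.f,
      ← TopCat.Presheaf.germ_res_apply X.presheaf (homOfLE (inf_le_left : A ≤ F.W)) y hyA F.f, ← map_mul]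
    exact congrArg _ hmul.symm
  rw [h1, ← mul_assoc]
  have h2 : (((Units.map (evalK X F.W ⟨y, hyF⟩).toMonoidHom (F.unit hL hs))⁻¹ : (KStalk X y)ˣ) : KStalk X y) *
      ((F.unit hL hs : (Γ(kmod X, F.W))ˣ) : Γ(kmod X, F.W)).1 ⟨y, hyF⟩ = 1 :=
    Units.inv_mul (Units.map (evalK X F.W ⟨y, hyF⟩).toMonoidHom (F.unit hL hs))
  rw [h2, one_mul]

variable (hL : PicF.IsInvertible L) (hs : s ≠ 0)

/-- the chosen frame at a point -/
noncomputable def frameAt (x : X) : Frame L s := Classical.choose (exists_frameAt L hL s x)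

theorem mem_frameAt (x : X) : x ∈ (frameAt (s := s) hL x).W := Classical.choose_spec (exists_frameAt L hL s x)

/-- the divisor of the section `s` -/
noncomputable def secDivisor : Divisor X :=
  ⟨fun y => germOf ((frameAt (s := s) hL y).unit hL hs) ⟨y, mem_frameAt hL y⟩, fun x =>
    ⟨(frameAt (s := s) hL x).W, mem_frameAt hL x, (frameAt (s := s) hL x).unit hL hs, fun y =>
      Frame.germOf_unit_eq hL hs _ _ y.1 (mem_frameAt hL y.1) y.2⟩⟩

theorem secDivisor_apply (F : Frame L s) (y : F.W) :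
    (secDivisor hL hs).1 y.1 = germOf (F.unit hL hs) y :=
  Frame.germOf_unit_eq hL hs _ _ y.1 (mem_frameAt hL y.1) y.2

/-- the generator `f⁻¹` of `O_X(div s)` over a frame -/
noncomputable def Frame.invGen (F : Frame L s) : Γ(divMod (secDivisor hL hs), F.W) :=
  invSec (secDivisor hL hs) (F.unit hL hs) (secDivisor_apply hL hs F) F.W le_rfl

theorem Frame.isGen_invGen (F : Frame L s) : IsGen (divMod (secDivisor hL hs)) F.W (F.invGen hL hs) :=
  isGen_invSec _ _ _ _ _

theorem Frame.unit_apply (F : Frame L s) (y : F.W) :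
    ((F.unit hL hs : (Γ(kmod X, F.W))ˣ) : Γ(kmod X, F.W)).1 y =
      algebraMap (X.presheaf.stalk y.1) (KStalk X y.1) (X.presheaf.germ F.W y.1 y.2 F.f) :=
  unitOfReg_apply _ y

theorem Frame.invGen_apply (F : Frame L s) (y : F.W) :
    (F.invGen hL hs).1 y = (((F.unit hL hs)⁻¹ : (Γ(kmod X, F.W))ˣ) : Γ(kmod X, F.W)).1 y := rfl

/-- elementary: inverses and transition -/
theorem inv_eq_mul_inv_of_eq_mul {R : Type*} [CommRing R] {a a' b b' g : R} (ha : a * a' = 1) (hb : b * b' = 1)
    (h : b = a * g) : a' = g * b' := by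
  calc a' = a' * (b * b') := by rw [hb, mul_one]
    _ = (a * a') * (g * b') := by rw [h]; ring
    _ = g * b' := by rw [ha, one_mul]

/-- the generators `f⁻¹` have the same transition functions as the generators `e` -/
theorem Frame.invGen_compat (F G : Frame L s) (g : Γ(X, F.W ⊓ G.W))
    (hg : res L inf_le_left F.e = g • res L inf_le_right G.e) :
    res (divMod (secDivisor hL hs)) inf_le_left (F.invGen hL hs) =
      g • res (divMod (secDivisor hL hs)) inf_le_right (G.invGen hL hs) := by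
  have hg' : g = F.trans G (inf_le_left : F.W ⊓ G.W ≤ F.W) inf_le_right :=
    F.trans_unique G inf_le_left inf_le_right g hg
  have hmul := F.f_mul_trans G (inf_le_left : F.W ⊓ G.W ≤ F.W) inf_le_right
  rw [← hg'] at hmul
  apply divMod_ext'
  intro y
  rw [divMod_res_apply, divMod_smul_apply', divMod_res_apply, Algebra.smul_def, Frame.invGen_apply,
    Frame.invGen_apply]
  refine inv_eq_mul_inv_of_eq_mul (unit_mul_inv_apply (F.unit hL hs) ⟨y.1, y.2.1⟩)
    (unit_mul_inv_apply (G.unit hL hs) ⟨y.1, y.2.2⟩) ?_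
  rw [Frame.unit_apply, Frame.unit_apply, ← map_mul]
  congr 1
  change X.presheaf.germ G.W y.1 y.2.2 G.f =
    X.presheaf.germ F.W y.1 y.2.1 F.f * X.presheaf.germ (F.W ⊓ G.W) y.1 y.2 g
  rw [← TopCat.Presheaf.germ_res_apply X.presheaf (homOfLE (inf_le_right : F.W ⊓ G.W ≤ G.W)) y.1 y.2 G.f,
    ← TopCat.Presheaf.germ_res_apply X.presheaf (homOfLE (inf_le_left : F.W ⊓ G.W ≤ F.W)) y.1 y.2 F.f,
    ← map_mul]
  exact congrArg _ hmul.symm

/-- **`L ≅ O_X(div s)` carrying `s` to `1`, and `div s` is the divisor of the zero scheme of `s`** -/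
theorem exists_iso_divMod_secDivisor :
    Mero.IsDivOfIdeal (secDivisor hL hs) (PicF2.zeroScheme L s) ∧
      ∃ e : L ≅ Mero.divMod (secDivisor hL hs),
        (Mero.divModι (secDivisor hL hs)).app ⊤ (e.hom.app ⊤ (sv s ⊤)) = 1 := by
  constructor
  · intro x
    set F := frameAt (s := s) hL x with hF
    refine ⟨⟨F.W, F.hW⟩, mem_frameAt hL x, F.f, F.f_mem_regSub hL hs,
      ideal_zeroScheme_eq_span L hL s ⟨F.W, F.hW⟩ F.hgen F.hs, fun y => ?_⟩
    exact (secDivisor_apply hL hs F y).trans (germOf_unitOfReg _ y)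
  · obtain ⟨Φ, hΦ⟩ := exists_iso_of_frames L (divMod (secDivisor hL hs))
      (fun x : X => (frameAt (s := s) hL x).W) (fun x => ⟨x, mem_frameAt hL x⟩)
      (fun x => (frameAt (s := s) hL x).e) (fun x => (frameAt (s := s) hL x).invGen hL hs)
      (fun x => (frameAt (s := s) hL x).hgen) (fun x => (frameAt (s := s) hL x).isGen_invGen hL hs)
      (fun i j g hg => Frame.invGen_compat hL hs _ _ g hg)
    refine ⟨Φ, ?_⟩
    apply kmod_ext
    intro x
    rw [kmod_one_apply, divModι_app_apply]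
    set F := frameAt (s := s) hL x.1 with hF
    have hxF : x.1 ∈ F.W := mem_frameAt hL x.1
    have h1 : (Φ.hom.app ⊤ (sv s ⊤)).1 x =
        (res (divMod (secDivisor hL hs)) (le_top : F.W ≤ ⊤) (Φ.hom.app ⊤ (sv s ⊤))).1 ⟨x.1, hxF⟩ := rfl
    have h2 : res (divMod (secDivisor hL hs)) (le_top : F.W ≤ ⊤) (Φ.hom.app ⊤ (sv s ⊤)) =
        Φ.hom.app F.W (sv s F.W) := by
      rw [← res_sv s (le_top : F.W ≤ ⊤)]
      exact (app_map Φ.hom (homOfLE (le_top : F.W ≤ ⊤)) (sv s ⊤)).symm
    have h3 : Φ.hom.app F.W (sv s F.W) = F.f • F.invGen hL hs := by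
      have := hΦ x.1 F.W le_rfl F.f
      rw [res_self, res_self] at this
      rw [F.hs]
      exact this
    rw [h1, h2, h3, divMod_smul_apply', Algebra.smul_def, Frame.invGen_apply, ← Frame.unit_apply hL hs F ⟨x.1, hxF⟩]
    exact unit_mul_inv_apply (F.unit hL hs) ⟨x.1, hxF⟩

end integral

end Groth.Agent.Lib.Seat96.SecDiv
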