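import Groth.Agent.Lib.Seat21DevAR
import Groth.Agent.Lib.Seat21DevRank
import Groth.Agent.Lib.Seat21DevPushO
import Groth.Agent.Lib.Seat21DevSupp
import Groth.Agent.Lib.Seat21DevFilt

/-!
# Serre classes of coherent modules on a Noetherian scheme (seat 96)

Namespace `Groth.Agent.Lib.Seat96.SerreCoh`.  Built on helper21's dévissage engine (`Seat21.Dev.core`).

* `IsSerre P` : in a short exact sequence of coherent modules, the middle term has `P` iff both outer terms do.
* `IsSerre.of_epi/of_mono/of_iso/zero`, `isSerre_support_subset`, `isSerre_notMem_support`.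
* `exists_rankOne_quotient` : a coherent `F` with `y ∈ Supp F` has a coherent quotient supported in
  `closure {y}` whose stalk at `y` is the residue field.
* `IsSerre.mem_of_support_subset` : a Serre class containing the coherent `F` contains every coherent `E`
  with `Supp E ⊆ Supp F`.
* `support_quotMod_vanishingIdeal` : `Supp (O_X / I_Z) = Z`.
-/

set_option autoImplicit false
set_option linter.style.haveILetI false
universe u
open CategoryTheory Limits AlgebraicGeometry TopologicalSpace Opposite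

noncomputable section

namespace Groth.Agent.Lib.Seat96.SerreCoh

open Groth.Agent.Lib.Helper1.StalkTensor Groth.Agent.Lib.Helper1.Sky Groth.Agent.Lib.Seat21.QSub
open Groth.Agent.Lib.Seat21.Dev

variable {X : Scheme.{u}}

/-- a Serre class on coherent modules -/
def IsSerre (P : ObjectProperty X.Modules) : Prop :=
  ∀ S : ShortComplex X.Modules, S.ShortExact → Coh.IsCoh S.X₁ → Coh.IsCoh S.X₂ → Coh.IsCoh S.X₃ →
    (P S.X₂ ↔ P S.X₁ ∧ P S.X₃)

section Basic

set_option linter.unusedSectionVars false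

variable [IsNoetherian X] {P : ObjectProperty X.Modules} (hP : IsSerre P)
include hP

theorem IsSerre.of_epi {F G : X.Modules} (hF : Coh.IsCoh F) (hG : Coh.IsCoh G) (p : F ⟶ G) [Epi p]
    (h : P F) : P G :=
  ((hP _ (shortExact_kernel p) (isCoh_kernel hF hG p) hF hG).1 h).2

theorem IsSerre.of_mono {F G : X.Modules} (hF : Coh.IsCoh F) (hG : Coh.IsCoh G) (i : F ⟶ G) [Mono i]
    (h : P G) : P F :=
  ((hP _ (shortExact_cokernel i) hF hG (isCoh_cokernel hF hG i)).1 h).1

theorem IsSerre.of_iso {F G : X.Modules} (e : F ≅ G) (hF : Coh.IsCoh F) (h : P F) : P G :=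
  hP.of_epi hF (isCoh_of_iso e hF) e.hom h

theorem IsSerre.zero {F : X.Modules} (hF : Coh.IsCoh F) (h : P F) (M : X.Modules) (hM : IsZero M) : P M := by
  haveI : Epi (0 : F ⟶ M) := hM.epi _
  exact hP.of_epi hF (isCoh_of_isZero hM) (0 : F ⟶ M) h

theorem IsSerre.ext (S : ShortComplex X.Modules) (hS : S.ShortExact) (h1 : Coh.IsCoh S.X₁)
    (h2 : Coh.IsCoh S.X₂) (h3 : Coh.IsCoh S.X₃) (k1 : P S.X₁) (k3 : P S.X₃) : P S.X₂ :=
  (hP S hS h1 h2 h3).2 ⟨k1, k3⟩

end Basic

theorem isSerre_support_subset (C : Set X) : IsSerre (fun M : X.Modules => CohB1.support M ⊆ C) := by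
  intro S hS _ _ _
  change CohB1.support S.X₂ ⊆ C ↔ CohB1.support S.X₁ ⊆ C ∧ CohB1.support S.X₃ ⊆ C
  rw [support_shortExact S hS]
  exact Set.union_subset_iff

theorem isSerre_notMem_support (y : X) : IsSerre (fun M : X.Modules => y ∉ CohB1.support M) := by
  intro S hS _ _ _
  change y ∉ CohB1.support S.X₂ ↔ y ∉ CohB1.support S.X₁ ∧ y ∉ CohB1.support S.X₃
  rw [support_shortExact S hS, Set.mem_union, not_or]

/-! ### the generator -/

/-- germs at a point of `Z` of sections of `I_Z · F` lie in `m_y F_y` -/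
theorem stalkSub_powSub_le [IsNoetherian X] {F : X.Modules} [F.IsQuasicoherent] {Z : Set X} (hZ : IsClosed Z)
    {y : X} (hyZ : y ∈ Z) :
    SubShStalk.stalkSub (powSub (Scheme.IdealSheafData.vanishingIdeal ⟨Z, hZ⟩) 1 F) y ≤
      IsLocalRing.maximalIdeal (Ox y) • (⊤ : Submodule (Ox y) (St (toPM F) y)) := by
  intro a ha
  obtain ⟨V, hyV, s, hs, rfl⟩ := (SubShStalk.mem_stalkSub_iff _ y a).1 ha
  obtain ⟨T, hT, hyT, hTle⟩ := exists_isAffineOpen_mem_and_subset (x := y) (U := V) hyV
  have h1 : res F hTle s ∈ (powSub (Scheme.IdealSheafData.vanishingIdeal ⟨Z, hZ⟩) 1 F).carrier T :=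
    SubSh.res_mem _ hTle hs
  rw [powSub_carrier_eq_of_affine _ 1 hT, pow_one] at h1
  rw [← gmM_res F y hTle hyT s]
  generalize res F hTle s = t at h1
  refine Submodule.smul_induction_on h1 (fun r hr m _ => ?_) (fun x z hx hz => ?_)
  · rw [gmM_smul]
    refine Submodule.smul_mem_smul ?_ Submodule.mem_top
    rw [IsLocalRing.mem_maximalIdeal]
    intro hu
    have hyb : y ∈ X.basicOpen r := (Scheme.mem_basicOpen X r y hyT).2 hu
    exact notMem_of_mem_basicOpen_of_mem_vanishingIdeal hZ hT hr hyb hyZ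
  · rw [map_add]
    exact Submodule.add_mem _ hx hz

/-- the stalk of a quotient by a subsheaf -/
theorem ker_sm_cokernel_ι {F : X.Modules} (N : SubSh F) (y : X) :
    LinearMap.ker (smₗ (toPMMap (cokernel.π N.ι)) y) = SubShStalk.stalkSub N y := by
  haveI : Mono N.ι := SubSh.mono_ι _
  have hex := (stalk_shortExact y _ (shortExact_cokernel N.ι)).2.2
  ext b
  rw [LinearMap.mem_ker]
  constructor
  · intro hb
    obtain ⟨a, ha⟩ := (hex b).1 hb
    exact ⟨a, ha⟩
  · rintro ⟨a, rfl⟩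
    exact (hex _).2 ⟨a, rfl⟩

theorem exists_rankOne_quotient [IsNoetherian X] {F : X.Modules} (hF : Coh.IsCoh F) {Z : Set X}
    (hZ : IsClosed Z) {y : X} (hy : closure {y} = Z) (hyF : y ∈ CohB1.support F) :
    ∃ (G : X.Modules) (p : F ⟶ G), Epi p ∧ Coh.IsCoh G ∧ CohB1.support G ⊆ Z ∧ RankOne G y := by
  haveI := hF.1
  have hyZ : y ∈ Z := hy ▸ subset_closure (Set.mem_singleton y)
  set J := Scheme.IdealSheafData.vanishingIdeal ⟨Z, hZ⟩ with hJ
  let N₁ : SubSh F := powSub J 1 F
  have hN₁q : N₁.QCOn ⊤ := qcOn_powSub J 1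
  have hN₁ : Coh.IsCoh N₁.toModules := isCoh_subSh hF N₁ hN₁q
  haveI : Mono N₁.ι := SubSh.mono_ι _
  have hG₁ : Coh.IsCoh (cokernel N₁.ι) := isCoh_cokernel hN₁ hF _
  -- the support of `F / JF`
  have hG₁Z : CohB1.support (cokernel N₁.ι) ⊆ Z := by
    intro x hx
    by_contra hxZ
    obtain ⟨T, a, ha, hxa⟩ := exists_mem_vanishingIdeal_of_notMem hZ hxZ
    have htop := stalkSub_powSub_eq_top J 1 F x ⟨T, a, ha, hxa⟩
    refine not_mem_support_cokernel N₁.ι x ?_ hx
    intro b
    have hb : b ∈ SubShStalk.stalkSub N₁ x := htop ▸ Submodule.mem_top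
    exact exists_of_mem_stalkSub N₁ x hb
  -- its stalk at `y` is nonzero
  haveI hfin : Module.Finite (Ox y) (St (toPM F) y) := finite_stalk_of_isCoh hF y
  have hyG₁ : Nontrivial (St (toPM (cokernel N₁.ι)) y) := by
    by_contra hnt
    rw [not_nontrivial_iff_subsingleton] at hnt
    have htop : SubShStalk.stalkSub N₁ y = ⊤ := by
      rw [← ker_sm_cokernel_ι N₁ y, eq_top_iff]
      intro b _
      rw [LinearMap.mem_ker]
      exact Subsingleton.elim _ _
    have h1 : (⊤ : Submodule (Ox y) (St (toPM F) y)) ≤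
        IsLocalRing.maximalIdeal (Ox y) • (⊤ : Submodule (Ox y) (St (toPM F) y)) := by
      have h0 := stalkSub_powSub_le (F := F) hZ hyZ
      rw [show SubShStalk.stalkSub (powSub (Scheme.IdealSheafData.vanishingIdeal ⟨Z, hZ⟩) 1 F) y = ⊤
        from htop] at h0
      exact h0
    have h2 : (⊤ : Submodule (Ox y) (St (toPM F) y)) = ⊥ :=
      Submodule.eq_bot_of_le_smul_of_le_jacobson_bot (IsLocalRing.maximalIdeal (Ox y)) ⊤
        Module.Finite.fg_top h1 (IsLocalRing.maximalIdeal_le_jacobson _)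
    have hsub : Subsingleton (St (toPM F) y) := by
      refine ⟨fun a b => ?_⟩
      have ha : a ∈ (⊤ : Submodule (Ox y) (St (toPM F) y)) := Submodule.mem_top
      have hb : b ∈ (⊤ : Submodule (Ox y) (St (toPM F) y)) := Submodule.mem_top
      rw [h2, Submodule.mem_bot] at ha hb
      rw [ha, hb]
    exact (mem_support_iff F y).1 hyF hsub
  -- a maximal submodule of the stalk
  haveI := hG₁.1
  haveI hfin₁ : Module.Finite (Ox y) (St (toPM (cokernel N₁.ι)) y) := finite_stalk_of_isCoh hG₁ y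
  haveI : IsNoetherianRing (Ox y) := inferInstanceAs (IsNoetherianRing (X.presheaf.stalk y))
  obtain ⟨N₀, hN₀, -⟩ := (eq_top_or_exists_le_coatom (⊥ : Submodule (Ox y) (St (toPM (cokernel N₁.ι)) y))).resolve_left
    bot_ne_top
  have hN₀fg : N₀.FG := IsNoetherian.noetherian N₀
  obtain ⟨N, hNq, -, hNs⟩ := SubShStalk.exists_subSh_stalkSub hX_of_isNoetherian y N₀ hN₀fg
  have hNc : Coh.IsCoh N.toModules := isCoh_subSh hG₁ N hNq
  haveI : Mono N.ι := SubSh.mono_ι _
  have hG : Coh.IsCoh (cokernel N.ι) := isCoh_cokernel hNc hG₁ _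
  refine ⟨cokernel N.ι, cokernel.π N₁.ι ≫ cokernel.π N.ι, epi_comp _ _, hG,
    (support_subset_of_epi (cokernel.π N.ι)).trans hG₁Z, ?_⟩
  -- the stalk of the quotient is simple
  have hsurj : Function.Surjective (smₗ (toPMMap (cokernel.π N.ι)) y) := sm_surjective_of_epi _ y
  have hker : LinearMap.ker (smₗ (toPMMap (cokernel.π N.ι)) y) = N₀ := (ker_sm_cokernel_ι N y).trans hNs
  let e : (St (toPM (cokernel N₁.ι)) y ⧸ N₀) ≃ₗ[Ox y] St (toPM (cokernel N.ι)) y :=
    (Submodule.quotEquivOfEq _ _ hker.symm) ≪≫ₗ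
      (smₗ (toPMMap (cokernel.π N.ι)) y).quotKerEquivOfSurjective hsurj
  haveI : IsSimpleModule (Ox y) (St (toPM (cokernel N₁.ι)) y ⧸ N₀) := isSimpleModule_iff_isCoatom.2 hN₀
  have hsimple : IsSimpleModule (Ox y) (St (toPM (cokernel N.ι)) y) := IsSimpleModule.congr e.symm
  exact rankOne_of_length_eq_one (Module.length_eq_one_iff.2 hsimple)

/-! ### the main theorem -/

/-- a Serre class containing the coherent module `F` contains every coherent module supported in `Supp F` -/
theorem IsSerre.mem_of_support_subset [IsNoetherian X] {P : ObjectProperty X.Modules} (hP : IsSerre P)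
    {F : X.Modules} (hF : Coh.IsCoh F) (hPF : P F) {E : X.Modules} (hE : Coh.IsCoh E)
    (hsupp : CohB1.support E ⊆ CohB1.support F) : P E := by
  let K : X.Modules → Prop := fun M => Coh.IsCoh M → P M
  have hyp : Hyp K (CohB1.support F) :=
    { iso := fun M N ⟨e⟩ hM hN => hP.of_iso e (isCoh_of_iso e.symm hN) (hM (isCoh_of_iso e.symm hN))
      zero := fun M hM _ => hP.zero hF hPF M hM
      ex := fun S hS h1 h2 h3 _ =>
        ⟨fun _ k2 _ => ((hP S hS h1 h2 h3).1 (k2 h2)).2,
          fun k1 k3 _ => (hP S hS h1 h2 h3).2 ⟨k1 h1, k3 h3⟩,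
          fun k2 _ _ => ((hP S hS h1 h2 h3).1 (k2 h2)).1⟩ }
  have hcl : IsClosed (CohB1.support F) := Groth.Agent.S0020.result X F hF.2
  refine core hyp hcl ?_ E hE hsupp hE
  intro Z hZ _ hZF y hy _
  have hyZ : y ∈ Z := hy ▸ subset_closure (Set.mem_singleton y)
  obtain ⟨G, p, hp, hG, hGZ, hG1⟩ := exists_rankOne_quotient hF hZ hy (hZF hyZ)
  refine ⟨G, hG, fun _ => hP.of_epi hF hG p hPF, hGZ, ?_⟩
  intro F' hF' hF'Z hF'1
  exact ⟨F', hF', hF'Z, hF'1.nonempty_linearEquiv hG1, id⟩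

/-! ### the structure sheaf of a reduced closed subscheme -/

theorem support_quotMod_vanishingIdeal {Z : Set X} (hZ : IsClosed Z) :
    CohB1.support (ClSub.quotMod (Scheme.IdealSheafData.vanishingIdeal ⟨Z, hZ⟩)) = Z := by
  have hr : Set.range (Scheme.IdealSheafData.vanishingIdeal ⟨Z, hZ⟩).subschemeι = Z :=
    Groth.Agent.Lib.Helper6.EquiSub.range_subschemeι_vanishingIdeal ⟨Z, hZ⟩
  apply Set.Subset.antisymm
  · exact (support_quotMod_subset _).trans hr.le
  · intro z hz
    rw [mem_support_iff]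
    intro hsub
    exact gmM_oneQ_ne_zero _ z (hr ▸ hz) ⊤ trivial (Subsingleton.elim _ _)

end Groth.Agent.Lib.Seat96.SerreCoh
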