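import Mathlib
import Groth.Prelude.Def_FlatMod2
import Groth.Prelude.Def_TorSh
import Groth.Agent.Lib.Helper2QCoh

/-!
# Seat96: torsion-free quasi-coherent modules on integral schemes; modules over sheaves of algebras

ns `Groth.Agent.Lib.Seat96.TorFree`.

* `section_eq_zero_of_germ_generic` : a section of a torsion-free quasi-coherent module on an integral scheme
  whose germ at the generic point vanishes is zero.
* `stalkLinR` : the stalk of a morphism of presheaves of modules over a presheaf of (noncommutative) rings, as a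
  linear map over the stalk of the ring.
* `mono_of_ne_zero_of_simple_generic` : Schur-type statement for modules over a sheaf of algebras.
-/

set_option autoImplicit false
set_option linter.style.haveILetI false
universe u
open CategoryTheory Limits AlgebraicGeometry TopologicalSpace Opposite

namespace Groth.Agent.Lib.Seat96.TorFree

section Key

variable {X : Scheme.{u}} [IsIntegral X]

theorem genericPoint_mem_of_mem {U : X.Opens} {x : X} (hx : x ∈ U) : genericPoint X ∈ U :=
  ((genericPoint_spec X).mem_open_set_iff U.2).2 ⟨x, trivial, hx⟩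

theorem section_eq_zero_of_germ_generic (F : X.Modules) [F.IsQuasicoherent]
    (hF : TorSh.IsTorsionFree F) (U : X.Opens) (t : Γ(F, U))
    (h : ∀ hη : genericPoint X ∈ U, F.presheaf.germ U (genericPoint X) hη t = 0) : t = 0 := by
  refine TopCat.Presheaf.section_ext ⟨F.presheaf, F.isSheaf⟩ U t 0 fun x hx => ?_
  change F.presheaf.germ U x hx t = F.presheaf.germ U x hx 0
  rw [map_zero]
  obtain ⟨_, ⟨W, hW, rfl⟩, hxW, hWU⟩ := X.isBasis_affineOpens.exists_subset_of_mem_open hx U.2
  have hWU' : W ≤ U := hWU
  have hηW : genericPoint X ∈ W := genericPoint_mem_of_mem hxW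
  let t' : Γ(F, W) := F.presheaf.map (homOfLE hWU').op t
  have ht' : F.presheaf.germ W (genericPoint X) hηW t' = 0 := by
    rw [TopCat.Presheaf.germ_res_apply']
    exact h (hWU' hηW)
  obtain ⟨s, hs, hst⟩ :=
    Groth.Agent.Lib.Helper2.QCoh.exists_smul_eq_zero_of_germ_eq_zero hW F _ hηW t' ht'
  have hs0 : s ≠ 0 := by
    rintro rfl
    rw [Scheme.basicOpen_zero] at hs
    exact hs
  have hsx : X.presheaf.germ W x hxW s ≠ 0 := fun h0 =>
    hs0 (germ_injective_of_isIntegral X x hxW (h0.trans (map_zero _).symm))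
  have h1 : X.presheaf.germ W x hxW s • F.presheaf.germ W x hxW t' = 0 := by
    rw [← Groth.Agent.Lib.Helper2.QCoh.germ_smul, hst, map_zero]
  haveI := hF x
  have h2 : F.presheaf.germ W x hxW t' = 0 := by
    have hreg : IsSMulRegular (F.presheaf.stalk x) (X.presheaf.germ W x hxW s) :=
      Module.IsTorsionFree.isSMulRegular (IsRegular.of_ne_zero hsx)
    exact hreg (h1.trans (smul_zero _).symm)
  rw [← h2]
  exact (TopCat.Presheaf.germ_res_apply' _ _ _ _ _).symm

end Key

section StalkLin

variable {T : TopCat.{u}} {R : T.Presheaf RingCat.{u}} {M N : PresheafOfModules.{u} R}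

/-- the stalk map of a morphism of presheaves of modules, as a map of abelian groups -/
noncomputable abbrev stalkAb (ψ : M ⟶ N) (x : T) :
    TopCat.Presheaf.stalk (C := Ab.{u}) M.presheaf x ⟶ TopCat.Presheaf.stalk (C := Ab.{u}) N.presheaf x :=
  (TopCat.Presheaf.stalkFunctor AddCommGrpCat.{u} x).map ((PresheafOfModules.toPresheaf R).map ψ)

theorem stalkAb_germ (ψ : M ⟶ N) (x : T) (U : Opens T) (hx : x ∈ U) (m : M.obj (op U)) :
    stalkAb ψ x (TopCat.Presheaf.germ M.presheaf U x hx m) =
      TopCat.Presheaf.germ N.presheaf U x hx ((ψ.app (op U)).hom m) :=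
  TopCat.Presheaf.stalkFunctor_map_germ_apply U x hx ((PresheafOfModules.toPresheaf R).map ψ) m

theorem stalkAb_smul (ψ : M ⟶ N) (x : T) (r : R.stalk x)
    (y : ↑(TopCat.Presheaf.stalk (C := Ab.{u}) M.presheaf x)) :
    stalkAb ψ x (r • y) = r • stalkAb ψ x y := by
  obtain ⟨V, hxV, t, rfl⟩ := TopCat.Presheaf.exists_germ_eq M.presheaf y
  obtain ⟨V', hxV', r', rfl⟩ := TopCat.Presheaf.exists_germ_eq R r
  have hxW : x ∈ V ⊓ V' := ⟨hxV, hxV'⟩
  have h1 : TopCat.Presheaf.germ M.presheaf V x hxV t = TopCat.Presheaf.germ M.presheaf (V ⊓ V') x hxW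
      (M.presheaf.map (homOfLE inf_le_left).op t) :=
    (TopCat.Presheaf.germ_res_apply M.presheaf (homOfLE inf_le_left) x hxW t).symm
  have h2 : R.germ V' x hxV' r' = R.germ (V ⊓ V') x hxW (R.map (homOfLE inf_le_right).op r') :=
    (TopCat.Presheaf.germ_res_apply R (homOfLE inf_le_right) x hxW r').symm
  rw [h1, h2]
  let t₁ : M.obj (op (V ⊓ V')) := M.presheaf.map (homOfLE inf_le_left).op t
  let r₁ : R.obj (op (V ⊓ V')) := R.map (homOfLE inf_le_right).op r'
  change stalkAb ψ x (R.germ (V ⊓ V') x hxW r₁ • TopCat.Presheaf.germ M.presheaf (V ⊓ V') x hxW t₁) =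
    R.germ (V ⊓ V') x hxW r₁ • stalkAb ψ x (TopCat.Presheaf.germ M.presheaf (V ⊓ V') x hxW t₁)
  rw [← PresheafOfModules.germ_ringCat_smul, stalkAb_germ, stalkAb_germ, map_smul,
    PresheafOfModules.germ_ringCat_smul]

/-- the stalk map of a morphism of presheaves of modules, as a linear map over the stalk of the ring -/
noncomputable def stalkLinR (ψ : M ⟶ N) (x : T) :
    ↑(TopCat.Presheaf.stalk (C := Ab.{u}) M.presheaf x) →ₗ[R.stalk x]
      ↑(TopCat.Presheaf.stalk (C := Ab.{u}) N.presheaf x) where
  toFun := stalkAb ψ x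
  map_add' := map_add _
  map_smul' := stalkAb_smul ψ x

theorem stalkLinR_germ (ψ : M ⟶ N) (x : T) (U : Opens T) (hx : x ∈ U) (m : M.obj (op U)) :
    stalkLinR ψ x (TopCat.Presheaf.germ M.presheaf U x hx m) =
      TopCat.Presheaf.germ N.presheaf U x hx ((ψ.app (op U)).hom m) :=
  stalkAb_germ ψ x U hx m

end StalkLin

section Schur

variable (X : Scheme.{u}) [IsIntegral X]
  (A : Sheaf (Opens.grothendieckTopology X) RingCat.{u}) (φ : X.ringCatSheaf ⟶ A)

theorem mono_of_ne_zero_of_simple_generic (M N : SheafOfModules.{u} A)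
    (hMq : SheafOfModules.IsQuasicoherent (R := X.ringCatSheaf)
      ((SheafOfModules.restrictScalars φ).obj M))
    (hNq : SheafOfModules.IsQuasicoherent (R := X.ringCatSheaf)
      ((SheafOfModules.restrictScalars φ).obj N))
    (hMt : TorSh.IsTorsionFree (X := X) ((SheafOfModules.restrictScalars φ).obj M))
    (hNt : TorSh.IsTorsionFree (X := X) ((SheafOfModules.restrictScalars φ).obj N))
    (hMη : IsSimpleModule
      (↑(TopCat.Presheaf.stalk (C := RingCat.{u}) (X := X.carrier) A.obj (genericPoint X)))
      (↑(TopCat.Presheaf.stalk (C := Ab.{u}) (X := X.carrier) M.val.presheaf (genericPoint X))))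
    (ψ : M ⟶ N) (hψ : ψ ≠ 0) : Mono ψ := by
  let M' : X.Modules := (SheafOfModules.restrictScalars φ).obj M
  let N' : X.Modules := (SheafOfModules.restrictScalars φ).obj N
  haveI : M'.IsQuasicoherent := hMq
  haveI : N'.IsQuasicoherent := hNq
  let L := stalkLinR (R := A.obj) ψ.val (genericPoint X)
  rcases eq_bot_or_eq_top (LinearMap.ker L) with hk | hk
  · haveI : Mono ((SheafOfModules.forget A).map ψ) := by
      refine PresheafOfModules.mono_of_injective (f := ψ.val) (fun V => ?_)
      rw [injective_iff_map_eq_zero]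
      intro t ht
      obtain ⟨U⟩ := V
      refine section_eq_zero_of_germ_generic M' hMt U t (fun hη => ?_)
      have h1 : L (TopCat.Presheaf.germ M.val.presheaf U (genericPoint X) hη t) = 0 := by
        change stalkLinR (R := A.obj) ψ.val (genericPoint X) _ = 0
        rw [stalkLinR_germ, ht]
        exact map_zero (TopCat.Presheaf.germ N.val.presheaf U (genericPoint X) hη).hom
      have h2 : TopCat.Presheaf.germ M.val.presheaf U (genericPoint X) hη t ∈ LinearMap.ker L := h1
      rw [hk] at h2
      exact h2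
    exact (SheafOfModules.forget A).mono_of_mono_map inferInstance
  · exfalso
    apply hψ
    apply (SheafOfModules.forget A).map_injective
    change ψ.val = 0
    ext V t
    obtain ⟨U⟩ := V
    refine section_eq_zero_of_germ_generic N' hNt U _ (fun hη => ?_)
    have h1 : TopCat.Presheaf.germ M.val.presheaf U (genericPoint X) hη t ∈ LinearMap.ker L := by
      rw [hk]; trivial
    have h2 : L (TopCat.Presheaf.germ M.val.presheaf U (genericPoint X) hη t) = 0 := h1
    change stalkLinR (R := A.obj) ψ.val (genericPoint X) _ = 0 at h2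
    rw [stalkLinR_germ] at h2
    exact h2

end Schur

end Groth.Agent.Lib.Seat96.TorFree
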