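import Mathlib.RingTheory.Valuation.LocalSubring
import Mathlib.RingTheory.Valuation.ValuationSubring
import Mathlib.RingTheory.Spectrum.Prime.Topology
import Mathlib.RingTheory.LocalRing.ResidueField.Ideal

/-!
# A valuation ring through a chain of primes (seat 96)

Namespace `Groth.Agent.Lib.Seat96.ValChain`.

* `comp A W` : the composite valuation subring `{x ∈ A | x mod m_A ∈ W}` of a valuation subring `A ⊆ K`
  and a valuation subring `W` of the residue field of `A`.
* `exists_step` : given `φ : R → A` and a prime `P ⊇ φ⁻¹(m_A)` of `R`, there is a valuation subring `V ≤ A` of `K`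
  through which `φ` factors, with `φ⁻¹(m_V) = P`.
* `exists_chain` : for a chain of primes `p 0 ≤ p 1 ≤ …` of `R` and each `n`, a valuation subring `A` of the
  residue field of `p 0` and `φ : R → A` with each `p i` (`i ≤ n`) in the image of `Spec A → Spec R`.
-/

set_option autoImplicit false
universe u

namespace Groth.Agent.Lib.Seat96.ValChain

open IsLocalRing

variable {K : Type u} [Field K]

/-- the subring underlying the composite valuation ring -/
def compSubring (A : ValuationSubring K) (W : ValuationSubring (ResidueField A)) : Subring K :=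
  (W.toSubring.comap (residue A)).map A.subtype

theorem mem_compSubring {A : ValuationSubring K} {W : ValuationSubring (ResidueField A)} {x : K} :
    x ∈ compSubring A W ↔ ∃ a : A, residue A a ∈ W ∧ (a : K) = x := by
  simp only [compSubring, Subring.mem_map, Subring.mem_comap]
  rfl

theorem compSubring_mem_or_inv_mem (A : ValuationSubring K) (W : ValuationSubring (ResidueField A))
    (x : K) : x ∈ compSubring A W ∨ x⁻¹ ∈ compSubring A W := by
  by_cases hx : x ∈ A
  · by_cases hW : residue A ⟨x, hx⟩ ∈ W
    · exact Or.inl (mem_compSubring.mpr ⟨⟨x, hx⟩, hW, rfl⟩)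
    · right
      have hW' : (residue A ⟨x, hx⟩)⁻¹ ∈ W := (W.mem_or_inv_mem _).resolve_left hW
      have hne : residue A ⟨x, hx⟩ ≠ 0 := fun h0 => hW (h0 ▸ W.zero_mem)
      have hu : IsUnit (⟨x, hx⟩ : A) := by
        by_contra hnu
        exact hne ((residue_eq_zero_iff _).mpr ((mem_maximalIdeal _).mpr hnu))
      obtain ⟨u, hu'⟩ := hu
      have hxu : ((u⁻¹ : Aˣ) : A) * ⟨x, hx⟩ = 1 := by rw [← hu']; exact u.inv_mul
      have hinv : (((u⁻¹ : Aˣ) : A) : K) = x⁻¹ := by
        have h1 : (((u⁻¹ : Aˣ) : A) : K) * x = 1 := congrArg Subtype.val hxu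
        exact eq_inv_of_mul_eq_one_left h1
      refine mem_compSubring.mpr ⟨((u⁻¹ : Aˣ) : A), ?_, hinv⟩
      have h2 : residue A ((u⁻¹ : Aˣ) : A) * residue A ⟨x, hx⟩ = 1 := by
        rw [← map_mul, hxu, map_one]
      rw [eq_inv_of_mul_eq_one_left h2]
      exact hW'
  · right
    have hx' : x⁻¹ ∈ A := (A.mem_or_inv_mem x).resolve_left hx
    refine mem_compSubring.mpr ⟨⟨x⁻¹, hx'⟩, ?_, rfl⟩
    have hnu : ¬ IsUnit (⟨x⁻¹, hx'⟩ : A) := by
      rintro ⟨u, hu'⟩
      apply hx
      have h1 : (((u⁻¹ : Aˣ) : A) : K) * x⁻¹ = 1 := by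
        have : ((u⁻¹ : Aˣ) : A) * ⟨x⁻¹, hx'⟩ = 1 := by rw [← hu']; exact u.inv_mul
        exact congrArg Subtype.val this
      have h2 : (((u⁻¹ : Aˣ) : A) : K) = x := by
        rw [eq_inv_of_mul_eq_one_left h1, inv_inv]
      rw [← h2]
      exact ((u⁻¹ : Aˣ) : A).2
    rw [(residue_eq_zero_iff _).mpr ((mem_maximalIdeal _).mpr hnu)]
    exact W.zero_mem

/-- the composite valuation subring -/
def comp (A : ValuationSubring K) (W : ValuationSubring (ResidueField A)) : ValuationSubring K :=
  ValuationSubring.ofSubring (compSubring A W) (compSubring_mem_or_inv_mem A W)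

theorem mem_comp {A : ValuationSubring K} {W : ValuationSubring (ResidueField A)} {x : K} :
    x ∈ comp A W ↔ ∃ a : A, residue A a ∈ W ∧ (a : K) = x :=
  mem_compSubring

theorem comp_le (A : ValuationSubring K) (W : ValuationSubring (ResidueField A)) : comp A W ≤ A := by
  intro x hx
  obtain ⟨a, -, rfl⟩ := mem_comp.mp hx
  exact a.2

/-- a unit of `A` whose residue has its inverse in `W` has its inverse in `comp A W`. -/
theorem exists_inv_of_residue_inv_mem {A : ValuationSubring K} {W : ValuationSubring (ResidueField A)}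
    (a : A) (ha : residue A a ≠ 0) (hW : (residue A a)⁻¹ ∈ W) :
    ∃ a' : A, a * a' = 1 ∧ residue A a' ∈ W := by
  obtain ⟨u, hu⟩ := (residue_ne_zero_iff_isUnit a).mp ha
  refine ⟨((u⁻¹ : Aˣ) : A), by rw [← hu]; exact u.mul_inv, ?_⟩
  have h2 : residue A ((u⁻¹ : Aˣ) : A) * residue A a = 1 := by
    rw [← map_mul, ← hu, u.inv_mul, map_one]
  rw [eq_inv_of_mul_eq_one_left h2]
  exact hW

theorem exists_step {R : Type u} [CommRing R] (A : ValuationSubring K) (φ : R →+* A) (P : Ideal R)
    [P.IsPrime] (hP : (maximalIdeal A).comap φ ≤ P) :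
    ∃ (V : ValuationSubring K) (hVA : V ≤ A) (φ' : R →+* V),
      (ValuationSubring.inclusion V A hVA).comp φ' = φ ∧ (maximalIdeal V).comap φ' = P := by
  let ψ : R →+* ResidueField A := (residue A).comp φ
  have hψ : ∀ r : R, ψ r = 0 → r ∈ P := fun r hr => hP ((residue_eq_zero_iff _).mp hr)
  let ψ' : Localization.AtPrime P →+* ResidueField A :=
    IsLocalization.lift (M := P.primeCompl) (g := ψ) (fun y => by
      have : ψ y ≠ 0 := fun h0 => y.2 (hψ _ h0)
      exact isUnit_iff_ne_zero.mpr this)
  have hψ' : ∀ r : R, ψ' (algebraMap R (Localization.AtPrime P) r) = ψ r := fun r =>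
    IsLocalization.lift_eq _ r
  obtain ⟨W, hW, hloc⟩ := IsLocalRing.exists_factor_valuationRing ψ'
  have hWr : ∀ r : R, residue A (φ r) ∈ W := fun r => by
    have := hW (algebraMap R (Localization.AtPrime P) r)
    rwa [hψ'] at this
  have hmem : ∀ r : R, (A.subtype.comp φ) r ∈ comp A W := fun r =>
    mem_comp.mpr ⟨φ r, hWr r, rfl⟩
  refine ⟨comp A W, comp_le A W, (A.subtype.comp φ).codRestrict (comp A W) hmem, ?_, ?_⟩
  · ext r
    rfl
  · ext r
    rw [Ideal.mem_comap, mem_maximalIdeal, mem_nonunits_iff]
    constructor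
    · intro hnu
      by_contra hrP
      apply hnu
      -- `r ∉ P`: its image in the localization is a unit, so `ψ r` is a unit of `W`
      have hu : IsUnit (algebraMap R (Localization.AtPrime P) r) :=
        IsLocalization.map_units (Localization.AtPrime P) (⟨r, hrP⟩ : P.primeCompl)
      have hu' : IsUnit ((ψ'.codRestrict W.toSubring hW) (algebraMap R (Localization.AtPrime P) r)) :=
        hu.map _
      obtain ⟨w, hw⟩ := hu'
      have hw1 : ((w : W.toSubring) : ResidueField A) = ψ r := by
        rw [hw]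
        exact hψ' r
      have hw2 : (((w⁻¹ : (W.toSubring)ˣ) : W.toSubring) : ResidueField A) * ψ r = 1 := by
        rw [← hw1]
        exact congrArg Subtype.val w.inv_mul
      have hne : residue A (φ r) ≠ 0 := by
        intro h0
        rw [show ψ r = residue A (φ r) from rfl, h0, mul_zero] at hw2
        exact zero_ne_one hw2
      have hinv : (residue A (φ r))⁻¹ ∈ W := by
        have h3 : (((w⁻¹ : (W.toSubring)ˣ) : W.toSubring) : ResidueField A) = (residue A (φ r))⁻¹ :=
          eq_inv_of_mul_eq_one_left hw2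
        rw [← h3]
        exact ((w⁻¹ : (W.toSubring)ˣ) : W.toSubring).2
      obtain ⟨a', ha', ha'W⟩ := exists_inv_of_residue_inv_mem (φ r) hne hinv
      refine IsUnit.of_mul_eq_one (⟨(a' : K), mem_comp.mpr ⟨a', ha'W, rfl⟩⟩ : comp A W) ?_
      apply Subtype.ext
      exact congrArg (Subtype.val : A → K) ha'
    · intro hrP hu
      obtain ⟨v, hv⟩ := hu.exists_right_inv
      obtain ⟨a, haW, hav⟩ := mem_comp.mp v.2
      have h1 : φ r * a = 1 := by
        apply Subtype.ext
        have h0 : ((φ r : A) : K) * (v : K) = 1 := congrArg (Subtype.val : comp A W → K) hv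
        rw [← hav] at h0
        exact h0
      have h2 : ψ r * residue A a = 1 := by
        rw [show ψ r = residue A (φ r) from rfl, ← map_mul, h1, map_one]
      have hu2 : IsUnit ((ψ'.codRestrict W.toSubring hW) (algebraMap R (Localization.AtPrime P) r)) := by
        refine IsUnit.of_mul_eq_one (⟨residue A a, haW⟩ : W.toSubring) ?_
        apply Subtype.ext
        change ψ' (algebraMap R (Localization.AtPrime P) r) * residue A a = 1
        rw [hψ']
        exact h2
      have hu3 : IsUnit (algebraMap R (Localization.AtPrime P) r) := hloc.map_nonunit _ hu2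
      exact ((IsLocalization.AtPrime.isUnit_to_map_iff (Localization.AtPrime P) P r).mp hu3) hrP

theorem exists_chain {R : Type u} [CommRing R] (p : ℕ → PrimeSpectrum R) (hp : Monotone p) (n : ℕ) :
    ∃ (A : ValuationSubring (p 0).asIdeal.ResidueField) (φ : R →+* A),
      (∀ i ≤ n, ∃ q : Ideal A, q.IsPrime ∧ q.comap φ = (p i).asIdeal) ∧
      (maximalIdeal A).comap φ = (p n).asIdeal := by
  induction n with
  | zero =>
    let φ : R →+* (⊤ : ValuationSubring (p 0).asIdeal.ResidueField) :=
      (algebraMap R (p 0).asIdeal.ResidueField).codRestrict ⊤ (fun _ => ValuationSubring.mem_top _)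
    have hmax : (maximalIdeal (⊤ : ValuationSubring (p 0).asIdeal.ResidueField)).comap φ =
        (p 0).asIdeal := by
      rw [IsLocalRing.maximalIdeal_eq_bot]
      ext r
      rw [Ideal.mem_comap, Ideal.mem_bot]
      constructor
      · intro h
        have h1 : algebraMap R (p 0).asIdeal.ResidueField r = 0 := congrArg Subtype.val h
        rwa [← RingHom.mem_ker, Ideal.ker_algebraMap_residueField] at h1
      · intro h
        apply Subtype.ext
        have : r ∈ RingHom.ker (algebraMap R (p 0).asIdeal.ResidueField) := by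
          rwa [Ideal.ker_algebraMap_residueField]
        exact this
    refine ⟨⊤, φ, ?_, hmax⟩
    intro i hi
    obtain rfl : i = 0 := Nat.le_zero.mp hi
    exact ⟨maximalIdeal _, inferInstance, hmax⟩
  | succ n ih =>
    obtain ⟨A, φ, hq, hmax⟩ := ih
    have hP : (maximalIdeal A).comap φ ≤ (p (n + 1)).asIdeal := by
      rw [hmax]
      exact hp (Nat.le_succ n)
    obtain ⟨V, hVA, φ', hcomp, hmax'⟩ := exists_step A φ (p (n + 1)).asIdeal hP
    refine ⟨V, φ', ?_, hmax'⟩
    intro i hi
    rcases Nat.lt_or_ge i (n + 1) with h | h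
    · obtain ⟨q, hqp, hqc⟩ := hq i (Nat.lt_succ_iff.mp h)
      refine ⟨q.comap (ValuationSubring.inclusion V A hVA), inferInstance, ?_⟩
      rw [Ideal.comap_comap, hcomp, hqc]
    · obtain rfl : i = n + 1 := le_antisymm hi h
      exact ⟨maximalIdeal V, inferInstance, hmax'⟩

end Groth.Agent.Lib.Seat96.ValChain
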