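import Groth.Agent.Lib.Seat97ChernEigen
import Groth.Agent.Lib.Helper4LambdaUniv3
import Mathlib

/-!
# Seat97: the Chern character in terms of the Adams eigenspace decomposition

`chK P d x = ε(x) + Σ_{m ≥ 1} [e_m]_m` where `1 ⊗ (x - ε x) = Σ e_m` is the eigen-decomposition.
-/

set_option autoImplicit false
set_option linter.unusedSectionVars false
set_option linter.style.haveILetI false

universe u

namespace Groth.Agent.Lib.Seat97.ChernCh

open LambdaRing KGr TensorProduct Finset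
open Groth.Agent.Lib.Helper4 Groth.Agent.Lib.Helper4.LUniv
open Groth.Agent.Lib.Seat97.ChernRees Groth.Agent.Lib.Seat97.ChernGamma
open Groth.Agent.Lib.Seat97.ChernEigen

section Sym

open MvPolynomial

theorem NR_of_injective {R S : Type*} [CommRing R] [CommRing S] (φ : R →+* S)
    (hφ : Function.Injective φ) {e p : ℕ → R}
    (h : NR (fun n => φ (e n)) (fun n => φ (p n))) : NR e p := by
  intro n
  apply hφ
  have := h n
  simpa only [map_mul, map_add, map_natCast, map_one, map_sum, map_pow, map_neg] using this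

theorem NR_esymm_psum_rat (σ : Type*) [Fintype σ] :
    NR (fun j => esymm σ ℚ j) (fun k => psum σ ℚ k) := by
  have h := NR_map (MvPolynomial.map (Int.castRingHom ℚ)) (NR_esymm_psum σ)
  have e1 : ∀ n, MvPolynomial.map (Int.castRingHom ℚ) (esymm σ ℤ n) = esymm σ ℚ n :=
    fun n => map_esymm σ ℤ n _
  have e2 : ∀ n, MvPolynomial.map (Int.castRingHom ℚ) (psum σ ℤ n) = psum σ ℚ n := by
    intro n
    simp [psum]
  simpa only [e1, e2] using h

variable (d : ℕ)

/-- the polynomial in `e_1, …, e_d` giving the `k`-th elementary symmetric polynomial. -/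
noncomputable def eh (k : ℕ) : MvPolynomial (Fin d) ℚ :=
  (esymmAlgEquiv (Fin d) ℚ (Fintype.card_fin d)).symm ⟨esymm (Fin d) ℚ k, esymm_isSymmetric _ _ k⟩

/-- the polynomial in `e_1, …, e_d` giving the `k`-th power sum. -/
noncomputable def qh (k : ℕ) : MvPolynomial (Fin d) ℚ :=
  (esymmAlgEquiv (Fin d) ℚ (Fintype.card_fin d)).symm ⟨psum (Fin d) ℚ k, psum_isSymmetric _ _ k⟩

theorem NR_eh_qh : NR (eh d) (qh d) := by
  let φ : MvPolynomial (Fin d) ℚ →+* MvPolynomial (Fin d) ℚ :=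
    ((symmetricSubalgebra (Fin d) ℚ).val.comp
      (esymmAlgEquiv (Fin d) ℚ (Fintype.card_fin d)).toAlgHom).toRingHom
  have hφ : Function.Injective φ := by
    intro a b hab
    have : (esymmAlgEquiv (Fin d) ℚ (Fintype.card_fin d)) a =
        (esymmAlgEquiv (Fin d) ℚ (Fintype.card_fin d)) b := Subtype.ext hab
    exact (esymmAlgEquiv (Fin d) ℚ (Fintype.card_fin d)).injective this
  apply NR_of_injective φ hφ
  have e1 : ∀ n, φ (eh d n) = esymm (Fin d) ℚ n := by
    intro n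
    change ((esymmAlgEquiv (Fin d) ℚ (Fintype.card_fin d))
      ((esymmAlgEquiv (Fin d) ℚ (Fintype.card_fin d)).symm _) : MvPolynomial (Fin d) ℚ) = _
    rw [AlgEquiv.apply_symm_apply]
  have e2 : ∀ n, φ (qh d n) = psum (Fin d) ℚ n := by
    intro n
    change ((esymmAlgEquiv (Fin d) ℚ (Fintype.card_fin d))
      ((esymmAlgEquiv (Fin d) ℚ (Fintype.card_fin d)).symm _) : MvPolynomial (Fin d) ℚ) = _
    rw [AlgEquiv.apply_symm_apply]
  simp only [e1, e2]
  exact NR_esymm_psum_rat (Fin d)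

theorem eh_zero : eh d 0 = 1 := by
  rw [eh]
  have : (⟨esymm (Fin d) ℚ 0, esymm_isSymmetric _ _ 0⟩ : symmetricSubalgebra (Fin d) ℚ) = 1 := by
    apply Subtype.ext
    simp [esymm_zero]
  rw [this, map_one]

theorem eh_succ (i : Fin d) : eh d (i + 1) = X i := by
  rw [eh]
  exact esymmAlgEquiv_symm_apply ℚ (Fintype.card_fin d) i

theorem qh_zero : qh d 0 = (d : MvPolynomial (Fin d) ℚ) := by
  rw [qh]
  have : (⟨psum (Fin d) ℚ 0, psum_isSymmetric _ _ 0⟩ : symmetricSubalgebra (Fin d) ℚ) =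
      ((d : ℕ) : symmetricSubalgebra (Fin d) ℚ) := by
    apply Subtype.ext
    simp [psum_zero]
  rw [this, map_natCast]

theorem chPoly_eq : chPoly d = ∑ k ∈ range (d + 1), ((1 : ℚ) / (k.factorial : ℚ)) • qh d k := by
  rw [chPoly]
  have : (⟨∑ i : Fin d, Polynomial.aeval (X i : MvPolynomial (Fin d) ℚ) (expTrunc d),
      isSymmetric_sum_aeval d (expTrunc d)⟩ : symmetricSubalgebra (Fin d) ℚ) =
      ∑ k ∈ range (d + 1), ((1 : ℚ) / (k.factorial : ℚ)) •
        (⟨psum (Fin d) ℚ k, psum_isSymmetric _ _ k⟩ : symmetricSubalgebra (Fin d) ℚ) := by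
    apply Subtype.ext
    rw [AddSubmonoidClass.coe_finsetSum]
    simp only [expTrunc, map_sum, map_mul, Polynomial.aeval_C, map_pow, Polynomial.aeval_X]
    rw [sum_comm]
    refine sum_congr rfl fun k _ => ?_
    change _ = ((1 : ℚ) / (k.factorial : ℚ)) • psum (Fin d) ℚ k
    rw [psum, smul_sum]
    refine sum_congr rfl fun i _ => ?_
    rw [Algebra.smul_def]
  rw [this, map_sum]
  refine sum_congr rfl fun k _ => ?_
  rw [map_smul]
  rfl

end Sym

section Aux

variable {R : Type*} [CommRing R] [Algebra ℚ R]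

theorem aux_mul_succ (c : R) (n : ℕ) : c * ((n : R) + 1) = ((n + 1 : ℕ) : ℚ) • c := by
  rw [Algebra.smul_def, map_natCast]
  push_cast
  ring

theorem aux_sign (A B : R) (k : ℕ) :
    ((-1 : ℚ) ^ (k + 1 + 1) * ((k + 1).factorial : ℚ)) • (A * B) =
      (-1 : R) ^ k * (((k + 1).factorial : ℚ) • B) * A := by
  rw [Algebra.smul_def, Algebra.smul_def, map_mul, map_pow, map_neg, map_one, map_natCast]
  have : (-1 : R) ^ (k + 1 + 1) = (-1) ^ k := by
    rw [pow_succ, pow_succ]; ring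
  rw [this]
  ring

theorem aux_natCast (n : ℕ) : algebraMap ℚ R (n : ℚ) = (n : R) := map_natCast _ n

end Aux

section Main

variable {K : Type u} [CommRing K] [LambdaOps K] {P : PosStructure K}
variable (hK : HasSplitting K P) (d : ℕ) (hd : gammaFiltration P (d + 1) = ⊥)

include hK hd

/-- Newton's relation in `Gr P` between Chern classes and eigen-classes. -/
theorem NR_cls (y : K) (hy : P.aug y = 0) {e : ℕ → ℚ ⊗[ℤ] K} (he : ∀ m, e m ∈ E P m)
    (he0 : e 0 = 0) (hed : ∀ m, d < m → e m = 0)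
    (hsum : (1 : ℚ) ⊗ₜ[ℤ] y = ∑ m ∈ range (d + 1), e m) :
    NR (fun k => cls P k ((1 : ℚ) ⊗ₜ[ℤ] gamma k y))
      (fun m => (m.factorial : ℚ) • cls P m (e m)) := by
  intro n
  have h := newton_gr hK d hd y hy he he0 hed hsum (n + 1)
  rw [sum_range_succ', aCoef_zero_left, zero_smul, add_zero] at h
  have h2 : cls P (n + 1) ((1 : ℚ) ⊗ₜ[ℤ] gamma (n + 1) y) * ((n : Gr P) + 1) =
      ((n + 1 : ℕ) : ℚ) • cls P (n + 1) ((1 : ℚ) ⊗ₜ[ℤ] gamma (n + 1) y) := aux_mul_succ (R := Gr P) _ n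
  rw [h2, h]
  refine sum_congr rfl fun k _ => ?_
  rw [aCoef_self (by omega), Nat.add_sub_add_right]
  exact aux_sign (R := Gr P) _ _ k

theorem cls_gamma_zero (y : K) : cls P 0 ((1 : ℚ) ⊗ₜ[ℤ] gamma 0 y) = 1 := by
  rw [gamma_zero', cls_zero_one]

/-- the value of the `k`-th power-sum polynomial on the Chern classes is `k!` times the class of
the `k`-th eigen-component. -/
theorem aeval_qh (x : K) {e : ℕ → ℚ ⊗[ℤ] K} (he : ∀ m, e m ∈ E P m)
    (he0 : e 0 = 0) (hed : ∀ m, d < m → e m = 0)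
    (hsum : (1 : ℚ) ⊗ₜ[ℤ] (x - (P.aug x : K)) = ∑ m ∈ range (d + 1), e m) (k : ℕ)
    (hk : k + 1 ≤ d) :
    MvPolynomial.aeval (fun i : Fin d => chern P (i.1 + 1) x) (qh d (k + 1)) =
      ((k + 1).factorial : ℚ) • cls P (k + 1) (e (k + 1)) := by
  have hy : P.aug (x - (P.aug x : K)) = 0 := aug_sub_aug P x
  have h1 := nu_spec _ _ (cls_gamma_zero hK d hd _) (NR_cls hK d hd _ hy he he0 hed hsum) k
  have h2 := NR_map (R := MvPolynomial (Fin d) ℚ) (S := Gr P)
    ((MvPolynomial.aeval (fun i : Fin d => chern P (i.1 + 1) x) :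
      MvPolynomial (Fin d) ℚ →ₐ[ℚ] Gr P) : MvPolynomial (Fin d) ℚ →+* Gr P) (NR_eh_qh d)
  have h3 := nu_spec _ _ (by
    change MvPolynomial.aeval (fun i : Fin d => chern P (i.1 + 1) x) (eh d 0) = 1
    rw [eh_zero, map_one]) h2 k
  change MvPolynomial.aeval (fun i : Fin d => chern P (i.1 + 1) x) (qh d (k + 1)) = _ at h3
  rw [h3, h1]
  apply aeval_nu_congr
  intro i hi
  have hid : i < d := by omega
  change MvPolynomial.aeval (fun i : Fin d => chern P (i.1 + 1) x) (eh d (i + 1)) = _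
  have := eh_succ d ⟨i, hid⟩
  rw [this, MvPolynomial.aeval_X]
  change chern P (i + 1) x = _
  rw [chern]
  exact grK_eq_cls P (i + 1) (gamma_mem_gammaFiltration P (i + 1) _ hy)

/-- the Chern character in terms of the eigen-decomposition. -/
theorem chK_eq (x : K) {e : ℕ → ℚ ⊗[ℤ] K} (he : ∀ m, e m ∈ E P m)
    (he0 : e 0 = 0) (hed : ∀ m, d < m → e m = 0)
    (hsum : (1 : ℚ) ⊗ₜ[ℤ] (x - (P.aug x : K)) = ∑ m ∈ range (d + 1), e m) :
    chK P d x = algebraMap ℚ (Gr P) (P.aug x : ℚ) + ∑ m ∈ range (d + 1), cls P m (e m) := by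
  rw [chK, chPoly_eq, map_sum, sum_range_succ', sum_range_succ' (fun m => cls P m (e m)), he0,
    map_zero, add_zero]
  have h0 : MvPolynomial.aeval (fun i : Fin d => chern P (i.1 + 1) x)
      (((1 : ℚ) / ((0 : ℕ).factorial : ℚ)) • qh d 0) = algebraMap ℚ (Gr P) (d : ℚ) := by
    rw [qh_zero]
    simp
  rw [h0]
  have h1 : ∀ k ∈ range d, MvPolynomial.aeval (fun i : Fin d => chern P (i.1 + 1) x)
      (((1 : ℚ) / ((k + 1).factorial : ℚ)) • qh d (k + 1)) = cls P (k + 1) (e (k + 1)) := by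
    intro k hk
    rw [mem_range] at hk
    rw [map_smul, aeval_qh hK d hd x he he0 hed hsum k (by omega), smul_smul]
    have : ((k + 1).factorial : ℚ) ≠ 0 := by exact_mod_cast Nat.factorial_ne_zero _
    rw [one_div, inv_mul_cancel₀ this, one_smul]
  rw [sum_congr rfl h1, map_sub]
  ring

end Main

end Groth.Agent.Lib.Seat97.ChernCh

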