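import Groth.Agent.Lib.Helper4LambdaAdams
import Mathlib

/-!
# Seat97: the logarithmic derivative of `γ_t` in terms of Adams operations

`t γ_t'(y) = γ_t(y) · M_t(y)` with `M_t(y) = Σ_i (Σ_{j ≤ i} C(i,j) b_j(y)) t^i`, `b_0 = 0`,
`b_j(y) = (-1)^(j+1) ψ^j(y)` for `j ≥ 1`.
-/

set_option autoImplicit false
set_option linter.unusedSectionVars false
set_option linter.style.haveILetI false

namespace Groth.Agent.Lib.Seat97.ChernGamma

open PowerSeries LambdaRing Finset
open Groth.Agent.Lib.Helper4

section Tau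

variable {K : Type*} [CommRing K]

theorem rescale_C' (a r : K) : rescale a (C r : K⟦X⟧) = C r := by
  ext n
  rw [coeff_rescale, coeff_C]
  split_ifs with h
  · subst h; simp
  · simp

theorem one_add_tau : (1 : K⟦X⟧) + tau K = PowerSeries.mk 1 := by
  have h1 : (PowerSeries.mk 1 : K⟦X⟧) * (1 - X) = 1 := mk_one_mul_one_sub_eq_one K
  rw [tau]
  linear_combination (-1 : K⟦X⟧) * h1

theorem derivative_tau : derivative K (tau K) = PowerSeries.mk 1 * PowerSeries.mk 1 := by
  have h1 : (PowerSeries.mk 1 : K⟦X⟧) * (1 - X) = 1 := mk_one_mul_one_sub_eq_one K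
  have h2 := congrArg (derivative K) (tau_mul_one_sub (K := K))
  rw [Derivation.leibniz, map_sub, derivative_X, derivative_one] at h2
  simp only [smul_eq_mul] at h2
  have h3 := one_add_tau (K := K)
  linear_combination (PowerSeries.mk 1 : K⟦X⟧) * h2 + (PowerSeries.mk 1 : K⟦X⟧) * h3
    - (derivative K (tau K)) * h1

theorem coeff_tau_pow_eq_zero {b d : ℕ} (h : b < d) : coeff b ((tau K) ^ d) = 0 := by
  rcases d with _ | d
  · omega
  · rw [coeff_tau_pow_succ]
    split_ifs with h0
    · rfl
    · have : (b - 1).choose d = 0 := Nat.choose_eq_zero_of_lt (by omega)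
      simp [this]

theorem coeff_subst_tau (f : K⟦X⟧) {b N : ℕ} (hbN : b ≤ N) :
    coeff b (f.subst (tau K)) = ∑ d ∈ range (N + 1), coeff d f * coeff b ((tau K) ^ d) := by
  rw [coeff_subst' hasSubst_tau, finsum_eq_sum_of_support_subset (s := range (N + 1))]
  · simp only [smul_eq_mul]
  · intro d hd
    simp only [Function.mem_support, ne_eq] at hd
    simp only [coe_range, Set.mem_Iio]
    by_contra hlt
    apply hd
    rw [coeff_tau_pow_eq_zero (by omega), smul_zero]

theorem sum_range_choose (i d : ℕ) : ∑ c ∈ range i, c.choose d = i.choose (d + 1) := by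
  induction i with
  | zero => simp
  | succ i ih => rw [sum_range_succ, ih, Nat.choose_succ_succ, add_comm]

theorem sum_coeff_tau_pow (i d : ℕ) :
    ∑ b ∈ range (i + 1), coeff b ((tau K) ^ d) = (i.choose d : K) := by
  rcases d with _ | d
  · rw [pow_zero, sum_range_succ']
    simp [coeff_one]
  · rw [sum_range_succ']
    simp only [coeff_tau_pow_succ, if_true, add_zero, Nat.add_sub_cancel, Nat.succ_ne_zero,
      if_false]
    rw [← Nat.cast_sum, sum_range_choose]

theorem coeff_mk_one_mul (f : K⟦X⟧) (i : ℕ) :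
    coeff i (PowerSeries.mk 1 * f) = ∑ b ∈ range (i + 1), coeff b f := by
  rw [mul_comm, coeff_mul, Finset.Nat.sum_antidiagonal_eq_sum_range_succ_mk]
  refine sum_congr rfl fun b _ => ?_
  simp [coeff_mk]

/-- coefficients of `(1 + τ) · f(τ)`, `τ = t/(1-t)`: the binomial transform. -/
theorem coeff_mk_one_mul_subst_tau (f : K⟦X⟧) (i : ℕ) :
    coeff i (PowerSeries.mk 1 * f.subst (tau K)) =
      ∑ j ∈ range (i + 1), (i.choose j : K) * coeff j f := by
  rw [coeff_mk_one_mul]
  have : ∀ b ∈ range (i + 1), coeff b (f.subst (tau K)) =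
      ∑ d ∈ range (i + 1), coeff d f * coeff b ((tau K) ^ d) := by
    intro b hb
    exact coeff_subst_tau f (by rw [mem_range] at hb; omega)
  rw [sum_congr rfl this, sum_comm]
  refine sum_congr rfl fun d _ => ?_
  rw [← mul_sum, sum_coeff_tau_pow, mul_comm]

end Tau

section Lam

variable {K : Type*} [CommRing K] [LambdaOps K]

/-- `B_s(y) = ε(y) - ψ_{-s}(y) = Σ_{j ≥ 1} (-1)^(j+1) ψ^j(y) s^j`. -/
noncomputable def bSeries (P : PosStructure K) (y : K) : K⟦X⟧ :=
  C (P.aug y : K) - rescale (-1 : K) (adamsSeries P y)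

theorem adams_zero_eq (P : PosStructure K) (y : K) : adams P 0 y = (P.aug y : K) := by
  rw [adams, adamsSeries, map_sub, mul_assoc, coeff_zero_X_mul, sub_zero, coeff_zero_C]

theorem coeff_bSeries (P : PosStructure K) (y : K) (j : ℕ) :
    coeff j (bSeries P y) = if j = 0 then 0 else (-1 : K) ^ (j + 1) * adams P j y := by
  rw [bSeries, map_sub, coeff_rescale, coeff_C]
  split_ifs with h
  · subst h
    rw [← adams, adams_zero_eq]
    simp
  · rw [← adams, pow_succ]
    ring

theorem rescale_derivative_lamNeg (y : K) :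
    rescale (-1 : K) (derivative K (lamNeg y)) = -derivative K (lamSeries y) := by
  ext n
  rw [coeff_rescale, coeff_derivative, lamNeg, coeff_rescale, map_neg, coeff_derivative, ← mul_assoc,
    ← mul_assoc, ← pow_add]
  have : (-1 : K) ^ (n + (n + 1)) = -1 := by
    rw [show n + (n + 1) = 2 * n + 1 by ring, pow_succ, pow_mul]
    simp
  rw [this]
  ring

/-- `s λ_s'(y) = B_s(y) λ_s(y)`. -/
theorem X_mul_derivative_lamSeries (P : PosStructure K) (y : K) :
    X * derivative K (lamSeries y) = bSeries P y * lamSeries y := by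
  have h := congrArg (rescale (-1 : K)) (adamsSeries_mul_lamNeg P y)
  have hL : rescale (-1 : K) (lamNeg y) = lamSeries y := by
    rw [lamNeg, rescale_rescale]
    simp
  rw [map_mul, map_sub, map_mul, map_mul, hL, rescale_C', rescale_neg_one_X,
    rescale_derivative_lamNeg] at h
  rw [bSeries]
  linear_combination h

/-- `M_t(y) = (1 + τ) B_τ(y)`, `τ = t/(1-t)`. -/
noncomputable def mSeries (P : PosStructure K) (y : K) : K⟦X⟧ :=
  PowerSeries.mk 1 * (bSeries P y).subst (tau K)

/-- `t γ_t'(y) = γ_t(y) M_t(y)`. -/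
theorem X_mul_derivative_gammaSeries (P : PosStructure K) (y : K) :
    X * derivative K (gammaSeries y) = gammaSeries y * mSeries P y := by
  have h1 := congrArg (fun f : K⟦X⟧ => f.subst (tau K)) (X_mul_derivative_lamSeries P y)
  simp only [subst_mul hasSubst_tau, subst_X hasSubst_tau] at h1
  rw [gammaSeries_eq_subst, derivative_subst hasSubst_tau, derivative_tau, mSeries]
  have h3 : (X : K⟦X⟧) * PowerSeries.mk 1 = tau K := rfl
  linear_combination (PowerSeries.mk 1 : K⟦X⟧) * h1 +
    (PowerSeries.mk 1 : K⟦X⟧) * subst (tau K) (derivative K (lamSeries y)) * h3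

/-- the coefficients of `M_t(y)`. -/
noncomputable def mu (P : PosStructure K) (i : ℕ) (y : K) : K :=
  ∑ j ∈ range (i + 1), (i.choose j : K) * (if j = 0 then 0 else (-1 : K) ^ (j + 1) * adams P j y)

theorem coeff_mSeries (P : PosStructure K) (y : K) (i : ℕ) :
    coeff i (mSeries P y) = mu P i y := by
  rw [mSeries, coeff_mk_one_mul_subst_tau, mu]
  refine sum_congr rfl fun j _ => ?_
  rw [coeff_bSeries]

/-- `k γ^k(y) = Σ_{i ≤ k} γ^{k-i}(y) μ_i(y)`. -/
theorem natCast_mul_gamma (P : PosStructure K) (y : K) (k : ℕ) :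
    (k : K) * gamma k y = ∑ i ∈ range (k + 1), gamma (k - i) y * mu P i y := by
  have h := congrArg (coeff k) (X_mul_derivative_gammaSeries P y)
  conv_rhs at h => rw [coeff_mul, Finset.Nat.sum_antidiagonal_eq_sum_range_succ_mk]
  have h2 : coeff k (X * derivative K (gammaSeries y)) = (k : K) * gamma k y := by
    rcases k with _ | k
    · simp
    · rw [mul_comm, coeff_succ_mul_X, coeff_derivative, coeff_gammaSeries]
      push_cast
      ring
  rw [h2] at h
  rw [h, ← sum_range_reflect]
  refine sum_congr rfl fun i hi => ?_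
  rw [mem_range] at hi
  rw [coeff_gammaSeries, coeff_mSeries]
  congr 2 <;> omega

end Lam

end Groth.Agent.Lib.Seat97.ChernGamma

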