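import Groth.Agent.Lib.Seat97ChernRees
import Groth.Agent.Lib.Seat97ChernGamma
import Groth.Agent.Lib.Helper4LambdaInv
import Mathlib

/-!
# Seat97: Chern classes and the Adams eigenspace decomposition of `ℚ ⊗ K`

For `y` of augmentation zero with eigen-decomposition `1 ⊗ y = Σ_m e_m`, the classes
`c_k = [γ^k y]_k` and `z_m = [e_m]_m` in `KGr.Gr P` satisfy Newton's relation
`k c_k = Σ_{i ≥ 1} (-1)^(i+1) i! z_i c_{k-i}`.
-/

set_option autoImplicit false
set_option linter.unusedSectionVars false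
set_option linter.style.haveILetI false

universe u

namespace Groth.Agent.Lib.Seat97.ChernEigen

open LambdaRing KGr TensorProduct Finset PowerSeries
open Groth.Agent.Lib.Helper4 Groth.Agent.Lib.Seat97.ChernRees Groth.Agent.Lib.Seat97.ChernGamma

section FwdDiff


/-- the binomial transform of `j ↦ (-1)^(j+1) j^m`. -/
noncomputable def aCoef (i m : ℕ) : ℚ :=
  ∑ j ∈ range (i + 1), (i.choose j : ℚ) * (if j = 0 then 0 else (-1 : ℚ) ^ (j + 1)) * (j : ℚ) ^ m

theorem aCoef_eq (i m : ℕ) (hm : 1 ≤ m) :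
    aCoef i m = -(-1 : ℚ) ^ i * ((fwdDiff (1 : ℚ))^[i] (fun r : ℚ => r ^ m)) 0 := by
  rw [fwdDiff_iter_eq_sum_shift, aCoef, mul_sum]
  refine sum_congr rfl fun j hj => ?_
  rw [mem_range] at hj
  by_cases h0 : j = 0
  · subst h0
    simp [zero_pow (by omega : m ≠ 0)]
  · rw [if_neg h0, zsmul_eq_mul]
    push_cast
    have : (-1 : ℚ) ^ (j + 1) = -(-1 : ℚ) ^ i * (-1 : ℚ) ^ (i - j) := by
      rw [neg_mul, ← pow_add, pow_succ, mul_neg_one, neg_inj]
      have : i + (i - j) = j + 2 * (i - j) := by omega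
      rw [this, pow_add, pow_mul]
      simp
    rw [this]
    simp only [zero_add, nsmul_eq_mul, mul_one]
    ring

theorem aCoef_eq_zero {i m : ℕ} (hm : 1 ≤ m) (hmi : m < i) : aCoef i m = 0 := by
  rw [aCoef_eq i m hm, fwdDiff_iter_pow_eq_zero_of_lt hmi]
  simp

theorem aCoef_self {i : ℕ} (hi : 1 ≤ i) : aCoef i i = (-1 : ℚ) ^ (i + 1) * (i.factorial : ℚ) := by
  rw [aCoef_eq i i hi, fwdDiff_iter_eq_factorial]
  simp [pow_succ]

theorem aCoef_zero_left (m : ℕ) : aCoef 0 m = 0 := by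
  simp [aCoef]

end FwdDiff

section Eigen

variable {K : Type u} [CommRing K] [LambdaOps K] (P : PosStructure K)

theorem adams_one_eq (x : K) : adams P 1 x = x := by
  have h := congrArg (coeff 1) (adamsSeries_mul_lamNeg P x)
  rw [coeff_mul, map_sub, coeff_C_mul, show (1 : ℕ) = 0 + 1 from rfl, coeff_succ_X_mul,
    coeff_derivative, Finset.Nat.sum_antidiagonal_eq_sum_range_succ_mk, sum_range_succ,
    sum_range_one] at h
  simp only [zero_add, coeff_lamNeg, pow_zero, pow_one, LambdaOps.lam_zero, LambdaOps.lam_one,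
    mul_one, Nat.cast_zero, Nat.sub_zero, Nat.sub_self] at h
  have h0 : coeff 0 (adamsSeries P x) = (P.aug x : K) := adams_zero_eq P x
  rw [h0] at h
  rw [adams]
  linear_combination h

theorem intCast_smul_one_tmul (n : ℤ) (x : K) :
    (n : ℚ) • ((1 : ℚ) ⊗ₜ[ℤ] x) = (1 : ℚ) ⊗ₜ[ℤ] ((n : K) * x) := by
  rw [TensorProduct.smul_tmul', smul_eq_mul, mul_one]
  have h1 : (n : ℚ) = n • (1 : ℚ) := by simp
  have h2 : (n : K) * x = n • x := by simp
  rw [h1, h2, TensorProduct.smul_tmul]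

/-- `ψ^j` extended to `ℚ ⊗ K`. -/
noncomputable def PsiQ (j : ℕ) : ℚ ⊗[ℤ] K →ₗ[ℚ] ℚ ⊗[ℤ] K :=
  LinearMap.baseChange ℚ (adamsAddHom P j).toIntLinearMap

theorem PsiQ_tmul (j : ℕ) (x : K) :
    PsiQ P j ((1 : ℚ) ⊗ₜ[ℤ] x) = (1 : ℚ) ⊗ₜ[ℤ] adams P j x := rfl

theorem PsiQ_one (v : ℚ ⊗[ℤ] K) : PsiQ P 1 v = v := by
  induction v using TensorProduct.induction_on with
  | zero => simp
  | tmul q x =>
    have : q ⊗ₜ[ℤ] x = q • ((1 : ℚ) ⊗ₜ[ℤ] x) := by
      rw [TensorProduct.smul_tmul', smul_eq_mul, mul_one]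
    rw [this, map_smul, PsiQ_tmul, adams_one_eq]
  | add a b ha hb => rw [map_add, ha, hb]

/-- the eigenspace of `ψ^2` with eigenvalue `2^m`. -/
noncomputable def E (m : ℕ) : Submodule ℚ (ℚ ⊗[ℤ] K) :=
  Module.End.eigenspace (PsiQ P 2) (((2 : ℕ) : ℚ) ^ m)

variable {P}
variable (hK : HasSplitting K P) (d : ℕ) (hd : gammaFiltration P (d + 1) = ⊥)

include hK hd

theorem filEigen (j : ℕ) (hj : 2 ≤ j) :
    FilEigen (PsiQ P j) (QF P) (fun m => (j : ℚ) ^ m) d :=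
  filEigen_QF hK d hd j hj _ (PsiQ_tmul P j)

theorem PsiQ_apply_of_mem_E {m : ℕ} {v : ℚ ⊗[ℤ] K} (hv : v ∈ E P m) (j : ℕ) (hj : 1 ≤ j) :
    PsiQ P j v = ((j : ℚ) ^ m) • v := by
  rcases Nat.lt_or_ge j 2 with h | h
  · have : j = 1 := by omega
    subst this
    rw [PsiQ_one]
    simp
  · have := (filEigen hK d hd 2 le_rfl).eigen_le_of_commute (filEigen hK d hd j h)
      (commute_of_adams hK 2 j _ _ (PsiQ_tmul P 2) (PsiQ_tmul P j)) m hv
    rwa [Module.End.mem_eigenspace_iff] at this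

theorem E_le_QF (m : ℕ) : E P m ≤ QF P m := (filEigen hK d hd 2 le_rfl).eigen_le m

theorem E_inf_QF (m : ℕ) : E P m ⊓ QF P (m + 1) = ⊥ :=
  (filEigen hK d hd 2 le_rfl).eigen_inf_eq_bot m

theorem E_sup_QF (m : ℕ) : E P m ⊔ QF P (m + 1) = QF P m :=
  (filEigen hK d hd 2 le_rfl).eigen_sup_eq m

theorem QF_eq_bot {n : ℕ} (hn : d + 1 ≤ n) : QF P n = ⊥ :=
  (filEigen hK d hd 2 le_rfl).eq_bot_of_le hn

theorem exists_decomp (v : ℚ ⊗[ℤ] K) :
    ∃ e : ℕ → ℚ ⊗[ℤ] K, (∀ m, e m ∈ E P m) ∧ (∀ m, d < m → e m = 0) ∧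
      v = ∑ m ∈ range (d + 1), e m := by
  have h := (filEigen hK d hd 2 le_rfl).iSup_eigen_eq_top
  have hv : v ∈ ⨆ m ∈ range (d + 1), E P m := by
    change v ∈ ⨆ m ∈ range (d + 1), Module.End.eigenspace (PsiQ P 2) (((2 : ℕ) : ℚ) ^ m)
    rw [h]; trivial
  rw [Submodule.mem_iSup_finset_iff_exists_sum] at hv
  obtain ⟨μ, hμ⟩ := hv
  refine ⟨fun m => if m ∈ range (d + 1) then (μ m : ℚ ⊗[ℤ] K) else 0, ?_, ?_, ?_⟩
  · intro m
    dsimp only
    split_ifs
    · exact (μ m).2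
    · exact zero_mem _
  · intro m hm
    dsimp only
    rw [if_neg (by rw [mem_range]; omega)]
  · rw [← hμ]
    exact sum_congr rfl fun m hm => (if_pos hm).symm

theorem decomp_zero {e : ℕ → ℚ ⊗[ℤ] K} (he : ∀ m, e m ∈ E P m) {v : ℚ ⊗[ℤ] K}
    (hv : v ∈ QF P 1) (hsum : v = ∑ m ∈ range (d + 1), e m) : e 0 = 0 := by
  have h1 : e 0 ∈ E P 0 ⊓ QF P (0 + 1) := by
    refine ⟨he 0, ?_⟩
    rw [sum_range_succ'] at hsum
    have : e 0 = v - ∑ m ∈ range d, e (m + 1) := by rw [hsum]; abel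
    rw [this]
    refine sub_mem hv (sum_mem fun m _ => ?_)
    exact QF_anti P (by omega) (E_le_QF hK d hd (m + 1) (he (m + 1)))
  rw [E_inf_QF hK d hd 0] at h1
  exact (Submodule.mem_bot ℚ).1 h1

theorem one_tmul_mu (y : K) {e : ℕ → ℚ ⊗[ℤ] K} (he : ∀ m, e m ∈ E P m)
    (hsum : (1 : ℚ) ⊗ₜ[ℤ] y = ∑ m ∈ range (d + 1), e m) (i : ℕ) :
    (1 : ℚ) ⊗ₜ[ℤ] mu P i y = ∑ m ∈ range (d + 1), aCoef i m • e m := by
  have hterm : ∀ j : ℕ, (1 : ℚ) ⊗ₜ[ℤ] ((i.choose j : K) *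
      (if j = 0 then 0 else (-1 : K) ^ (j + 1) * adams P j y)) =
      ∑ m ∈ range (d + 1), ((i.choose j : ℚ) * (if j = 0 then 0 else (-1 : ℚ) ^ (j + 1)) *
        (j : ℚ) ^ m) • e m := by
    intro j
    by_cases h0 : j = 0
    · subst h0
      simp
    · rw [if_neg h0, if_neg h0]
      have h1 : (i.choose j : K) * ((-1 : K) ^ (j + 1) * adams P j y) =
          (((i.choose j : ℤ) * (-1) ^ (j + 1) : ℤ) : K) * adams P j y := by
        push_cast; ring
      rw [h1, ← intCast_smul_one_tmul, ← PsiQ_tmul, hsum, map_sum, smul_sum]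
      refine sum_congr rfl fun m _ => ?_
      rw [PsiQ_apply_of_mem_E hK d hd (he m) j (by omega), smul_smul]
      congr 1
      push_cast
      ring
  rw [mu, TensorProduct.tmul_sum, sum_congr rfl (fun j _ => hterm j), sum_comm]
  refine sum_congr rfl fun m _ => ?_
  rw [aCoef, sum_smul]

/-- Newton's relation between the classes of `γ^k y` and the classes of the eigen-components
of `y`. -/
theorem newton_gr (y : K) (hy : P.aug y = 0) {e : ℕ → ℚ ⊗[ℤ] K} (he : ∀ m, e m ∈ E P m)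
    (he0 : e 0 = 0) (hed : ∀ m, d < m → e m = 0)
    (hsum : (1 : ℚ) ⊗ₜ[ℤ] y = ∑ m ∈ range (d + 1), e m) (k : ℕ) :
    (k : ℚ) • cls P k ((1 : ℚ) ⊗ₜ[ℤ] gamma k y) =
      ∑ i ∈ range (k + 1), aCoef i i •
        (cls P (k - i) ((1 : ℚ) ⊗ₜ[ℤ] gamma (k - i) y) * cls P i (e i)) := by
  have hg : ∀ n, (1 : ℚ) ⊗ₜ[ℤ] gamma n y ∈ QF P n := fun n =>
    one_tmul_mem_QF P (gamma_mem_gammaFiltration P n y hy)
  have h1 : (k : ℚ) • ((1 : ℚ) ⊗ₜ[ℤ] gamma k y) =
      ∑ i ∈ range (k + 1), ((1 : ℚ) ⊗ₜ[ℤ] gamma (k - i) y) *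
        ∑ m ∈ range (d + 1), aCoef i m • e m := by
    have := intCast_smul_one_tmul (k : ℤ) (gamma k y)
    rw [Int.cast_natCast, Int.cast_natCast] at this
    rw [this, natCast_mul_gamma P y k, TensorProduct.tmul_sum]
    refine sum_congr rfl fun i _ => ?_
    rw [← one_tmul_mu hK d hd y he hsum i, Algebra.TensorProduct.tmul_mul_tmul, one_mul]
  have h2 := congrArg (cls P k) h1
  rw [map_smul, map_sum] at h2
  rw [h2]
  refine sum_congr rfl fun i hi => ?_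
  rw [mem_range] at hi
  rw [mul_sum, map_sum]
  by_cases hid : i ∈ range (d + 1)
  · rw [sum_eq_single_of_mem i hid]
    · rw [mul_smul_comm, map_smul]
      congr 1
      have := cls_mul P (hg (k - i)) (E_le_QF hK d hd i (he i))
      rwa [Nat.sub_add_cancel (by omega)] at this
    · intro m _ hmi
      rw [mul_smul_comm, map_smul]
      rcases Nat.lt_or_ge m i with hlt | hge
      · rcases Nat.eq_zero_or_pos m with h0 | hpos
        · subst h0
          rw [he0, mul_zero, map_zero, smul_zero]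
        · rw [aCoef_eq_zero hpos hlt, zero_smul]
      · have hmem := mul_mem_QF P (hg (k - i)) (E_le_QF hK d hd m (he m))
        have hle : k + 1 ≤ k - i + m := by omega
        rw [cls_eq_zero_of_mem P k (QF_anti P hle hmem), smul_zero]
  · have hi' : d < i := by
      rw [mem_range] at hid; omega
    rw [hed i hi', map_zero, mul_zero, smul_zero]
    refine sum_eq_zero fun m hm => ?_
    rw [mem_range] at hm
    rw [mul_smul_comm, map_smul]
    rcases Nat.eq_zero_or_pos m with h0 | hpos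
    · subst h0
      rw [he0, mul_zero, map_zero, smul_zero]
    · rw [aCoef_eq_zero hpos (by omega), zero_smul]

end Eigen

end Groth.Agent.Lib.Seat97.ChernEigen

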