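import Groth.Agent.Lib.Seat97ChernCh
import Mathlib

/-!
# Seat97: the Chern character `ℚ ⊗ K → ℚGr K` is an isomorphism
-/

set_option autoImplicit false
set_option linter.unusedSectionVars false
set_option linter.style.haveILetI false

universe u

namespace Groth.Agent.Lib.Seat97.ChernMain

open LambdaRing KGr TensorProduct Finset
open Groth.Agent.Lib.Helper4
open Groth.Agent.Lib.Seat97.ChernRees Groth.Agent.Lib.Seat97.ChernGamma
open Groth.Agent.Lib.Seat97.ChernEigen Groth.Agent.Lib.Seat97.ChernCh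

variable {K : Type u} [CommRing K] [LambdaOps K] {P : PosStructure K}
variable (hK : HasSplitting K P) (d : ℕ) (hd : gammaFiltration P (d + 1) = ⊥)

include hK hd

/-- a linear map which is the class map `cls P m` on the `m`-th eigenspace. -/
theorem exists_Phi : ∃ Φ : ℚ ⊗[ℤ] K →ₗ[ℚ] Gr P, ∀ m v, v ∈ E P m → Φ v = cls P m v := by
  classical
  have hfil := filEigen hK d hd 2 le_rfl
  have hind : iSupIndep (fun m => E P m) := by
    have h1 := Module.End.eigenspaces_iSupIndep (PsiQ P 2)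
    have hinj : Function.Injective (fun m : ℕ => ((2 : ℕ) : ℚ) ^ m) := hfil.inj
    exact h1.comp hinj
  have htop : ⨆ m, E P m = ⊤ := by
    rw [eq_top_iff, ← hfil.iSup_eigen_eq_top]
    exact iSup₂_le fun m _ => le_iSup (fun m => E P m) m
  have hint : DirectSum.IsInternal (fun m => E P m) :=
    DirectSum.isInternal_submodule_of_iSupIndep_of_iSup_eq_top hind htop
  let eqv := LinearEquiv.ofBijective (DirectSum.coeLinearMap (fun m => E P m)) hint
  let T : (DirectSum ℕ fun m => E P m) →ₗ[ℚ] Gr P :=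
    DirectSum.toModule ℚ ℕ (Gr P) (fun m => (cls P m).comp (E P m).subtype)
  refine ⟨T.comp eqv.symm.toLinearMap, ?_⟩
  intro m v hv
  have h1 : eqv.symm v = DirectSum.lof ℚ ℕ (fun m => E P m) m ⟨v, hv⟩ := by
    rw [LinearEquiv.symm_apply_eq]
    change v = DirectSum.coeLinearMap (fun m => E P m) _
    rw [DirectSum.lof_eq_of, DirectSum.coeLinearMap_of]
  rw [LinearMap.comp_apply, LinearEquiv.coe_coe, h1, DirectSum.toModule_lof]
  rfl

theorem one_tmul_one_mem_E : (1 : ℚ) ⊗ₜ[ℤ] (1 : K) ∈ E P 0 := by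
  rw [E, Module.End.mem_eigenspace_iff, PsiQ_tmul, adams_one, pow_zero, one_smul]

/-- the Chern character induces a bijection `ℚ ⊗ K → ℚGr K`. -/
theorem chernCharacter_bijective :
    ∃ Φ : ℚ ⊗[ℤ] K →ₗ[ℚ] Gr P, (∀ x : K, Φ ((1 : ℚ) ⊗ₜ[ℤ] x) = chK P d x) ∧
      Function.Bijective Φ := by
  obtain ⟨Φ, hΦ⟩ := exists_Phi hK d hd
  refine ⟨Φ, ?_, ?_, ?_⟩
  · intro x
    have hy : P.aug (x - (P.aug x : K)) = 0 := aug_sub_aug P x
    obtain ⟨e, he, hed, hsum⟩ := exists_decomp hK d hd ((1 : ℚ) ⊗ₜ[ℤ] (x - (P.aug x : K)))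
    have he0 := decomp_zero hK d hd he
      (one_tmul_mem_QF P (mem_gammaFiltration_one P _ hy)) hsum
    rw [chK_eq hK d hd x he he0 hed hsum]
    have hx : (1 : ℚ) ⊗ₜ[ℤ] x = (P.aug x : ℚ) • ((1 : ℚ) ⊗ₜ[ℤ] (1 : K)) +
        ∑ m ∈ range (d + 1), e m := by
      rw [← hsum, intCast_smul_one_tmul, mul_one, ← TensorProduct.tmul_add]
      congr 1
      ring
    rw [hx, map_add, map_smul, map_sum, hΦ 0 _ (one_tmul_one_mem_E hK d hd), cls_zero_one,
      Algebra.algebraMap_eq_smul_one]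
    congr 1
    exact sum_congr rfl fun m _ => hΦ m _ (he m)
  · rw [injective_iff_map_eq_zero]
    intro v hv
    obtain ⟨e, he, hed, hsum⟩ := exists_decomp hK d hd v
    rw [hsum, map_sum, sum_congr rfl (fun m _ => hΦ m _ (he m))] at hv
    rw [hsum]
    refine sum_eq_zero fun n hn => ?_
    have h1 := congrArg (kap P n) hv
    rw [map_sum, map_zero, sum_congr rfl (fun m _ => kap_cls P n m (E_le_QF hK d hd m (he m))),
      sum_ite_eq' (range (d + 1)) n, if_pos hn, Submodule.Quotient.mk_eq_zero] at h1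
    have h2 : e n ∈ E P n ⊓ QF P (n + 1) := ⟨he n, h1⟩
    rw [E_inf_QF hK d hd n] at h2
    exact (Submodule.mem_bot ℚ).1 h2
  · rw [← LinearMap.range_eq_top, eq_top_iff, ← clsSpan_eq_top P, clsSpan, Submodule.span_le]
    rintro _ ⟨n, w, hw, rfl⟩
    rw [← E_sup_QF hK d hd n, Submodule.mem_sup] at hw
    obtain ⟨a, ha, b, hb, rfl⟩ := hw
    refine ⟨a, ?_⟩
    rw [map_add, cls_eq_zero_of_mem P n hb, add_zero, hΦ n a ha]

end Groth.Agent.Lib.Seat97.ChernMain
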