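import Groth.Agent.Lib.Seat97ChernMain
import Mathlib

/-!
# Seat97: the Chern character `K → ℚGr K` is multiplicative
-/

set_option autoImplicit false
set_option linter.unusedSectionVars false
set_option linter.style.haveILetI false

universe u

namespace Groth.Agent.Lib.Seat97.ChernMul

open LambdaRing KGr TensorProduct Finset
open Groth.Agent.Lib.Helper4
open Groth.Agent.Lib.Seat97.ChernRees Groth.Agent.Lib.Seat97.ChernGamma
open Groth.Agent.Lib.Seat97.ChernEigen Groth.Agent.Lib.Seat97.ChernCh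
open Groth.Agent.Lib.Seat97.ChernMain

variable {K : Type u} [CommRing K] [LambdaOps K] {P : PosStructure K}
variable (hK : HasSplitting K P) (d : ℕ) (hd : gammaFiltration P (d + 1) = ⊥)

include hK

theorem PsiQ_mul (j : ℕ) (u v : ℚ ⊗[ℤ] K) : PsiQ P j (u * v) = PsiQ P j u * PsiQ P j v := by
  induction u using TensorProduct.induction_on with
  | zero => simp
  | tmul q x =>
    induction v using TensorProduct.induction_on with
    | zero => simp
    | tmul q' x' =>
      have h : ∀ (r : ℚ) (z : K), PsiQ P j (r ⊗ₜ[ℤ] z) = r ⊗ₜ[ℤ] adams P j z := fun _ _ => rfl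
      rw [Algebra.TensorProduct.tmul_mul_tmul, h, h, h, Algebra.TensorProduct.tmul_mul_tmul,
        adams_mul hK]
    | add a b ha hb => rw [mul_add, map_add, ha, hb, map_add, mul_add]
  | add a b ha hb => rw [add_mul, map_add, ha, hb, map_add, add_mul]

theorem mul_mem_E {a b : ℕ} {u v : ℚ ⊗[ℤ] K} (hu : u ∈ E P a) (hv : v ∈ E P b) :
    u * v ∈ E P (a + b) := by
  rw [E, Module.End.mem_eigenspace_iff] at hu hv ⊢
  rw [PsiQ_mul hK, hu, hv, smul_mul_smul_comm, pow_add]

include hd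

/-- a linear map which is the class map on each eigenspace and the Chern character on `K`. -/
theorem exists_Phi_chK : ∃ Φ : ℚ ⊗[ℤ] K →ₗ[ℚ] Gr P, (∀ m v, v ∈ E P m → Φ v = cls P m v) ∧
    ∀ x : K, Φ ((1 : ℚ) ⊗ₜ[ℤ] x) = chK P d x := by
  obtain ⟨Φ, hΦ⟩ := exists_Phi hK d hd
  refine ⟨Φ, hΦ, ?_⟩
  intro x
  have hy : P.aug (x - (P.aug x : K)) = 0 := aug_sub_aug P x
  obtain ⟨e, he, hed, hsum⟩ := exists_decomp hK d hd ((1 : ℚ) ⊗ₜ[ℤ] (x - (P.aug x : K)))
  have he0 := decomp_zero hK d hd he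
    (one_tmul_mem_QF P (mem_gammaFiltration_one P _ hy)) hsum
  rw [chK_eq hK d hd x he he0 hed hsum]
  have hx : (1 : ℚ) ⊗ₜ[ℤ] x = (P.aug x : ℚ) • ((1 : ℚ) ⊗ₜ[ℤ] (1 : K)) +
      ∑ m ∈ range (d + 1), e m := by
    rw [← hsum, intCast_smul_one_tmul, mul_one, ← TensorProduct.tmul_add]
    congr 1
    ring
  rw [hx, map_add, map_smul, map_sum, hΦ 0 _ (one_tmul_one_mem_E hK d hd), cls_zero_one,
    Algebra.algebraMap_eq_smul_one]
  congr 1
  exact sum_congr rfl fun m _ => hΦ m _ (he m)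

/-- the Chern character is multiplicative and unital. -/
theorem chK_mul (x y : K) :
    chK P d (x * y) = chK P d x * chK P d y ∧ chK P d 1 = 1 := by
  obtain ⟨Φ, hΦ, hch⟩ := exists_Phi_chK hK d hd
  have hmul : ∀ u v : ℚ ⊗[ℤ] K, Φ (u * v) = Φ u * Φ v := by
    intro u v
    obtain ⟨e, he, -, hu⟩ := exists_decomp hK d hd u
    obtain ⟨f, hf, -, hv⟩ := exists_decomp hK d hd v
    rw [hu, hv, sum_mul_sum, map_sum, map_sum, map_sum, sum_mul_sum]
    refine sum_congr rfl fun a _ => ?_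
    rw [map_sum]
    refine sum_congr rfl fun b _ => ?_
    rw [hΦ (a + b) _ (mul_mem_E hK (he a) (hf b)), hΦ a _ (he a), hΦ b _ (hf b),
      cls_mul P (E_le_QF hK d hd a (he a)) (E_le_QF hK d hd b (hf b))]
  refine ⟨?_, ?_⟩
  · rw [← hch, ← hch, ← hch, ← hmul, Algebra.TensorProduct.tmul_mul_tmul, one_mul]
  · rw [← hch, hΦ 0 _ (one_tmul_one_mem_E hK d hd), cls_zero_one]

end Groth.Agent.Lib.Seat97.ChernMul
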