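import Groth.Prelude.Def_KGr
import Groth.Agent.Lib.Helper4LambdaEigen
import Mathlib

/-!
# Seat97: structure of the graded ring `KGr.Gr P` of the γ-filtration

`cls P n : ℚ ⊗ K →ₗ[ℚ] KGr.Gr P` restricts on `QF P n` (the ℚ-span of `F^n`) to the class map in
degree `n`; it kills `QF P (n+1)`, is multiplicative, `kap P m` reads off the degree-`m` component
modulo `QF P (m+1)`, and the classes span `KGr.Gr P`.
-/

set_option autoImplicit false
set_option linter.unusedSectionVars false
set_option linter.style.haveILetI false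

universe u

namespace Groth.Agent.Lib.Seat97.ChernRees

open LambdaRing KGr LaurentPolynomial TensorProduct
open Groth.Agent.Lib.Helper4

variable {K : Type u} [CommRing K] [LambdaOps K] (P : PosStructure K)

/-- the generator `x t^{-n}`, `x ∈ F^n`, lies in the Rees ring. -/
theorem gen_mem_rees {n : ℕ} {x : K} (hx : x ∈ gammaFiltration P n) :
    C x * T (-(n : ℤ)) ∈ rees P :=
  Subring.subset_closure (Set.mem_insert_of_mem _ ⟨n, x, hx, rfl⟩)

theorem coeff_C_mul_T (x : K) (k m : ℤ) :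
    (C x * T k : LaurentPolynomial K).coeff m = if k = m then x else 0 := by
  rw [← single_eq_C_mul_T, AddMonoidAlgebra.coeff_single, Finsupp.single_apply]

theorem coeff_T (k m : ℤ) :
    (T k : LaurentPolynomial K).coeff m = if k = m then 1 else 0 := by
  rw [T, AddMonoidAlgebra.coeff_single, Finsupp.single_apply]

theorem mul_mem_toNat {a b : ℤ} {x y : K} (hx : x ∈ gammaFiltration P a.toNat)
    (hy : y ∈ gammaFiltration P b.toNat) : x * y ∈ gammaFiltration P (a + b).toNat :=
  gammaFiltration_anti P (by omega) (mul_mem_gammaFiltration P _ _ x y hx hy)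

/-- coefficients of elements of the Rees ring lie in the filtration. -/
theorem coeff_mem_of_mem_rees {p : LaurentPolynomial K} (hp : p ∈ rees P) :
    ∀ n : ℤ, p.coeff n ∈ gammaFiltration P (-n).toNat := by
  induction hp using Subring.closure_induction with
  | mem p hp =>
    intro n
    rcases hp with rfl | ⟨m, x, hx, rfl⟩
    · rw [coeff_T]
      split_ifs with h
      · subst h
        simp [gammaFiltration_zero]
      · exact zero_mem _
    · rw [coeff_C_mul_T]
      split_ifs with h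
      · subst h
        simpa using hx
      · exact zero_mem _
  | zero => intro n; simp
  | one =>
    intro n
    have : (1 : LaurentPolynomial K) = T 0 := T_zero.symm
    rw [this, coeff_T]
    split_ifs with h
    · subst h
      simp [gammaFiltration_zero]
    · exact zero_mem _
  | add p q _ _ hp hq =>
    intro n
    rw [AddMonoidAlgebra.coeff_add, Finsupp.add_apply]
    exact add_mem (hp n) (hq n)
  | neg p _ hp =>
    intro n
    rw [AddMonoidAlgebra.coeff_neg, Finsupp.neg_apply]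
    exact neg_mem (hp n)
  | mul p q _ _ hp hq =>
    intro n
    rw [AddMonoidAlgebra.coeff_mul_apply_left, Finsupp.sum]
    refine sum_mem fun h _ => ?_
    have := mul_mem_toNat P (hp h) (hq (-h + n))
    have e : -h + -(-h + n) = -n := by ring
    rwa [e] at this

/-- the class of `x t^{-n}` in `GrZ P`, additive in `x ∈ F^n`. -/
noncomputable def grHom (n : ℕ) : gammaFiltration P n →+ GrZ P where
  toFun x := Ideal.Quotient.mk (Ideal.span {tGen P}) ⟨C (x : K) * T (-(n : ℤ)), gen_mem_rees P x.2⟩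
  map_zero' := by
    have : (⟨C ((0 : gammaFiltration P n) : K) * T (-(n : ℤ)), gen_mem_rees P (0 : gammaFiltration P n).2⟩ :
        rees P) = 0 := Subtype.ext (by simp)
    rw [this, map_zero]
  map_add' x y := by
    rw [← map_add]
    congr 1
    apply Subtype.ext
    simp [add_mul]

theorem grHom_apply (n : ℕ) (x : gammaFiltration P n) :
    grHom P n x = Ideal.Quotient.mk (Ideal.span {tGen P})
      ⟨C (x : K) * T (-(n : ℤ)), gen_mem_rees P x.2⟩ := rfl

/-- the inclusion `ℚ ⊗ F^n → ℚ ⊗ K`. -/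
noncomputable def incl (n : ℕ) : ℚ ⊗[ℤ] gammaFiltration P n →ₗ[ℚ] ℚ ⊗[ℤ] K :=
  LinearMap.baseChange ℚ (gammaFiltration P n).subtype.toIntLinearMap

theorem incl_tmul (n : ℕ) (q : ℚ) (x : gammaFiltration P n) :
    incl P n (q ⊗ₜ x) = q ⊗ₜ (x : K) := rfl

theorem incl_injective (n : ℕ) : Function.Injective (incl P n) := by
  rw [incl, LinearMap.baseChange_eq_ltensor]
  exact Module.Flat.lTensor_preserves_injective_linearMap _ (Subtype.val_injective)

/-- a retraction of `incl`. -/
noncomputable def retr (n : ℕ) : ℚ ⊗[ℤ] K →ₗ[ℚ] ℚ ⊗[ℤ] gammaFiltration P n :=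
  (LinearMap.exists_leftInverse_of_injective (incl P n)
    (LinearMap.ker_eq_bot.2 (incl_injective P n))).choose

theorem retr_incl (n : ℕ) (z : ℚ ⊗[ℤ] gammaFiltration P n) : retr P n (incl P n z) = z := by
  have := (LinearMap.exists_leftInverse_of_injective (incl P n)
    (LinearMap.ker_eq_bot.2 (incl_injective P n))).choose_spec
  exact LinearMap.congr_fun this z

/-- the class map in degree `n`: a ℚ-linear map on all of `ℚ ⊗ K` whose restriction to `QF P n`
is the canonical one. -/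
noncomputable def cls (n : ℕ) : ℚ ⊗[ℤ] K →ₗ[ℚ] Gr P :=
  (LinearMap.baseChange ℚ (grHom P n).toIntLinearMap).comp (retr P n)

theorem cls_tmul (n : ℕ) {x : K} (hx : x ∈ gammaFiltration P n) :
    cls P n ((1 : ℚ) ⊗ₜ[ℤ] x) = (1 : ℚ) ⊗ₜ[ℤ] Ideal.Quotient.mk (Ideal.span {tGen P})
      ⟨C x * T (-(n : ℤ)), gen_mem_rees P hx⟩ := by
  have h1 : (1 : ℚ) ⊗ₜ[ℤ] x = incl P n ((1 : ℚ) ⊗ₜ[ℤ] (⟨x, hx⟩ : gammaFiltration P n)) := rfl
  rw [cls, LinearMap.comp_apply, h1, retr_incl, LinearMap.baseChange_tmul]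
  rfl

theorem one_tmul_mem_QF {n : ℕ} {x : K} (hx : x ∈ gammaFiltration P n) :
    (1 : ℚ) ⊗ₜ[ℤ] x ∈ QF P n :=
  Submodule.subset_span ⟨x, hx, rfl⟩

theorem QF_anti {m n : ℕ} (h : m ≤ n) : QF P n ≤ QF P m :=
  Submodule.span_mono (Set.image_mono (gammaFiltration_anti P h))

theorem grK_aux (n : ℕ) {x : K} (hx : x ∈ gammaFiltration P n) (N : ℕ) (hN1 : 1 ≤ N)
    (hmem : C ((N : K) * x) * T (-(n : ℤ)) ∈ rees P) :
    ((1 : ℚ) / (N : ℚ)) ⊗ₜ[ℤ] Ideal.Quotient.mk (Ideal.span {tGen P})
      (⟨C ((N : K) * x) * T (-(n : ℤ)), hmem⟩ : rees P) =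
    (1 : ℚ) ⊗ₜ[ℤ] Ideal.Quotient.mk (Ideal.span {tGen P})
      (⟨C x * T (-(n : ℤ)), gen_mem_rees P hx⟩ : rees P) := by
  have e1 : (⟨C ((N : K) * x) * T (-(n : ℤ)), hmem⟩ : rees P) =
      (N : ℤ) • (⟨C x * T (-(n : ℤ)), gen_mem_rees P hx⟩ : rees P) := by
    apply Subtype.ext
    simp only [zsmul_eq_mul, Subring.coe_mul, Subring.coe_natCast, map_mul, map_natCast,
      Int.cast_natCast, mul_assoc]
  rw [e1, map_zsmul, ← TensorProduct.smul_tmul]
  congr 1
  have : (N : ℚ) ≠ 0 := by exact_mod_cast (by omega : N ≠ 0)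
  rw [zsmul_eq_mul, Int.cast_natCast]
  field_simp

/-- `grK` is the class map on `F^n`. -/
theorem grK_eq_cls (n : ℕ) {x : K} (hx : x ∈ gammaFiltration P n) :
    grK P (n : ℤ) x = cls P n ((1 : ℚ) ⊗ₜ[ℤ] x) := by
  have hex : ∃ N : ℕ, 1 ≤ N ∧ C ((N : K) * x) * T (-(n : ℤ)) ∈ rees P :=
    ⟨1, le_rfl, by simpa using gen_mem_rees P hx⟩
  rw [grK, dif_pos hex, cls_tmul P n hx]
  exact grK_aux P n hx _ hex.choose_spec.1 hex.choose_spec.2

/-- the class in degree `n` of an element of `QF P (n+1)` vanishes. -/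
theorem cls_eq_zero_of_mem (n : ℕ) {w : ℚ ⊗[ℤ] K} (hw : w ∈ QF P (n + 1)) : cls P n w = 0 := by
  induction hw using Submodule.span_induction with
  | mem w hw =>
    obtain ⟨x, hx, rfl⟩ := hw
    have hx' : x ∈ gammaFiltration P n := gammaFiltration_anti P (Nat.le_succ n) hx
    rw [cls_tmul P n hx']
    have : Ideal.Quotient.mk (Ideal.span {tGen P})
        (⟨C x * T (-(n : ℤ)), gen_mem_rees P hx'⟩ : rees P) = 0 := by
      rw [Ideal.Quotient.eq_zero_iff_mem, Ideal.mem_span_singleton']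
      refine ⟨⟨C x * T (-((n + 1 : ℕ) : ℤ)), gen_mem_rees P hx⟩, ?_⟩
      apply Subtype.ext
      change C x * T (-((n + 1 : ℕ) : ℤ)) * T 1 = C x * T (-(n : ℤ))
      rw [mul_assoc, ← T_add]
      congr 2
      push_cast
      ring
    rw [this, TensorProduct.tmul_zero]
  | zero => simp
  | add a b _ _ ha hb => rw [map_add, ha, hb, add_zero]
  | smul c a _ ha => rw [map_smul, ha, smul_zero]

theorem mul_mem_QF {a b : ℕ} {u v : ℚ ⊗[ℤ] K} (hu : u ∈ QF P a) (hv : v ∈ QF P b) :
    u * v ∈ QF P (a + b) := by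
  induction hu using Submodule.span_induction with
  | mem u hu =>
    obtain ⟨x, hx, rfl⟩ := hu
    induction hv using Submodule.span_induction with
    | mem v hv =>
      obtain ⟨y, hy, rfl⟩ := hv
      rw [Algebra.TensorProduct.tmul_mul_tmul, one_mul]
      exact one_tmul_mem_QF P (mul_mem_gammaFiltration P a b x y hx hy)
    | zero => simp
    | add c e _ _ hc he => rw [mul_add]; exact add_mem hc he
    | smul q c _ hc => rw [mul_smul_comm]; exact Submodule.smul_mem _ _ hc
  | zero => simp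
  | add c e _ _ hc he => rw [add_mul]; exact add_mem hc he
  | smul q c _ hc => rw [smul_mul_assoc]; exact Submodule.smul_mem _ _ hc

/-- multiplicativity of the class maps. -/
theorem cls_mul {a b : ℕ} {u v : ℚ ⊗[ℤ] K} (hu : u ∈ QF P a) (hv : v ∈ QF P b) :
    cls P (a + b) (u * v) = cls P a u * cls P b v := by
  induction hu using Submodule.span_induction with
  | mem u hu =>
    obtain ⟨x, hx, rfl⟩ := hu
    induction hv using Submodule.span_induction with
    | mem v hv =>
      obtain ⟨y, hy, rfl⟩ := hv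
      rw [Algebra.TensorProduct.tmul_mul_tmul, one_mul,
        cls_tmul P (a + b) (mul_mem_gammaFiltration P a b x y hx hy), cls_tmul P a hx,
        cls_tmul P b hy, Algebra.TensorProduct.tmul_mul_tmul, one_mul, ← map_mul]
      congr 2
      apply Subtype.ext
      change C (x * y) * T (-((a + b : ℕ) : ℤ)) = C x * T (-(a : ℤ)) * (C y * T (-(b : ℤ)))
      have : (-((a + b : ℕ) : ℤ)) = -(a : ℤ) + -(b : ℤ) := by push_cast; ring
      rw [this, T_add, map_mul]
      ring
    | zero => simp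
    | add c e _ _ hc he => rw [mul_add, map_add, map_add, hc, he, mul_add]
    | smul q c _ hc => rw [mul_smul_comm, map_smul, map_smul, hc, mul_smul_comm]
  | zero => simp
  | add c e _ _ hc he => rw [add_mul, map_add, map_add, hc, he, add_mul]
  | smul q c _ hc => rw [smul_mul_assoc, map_smul, map_smul, hc, smul_mul_assoc]

/-- the coefficient of `t^{-m}`, with values in `(ℚ ⊗ K) / QF P (m+1)`, on the Rees ring. -/
noncomputable def coefRees (m : ℕ) : rees P →ₗ[ℤ] (ℚ ⊗[ℤ] K) ⧸ QF P (m + 1) where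
  toFun p := Submodule.Quotient.mk ((1 : ℚ) ⊗ₜ[ℤ] ((p : LaurentPolynomial K).coeff (-(m : ℤ))))
  map_add' p q := by
    rw [Subring.coe_add, AddMonoidAlgebra.coeff_add, Finsupp.add_apply, TensorProduct.tmul_add,
      Submodule.Quotient.mk_add]
  map_smul' c p := by
    have : ((c • p : rees P) : LaurentPolynomial K) = c • (p : LaurentPolynomial K) := by
      simp
    rw [this]
    have h2 : (c • (p : LaurentPolynomial K)).coeff (-(m : ℤ)) =
        c • (p : LaurentPolynomial K).coeff (-(m : ℤ)) := by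
      rw [AddMonoidAlgebra.coeff_smul, Finsupp.smul_apply]
    rw [h2, TensorProduct.tmul_smul, Submodule.Quotient.mk_smul]
    rfl

theorem coefRees_apply (m : ℕ) (p : rees P) :
    coefRees P m p =
      Submodule.Quotient.mk ((1 : ℚ) ⊗ₜ[ℤ] ((p : LaurentPolynomial K).coeff (-(m : ℤ)))) := rfl

theorem coefRees_vanish (m : ℕ) :
    (Ideal.span {tGen P}).restrictScalars ℤ ≤ LinearMap.ker (coefRees P m) := by
  intro p hp
  rw [Submodule.restrictScalars_mem, Ideal.mem_span_singleton'] at hp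
  obtain ⟨a, rfl⟩ := hp
  rw [LinearMap.mem_ker, coefRees_apply, Submodule.Quotient.mk_eq_zero]
  apply one_tmul_mem_QF
  have h1 : ((a * tGen P : rees P) : LaurentPolynomial K) = (a : LaurentPolynomial K) * T 1 := rfl
  rw [h1, T, AddMonoidAlgebra.coeff_mul_single_apply, mul_one]
  have := coeff_mem_of_mem_rees P a.2 (-(m : ℤ) + -1)
  have e : (-(-(m : ℤ) + -1)).toNat = m + 1 := by omega
  rwa [e] at this

/-- the degree-`m` component of `GrZ P`, with values in `(ℚ ⊗ K) / QF P (m+1)`. -/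
noncomputable def coefGrZ (m : ℕ) : GrZ P →ₗ[ℤ] (ℚ ⊗[ℤ] K) ⧸ QF P (m + 1) :=
  (Submodule.liftQ ((Ideal.span {tGen P}).restrictScalars ℤ) (coefRees P m)
    (coefRees_vanish P m)).comp
    (Submodule.Quotient.restrictScalarsEquiv ℤ (Ideal.span {tGen P})).symm.toLinearMap

theorem coefGrZ_mk (m : ℕ) (p : rees P) :
    coefGrZ P m (Ideal.Quotient.mk (Ideal.span {tGen P}) p) = coefRees P m p := by
  rw [coefGrZ, LinearMap.comp_apply, ← Ideal.Quotient.mk_eq_mk]
  simp only [LinearEquiv.coe_coe, Submodule.Quotient.restrictScalarsEquiv_symm_mk,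
    Submodule.liftQ_apply]

/-- the degree-`m` component of `Gr P`, with values in `(ℚ ⊗ K) / QF P (m+1)`. -/
noncomputable def kap (m : ℕ) : Gr P →ₗ[ℚ] (ℚ ⊗[ℤ] K) ⧸ QF P (m + 1) :=
  LinearMap.liftBaseChange ℚ (coefGrZ P m)

theorem kap_cls (m n : ℕ) {w : ℚ ⊗[ℤ] K} (hw : w ∈ QF P n) :
    kap P m (cls P n w) = if n = m then Submodule.Quotient.mk w else 0 := by
  induction hw using Submodule.span_induction with
  | mem w hw =>
    obtain ⟨x, hx, rfl⟩ := hw
    rw [cls_tmul P n hx, kap, LinearMap.liftBaseChange_tmul, one_smul, coefGrZ_mk, coefRees_apply]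
    change Submodule.Quotient.mk ((1 : ℚ) ⊗ₜ[ℤ] ((C x * T (-(n : ℤ)) : LaurentPolynomial K).coeff
      (-(m : ℤ)))) = _
    rw [coeff_C_mul_T]
    by_cases h : n = m
    · subst h
      rw [if_pos rfl, if_pos rfl]
    · rw [if_neg h, if_neg (by omega), TensorProduct.tmul_zero, Submodule.Quotient.mk_zero]
  | zero => simp
  | add a b _ _ ha hb =>
    rw [map_add, map_add, ha, hb]
    split_ifs
    · rw [Submodule.Quotient.mk_add]
    · rw [add_zero]
  | smul c a _ ha =>
    rw [map_smul, map_smul, ha]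
    split_ifs
    · rw [Submodule.Quotient.mk_smul]
    · rw [smul_zero]

/-- the ℚ-span of all classes. -/
noncomputable def clsSpan : Submodule ℚ (Gr P) :=
  Submodule.span ℚ {g | ∃ (n : ℕ) (w : ℚ ⊗[ℤ] K), w ∈ QF P n ∧ cls P n w = g}

theorem cls_mem_clsSpan {n : ℕ} {w : ℚ ⊗[ℤ] K} (hw : w ∈ QF P n) : cls P n w ∈ clsSpan P :=
  Submodule.subset_span ⟨n, w, hw, rfl⟩

theorem mul_mem_clsSpan {g₁ g₂ : Gr P} (h₁ : g₁ ∈ clsSpan P) (h₂ : g₂ ∈ clsSpan P) :
    g₁ * g₂ ∈ clsSpan P := by
  induction h₁ using Submodule.span_induction with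
  | mem g₁ h₁ =>
    obtain ⟨a, u, hu, rfl⟩ := h₁
    induction h₂ using Submodule.span_induction with
    | mem g₂ h₂ =>
      obtain ⟨b, v, hv, rfl⟩ := h₂
      rw [← cls_mul P hu hv]
      exact cls_mem_clsSpan P (mul_mem_QF P hu hv)
    | zero => simp
    | add c e _ _ hc he => rw [mul_add]; exact add_mem hc he
    | smul q c _ hc => rw [mul_smul_comm]; exact Submodule.smul_mem _ _ hc
  | zero => simp
  | add c e _ _ hc he => rw [add_mul]; exact add_mem hc he
  | smul q c _ hc => rw [smul_mul_assoc]; exact Submodule.smul_mem _ _ hc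

theorem one_tmul_mk_mem_clsSpan {p : LaurentPolynomial K} (hp : p ∈ rees P) :
    (1 : ℚ) ⊗ₜ[ℤ] Ideal.Quotient.mk (Ideal.span {tGen P}) (⟨p, hp⟩ : rees P) ∈ clsSpan P := by
  induction hp using Subring.closure_induction with
  | mem p hp =>
    rcases hp with rfl | ⟨m, x, hx, rfl⟩
    · have : Ideal.Quotient.mk (Ideal.span {tGen P})
          (⟨T 1, Subring.subset_closure (Set.mem_insert _ _)⟩ : rees P) = 0 := by
        rw [Ideal.Quotient.eq_zero_iff_mem]
        exact Ideal.mem_span_singleton_self _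
      rw [this, TensorProduct.tmul_zero]
      exact zero_mem _
    · rw [← cls_tmul P m hx]
      exact cls_mem_clsSpan P (one_tmul_mem_QF P hx)
  | zero =>
    have : (⟨0, zero_mem _⟩ : rees P) = 0 := rfl
    rw [this, map_zero, TensorProduct.tmul_zero]
    exact zero_mem _
  | one =>
    have h1 : (1 : K) ∈ gammaFiltration P 0 := by rw [gammaFiltration_zero]; trivial
    have : (⟨1, one_mem _⟩ : rees P) = ⟨C 1 * T (-((0 : ℕ) : ℤ)), gen_mem_rees P h1⟩ := by
      apply Subtype.ext
      simp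
    rw [this, ← cls_tmul P 0 h1]
    exact cls_mem_clsSpan P (one_tmul_mem_QF P h1)
  | add p q hp hq ihp ihq =>
    have : (⟨p + q, add_mem hp hq⟩ : rees P) = ⟨p, hp⟩ + ⟨q, hq⟩ := rfl
    rw [this, map_add, TensorProduct.tmul_add]
    exact add_mem ihp ihq
  | neg p hp ihp =>
    have : (⟨-p, neg_mem hp⟩ : rees P) = -⟨p, hp⟩ := rfl
    rw [this, map_neg, TensorProduct.tmul_neg]
    exact neg_mem ihp
  | mul p q hp hq ihp ihq =>
    have : (⟨p * q, mul_mem hp hq⟩ : rees P) = ⟨p, hp⟩ * ⟨q, hq⟩ := rfl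
    rw [this, map_mul]
    have h2 := mul_mem_clsSpan P ihp ihq
    rwa [Algebra.TensorProduct.tmul_mul_tmul, one_mul] at h2

/-- the classes span `Gr P`. -/
theorem clsSpan_eq_top : clsSpan P = ⊤ := by
  rw [eq_top_iff]
  intro g hg
  clear hg
  induction g using TensorProduct.induction_on with
  | zero => exact zero_mem _
  | tmul q a =>
    obtain ⟨p, rfl⟩ := Ideal.Quotient.mk_surjective a
    have : q ⊗ₜ[ℤ] Ideal.Quotient.mk (Ideal.span {tGen P}) p =
        q • ((1 : ℚ) ⊗ₜ[ℤ] Ideal.Quotient.mk (Ideal.span {tGen P}) p) := by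
      rw [TensorProduct.smul_tmul', smul_eq_mul, mul_one]
    rw [this]
    exact Submodule.smul_mem _ _ (one_tmul_mk_mem_clsSpan P p.2)
  | add a b ha hb => exact add_mem ha hb

/-- `1` is the class of `1` in degree `0`. -/
theorem cls_zero_one : cls P 0 ((1 : ℚ) ⊗ₜ[ℤ] (1 : K)) = 1 := by
  have h1 : (1 : K) ∈ gammaFiltration P 0 := by rw [gammaFiltration_zero]; trivial
  rw [cls_tmul P 0 h1]
  have : (⟨C 1 * T (-((0 : ℕ) : ℤ)), gen_mem_rees P h1⟩ : rees P) = 1 := by
    apply Subtype.ext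
    simp
  rw [this, map_one]
  rfl

end Groth.Agent.Lib.Seat97.ChernRees




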