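import Groth.Agent.Lib.Seat97ToddPoly
import Mathlib

/-!
# Seat97: exponential and logarithm of nilpotent elements of a commutative `ℚ`-algebra

* `exp_eq_aeval_expTrunc`: `exp a = exp_{≤n}(a)` if `a^(n+1) = 0`;
* `exp_injective`: `exp` is injective on nilpotent elements;
* `exists_log`: every `1 + x` with `x` nilpotent is `exp a` for a nilpotent `a`.
-/

set_option autoImplicit false
set_option linter.unusedSectionVars false

namespace Groth.Agent.Lib.Seat97.NilExp

open KGr Groth.Agent.Lib.Seat97.ToddPoly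

variable {B : Type*} [CommRing B] [Algebra ℚ B]

theorem exp_eq_aeval_expTrunc {a : B} {n : ℕ} (h : a ^ (n + 1) = 0) :
    IsNilpotent.exp a = Polynomial.aeval a (expTrunc n) := by
  rw [IsNilpotent.exp_eq_sum h, expTrunc, map_sum]
  refine Finset.sum_congr rfl fun k _ => ?_
  rw [map_mul, Polynomial.aeval_C, map_pow, Polynomial.aeval_X, Algebra.smul_def]
  congr 2
  simp

theorem exists_exp_eq (t : B) (ht : IsNilpotent t) :
    ∃ g : B, IsNilpotent.exp t = 1 + t + t ^ 2 * g := by
  obtain ⟨k, hk⟩ := ht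
  have h2 : t ^ (k + 1 + 1) = 0 := by rw [pow_succ, pow_succ, hk, zero_mul, zero_mul]
  obtain ⟨g, hg⟩ := X_sq_dvd_exp (k + 1) (by omega)
  refine ⟨Polynomial.aeval t g, ?_⟩
  rw [exp_eq_aeval_expTrunc h2]
  have h3 := congrArg (Polynomial.aeval t) hg
  simp only [map_sub, map_one, Polynomial.aeval_X, map_mul, map_pow] at h3
  linear_combination h3

theorem eq_zero_of_exp_eq_one {t : B} (ht : IsNilpotent t) (h : IsNilpotent.exp t = 1) :
    t = 0 := by
  obtain ⟨g, hg⟩ := exists_exp_eq t ht
  rw [h] at hg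
  have h1 : t * (1 + t * g) = 0 := by linear_combination -hg
  have h2 : IsUnit (1 + t * g) :=
    IsNilpotent.isUnit_one_add ((Commute.all t g).isNilpotent_mul_right ht)
  exact (h2.mul_left_eq_zero).1 h1

theorem exp_injective {b c : B} (hb : IsNilpotent b) (hc : IsNilpotent c)
    (h : IsNilpotent.exp b = IsNilpotent.exp c) : b = c := by
  have h1 : IsNilpotent.exp (b + -c) = 1 := by
    rw [IsNilpotent.exp_add_of_commute (Commute.all _ _) hb hc.neg, h,
      IsNilpotent.exp_mul_exp_neg_self hc]
  have h2 : IsNilpotent (b + -c) := (Commute.all _ _).isNilpotent_add hb hc.neg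
  have := eq_zero_of_exp_eq_one h2 h1
  linear_combination this

theorem exists_log (x : B) (hx : IsNilpotent x) :
    ∃ a : B, IsNilpotent a ∧ IsNilpotent.exp a = 1 + x := by
  set I : Ideal B := Ideal.span {x} with hI
  have hnil : ∀ a ∈ I, IsNilpotent a := by
    intro a ha
    obtain ⟨r, rfl⟩ := Ideal.mem_span_singleton'.1 ha
    exact (Commute.all r x).isNilpotent_mul_left hx
  have key : ∀ k : ℕ, 1 ≤ k → ∃ a ∈ I, (1 + x) - IsNilpotent.exp a ∈ I ^ k := by
    intro k hk
    induction k, hk using Nat.le_induction with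
    | base =>
      refine ⟨0, zero_mem _, ?_⟩
      rw [IsNilpotent.exp_zero, pow_one, add_sub_cancel_left]
      exact Ideal.subset_span rfl
    | succ k hk ih =>
      obtain ⟨a, ha, hs⟩ := ih
      set s := (1 + x) - IsNilpotent.exp a with hsdef
      set t := s * IsNilpotent.exp (-a) with htdef
      have htk : t ∈ I ^ k := Ideal.mul_mem_right _ _ hs
      have htI : t ∈ I := Ideal.pow_le_self (by omega) htk
      obtain ⟨g, hg⟩ := exists_exp_eq t (hnil t htI)
      refine ⟨a + t, add_mem ha htI, ?_⟩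
      rw [IsNilpotent.exp_add_of_commute (Commute.all _ _) (hnil a ha) (hnil t htI), hg]
      have h1 : IsNilpotent.exp a * t = s := by
        rw [htdef, mul_comm s, ← mul_assoc, IsNilpotent.exp_mul_exp_neg_self (hnil a ha), one_mul]
      have h2 : (1 + x) - IsNilpotent.exp a * (1 + t + t ^ 2 * g) =
          -(IsNilpotent.exp a * g) * (t * t) := by
        have : (1 + x) = s + IsNilpotent.exp a := by rw [hsdef]; ring
        rw [this]
        linear_combination -h1
      rw [h2]
      refine Ideal.mul_mem_left _ _ ?_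
      have h3 : t * t ∈ I ^ k * I ^ k := Ideal.mul_mem_mul htk htk
      rw [← pow_add] at h3
      exact Ideal.pow_le_pow_right (by omega) h3
  obtain ⟨N, hN⟩ := hx
  obtain ⟨a, ha, h⟩ := key (N + 1) (by omega)
  have hbot : I ^ (N + 1) = ⊥ := by
    rw [hI, Ideal.span_singleton_pow, pow_succ, hN, zero_mul]
    exact Ideal.span_singleton_eq_bot.2 rfl
  rw [hbot, Ideal.mem_bot, sub_eq_zero] at h
  exact ⟨a, hnil a ha, h.symm⟩

end Groth.Agent.Lib.Seat97.NilExp
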