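import Groth.Agent.Lib.Seat97ChernMul
import Groth.Agent.Lib.Seat97NilExp
import Mathlib

/-!
# Seat97: Chern roots in a splitting extension

Weight filtration `Wt P n` (sums of `ψ²`-eigenvectors of weight `≥ n`) of `ℚ ⊗ K`, its behaviour
under products and base change along an extension of λ-rings, and the per-variable identities
for a nilpotent weight-one element `a` (a Chern root): `exp a - 1 - a ∈ Wt 2`,
`β(a)(exp a - 1) - a exp a ∈ Wt (d+2)`.
-/

set_option autoImplicit false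
set_option linter.unusedSectionVars false
set_option linter.style.haveILetI false

universe u

namespace Groth.Agent.Lib.Seat97.ChernRoots

open LambdaRing KGr TensorProduct Finset
open Groth.Agent.Lib.Helper4
open Groth.Agent.Lib.Seat97.ChernRees Groth.Agent.Lib.Seat97.ChernGamma
open Groth.Agent.Lib.Seat97.ChernEigen Groth.Agent.Lib.Seat97.ChernCh
open Groth.Agent.Lib.Seat97.ChernMain Groth.Agent.Lib.Seat97.ChernMul
open Groth.Agent.Lib.Seat97.ToddPoly Groth.Agent.Lib.Seat97.NilExp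

section Weights

variable {K : Type u} [CommRing K] [LambdaOps K] (P : PosStructure K)

/-- sums of eigenvectors of weight `≥ n`. -/
noncomputable def Wt (n : ℕ) : Submodule ℚ (ℚ ⊗[ℤ] K) := ⨆ j : ℕ, E P (n + j)

theorem E_le_Wt (n : ℕ) : E P n ≤ Wt P n := by
  have h := le_iSup (fun j => E P (n + j)) 0
  rw [add_zero] at h
  exact h

theorem Wt_anti {m n : ℕ} (h : m ≤ n) : Wt P n ≤ Wt P m := by
  refine iSup_le fun j => ?_
  obtain ⟨c, rfl⟩ := Nat.exists_eq_add_of_le h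
  have h1 := le_iSup (fun j => E P (m + j)) (c + j)
  rwa [← add_assoc] at h1

theorem one_mem_E_zero : (1 : ℚ ⊗[ℤ] K) ∈ E P 0 := by
  rw [E, Module.End.mem_eigenspace_iff, Algebra.TensorProduct.one_def, PsiQ_tmul, adams_one,
    pow_zero, one_smul]

theorem iSupIndep_E : iSupIndep (fun m => E P m) := by
  have h1 := Module.End.eigenspaces_iSupIndep (PsiQ P 2)
  have hinj : Function.Injective (fun m : ℕ => ((2 : ℕ) : ℚ) ^ m) := by
    intro a b hab
    have h2 : ((2 : ℕ) : ℚ) = 2 := by norm_num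
    simp only [h2] at hab
    exact pow_right_injective₀ (by norm_num : (0 : ℚ) < 2) (by norm_num) hab
  exact h1.comp hinj

theorem Wt_le_biSup (n : ℕ) : Wt P n ≤ ⨆ j ∈ {j : ℕ | n ≤ j}, E P j := by
  refine iSup_le fun j => ?_
  exact le_biSup (fun j => E P j) (show n + j ∈ {j : ℕ | n ≤ j} by simp)

theorem E_disjoint_Wt (i : ℕ) {v : ℚ ⊗[ℤ] K} (h1 : v ∈ E P i) (h2 : v ∈ Wt P (i + 1)) :
    v = 0 := by
  have hd := (iSupIndep_E P).disjoint_biSup (x := i) (y := {j : ℕ | i + 1 ≤ j}) (by simp)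
  exact (Submodule.disjoint_def.1 hd) v h1 (Wt_le_biSup P (i + 1) h2)

theorem sum_E_disjoint_Wt (d : ℕ) (ε : ℕ → ℚ ⊗[ℤ] K) (hε : ∀ j, ε j ∈ E P j)
    (h2 : ∑ j ∈ range (d + 1), ε j ∈ Wt P (d + 1)) : ∑ j ∈ range (d + 1), ε j = 0 := by
  have hdis : Disjoint ((range (d + 1) : Finset ℕ) : Set ℕ) {j : ℕ | d + 1 ≤ j} := by
    rw [Set.disjoint_left]
    intro j hj hj'
    simp only [coe_range, Set.mem_Iio] at hj
    have hj'' : d + 1 ≤ j := hj'
    omega
  have hd := (iSupIndep_E P).disjoint_biSup_biSup' hdis (Finset.finite_toSet _)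
  refine (Submodule.disjoint_def.1 hd) _ ?_ (Wt_le_biSup P (d + 1) h2)
  refine sum_mem fun j hj => ?_
  exact le_biSup (fun j => E P j) (show j ∈ ((range (d + 1) : Finset ℕ) : Set ℕ) from hj) (hε j)

variable {P}
variable (hK : HasSplitting K P)
include hK

theorem mul_mem_Wt {i j : ℕ} {u v : ℚ ⊗[ℤ] K} (hu : u ∈ Wt P i) (hv : v ∈ Wt P j) :
    u * v ∈ Wt P (i + j) := by
  refine Submodule.iSup_induction (fun a => E P (i + a)) (motive := fun u => u * v ∈ Wt P (i + j))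
    hu ?_ ?_ ?_
  · intro a u hu
    refine Submodule.iSup_induction (fun b => E P (j + b))
      (motive := fun v => u * v ∈ Wt P (i + j)) hv ?_ ?_ ?_
    · intro b v hv
      have h := mul_mem_E hK hu hv
      have e : i + a + (j + b) = i + j + (a + b) := by ring
      rw [e] at h
      exact Submodule.mem_iSup_of_mem (a + b) h
    · rw [mul_zero]; exact zero_mem _
    · intro v v' h h'
      rw [mul_add]; exact add_mem h h'
  · rw [zero_mul]; exact zero_mem _
  · intro u u' h h'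
    rw [add_mul]; exact add_mem h h'

theorem pow_mem_E {a : ℚ ⊗[ℤ] K} (ha : a ∈ E P 1) (k : ℕ) : a ^ k ∈ E P k := by
  induction k with
  | zero => rw [pow_zero]; exact one_mem_E_zero P
  | succ k ih =>
    rw [pow_succ]
    exact mul_mem_E hK ih ha

theorem aeval_mem_Wt_zero {a : ℚ ⊗[ℤ] K} (ha : a ∈ E P 1) (g : Polynomial ℚ) :
    Polynomial.aeval a g ∈ Wt P 0 := by
  rw [Polynomial.aeval_eq_sum_range]
  refine sum_mem fun k _ => Submodule.smul_mem _ _ ?_
  have h := E_le_Wt P k (pow_mem_E hK ha k)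
  exact Wt_anti P (Nat.zero_le k) h

theorem prod_sub_prod_mem_Wt {ι : Type*} (t : Finset ι) (b c : ι → ℚ ⊗[ℤ] K) (p q : ℕ)
    (hb : ∀ k ∈ t, b k ∈ Wt P p) (hc : ∀ k ∈ t, c k ∈ Wt P (p + q)) :
    (∏ k ∈ t, b k ∈ Wt P (p * t.card)) ∧
      (∏ k ∈ t, (b k + c k) - ∏ k ∈ t, b k ∈ Wt P (p * t.card + q)) := by
  classical
  induction t using Finset.induction_on with
  | empty =>
    refine ⟨?_, ?_⟩
    · rw [prod_empty, card_empty, mul_zero]
      exact E_le_Wt P 0 (one_mem_E_zero P)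
    · rw [prod_empty, prod_empty, sub_self]
      exact zero_mem _
  | insert k₀ t hk ih =>
    obtain ⟨ih1, ih2⟩ := ih (fun k hk' => hb k (mem_insert_of_mem hk'))
      (fun k hk' => hc k (mem_insert_of_mem hk'))
    have hb0 := hb k₀ (mem_insert_self _ _)
    have hc0 := hc k₀ (mem_insert_self _ _)
    rw [prod_insert hk, prod_insert hk, card_insert_of_notMem hk]
    refine ⟨?_, ?_⟩
    · have h := mul_mem_Wt hK hb0 ih1
      have e : p + p * t.card = p * (t.card + 1) := by ring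
      rwa [e] at h
    · have e1 : (b k₀ + c k₀) * ∏ k ∈ t, (b k + c k) - b k₀ * ∏ k ∈ t, b k =
          (b k₀ + c k₀) * (∏ k ∈ t, (b k + c k) - ∏ k ∈ t, b k) + c k₀ * ∏ k ∈ t, b k := by ring
      rw [e1]
      refine add_mem ?_ ?_
      · have hbc : b k₀ + c k₀ ∈ Wt P p := add_mem hb0 (Wt_anti P (Nat.le_add_right p q) hc0)
        have h := mul_mem_Wt hK hbc ih2
        have e : p + (p * t.card + q) = p * (t.card + 1) + q := by ring
        rwa [e] at h
      · have h := mul_mem_Wt hK hc0 ih1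
        have e : p + q + p * t.card = p * (t.card + 1) + q := by ring
        rwa [e] at h

/-- `exp a ≡ 1 + a` modulo weight `≥ 2`. -/
theorem exp_sub_mem_Wt {a : ℚ ⊗[ℤ] K} (ha : a ∈ E P 1) (hn : IsNilpotent a) :
    IsNilpotent.exp a - 1 - a ∈ Wt P 2 := by
  obtain ⟨N, hN⟩ := hn
  have h2 : a ^ (N + 1 + 1) = 0 := by rw [pow_succ, pow_succ, hN, zero_mul, zero_mul]
  obtain ⟨g, hg⟩ := X_sq_dvd_exp (N + 1) (by omega)
  rw [exp_eq_aeval_expTrunc h2]
  have h3 := congrArg (Polynomial.aeval a) hg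
  simp only [map_sub, map_one, Polynomial.aeval_X, map_mul, map_pow] at h3
  rw [h3]
  have h4 := mul_mem_Wt hK (E_le_Wt P 2 (pow_mem_E hK ha 2)) (aeval_mem_Wt_zero hK ha g)
  exact h4

theorem mul_exp_mem_Wt_zero {a : ℚ ⊗[ℤ] K} (ha : a ∈ E P 1) (hn : IsNilpotent a) :
    a * IsNilpotent.exp a ∈ Wt P 0 := by
  obtain ⟨N, hN⟩ := hn
  have h2 : a ^ (N + 1) = 0 := by rw [pow_succ, hN, zero_mul]
  rw [exp_eq_aeval_expTrunc h2]
  have h := aeval_mem_Wt_zero hK ha (Polynomial.X * expTrunc N)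
  rwa [map_mul, Polynomial.aeval_X] at h

/-- `β(a)(exp a - 1) ≡ a exp a` modulo weight `≥ d + 2`. -/
theorem todd_mul_exp_mem_Wt {a : ℚ ⊗[ℤ] K} (ha : a ∈ E P 1) (hn : IsNilpotent a) (d : ℕ) :
    Polynomial.aeval a (toddTrunc d) * (IsNilpotent.exp a - 1) - a * IsNilpotent.exp a ∈
      Wt P (d + 2) := by
  obtain ⟨N, hN⟩ := hn
  have h2 : a ^ (N + (d + 1) + 1) = 0 := by
    rw [pow_succ, pow_add, hN, zero_mul, zero_mul]
  obtain ⟨g, hg⟩ := X_pow_dvd_todd d (N + (d + 1)) (by omega)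
  rw [exp_eq_aeval_expTrunc h2]
  have h3 := congrArg (Polynomial.aeval a) hg
  simp only [map_sub, map_one, Polynomial.aeval_X, map_mul, map_pow] at h3
  rw [h3]
  have h4 := mul_mem_Wt hK (E_le_Wt P (d + 2) (pow_mem_E hK ha (d + 2)))
    (aeval_mem_Wt_zero hK ha g)
  exact h4

variable (d : ℕ) (hd : gammaFiltration P (d + 1) = ⊥)
include hd

theorem QF_le_Wt (n : ℕ) : QF P n ≤ Wt P n := by
  have key : ∀ k n : ℕ, d + 1 ≤ n + k → QF P n ≤ Wt P n := by
    intro k
    induction k with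
    | zero =>
      intro n hn
      rw [QF_eq_bot hK d hd (by omega)]
      exact bot_le
    | succ k ih =>
      intro n hn
      rw [← E_sup_QF hK d hd n]
      exact sup_le (E_le_Wt P n) ((ih (n + 1) (by omega)).trans (Wt_anti P (Nat.le_succ n)))
  exact key (d + 1) n (by omega)

/-- the Chern character as an algebra homomorphism `ℚ ⊗ K → ℚGr K`. -/
theorem exists_PhiAlg : ∃ Φ : ℚ ⊗[ℤ] K →ₐ[ℚ] Gr P, (∀ m v, v ∈ E P m → Φ v = cls P m v) ∧
    ∀ x : K, Φ ((1 : ℚ) ⊗ₜ[ℤ] x) = chK P d x := by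
  obtain ⟨Φ, hΦ, hch⟩ := exists_Phi_chK hK d hd
  have hmul : ∀ u v : ℚ ⊗[ℤ] K, Φ (u * v) = Φ u * Φ v := by
    intro u v
    obtain ⟨e, he, -, hu⟩ := exists_decomp hK d hd u
    obtain ⟨f, hf, -, hv⟩ := exists_decomp hK d hd v
    rw [hu, hv, sum_mul_sum, map_sum, map_sum, map_sum, sum_mul_sum]
    refine sum_congr rfl fun a _ => ?_
    rw [map_sum]
    refine sum_congr rfl fun b _ => ?_
    rw [hΦ (a + b) _ (mul_mem_E hK (he a) (hf b)), hΦ a _ (he a), hΦ b _ (hf b),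
      cls_mul P (E_le_QF hK d hd a (he a)) (E_le_QF hK d hd b (hf b))]
  have hone : Φ 1 = 1 := by
    rw [hΦ 0 _ (one_mem_E_zero P), Algebra.TensorProduct.one_def, cls_zero_one]
  exact ⟨AlgHom.ofLinearMap Φ hone hmul, hΦ, hch⟩

end Weights

section BaseChange

variable {K : Type u} [CommRing K] [LambdaOps K] {P : PosStructure K}
  {L : Type u} [CommRing L] [LambdaOps L] {PL : PosStructure L} (f : K →+* L)

/-- base change of a ring map to `ℚ ⊗ -`. -/
noncomputable def FQ : ℚ ⊗[ℤ] K →ₐ[ℚ] ℚ ⊗[ℤ] L :=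
  Algebra.TensorProduct.map (AlgHom.id ℚ ℚ) f.toIntAlgHom

theorem FQ_tmul (q : ℚ) (x : K) : FQ f (q ⊗ₜ[ℤ] x) = q ⊗ₜ[ℤ] f x := by
  rw [FQ, Algebra.TensorProduct.map_tmul]
  rfl

theorem FQ_injective (hinj : Function.Injective f) : Function.Injective (FQ f) := by
  have h1 : Function.Injective (LinearMap.lTensor ℚ f.toIntAlgHom.toLinearMap) :=
    Module.Flat.lTensor_preserves_injective_linearMap _ hinj
  have h2 : ∀ v, FQ f v = LinearMap.lTensor ℚ f.toIntAlgHom.toLinearMap v := by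
    intro v
    induction v using TensorProduct.induction_on with
    | zero => simp
    | tmul q x => rw [FQ_tmul]; rfl
    | add a b ha hb => rw [map_add, map_add, ha, hb]
  intro a b hab
  rw [h2, h2] at hab
  exact h1 hab

variable (hf : IsExtension P PL f)
include hf

theorem FQ_PsiQ (j : ℕ) (v : ℚ ⊗[ℤ] K) : FQ f (PsiQ P j v) = PsiQ PL j (FQ f v) := by
  induction v using TensorProduct.induction_on with
  | zero => simp
  | tmul q x =>
    have h : ∀ (r : ℚ) (z : K), PsiQ P j (r ⊗ₜ[ℤ] z) = r ⊗ₜ[ℤ] adams P j z := fun _ _ => rfl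
    have h' : ∀ (r : ℚ) (z : L), PsiQ PL j (r ⊗ₜ[ℤ] z) = r ⊗ₜ[ℤ] adams PL j z := fun _ _ => rfl
    rw [h, FQ_tmul, FQ_tmul, h', isExtension_map_adams hf]
  | add a b ha hb => rw [map_add, map_add, ha, hb, map_add, map_add]

theorem FQ_mem_E {m : ℕ} {v : ℚ ⊗[ℤ] K} (hv : v ∈ E P m) : FQ f v ∈ E PL m := by
  rw [E, Module.End.mem_eigenspace_iff] at hv ⊢
  rw [← FQ_PsiQ f hf, hv, map_smul]

theorem FQ_mem_Wt {n : ℕ} {v : ℚ ⊗[ℤ] K} (hv : v ∈ Wt P n) : FQ f v ∈ Wt PL n := by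
  refine Submodule.iSup_induction (fun a => E P (n + a)) (motive := fun v => FQ f v ∈ Wt PL n)
    hv ?_ ?_ ?_
  · intro a v hv
    exact Submodule.mem_iSup_of_mem a (FQ_mem_E f hf hv)
  · rw [map_zero]; exact zero_mem _
  · intro v v' h h'
    rw [map_add]; exact add_mem h h'

end BaseChange

end Groth.Agent.Lib.Seat97.ChernRoots
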