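import Groth.Agent.Lib.Seat97ChernRoots
import Groth.Agent.S8134
import Groth.Agent.Lib.Helper4LambdaBott
import Mathlib

set_option autoImplicit false
set_option linter.unusedSectionVars false
set_option linter.style.haveILetI false

universe u

namespace Groth.Agent.Lib.Seat97.ChernTop

open LambdaRing KGr TensorProduct Finset
open Groth.Agent.Lib.Helper4
open Groth.Agent.Lib.Seat97.ChernRees Groth.Agent.Lib.Seat97.ChernGamma
open Groth.Agent.Lib.Seat97.ChernEigen Groth.Agent.Lib.Seat97.ChernCh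
open Groth.Agent.Lib.Seat97.ChernMain Groth.Agent.Lib.Seat97.ChernMul
open Groth.Agent.Lib.Seat97.ToddPoly Groth.Agent.Lib.Seat97.NilExp
open Groth.Agent.Lib.Seat97.ChernRoots

/-- the elementary symmetric sum of a family. -/
noncomputable def es {R : Type*} [CommRing R] {n : ℕ} (x : Fin n → R) (j : ℕ) : R :=
  ∑ t ∈ (univ : Finset (Fin n)).powersetCard j, ∏ k ∈ t, x k

theorem isNilpotent_of_es {R : Type*} [CommRing R] {n : ℕ} (x : Fin n → R)
    (h : ∀ j, 1 ≤ j → IsNilpotent (es x j)) (k₀ : Fin n) : IsNilpotent (x k₀) := by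
  classical
  have hV := Multiset.prod_X_sub_X_eq_sum_esymm ((univ : Finset (Fin n)).val.map x)
  have h0 : Polynomial.eval (x k₀)
      ((((univ : Finset (Fin n)).val.map x).map fun t => Polynomial.X - Polynomial.C t).prod) = 0 := by
    rw [Multiset.map_map]
    change Polynomial.eval (x k₀) (∏ k : Fin n, (Polynomial.X - Polynomial.C (x k))) = 0
    rw [Polynomial.eval_prod]
    exact Finset.prod_eq_zero (mem_univ k₀) (by simp)
  rw [hV, Polynomial.eval_finsetSum] at h0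
  simp only [Multiset.card_map, Finset.card_val, card_univ, Fintype.card_fin, Polynomial.eval_mul,
    Polynomial.eval_pow, Polynomial.eval_C, Polynomial.eval_X, Polynomial.eval_neg,
    Polynomial.eval_one, Finset.esymm_map_val] at h0
  rw [sum_range_succ'] at h0
  simp only [pow_zero, one_mul, powersetCard_zero, sum_singleton, prod_empty, Nat.sub_zero] at h0
  have h1 : x k₀ ^ n ∈ nilradical R := by
    have : x k₀ ^ n = - ∑ j ∈ range n, (-1 : R) ^ (j + 1) *
        ((∑ t ∈ powersetCard (j + 1) univ, ∏ k ∈ t, x k) * x k₀ ^ (n - (j + 1))) := by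
      linear_combination h0
    rw [this]
    refine neg_mem (sum_mem fun j _ => ?_)
    refine Ideal.mul_mem_left _ _ (Ideal.mul_mem_right _ _ ?_)
    exact mem_nilradical.2 (h (j + 1) (by omega))
  exact IsNilpotent.of_pow (mem_nilradical.1 h1)

section Log

variable {L : Type u} [CommRing L] [LambdaOps L] {PL : PosStructure L} (hL : HasSplitting L PL)
include hL

/-- the Chern root of a line element `u` with `1 ⊗ u - 1` nilpotent: `a = log (1 ⊗ u)`,
a nilpotent `ψ²`-eigenvector of weight one. -/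
theorem exists_root (u : L) (hu : PL.IsLine u)
    (hx : IsNilpotent ((1 : ℚ) ⊗ₜ[ℤ] u - 1 : ℚ ⊗[ℤ] L)) :
    ∃ a : ℚ ⊗[ℤ] L, IsNilpotent a ∧ a ∈ E PL 1 ∧ IsNilpotent.exp a = (1 : ℚ) ⊗ₜ[ℤ] u := by
  obtain ⟨a, ha, hexp⟩ := exists_log _ hx
  have hexp' : IsNilpotent.exp a = (1 : ℚ) ⊗ₜ[ℤ] u := by rw [hexp]; ring
  refine ⟨a, ha, ?_, hexp'⟩
  have hone : PsiQ PL 2 1 = 1 := by
    rw [Algebra.TensorProduct.one_def, PsiQ_tmul, adams_one]
  let Ψ : ℚ ⊗[ℤ] L →ₐ[ℚ] ℚ ⊗[ℤ] L := AlgHom.ofLinearMap (PsiQ PL 2) hone (PsiQ_mul hL 2)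
  have hΨ : ∀ v, Ψ v = PsiQ PL 2 v := fun v => rfl
  have h1 : Ψ (IsNilpotent.exp a) = IsNilpotent.exp (Ψ a) := IsNilpotent.map_exp ha Ψ
  have h2 : Ψ ((1 : ℚ) ⊗ₜ[ℤ] u) = (1 : ℚ) ⊗ₜ[ℤ] u * (1 : ℚ) ⊗ₜ[ℤ] u := by
    rw [hΨ, PsiQ_tmul, adams_of_isLine PL u hu, Algebra.TensorProduct.tmul_mul_tmul, one_mul, sq]
  have h3 : IsNilpotent.exp (Ψ a) = IsNilpotent.exp (a + a) := by
    rw [← h1, hexp', h2, ← hexp', IsNilpotent.exp_add_of_commute (Commute.all _ _) ha ha]
  have h4 : Ψ a = a + a :=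
    exp_injective (ha.map Ψ) (Commute.isNilpotent_add (Commute.all _ _) ha ha) h3
  rw [E, Module.End.mem_eigenspace_iff, ← hΨ, h4, pow_one, Nat.cast_ofNat, two_smul]

theorem prod_mem_E {ι : Type*} (t : Finset ι) (a : ι → ℚ ⊗[ℤ] L)
    (ha : ∀ k ∈ t, a k ∈ E PL 1) : ∏ k ∈ t, a k ∈ E PL t.card := by
  classical
  induction t using Finset.induction_on with
  | empty =>
    rw [prod_empty, card_empty]
    exact one_mem_E_zero PL
  | insert k₀ t hk ih =>
    rw [prod_insert hk, card_insert_of_notMem hk, mul_comm]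
    exact mul_mem_E hL (ih fun k hk' => ha k (mem_insert_of_mem hk')) (ha k₀ (mem_insert_self _ _))

theorem es_mem_E {n : ℕ} (a : Fin n → ℚ ⊗[ℤ] L) (ha : ∀ k, a k ∈ E PL 1) (i : ℕ) :
    es a i ∈ E PL i := by
  refine sum_mem fun t ht => ?_
  have h := prod_mem_E hL t a (fun k _ => ha k)
  rwa [(mem_powersetCard.1 ht).2] at h

theorem es_sub_es_mem_Wt {n : ℕ} (a c : Fin n → ℚ ⊗[ℤ] L) (ha : ∀ k, a k ∈ Wt PL 1)
    (hc : ∀ k, c k ∈ Wt PL 2) (i : ℕ) :
    es (fun k => a k + c k) i - es a i ∈ Wt PL (i + 1) := by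
  rw [es, es, ← sum_sub_distrib]
  refine sum_mem fun t ht => ?_
  have h := (prod_sub_prod_mem_Wt hL t a c 1 1 (fun k _ => ha k) (fun k _ => hc k)).2
  rwa [(mem_powersetCard.1 ht).2, one_mul] at h

end Log

section QFnil

variable {K : Type u} [CommRing K] [LambdaOps K] (P : PosStructure K)

theorem one_mem_QF_zero : (1 : ℚ ⊗[ℤ] K) ∈ QF P 0 := by
  rw [Algebra.TensorProduct.one_def]
  exact one_tmul_mem_QF P (by rw [gammaFiltration_zero]; trivial)

variable {P}

theorem pow_mem_QF {v : ℚ ⊗[ℤ] K} (hv : v ∈ QF P 1) (k : ℕ) : v ^ k ∈ QF P k := by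
  induction k with
  | zero => rw [pow_zero]; exact one_mem_QF_zero P
  | succ k ih => rw [pow_succ]; exact mul_mem_QF P ih hv

theorem isNilpotent_of_mem_QF_one (hK : HasSplitting K P) (d : ℕ)
    (hd : gammaFiltration P (d + 1) = ⊥) {v : ℚ ⊗[ℤ] K} (hv : v ∈ QF P 1) : IsNilpotent v := by
  refine ⟨d + 1, ?_⟩
  have h := pow_mem_QF hv (d + 1)
  rw [QF_eq_bot hK d hd le_rfl] at h
  exact (Submodule.mem_bot ℚ).1 h

end QFnil

section Ext

variable {K : Type u} [CommRing K] [LambdaOps K] {P : PosStructure K}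
  {L : Type u} [CommRing L] [LambdaOps L] {PL : PosStructure L} {f : K →+* L}

theorem one_tmul_eq (y : L) :
    ((1 : ℚ) ⊗ₜ[ℤ] y : ℚ ⊗[ℤ] L) =
      (Algebra.TensorProduct.includeRight : L →ₐ[ℤ] ℚ ⊗[ℤ] L) y := rfl

theorem powersetCard_univ_fin (n : ℕ) :
    (univ : Finset (Fin n)).powersetCard n = {univ} := by
  have h := powersetCard_self (univ : Finset (Fin n))
  rwa [card_univ, Fintype.card_fin] at h

theorem FQ_gamma (hf : IsExtension P PL f) {n : ℕ} (u : Fin n → L) (hu : ∀ k, PL.IsLine (u k))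
    (e : K) (hsum : ∑ k, u k = f e) (i : ℕ) :
    FQ f ((1 : ℚ) ⊗ₜ[ℤ] gamma i (e - (n : K))) = es (fun k => (1 : ℚ) ⊗ₜ[ℤ] u k - 1) i := by
  rw [FQ_tmul, map_gamma hf.isLambdaHom, map_sub, map_natCast, ← hsum,
    gamma_sum_sub_card (lam_one_eq_zero PL) n u
      (fun k j hj => lam_eq_zero_of_isLine PL (u k) (hu k) j hj) i, one_tmul_eq, map_sum, es]
  refine sum_congr rfl fun t _ => ?_
  rw [map_prod]
  refine prod_congr rfl fun k _ => ?_
  rw [map_sub, map_one]
  rfl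

theorem FQ_lam_top (hf : IsExtension P PL f) {n : ℕ} (u : Fin n → L)
    (hu : ∀ k, PL.IsLine (u k)) (e : K) (hsum : ∑ k, u k = f e) :
    FQ f ((1 : ℚ) ⊗ₜ[ℤ] LambdaOps.lam n e) = ∏ k, ((1 : ℚ) ⊗ₜ[ℤ] u k : ℚ ⊗[ℤ] L) := by
  rw [FQ_tmul, hf.isLambdaHom, ← hsum, lam_sum_lines PL u hu, powersetCard_univ_fin,
    sum_singleton, one_tmul_eq, map_prod]
  rfl

/-- the key identity `td · γ^m(e - m) = c_m · λ^m(e)` at the level of `ψ²`-eigencomponents,
verified in a splitting extension. -/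
theorem key_ext (hK : HasSplitting K P) (m r : ℕ) (hm : 1 ≤ m)
    (hd : gammaFiltration P (m + r + 1) = ⊥)
    (hL : HasSplitting L PL) (hf : IsExtension P PL f) (e : K)
    (u : Fin m → L) (hu : ∀ k, PL.IsLine (u k)) (hsum : ∑ k, u k = f e)
    (κ ρ : ℕ → ℚ ⊗[ℤ] K) (hκ : ∀ i, κ i ∈ E P i) (hρ : ∀ i, ρ i ∈ QF P (i + 1))
    (hw : ∀ i, (1 : ℚ) ⊗ₜ[ℤ] gamma i (e - (m : K)) = κ i + ρ i) :
    MvPolynomial.aeval (fun i : Fin (m + r) => κ (i.1 + 1)) (toddPoly (m + r)) *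
        ((1 : ℚ) ⊗ₜ[ℤ] gamma m (e - (m : K))) =
      κ m * ((1 : ℚ) ⊗ₜ[ℤ] LambdaOps.lam m e) := by
  classical
  set x : Fin m → ℚ ⊗[ℤ] L := fun k => (1 : ℚ) ⊗ₜ[ℤ] u k - 1 with hx
  have hFw : ∀ i, FQ f ((1 : ℚ) ⊗ₜ[ℤ] gamma i (e - (m : K))) = es x i :=
    FQ_gamma hf u hu e hsum
  have hwQF : ∀ i, (1 : ℚ) ⊗ₜ[ℤ] gamma i (e - (m : K)) ∈ QF P i := by
    intro i
    rw [hw i]
    exact add_mem (E_le_QF hK _ hd i (hκ i)) (QF_anti P (Nat.le_succ i) (hρ i))
  have hxnil : ∀ k, IsNilpotent (x k) := by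
    refine isNilpotent_of_es x (fun j hj => ?_)
    rw [← hFw j]
    exact (isNilpotent_of_mem_QF_one hK _ hd (QF_anti P hj (hwQF j))).map (FQ f)
  choose a hanil haE haexp using fun k => exists_root hL (u k) (hu k) (hxnil k)
  have hxa : x = fun k => a k + (IsNilpotent.exp (a k) - 1 - a k) := by
    funext k
    rw [haexp k]
    simp only [hx]
    ring
  -- (A): the eigencomponents are the elementary symmetric functions of the roots
  have hA : ∀ i, 1 ≤ i → FQ f (κ i) = es a i := by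
    intro i hi
    have h1 : FQ f (κ i) - es a i ∈ E PL i :=
      sub_mem (FQ_mem_E f hf (hκ i)) (es_mem_E hL a haE i)
    have h2 : FQ f (κ i) - es a i ∈ Wt PL (i + 1) := by
      have e1 : FQ f (κ i) - es a i = (es x i - es a i) - FQ f (ρ i) := by
        rw [← hFw i, hw i, map_add]; ring
      rw [e1]
      refine sub_mem ?_ (FQ_mem_Wt f hf (QF_le_Wt hK _ hd (i + 1) (hρ i)))
      rw [hxa]
      exact es_sub_es_mem_Wt hL a _ (fun k => E_le_Wt PL 1 (haE k))
        (fun k => exp_sub_mem_Wt hL (haE k) (hanil k)) i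
    exact sub_eq_zero.1 (E_disjoint_Wt PL i h1 h2)
  -- (B)
  set τ := MvPolynomial.aeval (fun i : Fin (m + r) => κ (i.1 + 1)) (toddPoly (m + r)) with hτ
  set z := τ * ((1 : ℚ) ⊗ₜ[ℤ] gamma m (e - (m : K))) - κ m * ((1 : ℚ) ⊗ₜ[ℤ] LambdaOps.lam m e)
    with hz
  have hFτ : FQ f τ = ∏ l, Polynomial.aeval (a l) (toddTrunc (m + r)) := by
    rw [hτ, MvPolynomial.comp_aeval_apply, ← aeval_toddPoly_of_le m r a]
    congr 2
    funext i
    rw [hA _ (by omega), aeval_esymm_eq_sum]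
    rfl
  have hFz : FQ f z =
      ∏ k, (Polynomial.aeval (a k) (toddTrunc (m + r)) * (IsNilpotent.exp (a k) - 1)) -
        ∏ k, (a k * IsNilpotent.exp (a k)) := by
    rw [hz, map_sub, map_mul, map_mul, hFτ, hFw m, hA m hm, FQ_lam_top hf u hu e hsum, es, es,
      powersetCard_univ_fin, sum_singleton, sum_singleton, prod_mul_distrib, prod_mul_distrib]
    congr 2
    · exact prod_congr rfl fun k _ => by rw [hx, haexp k]
    · exact prod_congr rfl fun k _ => (haexp k).symm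
  have hz0 : FQ f z = 0 := by
    obtain ⟨ε, hε, -, hzε⟩ := exists_decomp hK _ hd z
    have h1 : FQ f z = ∑ j ∈ range (m + r + 1), FQ f (ε j) := by rw [hzε, map_sum]
    have h2 : FQ f z ∈ Wt PL (m + r + 1) := by
      rw [hFz]
      have h := (prod_sub_prod_mem_Wt hL univ (fun k => a k * IsNilpotent.exp (a k))
        (fun k => Polynomial.aeval (a k) (toddTrunc (m + r)) * (IsNilpotent.exp (a k) - 1) -
          a k * IsNilpotent.exp (a k)) 0 (m + r + 2)
        (fun k _ => mul_exp_mem_Wt_zero hL (haE k) (hanil k))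
        (fun k _ => by
          rw [zero_add]; exact todd_mul_exp_mem_Wt hL (haE k) (hanil k) (m + r))).2
      simp only [add_sub_cancel, zero_mul, zero_add] at h
      exact Wt_anti PL (Nat.le_succ _) h
    rw [h1] at h2 ⊢
    exact sum_E_disjoint_Wt PL (m + r) (fun j => FQ f (ε j)) (fun j => FQ_mem_E f hf (hε j)) h2
  have hz' : z = 0 := FQ_injective f hf.injective (by rw [hz0, map_zero])
  exact sub_eq_zero.1 hz'

end Ext

section Main

variable {K : Type u} [CommRing K] [LambdaOps K] {P : PosStructure K}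

theorem tdK_mul_chK_eq_chern (hK : HasSplitting K P) (d : ℕ)
    (hd : gammaFiltration P (d + 1) = ⊥)
    (inv : K → K) (hV : IsInvolution P inv) (hS : HasInvSplitting P inv)
    (e : K) (he : e ∈ P.pos) (m : ℕ) (haug : P.aug e = (m : ℤ)) :
    tdK P d e * chK P d (∑ i ∈ range (m + 1), (-1 : K) ^ i * LambdaOps.lam i (inv e)) =
      chern P m e := by
  have ht : (P.aug e).toNat = m := by rw [haug]; exact Int.toNat_natCast m
  have hm1 : 1 ≤ m := by
    have := P.aug_pos e he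
    omega
  have hcast : ((P.aug e : ℤ) : K) = (m : K) := by rw [haug, Int.cast_natCast]
  have h34 := Groth.Agent.S8134.result K P hK inv hV hS e he
  rw [ht] at h34
  set y := ∑ i ∈ range (m + 1), (-1 : K) ^ i * LambdaOps.lam i (inv e) with hy
  have hunit : IsUnit (LambdaOps.lam m e) := by
    have h := P.isUnit_lam e he
    rwa [ht] at h
  have haug0 : P.aug (e - (m : K)) = 0 := by rw [← hcast]; exact aug_sub_aug P e
  have hgF : ∀ i, gamma i (e - (m : K)) ∈ gammaFiltration P i :=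
    fun i => gamma_mem_gammaFiltration P i _ haug0
  have hchern : ∀ i, chern P i e = cls P i ((1 : ℚ) ⊗ₜ[ℤ] gamma i (e - (m : K))) := by
    intro i
    rw [chern, hcast, grK_eq_cls P i (hgF i)]
  obtain ⟨Φ, hΦ, hΦch⟩ := exists_PhiAlg hK d hd
  by_cases hmd : m ≤ d
  · obtain ⟨r, rfl⟩ := Nat.exists_eq_add_of_le hmd
    have hdec : ∀ i, ∃ κ ∈ E P i, ∃ ρ ∈ QF P (i + 1),
        κ + ρ = (1 : ℚ) ⊗ₜ[ℤ] gamma i (e - (m : K)) := by
      intro i
      have h := one_tmul_mem_QF P (hgF i)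
      rw [← E_sup_QF hK _ hd i, Submodule.mem_sup] at h
      exact h
    choose κ hκ ρ hρ hw using hdec
    obtain ⟨L, f, hf, hL, s, hs, hsum⟩ := exists_extension_multiset hK e he
    obtain ⟨n, u, hu, hus, hn⟩ := exists_fin_of_multiset L.posStr s hs
    have hnm : n = m := by
      have h1 := aug_multiset_sum_lines L.posStr s hs
      rw [hsum, hf.aug_comp, haug] at h1
      omega
    subst hnm
    have key := key_ext hK n r hm1 hd hL hf e u hu (hus.trans hsum) κ ρ hκ hρ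
      (fun i => (hw i).symm)
    have hmul : ((1 : ℚ) ⊗ₜ[ℤ] (y * LambdaOps.lam n e) : ℚ ⊗[ℤ] K) =
        ((1 : ℚ) ⊗ₜ[ℤ] y) * ((1 : ℚ) ⊗ₜ[ℤ] LambdaOps.lam n e) := by
      rw [Algebra.TensorProduct.tmul_mul_tmul, one_mul]
    rw [h34, hmul, ← mul_assoc] at key
    have hunit' : IsUnit ((1 : ℚ) ⊗ₜ[ℤ] LambdaOps.lam n e : ℚ ⊗[ℤ] K) :=
      hunit.map (Algebra.TensorProduct.includeRight : K →ₐ[ℤ] ℚ ⊗[ℤ] K)
    have key2 := hunit'.mul_left_inj.1 key
    have hΦκ : ∀ i, Φ (κ i) = chern P i e := by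
      intro i
      rw [hΦ i _ (hκ i), hchern i, ← hw i, map_add, cls_eq_zero_of_mem P i (hρ i), add_zero]
    have key3 := congrArg Φ key2
    have hc := MvPolynomial.comp_aeval_apply (B := Gr P)
      (f := fun i : Fin (n + r) => κ (i.1 + 1)) Φ (toddPoly (n + r))
    rw [map_mul, hΦch, hc] at key3
    simp only [hΦκ] at key3
    exact key3
  · rw [not_le] at hmd
    have h0 : gamma m (e - (m : K)) = 0 := by
      have h := gammaFiltration_anti P (show d + 1 ≤ m by omega) (hgF m)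
      rw [hd] at h
      exact AddSubgroup.mem_bot.1 h
    have hy0 : y = 0 := by
      rw [h34] at h0
      exact hunit.mul_left_eq_zero.1 h0
    rw [hy0, ← hΦch 0, tmul_zero, map_zero, mul_zero, hchern m, h0, tmul_zero, map_zero]

end Main

end Groth.Agent.Lib.Seat97.ChernTop
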