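import Mathlib
import Groth.Prelude.Def_DeRham
import Groth.Agent.Lib.Helper22DeRham
import Groth.Agent.Lib.Helper15ExtBC

set_option autoImplicit false
universe u

/-!
# Base change of the de Rham complex along a pushout square `k → K`, `A → A' = K ⊗[k] A`

The exterior powers `⋀[A']^p Ω[A'⁄K]` are the base change `K ⊗[k] ⋀[A]^p Ω[A⁄k]`, through the map
induced by `A → A'`.
-/

open TensorProduct exteriorPower DeRham

namespace Groth.Agent.Lib.Seat97.DRBC

variable (k K A A' : Type u) [CommRing k] [CommRing K] [Algebra k K]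
  [CommRing A] [CommRing A'] [Algebra k A]
  [Algebra A A'] [Algebra k A'] [IsScalarTower k A A'] [Algebra K A'] [IsScalarTower k K A']

/-- The `A`-linear map of exterior powers of Kähler differentials induced by the square. -/
noncomputable def psi0 (p : ℕ) : ↥(⋀[A]^p (Ω[A⁄k])) →ₗ[A] ↥(⋀[A']^p (Ω[A'⁄K])) :=
  (Groth.Agent.Lib.Helper22.extScalars A A' (Ω[A'⁄K]) p) ∘ₗ
    exteriorPower.map p (KaehlerDifferential.map k K A A')

theorem psi0_ιMulti (p : ℕ) (m : Fin p → Ω[A⁄k]) :
    psi0 k K A A' p (ιMulti A p m) = ιMulti A' p (fun i => KaehlerDifferential.map k K A A' (m i)) := by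
  unfold psi0
  rw [LinearMap.comp_apply, exteriorPower.map_apply_ιMulti,
    Groth.Agent.Lib.Helper22.extScalars_ιMulti]
  rfl

theorem psi0_gen (p : ℕ) (b₀ : A) (b : Fin p → A) :
    psi0 k K A A' p (gen (KaehlerDifferential.D k A) p b₀ b)
      = gen (KaehlerDifferential.D K A') p (algebraMap A A' b₀) (fun i => algebraMap A A' (b i)) := by
  unfold gen
  rw [map_smul, psi0_ιMulti, ← algebraMap_smul A' b₀]
  congr 2
  funext i
  simp

/-- A family pinned by `IsCxMap` is the family `psi0`. -/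
theorem eq_psi0 (ψ : ∀ p : ℕ, ↥(⋀[A]^p (Ω[A⁄k])) →+ ↥(⋀[A']^p (Ω[A'⁄K])))
    (hψ : DeRham.IsCxMap (KaehlerDifferential.D k A) (KaehlerDifferential.D K A') (algebraMap A A') ψ)
    (p : ℕ) (x : ↥(⋀[A]^p (Ω[A⁄k]))) : ψ p x = psi0 k K A A' p x := by
  revert x
  apply Groth.Agent.Lib.Helper22.deRham_gen_induction (R := k) (A := A) p
  · simp
  · intro x y hx hy; rw [map_add, map_add, hx, hy]
  · intro c b
    rw [hψ p c b, psi0_gen]


/-- The exterior power of a linear equivalence. -/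
noncomputable def extPowEquiv {R M N : Type u} [CommRing R] [AddCommGroup M] [Module R M]
    [AddCommGroup N] [Module R N] (e : M ≃ₗ[R] N) (p : ℕ) : ↥(⋀[R]^p M) ≃ₗ[R] ↥(⋀[R]^p N) :=
  LinearEquiv.ofLinearMap (exteriorPower.map p (e : M →ₗ[R] N)) (exteriorPower.map p (e.symm : N →ₗ[R] M))
    (by
      rw [← exteriorPower.map_comp]
      have : (e : M →ₗ[R] N) ∘ₗ (e.symm : N →ₗ[R] M) = LinearMap.id := by
        apply LinearMap.ext; intro x; exact e.apply_symm_apply x
      rw [this, exteriorPower.map_id])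
    (by
      rw [← exteriorPower.map_comp]
      have : (e.symm : N →ₗ[R] M) ∘ₗ (e : M →ₗ[R] N) = LinearMap.id := by
        apply LinearMap.ext; intro x; exact e.symm_apply_apply x
      rw [this, exteriorPower.map_id])

theorem extPowEquiv_ιMulti {R M N : Type u} [CommRing R] [AddCommGroup M] [Module R M]
    [AddCommGroup N] [Module R N] (e : M ≃ₗ[R] N) (p : ℕ) (m : Fin p → M) :
    extPowEquiv e p (ιMulti R p m) = ιMulti R p (fun i => e (m i)) := by
  unfold extPowEquiv
  simp only [LinearEquiv.coe_ofLinearMap, exteriorPower.map_apply_ιMulti]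
  rfl

section Pushout

variable [Algebra.IsPushout k K A A']

theorem tensorKaehlerEquiv_one_tmul (m : Ω[A⁄k]) :
    KaehlerDifferential.tensorKaehlerEquiv k K A A' ((1 : A') ⊗ₜ[A] m) =
      KaehlerDifferential.map k K A A' m := by
  have hm : m ∈ Submodule.span A (Set.range (KaehlerDifferential.D k A)) := by
    rw [KaehlerDifferential.span_range_derivation]; exact Submodule.mem_top
  induction hm using Submodule.span_induction with
  | mem x hx =>
    obtain ⟨a, rfl⟩ := hx
    rw [KaehlerDifferential.tensorKaehlerEquiv_tmul_D, one_smul, KaehlerDifferential.map_D]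
  | zero => simp
  | add x y _ _ hx hy => rw [TensorProduct.tmul_add, map_add, map_add, hx, hy]
  | smul a x _ hx =>
    rw [TensorProduct.tmul_smul, ← algebraMap_smul A' a ((1 : A') ⊗ₜ[A] x),
      map_smul, hx, map_smul, algebraMap_smul]

/-- The comparison map `K ⊗[k] ⋀[A]^p Ω[A⁄k] → ⋀[A']^p Ω[A'⁄K]`, as a bijection. -/
noncomputable def PhiFun (p : ℕ) (t : K ⊗[k] ↥(⋀[A]^p (Ω[A⁄k]))) : ↥(⋀[A']^p (Ω[A'⁄K])) :=
  extPowEquiv (KaehlerDifferential.tensorKaehlerEquiv k K A A') p
    (Groth.Agent.Lib.Helper15ExtBC.bcEquiv A A' (Ω[A⁄k]) p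
      ((Algebra.IsPushout.cancelBaseChange k K A A' ↥(⋀[A]^p (Ω[A⁄k]))).symm t))

theorem PhiFun_add (p : ℕ) (t t' : K ⊗[k] ↥(⋀[A]^p (Ω[A⁄k]))) :
    PhiFun k K A A' p (t + t') = PhiFun k K A A' p t + PhiFun k K A A' p t' := by
  unfold PhiFun
  rw [map_add, map_add, map_add]

theorem PhiFun_zero (p : ℕ) : PhiFun k K A A' p 0 = 0 := by
  unfold PhiFun
  rw [map_zero, map_zero, map_zero]

theorem PhiFun_bijective (p : ℕ) : Function.Bijective (PhiFun k K A A' p) := by
  unfold PhiFun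
  exact (extPowEquiv (KaehlerDifferential.tensorKaehlerEquiv k K A A') p).bijective.comp
    ((Groth.Agent.Lib.Helper15ExtBC.bcEquiv A A' (Ω[A⁄k]) p).bijective.comp
      (Algebra.IsPushout.cancelBaseChange k K A A' ↥(⋀[A]^p (Ω[A⁄k]))).symm.bijective)

theorem extPow_fwd0_eq_psi0 (p : ℕ) (v : ↥(⋀[A]^p (Ω[A⁄k]))) :
    extPowEquiv (KaehlerDifferential.tensorKaehlerEquiv k K A A') p
      (Groth.Agent.Lib.Helper15ExtBC.fwd0 A A' (Ω[A⁄k]) p v) = psi0 k K A A' p v := by
  have key : ((extPowEquiv (KaehlerDifferential.tensorKaehlerEquiv k K A A') p).toLinearMap.restrictScalars A)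
      ∘ₗ Groth.Agent.Lib.Helper15ExtBC.fwd0 A A' (Ω[A⁄k]) p = psi0 k K A A' p := by
    apply exteriorPower.linearMap_ext
    ext m
    simp only [LinearMap.compAlternatingMap_apply, LinearMap.comp_apply,
      LinearMap.restrictScalars_apply, LinearEquiv.coe_coe,
      Groth.Agent.Lib.Helper15ExtBC.fwd0_ιMulti, extPowEquiv_ιMulti, psi0_ιMulti,
      tensorKaehlerEquiv_one_tmul]
  exact LinearMap.congr_fun key v

theorem PhiFun_tmul (p : ℕ) (c : K) (v : ↥(⋀[A]^p (Ω[A⁄k]))) :
    PhiFun k K A A' p (c ⊗ₜ[k] v) = c • psi0 k K A A' p v := by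
  unfold PhiFun
  rw [Algebra.IsPushout.cancelBaseChange_symm_tmul, Groth.Agent.Lib.Helper15ExtBC.bcEquiv_tmul,
    map_smul, extPow_fwd0_eq_psi0, algebraMap_smul]

end Pushout


section Pushout2

variable [Algebra.IsPushout k K A A']

/-- The comparison map as a `K`-linear map. -/
noncomputable def Psi (p : ℕ) : K ⊗[k] ↥(⋀[A]^p (Ω[A⁄k])) →ₗ[K] ↥(⋀[A']^p (Ω[A'⁄K])) :=
  ((psi0 k K A A' p).restrictScalars k).liftBaseChange K

theorem Psi_tmul (p : ℕ) (c : K) (v : ↥(⋀[A]^p (Ω[A⁄k]))) :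
    Psi k K A A' p (c ⊗ₜ[k] v) = c • psi0 k K A A' p v := by
  unfold Psi
  rw [LinearMap.liftBaseChange_tmul]
  rfl

theorem Psi_eq_PhiFun (p : ℕ) (t : K ⊗[k] ↥(⋀[A]^p (Ω[A⁄k]))) :
    Psi k K A A' p t = PhiFun k K A A' p t := by
  induction t using TensorProduct.induction_on with
  | zero => rw [map_zero, PhiFun_zero]
  | tmul c v => rw [Psi_tmul, PhiFun_tmul]
  | add x y hx hy => rw [map_add, PhiFun_add, hx, hy]

theorem Psi_bijective (p : ℕ) : Function.Bijective (Psi k K A A' p) := by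
  have : (Psi k K A A' p : K ⊗[k] ↥(⋀[A]^p (Ω[A⁄k])) → ↥(⋀[A']^p (Ω[A'⁄K]))) = PhiFun k K A A' p :=
    funext (Psi_eq_PhiFun k K A A' p)
  rw [this]
  exact PhiFun_bijective k K A A' p

theorem lTensor_smul_left {M N : Type u} [AddCommGroup M] [Module k M] [AddCommGroup N] [Module k N]
    (f : M →ₗ[k] N) (c : K) (s : K ⊗[k] M) : f.lTensor K (c • s) = c • f.lTensor K s := by
  induction s using TensorProduct.induction_on with
  | zero => simp
  | tmul c' z => simp [TensorProduct.smul_tmul']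
  | add x y hx hy => rw [smul_add, map_add, hx, hy, map_add, smul_add]

end Pushout2

end Groth.Agent.Lib.Seat97.DRBC
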