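import Groth.Agent.Lib.Helper28Depth

/-!
# Transfer of `LocCoh.idealDepth` along semilinear bijections, and depth inequalities for
a chain of submodules (seat 97)
-/

set_option autoImplicit false
universe u u' v v'

namespace Groth.Agent.Lib.Seat97.DepthTransfer

open RingTheory.Sequence Groth.Agent.Lib.Helper28

section Semilinear

variable {R : Type u} {R' : Type u'} [CommRing R] [CommRing R'] (σ : R →+* R')
  {M : Type v} {M' : Type v'} [AddCommGroup M] [Module R M] [AddCommGroup M'] [Module R' M']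
  (e : M ≃+ M') (he : ∀ (r : R) (x : M), e (r • x) = σ r • e x)
  (I : Ideal R) (I' : Ideal R')

include he in
theorem smul_top_eq_top_of_semilinear (hI : I.map σ ≤ I')
    (h : I • (⊤ : Submodule R M) = ⊤) : I' • (⊤ : Submodule R' M') = ⊤ := by
  rw [eq_top_iff]
  intro y _
  obtain ⟨x, rfl⟩ := e.surjective y
  have hx : x ∈ I • (⊤ : Submodule R M) := by rw [h]; trivial
  refine Submodule.smul_induction_on hx ?_ ?_
  · intro r hr m _
    rw [he]
    exact Submodule.smul_mem_smul (hI (Ideal.mem_map_of_mem σ hr)) trivial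
  · intro a b ha hb
    rw [map_add]
    exact Submodule.add_mem _ ha hb

include he in
theorem smul_top_eq_top_of_semilinear_symm (hσ : Function.Surjective σ) (hI : I' ≤ I.map σ)
    (h : I' • (⊤ : Submodule R' M') = ⊤) : I • (⊤ : Submodule R M) = ⊤ := by
  rw [eq_top_iff]
  intro x _
  have hy : e x ∈ I' • (⊤ : Submodule R' M') := by rw [h]; trivial
  have key : ∀ y ∈ I' • (⊤ : Submodule R' M'), e.symm y ∈ I • (⊤ : Submodule R M) := by
    intro y hy
    refine Submodule.smul_induction_on hy ?_ ?_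
    · intro r' hr' m' _
      obtain ⟨r, hr, rfl⟩ := (Ideal.mem_map_iff_of_surjective σ hσ).mp (hI hr')
      obtain ⟨m, rfl⟩ := e.surjective m'
      rw [← he, AddEquiv.symm_apply_apply]
      exact Submodule.smul_mem_smul hr trivial
    · intro a b ha hb
      rw [map_add]
      exact Submodule.add_mem _ ha hb
  have := key _ hy
  rwa [AddEquiv.symm_apply_apply] at this

include he in
theorem isWeaklyRegular_map_iff (rs : List R) :
    IsWeaklyRegular M rs ↔ IsWeaklyRegular M' (rs.map σ) :=
  e.isWeaklyRegular_congr <| List.forall₂_map_right_iff.mpr <|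
    List.forall₂_same.mpr fun r _ x => he r x

omit [AddCommGroup M] [Module R M] [AddCommGroup M'] [Module R' M'] in
theorem exists_lift_list (hσ : Function.Surjective σ) (hI : I' ≤ I.map σ) (rs' : List R')
    (h : ∀ r' ∈ rs', r' ∈ I') : ∃ rs : List R, rs.map σ = rs' ∧ ∀ r ∈ rs, r ∈ I := by
  induction rs' with
  | nil => exact ⟨[], rfl, by simp⟩
  | cons a l ih =>
    obtain ⟨rs, h1, h2⟩ := ih fun r' hr' => h r' (List.mem_cons_of_mem _ hr')
    obtain ⟨r, hr, hra⟩ := (Ideal.mem_map_iff_of_surjective σ hσ).mp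
      (hI (h a List.mem_cons_self))
    refine ⟨r :: rs, by rw [List.map_cons, hra, h1], ?_⟩
    intro x hx
    rcases List.mem_cons.mp hx with rfl | hx
    · exact hr
    · exact h2 x hx

include he in
/-- depth is invariant under a semilinear bijection over a surjective ring map -/
theorem idealDepth_eq_of_semilinear (hσ : Function.Surjective σ) (hI : I.map σ = I') :
    LocCoh.idealDepth I M = LocCoh.idealDepth I' M' := by
  classical
  by_cases h : I • (⊤ : Submodule R M) = ⊤
  · rw [idealDepth_eq_top_of_smul_top_eq_top I M h,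
      idealDepth_eq_top_of_smul_top_eq_top I' M'
        (smul_top_eq_top_of_semilinear σ e he I I' hI.le h)]
  · have h' : I' • (⊤ : Submodule R' M') ≠ ⊤ := fun h'' =>
      h (smul_top_eq_top_of_semilinear_symm σ e he I I' hσ hI.ge h'')
    rw [idealDepth_eq_iSup_of_smul_top_ne_top I M h,
      idealDepth_eq_iSup_of_smul_top_ne_top I' M' h']
    apply le_antisymm
    · refine iSup₂_le fun rs hrs => ?_
      refine le_iSup₂_of_le (rs.map σ) ⟨(isWeaklyRegular_map_iff σ e he rs).mp hrs.1, ?_⟩ ?_
      · intro r' hr'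
        obtain ⟨r, hr, rfl⟩ := List.mem_map.mp hr'
        rw [← hI]
        exact Ideal.mem_map_of_mem σ (hrs.2 r hr)
      · rw [List.length_map]
    · refine iSup₂_le fun rs' hrs' => ?_
      obtain ⟨rs, h1, h2⟩ := exists_lift_list σ I I' hσ hI.ge rs' hrs'.2
      subst h1
      refine le_iSup₂_of_le rs ⟨(isWeaklyRegular_map_iff σ e he rs).mpr hrs'.1, h2⟩ ?_
      rw [List.length_map]

end Semilinear

section SES

variable {R : Type u} [CommRing R] [Small.{v} R] [IsNoetherianRing R] (I : Ideal R)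
  {N₁ N : Type v} [AddCommGroup N₁] [Module R N₁] [AddCommGroup N] [Module R N]
  [Module.Finite R N₁] [Module.Finite R N]
  (φ : N₁ →ₗ[R] N) (hφ : Function.Injective φ) (B : Submodule R N) (hB : LinearMap.range φ = B)

omit [Small.{v} R] [IsNoetherianRing R] [Module.Finite R N₁] [Module.Finite R N] in
include hB in
theorem exact_mkQ : Function.Exact φ B.mkQ := by
  subst hB
  exact LinearMap.exact_map_mkQ_range φ

include hφ hB in
/-- depth lemma for `0 → N₁ → N → N/B → 0`, middle term -/
theorem min_le_mid :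
    min (LocCoh.idealDepth I N₁) (LocCoh.idealDepth I (N ⧸ B)) ≤ LocCoh.idealDepth I N :=
  min_idealDepth_le_mid I φ B.mkQ hφ B.mkQ_surjective (exact_mkQ φ B hB)

include hφ hB in
/-- depth lemma for `0 → N₁ → N → N/B → 0`, right term -/
theorem min_le_right :
    min (LocCoh.idealDepth I N) (LocCoh.idealDepth I N₁ - 1) ≤ LocCoh.idealDepth I (N ⧸ B) :=
  min_idealDepth_le_right I φ B.mkQ hφ B.mkQ_surjective (exact_mkQ φ B hB)

include hφ hB in
/-- depth lemma for `0 → N₁ → N → N/B → 0`, left term -/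
theorem min_le_left :
    min (LocCoh.idealDepth I N) (LocCoh.idealDepth I (N ⧸ B) + 1) ≤ LocCoh.idealDepth I N₁ :=
  min_idealDepth_le_left I φ B.mkQ hφ B.mkQ_surjective (exact_mkQ φ B hB)

include hφ hB in
/-- depth lemma for `0 → N₁/A₁ → N/A → N/B → 0` where `A = φ(A₁)` and `B = range φ` -/
theorem min_le_quot (A₁ : Submodule R N₁) (A : Submodule R N) (hA : A₁.map φ = A) :
    min (LocCoh.idealDepth I (N₁ ⧸ A₁)) (LocCoh.idealDepth I (N ⧸ B)) ≤
      LocCoh.idealDepth I (N ⧸ A) := by
  have h1 : A₁ ≤ A.comap φ := by rw [← hA]; exact Submodule.le_comap_map φ A₁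
  have h2 : A ≤ B.comap LinearMap.id := by
    rw [Submodule.comap_id, ← hA, ← hB]
    exact LinearMap.map_le_range
  refine min_idealDepth_le_mid I (A₁.mapQ A φ h1) (A.mapQ B LinearMap.id h2) ?_ ?_ ?_
  · rw [injective_iff_map_eq_zero]
    intro x hx
    obtain ⟨n₁, rfl⟩ := Submodule.Quotient.mk_surjective _ x
    rw [Submodule.mapQ_apply, Submodule.Quotient.mk_eq_zero, ← hA] at hx
    obtain ⟨a, ha, hax⟩ := Submodule.mem_map.mp hx
    rw [Submodule.Quotient.mk_eq_zero, ← hφ hax]
    exact ha
  · intro y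
    obtain ⟨n, rfl⟩ := Submodule.Quotient.mk_surjective _ y
    exact ⟨Submodule.Quotient.mk n, rfl⟩
  · intro y
    obtain ⟨n, rfl⟩ := Submodule.Quotient.mk_surjective _ y
    rw [Submodule.mapQ_apply, LinearMap.id_apply, Submodule.Quotient.mk_eq_zero, ← hB]
    constructor
    · rintro ⟨n₁, rfl⟩
      exact ⟨Submodule.Quotient.mk n₁, rfl⟩
    · rintro ⟨x, hx⟩
      obtain ⟨n₁, rfl⟩ := Submodule.Quotient.mk_surjective _ x
      rw [Submodule.mapQ_apply] at hx
      have h3 := (Submodule.Quotient.eq A).mp hx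
      have h4 : φ n₁ - n ∈ LinearMap.range φ := by
        rw [hB]
        have : A ≤ B := by simpa using h2
        exact this h3
      have h5 : n = φ n₁ - (φ n₁ - n) := by abel
      rw [h5]
      exact Submodule.sub_mem _ ⟨n₁, rfl⟩ h4

end SES

end Groth.Agent.Lib.Seat97.DepthTransfer
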