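import Groth.Agent.Lib.Seat67GrVertex
import Groth.Agent.Lib.Seat86StarLocal
import Groth.Agent.S0318
import Groth.Agent.S13224
import Groth.Agent.Lib.Helper28DepthLoc
import Groth.Agent.Lib.Helper5CodepthOpen

/-!
# Depth of a Cohen–Macaulay graded ring over a field at its irrelevant ideal (seat 97)

* `idealDepth_eq_height_of_cm` : in a Cohen–Macaulay ring, `depth_𝔪 R = ht 𝔪` for a maximal ideal;
* `subsingleton_H_of_lt_height` : hence `H^i_𝔪(R) = 0` for `i < ht 𝔪`, also for the graded local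
  cohomology computed from a *injective resolution;
* `finiteType_deg0` : a Noetherian positively `ℤ`-graded ring is of finite type over `R_0`;
* `le_irrelevant`, `minimalPrimes_le` : if `R_0` is a field, proper homogeneous ideals (in
  particular minimal primes) lie in `R_+`;
* `height_eq_ringKrullDim` : if moreover `R` is Cohen–Macaulay and `R_+` is maximal, `ht R_+ = dim R`.

Namespace `Groth.Agent.Lib.Seat97.GrDimField`.
-/

set_option autoImplicit false
set_option linter.unusedSectionVars false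
set_option linter.style.haveILetI false
universe u

namespace Groth.Agent.Lib.Seat97.GrDimField

section CM

variable {R : Type u} [CommRing R] [hcm : LocCoh.IsCohenMacaulayRing R]

/-- In a Cohen–Macaulay ring the depth of a maximal ideal is its height. -/
theorem idealDepth_eq_height_of_cm (𝔪 : Ideal R) [hmax : 𝔪.IsMaximal] :
    LocCoh.idealDepth 𝔪 R = 𝔪.height := by
  have hIM : 𝔪 • (⊤ : Submodule R R) ≠ ⊤ := by
    show 𝔪 • (⊤ : Ideal R) ≠ ⊤
    rw [smul_eq_mul, Ideal.mul_top]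
    exact hmax.ne_top
  obtain ⟨p, hle, -, hdep⟩ := Groth.Agent.Lib.Helper28.exists_prime_depth_localization_eq
    (I := 𝔪) (M := R) hIM
  obtain ⟨p, hpprime⟩ := p
  have hp𝔪 : 𝔪 = p := hmax.eq_of_le hpprime.ne_top hle
  subst hp𝔪
  have h1 := (Groth.Agent.Lib.Helper5.CodepthOpen.dep_dm_self 𝔪).1
  unfold Groth.Agent.Lib.Helper5.GenDepth.dep at h1
  have h2 := (hcm.isCohenMacaulayLocalRing_localization 𝔪).supportDim_eq_depth
  rw [Module.supportDim_self_eq_ringKrullDim,
    IsLocalization.AtPrime.ringKrullDim_eq_height 𝔪 (Localization.AtPrime 𝔪)] at h2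
  have h3 := WithBot.coe_injective h2
  rw [← hdep]
  change LocCoh.depth (Localization.AtPrime 𝔪) (LocalizedModule 𝔪.primeCompl R) = 𝔪.height
  rw [h1, h3]

/-- Local cohomology of a Cohen–Macaulay ring at a maximal ideal vanishes below the height. -/
theorem subsingleton_locCoh_of_lt_height (𝔪 : Ideal R) [hmax : 𝔪.IsMaximal] (n : ℕ)
    (hn : 𝔪.height = n) (i : ℕ) (hi : i < n) : Subsingleton (LocCoh.H 𝔪 i R) := by
  have hIM : 𝔪 • (⊤ : Submodule R R) ≠ ⊤ := by
    show 𝔪 • (⊤ : Ideal R) ≠ ⊤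
    rw [smul_eq_mul, Ideal.mul_top]
    exact hmax.ne_top
  have h := (Groth.Agent.S0318.result R 𝔪 R hIM n).mp
    (by rw [idealDepth_eq_height_of_cm 𝔪, hn])
  exact h.1 i hi

end CM

section Graded

variable {R : Type u} [CommRing R] (𝒜 : ℤ → AddSubgroup R) [GradedRing 𝒜]

/-- A Noetherian positively graded ring is an algebra of finite type over its degree-zero
subring. -/
theorem finiteType_deg0 [IsNoetherianRing R] (hpos : ∀ n : ℤ, n < 0 → 𝒜 n = ⊥) :
    Algebra.FiniteType (GrLC.deg0 𝒜) R := by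
  classical
  set G : Set R := {x : R | ∃ n : ℤ, 0 < n ∧ x ∈ 𝒜 n} with hG
  have hfg : (Ideal.span G).FG := IsNoetherian.noetherian _
  obtain ⟨G', hG'G, hspan⟩ := (Submodule.fg_span_iff_fg_span_finset_subset G).1 hfg
  set B : Subalgebra (GrLC.deg0 𝒜) R := Algebra.adjoin (GrLC.deg0 𝒜) (G' : Set R) with hB
  have hdeg : ∀ g ∈ G', ∃ n : ℤ, 0 < n ∧ g ∈ 𝒜 n := fun g hg => hG'G hg
  have hneg0 : ∀ (j : ℤ), j < 0 → ∀ y : 𝒜 j, (y : R) = 0 := by
    intro j hj y
    have : (y : R) ∈ (⊥ : AddSubgroup R) := by rw [← hpos j hj]; exact y.2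
    exact (AddSubgroup.mem_bot).mp this
  have key : ∀ (n : ℕ) (x : R), x ∈ 𝒜 (n : ℤ) → x ∈ B := by
    intro n
    induction n using Nat.strong_induction_on with
    | _ n ih =>
      intro x hx
      rcases Nat.eq_zero_or_pos n with hn | hn
      · subst hn
        rw [Nat.cast_zero] at hx
        have : x = algebraMap (GrLC.deg0 𝒜) R ⟨x, hx⟩ := rfl
        rw [this]
        exact Subalgebra.algebraMap_mem B _
      · have hxG : x ∈ Ideal.span G := Ideal.subset_span ⟨n, by exact_mod_cast hn, hx⟩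
        have hxG' : x ∈ Submodule.span R (G' : Set R) := by
          have : Ideal.span G = Submodule.span R (G' : Set R) := hspan
          rw [← this]; exact hxG
        obtain ⟨c, -, hc⟩ := Submodule.mem_span_finset.1 hxG'
        have hx' : x = ∑ g ∈ G', ((DirectSum.decompose 𝒜 (c g • g) (n : ℤ) : 𝒜 n) : R) := by
          have h1 : ((DirectSum.decompose 𝒜 x (n : ℤ) : 𝒜 n) : R) = x :=
            DirectSum.decompose_of_mem_same 𝒜 hx
          rw [← h1, ← hc, DirectSum.decompose_sum, DFinsupp.finsetSum_apply,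
            AddSubmonoidClass.coe_finsetSum]
        rw [hx']
        refine Subalgebra.sum_mem B fun g hg => ?_
        obtain ⟨d, hd0, hgd⟩ := hdeg g hg
        have h2 : ((DirectSum.decompose 𝒜 (c g • g) (n : ℤ) : 𝒜 n) : R) =
            ((DirectSum.decompose 𝒜 (c g) ((n : ℤ) - d) : 𝒜 ((n : ℤ) - d)) : R) * g := by
          have h3 := DirectSum.coe_decompose_mul_add_of_right_mem 𝒜 (i := (n : ℤ) - d)
            (a := c g) hgd
          rw [sub_add_cancel] at h3
          rw [smul_eq_mul, h3]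
        rw [h2]
        refine Subalgebra.mul_mem B ?_ (Algebra.subset_adjoin hg)
        by_cases hnd : (n : ℤ) - d < 0
        · rw [hneg0 _ hnd]
          exact Subalgebra.zero_mem B
        · replace hnd := not_lt.1 hnd
          obtain ⟨m, hm⟩ := Int.eq_ofNat_of_zero_le hnd
          have hmn : m < n := by omega
          refine ih m hmn _ ?_
          rw [← hm]
          exact SetLike.coe_mem _
  refine ⟨⟨G', ?_⟩⟩
  rw [eq_top_iff]
  intro x _
  rw [← DirectSum.sum_support_decompose 𝒜 x]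
  refine Subalgebra.sum_mem B fun n _ => ?_
  by_cases hn : n < 0
  · rw [hneg0 _ hn]
    exact Subalgebra.zero_mem B
  · replace hn := not_lt.1 hn
    obtain ⟨m, rfl⟩ := Int.eq_ofNat_of_zero_le hn
    exact key m _ (SetLike.coe_mem _)

/-- If `R_0` is a field, every proper homogeneous ideal lies in the irrelevant ideal. -/
theorem le_irrelevant (h0 : IsField (GrLC.deg0 𝒜)) (hpos : ∀ n : ℤ, n < 0 → 𝒜 n = ⊥)
    (J : Ideal R) (hJ : J.IsHomogeneous 𝒜) (hne : J ≠ ⊤) :
    J ≤ Ideal.span (⋃ n ∈ Set.Ioi (0 : ℤ), (𝒜 n : Set R)) := by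
  classical
  intro x hx
  rw [← DirectSum.sum_support_decompose 𝒜 x]
  refine Ideal.sum_mem _ fun n _ => ?_
  rcases lt_trichotomy n 0 with hn | hn | hn
  · have : ((DirectSum.decompose 𝒜 x n : 𝒜 n) : R) ∈ (⊥ : AddSubgroup R) := by
      rw [← hpos n hn]; exact SetLike.coe_mem _
    rw [(AddSubgroup.mem_bot).mp this]
    exact zero_mem _
  · subst hn
    have hmem : ((DirectSum.decompose 𝒜 x 0 : 𝒜 0) : R) ∈ J := hJ 0 hx
    by_cases hz : ((DirectSum.decompose 𝒜 x 0 : 𝒜 0) : R) = 0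
    · rw [hz]; exact zero_mem _
    · exfalso
      apply hne
      let y : GrLC.deg0 𝒜 := ⟨((DirectSum.decompose 𝒜 x 0 : 𝒜 0) : R), SetLike.coe_mem _⟩
      have hy : y ≠ 0 := fun h => hz (congrArg Subtype.val h)
      obtain ⟨b, hb⟩ := h0.mul_inv_cancel hy
      have hb' : ((DirectSum.decompose 𝒜 x 0 : 𝒜 0) : R) * (b : R) = 1 :=
        congrArg Subtype.val hb
      rw [Ideal.eq_top_iff_one, ← hb']
      exact Ideal.mul_mem_right _ _ hmem
  · exact Ideal.subset_span (Set.mem_iUnion₂.mpr ⟨n, hn, SetLike.coe_mem _⟩)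

/-- Minimal primes of a graded ring are homogeneous. -/
theorem isHomogeneous_of_mem_minimalPrimes {P : Ideal R} (hP : P ∈ minimalPrimes R) :
    P.IsHomogeneous 𝒜 := by
  have hprime : P.IsPrime := hP.1.1
  have h1 : ((P.homogeneousCore 𝒜).toIdeal).IsPrime := Ideal.IsPrime.homogeneousCore hprime
  have h3 := Ideal.toIdeal_homogeneousCore_le 𝒜 P
  have h4 : P ≤ (P.homogeneousCore 𝒜).toIdeal := hP.2 ⟨h1, bot_le⟩ h3
  have h5 : (P.homogeneousCore 𝒜).toIdeal = P := le_antisymm h3 h4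
  rw [← h5]
  exact (P.homogeneousCore 𝒜).isHomogeneous

theorem minimalPrimes_le (h0 : IsField (GrLC.deg0 𝒜)) (hpos : ∀ n : ℤ, n < 0 → 𝒜 n = ⊥)
    (p : Ideal R) (hp : p ∈ minimalPrimes R) :
    p ≤ Ideal.span (⋃ n ∈ Set.Ioi (0 : ℤ), (𝒜 n : Set R)) :=
  le_irrelevant 𝒜 h0 hpos p (isHomogeneous_of_mem_minimalPrimes 𝒜 hp) hp.1.1.ne_top

/-- For a Cohen–Macaulay Noetherian positively graded ring with `R_0` a field and `R_+` maximal,
`ht R_+ = dim R`. -/
theorem height_eq_ringKrullDim [hcm : LocCoh.IsCohenMacaulayRing R]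
    (h0 : IsField (GrLC.deg0 𝒜)) (hpos : ∀ n : ℤ, n < 0 → 𝒜 n = ⊥) (𝔪 : Ideal R)
    (hmax : 𝔪.IsMaximal) (h𝔪 : 𝔪 = Ideal.span (⋃ n ∈ Set.Ioi (0 : ℤ), (𝒜 n : Set R))) :
    ((𝔪.height : ℕ∞) : WithBot ℕ∞) = ringKrullDim R := by
  letI : Field (GrLC.deg0 𝒜) := h0.toField
  haveI : Algebra.FiniteType (GrLC.deg0 𝒜) R := finiteType_deg0 𝒜 hpos
  exact Groth.Agent.Lib.Seat67.GrVertex.height_eq_ringKrullDim_of_minimalPrimes_le
    (GrLC.deg0 𝒜) R 𝔪 hmax (fun p hp => h𝔪 ▸ minimalPrimes_le 𝒜 h0 hpos p hp)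

end Graded

section Combined

variable {R : Type u} [CommRing R] [hcm : LocCoh.IsCohenMacaulayRing R]
  (𝒜 : ℤ → AddSubgroup R) [GradedRing 𝒜]

/-- Graded local cohomology of a Cohen–Macaulay graded ring over a field vanishes below the
dimension. -/
theorem subsingleton_H_of_lt_dim (hpos : ∀ n : ℤ, n < 0 → 𝒜 n = ⊥)
    (h0 : IsField (GrLC.deg0 𝒜)) (m : HomogeneousIdeal 𝒜) (hm : GrLC.IsStarLocal 𝒜 m)
    (hmsp : m.toIdeal = Ideal.span (⋃ n ∈ Set.Ioi (0 : ℤ), (𝒜 n : Set R))) (n : ℕ)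
    (hn : ringKrullDim R = n) (I : GrLC.StarInjRes 𝒜 𝒜) (i : ℕ) (hi : i < n) :
    Subsingleton (I.H m i) := by
  haveI hmax : m.toIdeal.IsMaximal :=
    Groth.Agent.Lib.Seat86.StarLocal.isMaximal_of_isStarLocal hm hpos
  have hht := height_eq_ringKrullDim 𝒜 h0 hpos m.toIdeal hmax hmsp
  rw [hn] at hht
  have hht' : m.toIdeal.height = n := by exact_mod_cast hht
  have hsub := subsingleton_locCoh_of_lt_height m.toIdeal n hht' i hi
  obtain ⟨e⟩ := Groth.Agent.S13224.result R 𝒜 m R 𝒜 I i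
  exact e.toEquiv.subsingleton

end Combined

end Groth.Agent.Lib.Seat97.GrDimField
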