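import Mathlib
import Groth.Agent.Lib.Seat86GrLCArt
import Groth.Agent.Lib.Seat97GrDimField
import Groth.Agent.Lib.Seat97GrHeight
import Groth.Agent.S13224

/-!
# The a-invariant of a Cohen–Macaulay *local ring and the Hilbert function (seat 97)

* `subsingleton_H_of_lt` : for a Cohen–Macaulay positively graded *local ring of dimension `d`,
  `H^i_m(R) = 0` for `i < d`;
* `isFiniteLength_Hcomp` : over a positively graded *local ring with `R_0` Artinian, the pieces of
  `H^i_m(M)` (`M` finite) have finite length over `R_0`;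
* `endDeg_eq_iSup_of_serre` : if the Serre formula
  `H_R(n) - P(n) = Σ_{i ≤ d} (-1)^i ℓ(H^i_m(R)_n)` holds, then the a-invariant of `R` is the
  supremum of the `n` with `P(n) ≠ H_R(n)`.

Namespace `Groth.Agent.Lib.Seat97.GrAInvHilb`.
-/

set_option autoImplicit false
universe u

open GrLC

namespace Groth.Agent.Lib.Seat97.GrAInvHilb

section CM

variable {R : Type u} [CommRing R] [hcm : LocCoh.IsCohenMacaulayRing R]
  (𝒜 : ℤ → AddSubgroup R) [GradedRing 𝒜]

/-- Graded local cohomology of a Cohen–Macaulay positively graded *local ring vanishes below the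
dimension. -/
theorem subsingleton_H_of_lt (hpos : ∀ n : ℤ, n < 0 → 𝒜 n = ⊥)
    (m : HomogeneousIdeal 𝒜) (hm : GrLC.IsStarLocal 𝒜 m) (d : ℕ)
    (hd : ringKrullDim R = d) (I : GrLC.StarInjRes 𝒜 𝒜) (i : ℕ) (hi : i < d) :
    Subsingleton (I.H m i) := by
  have hmax : m.toIdeal.IsMaximal :=
    Groth.Agent.Lib.Seat86.StarLocal.isMaximal_of_isStarLocal hm hpos
  have hdim := Groth.Agent.Lib.Seat97.GrHeight.ringKrullDim_eq_height_of_isStarLocal 𝒜 hpos hm
  have hht : m.toIdeal.height = ((d : ℕ) : ℕ∞) := by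
    rw [hd] at hdim
    have h2 : (((d : ℕ) : ℕ∞) : WithBot ℕ∞) = ((m.toIdeal.height : ℕ∞) : WithBot ℕ∞) := by
      rw [← hdim]
      rfl
    exact (WithBot.coe_injective h2).symm
  have hsub := Groth.Agent.Lib.Seat97.GrDimField.subsingleton_locCoh_of_lt_height m.toIdeal d hht
    i hi
  obtain ⟨e⟩ := Groth.Agent.S13224.result R 𝒜 m R 𝒜 I i
  exact e.toEquiv.subsingleton

end CM

section Len

variable {R : Type u} [CommRing R] [IsNoetherianRing R] {𝒜 : ℤ → AddSubgroup R} [GradedRing 𝒜]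
  {M : Type u} [AddCommGroup M] [Module R M] [Module.Finite R M] {ℳ : ℤ → AddSubgroup M}
  [DirectSum.Decomposition ℳ] [SetLike.GradedSMul 𝒜 ℳ]

/-- The pieces of `H^i_m(M)` have finite length over an Artinian `R_0`. -/
theorem isFiniteLength_Hcomp [IsArtinianRing (GrLC.deg0 𝒜)] (hpos : ∀ n : ℤ, n < 0 → 𝒜 n = ⊥)
    {m : HomogeneousIdeal 𝒜} (hm : GrLC.IsStarLocal 𝒜 m) (E : GrLC.StarInjRes 𝒜 ℳ) (i : ℕ)
    (n : ℤ) : IsFiniteLength (GrLC.deg0 𝒜) (E.Hcomp m i n) := by
  have hart : IsArtinian (GrLC.deg0 𝒜) (E.Hcomp m i n) :=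
    Groth.Agent.Lib.Seat86.GrLCArt.isArtinian_Hcomp E i hpos hm n
  have hnoeth : IsNoetherian (GrLC.deg0 𝒜) (E.Hcomp m i n) :=
    IsSemiprimaryRing.isNoetherian_iff_isArtinian.mpr hart
  exact isFiniteLength_iff_isNoetherian_isArtinian.mpr ⟨hnoeth, hart⟩

end Len

section Main

variable {R : Type u} [CommRing R] [hcm : LocCoh.IsCohenMacaulayRing R]
  (𝒜 : ℤ → AddSubgroup R) [GradedRing 𝒜]

/-- If the Serre formula holds for `R`, then `a(R) = sup {n | P(n) ≠ H_R(n)}`. -/
theorem endDeg_eq_iSup_of_serre [IsArtinianRing (GrLC.deg0 𝒜)]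
    (hpos : ∀ n : ℤ, n < 0 → 𝒜 n = ⊥) (m : HomogeneousIdeal 𝒜) (hm : GrLC.IsStarLocal 𝒜 m)
    (d : ℕ) (hd : ringKrullDim R = d) (I : GrLC.StarInjRes 𝒜 𝒜) (P : Polynomial ℚ)
    (hserre : ∀ n : ℤ, ((Module.length (GrLC.deg0 𝒜) (GrLC.comp 𝒜 𝒜 n)).toNat : ℚ) -
        P.eval (n : ℚ) = ∑ i ∈ Finset.range (d + 1),
          (-1 : ℚ) ^ i * ((Module.length (GrLC.deg0 𝒜) (I.Hcomp m i n)).toNat : ℚ)) :
    GrLC.endDeg (I.Hgr m d) =
      ⨆ (n : ℤ) (_ : P.eval (n : ℚ) ≠
        ((Module.length (GrLC.deg0 𝒜) (GrLC.comp 𝒜 𝒜 n)).toNat : ℚ)),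
        ((n : WithTop ℤ) : WithBot (WithTop ℤ)) := by
  have hkey : ∀ n : ℤ, I.Hgr m d n ≠ ⊥ ↔ P.eval (n : ℚ) ≠
      ((Module.length (GrLC.deg0 𝒜) (GrLC.comp 𝒜 𝒜 n)).toNat : ℚ) := by
    intro n
    have hs := hserre n
    rw [Finset.sum_range_succ, Finset.sum_eq_zero, zero_add] at hs
    swap
    · intro i hi
      have hi' : i < d := Finset.mem_range.mp hi
      have := subsingleton_H_of_lt 𝒜 hpos m hm d hd I i hi'
      have hbot : I.Hcomp m i n = ⊥ := by
        rw [eq_bot_iff]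
        intro y _
        exact (Submodule.mem_bot _).mpr (Subsingleton.elim _ _)
      rw [hbot]
      have : Module.length (GrLC.deg0 𝒜) (⊥ : Submodule (GrLC.deg0 𝒜) (I.H m i)) = 0 :=
        Module.length_eq_zero
      rw [this]
      simp
    have hfl := isFiniteLength_Hcomp (ℳ := 𝒜) hpos hm I d n
    have hne_top : Module.length (GrLC.deg0 𝒜) (I.Hcomp m d n) ≠ ⊤ :=
      Module.length_ne_top_iff.mpr hfl
    have hiff1 : I.Hgr m d n ≠ ⊥ ↔ I.Hcomp m d n ≠ ⊥ := by
      constructor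
      · intro h hb
        apply h
        rw [eq_bot_iff]
        intro y hy
        have hy' : y ∈ I.Hcomp m d n := hy
        rw [hb] at hy'
        exact (AddSubgroup.mem_bot).mpr ((Submodule.mem_bot _).mp hy')
      · intro h hb
        apply h
        rw [eq_bot_iff]
        intro y hy
        have hy' : y ∈ I.Hgr m d n := hy
        rw [hb] at hy'
        exact (Submodule.mem_bot _).mpr ((AddSubgroup.mem_bot).mp hy')
    rw [hiff1]
    have hiff2 : I.Hcomp m d n ≠ ⊥ ↔
        (Module.length (GrLC.deg0 𝒜) (I.Hcomp m d n)).toNat ≠ 0 := by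
      rw [Ne, Ne, ENat.toNat_eq_zero, not_or]
      constructor
      · intro h
        refine ⟨fun h0 => h ?_, hne_top⟩
        rw [Module.length_eq_zero_iff] at h0
        exact Submodule.subsingleton_iff_eq_bot.mp h0
      · rintro ⟨h, -⟩ hb
        apply h
        rw [Module.length_eq_zero_iff]
        exact Submodule.subsingleton_iff_eq_bot.mpr hb
    rw [hiff2]
    constructor
    · intro h heq
      rw [heq, sub_self] at hs
      have h1 : ((Module.length (GrLC.deg0 𝒜) (I.Hcomp m d n)).toNat : ℚ) = 0 := by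
        have hpow : ((-1 : ℚ) ^ d) ≠ 0 := pow_ne_zero _ (by norm_num)
        rcases mul_eq_zero.mp hs.symm with h2 | h2
        · exact absurd h2 hpow
        · exact h2
      exact h (by exact_mod_cast h1)
    · intro h h0
      apply h
      rw [h0] at hs
      simp only [Nat.cast_zero, mul_zero] at hs
      linarith
  unfold GrLC.endDeg
  apply iSup_congr
  intro n
  exact iSup_congr_Prop (hkey n) (fun _ => rfl)

end Main

end Groth.Agent.Lib.Seat97.GrAInvHilb
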