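import Mathlib
import Groth.Agent.Lib.Seat97GrKoszul
import Groth.Agent.Lib.Seat86GrQReg
import Groth.Agent.S13227

/-!
# Castelnuovo–Mumford regularity and a quasi-regular linear form (seat 97)

Setting: `R` Noetherian positively `ℤ`-graded, `a = R_+` generated by `R_1`; `M` a finite graded
module, `x ∈ R_1` with `(0 :_M x)` `a`-torsion, `N = M/xM`.

* `van_left`, `van_unshift` : two more lemmas on `Van`;
* `van_persist` : `H^i(M)_{d-i+1} = 0` for all `i ≥ 1` implies `H^i(M)_n = 0` for all `i ≥ 1`,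
  `n ≥ d-i+1` (persistence, via Koszul descent);
* `van_quot` : helper86's quotient step in `Van` form;
* `van_pred` : `H^{j+1}(M)_n = 0` and `H^j(N)_n = 0` imply `H^{j+1}(M)_{n-1} = 0`;
* `regular_iff` : `M` is `d`-regular iff `N` is `d`-regular and `H^0(M)_n = 0` for `n > d`;
* `endDeg_le_iff`.

Namespace `Groth.Agent.Lib.Seat97.GrCMReg`.
-/

set_option autoImplicit false
set_option linter.style.haveILetI false
set_option linter.unusedSectionVars false
open DirectSum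

noncomputable section

namespace Groth.Agent.Lib.Seat97.GrCMReg

open Groth.Agent.Lib.Seat86.GrProd Groth.Agent.Lib.Seat86.GrCone Groth.Agent.Lib.Seat86.GrHmap
  Groth.Agent.Lib.Seat86.GrLES Groth.Agent.Lib.Seat86.GrIndep Groth.Agent.Lib.Seat86.GrSmul
  Groth.Agent.Lib.Seat86.GrFinB Groth.Agent.Lib.Seat97.GrVan Groth.Agent.Lib.Seat97.GrDescent
  Groth.Agent.Lib.Helper29GrShift Groth.Agent.Lib.Helper29GrSub Groth.Agent.Lib.Helper29GrGam
  Groth.Agent.Lib.Helper29GrHom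

universe u

section EndDeg

variable {H : Type u} [AddCommGroup H]

theorem endDeg_le_iff (𝓗 : ℤ → AddSubgroup H) (d : ℤ) :
    GrLC.endDeg 𝓗 ≤ ((d : WithTop ℤ) : WithBot (WithTop ℤ)) ↔ ∀ n : ℤ, d < n → 𝓗 n = ⊥ := by
  unfold GrLC.endDeg
  rw [iSup_le_iff]
  constructor
  · intro h n hn
    by_contra hne
    have h1 := iSup_le_iff.mp (h n) hne
    rw [WithBot.coe_le_coe, WithTop.coe_le_coe] at h1
    omega
  · intro h n
    rw [iSup_le_iff]
    intro hne
    rw [WithBot.coe_le_coe, WithTop.coe_le_coe]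
    by_contra hlt
    exact hne (h n (by omega))

end EndDeg

section General

variable {ι : Type} [AddCommGroup ι] [DecidableEq ι] [Module.Free ℤ ι] [Module.Finite ℤ ι]
variable {R : Type u} [CommRing R] [IsNoetherianRing R] {𝒜 : ι → AddSubgroup R} [GradedRing 𝒜]

section Unshift

variable {M : Type u} [AddCommGroup M] [Module R M] {ℳ : ι → AddSubgroup M}
  [DirectSum.Decomposition ℳ] [SetLike.GradedSMul 𝒜 ℳ]

/-- Converse of `van_shift`. -/
theorem van_unshift (a : HomogeneousIdeal 𝒜) (m : ℕ) (g e : ι)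
    (h : Van (shiftGr ℳ e) a m g) : Van ℳ a m (g + e) := by
  intro E y hy
  exact h (shiftRes E e) y hy

end Unshift

section SES

variable {M' M M'' : Type u} [AddCommGroup M'] [Module R M'] [AddCommGroup M] [Module R M]
  [AddCommGroup M''] [Module R M'']
  {ℳ' : ι → AddSubgroup M'} {ℳ : ι → AddSubgroup M} {ℳ'' : ι → AddSubgroup M''}
  [DirectSum.Decomposition ℳ'] [SetLike.GradedSMul 𝒜 ℳ']
  [DirectSum.Decomposition ℳ] [SetLike.GradedSMul 𝒜 ℳ]
  [DirectSum.Decomposition ℳ''] [SetLike.GradedSMul 𝒜 ℳ'']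
  (α : M' →ₗ[R] M) (hα : Function.Injective α) (hαg : GrLC.IsGrHom ℳ' ℳ α)
  (β : M →ₗ[R] M'') (hβ : Function.Surjective β) (hβg : GrLC.IsGrHom ℳ ℳ'' β)
  (hker : LinearMap.ker β = LinearMap.range α) (a : HomogeneousIdeal 𝒜)

include hα hαg hβ hβg hker in
/-- Left term of a short exact sequence. -/
theorem van_left (m : ℕ) (g : ι) (h1 : Van ℳ a (m + 1) g) (h2 : Van ℳ'' a m g) :
    Van ℳ' a (m + 1) g := by
  obtain ⟨E⟩ := Groth.Agent.S13215.result R 𝒜 M ℳ
  obtain ⟨E''⟩ := Groth.Agent.S13215.result R 𝒜 M'' ℳ''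
  intro E' y' hy'
  obtain ⟨F⟩ := exists_chainLift (ℳ' := ℳ') (ℳ := ℳ) α hαg E' E
  obtain ⟨p, δ, -, hδ, -, -, e3⟩ := exists_les (ℳ' := ℳ') (ℳ := ℳ) (ℳ'' := ℳ'') α hα β hβ hβg
    hker E' E F E'' a
  have h0 : (ofLift F).Hmap a (m + 1) y' = 0 :=
    h1 E _ ((ofLift F).Hmap_mem_Hgr a (m + 1) g hy')
  have hyr : y' ∈ LinearMap.range (δ m) := by
    rw [e3 m, LinearMap.mem_ker]
    exact h0
  obtain ⟨z, hz, hzy⟩ := exists_mem_piece_of_mem_range (E''.Hgr a m) (E'.Hgr a (m + 1))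
    (isInternal_Hgr E'' a m) (isInternal_Hgr E' a (m + 1)) (δ m) (hδ m) hy' hyr
  rw [← hzy, h2 E'' z hz, map_zero]

end SES

section QuotAux

variable {N : Type u} [AddCommGroup N] [Module R N] {𝒩 : ι → AddSubgroup N}
  [DirectSum.Decomposition 𝒩] [SetLike.GradedSMul 𝒜 𝒩]
  (x : R) (e : ι) (hx : x ∈ 𝒜 e) (a : HomogeneousIdeal 𝒜) (X : GrLC.GMod.{u} 𝒜)
  (hK : ∀ m : X.carrier, x • m = 0 → m ∈ GrLC.gam a.toIdeal X.carrier)
  (π : X.carrier →ₗ[R] N) (hπ : Function.Surjective π) (hπg : GrLC.IsGrHom X.gr 𝒩 π)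
  (hker : LinearMap.ker π =
    LinearMap.range (x • (LinearMap.id : X.carrier →ₗ[R] X.carrier)))

include hx hK hπ hπg hker in
/-- Bundled form of `van_pred`. -/
theorem van_pred_aux (j : ℕ) (g : ι) (h1 : Van X.gr a (j + 1) g) (h2 : Van 𝒩 a j g) :
    Van X.gr a (j + 1) (g + -e) := by
  classical
  apply van_unshift a (j + 1) g (-e)
  obtain ⟨f, hf⟩ : ∃ f : (shiftGMod X (-e)).carrier →ₗ[R] X.carrier,
      f = x • (LinearMap.id : X.carrier →ₗ[R] X.carrier) := ⟨_, rfl⟩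
  have hfg : GrLC.IsGrHom (shiftGMod X (-e)).gr X.gr f := by
    intro g' (m : X.carrier) (hm : m ∈ X.gr (g' + -e))
    rw [hf]
    have h := SetLike.GradedSMul.smul_mem (A := 𝒜) (B := X.gr) hx hm
    rw [vadd_eq_add, add_comm, neg_add_cancel_right] at h
    exact h
  have hKh : (LinearMap.ker f).IsHomogeneous (shiftGMod X (-e)).gr :=
    ker_isHomogeneous X.gr (shiftGMod X (-e)).gr f hfg
  have hI : (LinearMap.range f).IsHomogeneous X.gr := by
    rw [LinearMap.range_eq_map]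
    exact map_isHomogeneous (shiftGMod X (-e)).gr X.gr f hfg (fun _ _ _ => Submodule.mem_top)
  -- the image has vanishing cohomology
  have hvI : Van (subGMod X (LinearMap.range f) hI).gr a (j + 1) g := by
    refine van_left (ℳ' := (subGMod X (LinearMap.range f) hI).gr) (ℳ := X.gr)
      (ℳ'' := 𝒩) (subIncl X (LinearMap.range f) hI)
      (subIncl_injective _ _ hI) (subIncl_grHom _ _ hI) π hπ hπg ?_ a j g h1 h2
    rw [range_subIncl, hker, hf]
  -- the kernel is torsion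
  have hvK : Van (subGMod (shiftGMod X (-e)) (LinearMap.ker f) hKh).gr a (j + 1) g := by
    apply van_sub_of_torsion a _ _ hKh _ j g
    intro m hm
    rw [hf] at hm
    exact hK m hm
  -- the first sequence
  have hβmem : ∀ m, f m ∈ LinearMap.range f := fun m => LinearMap.mem_range_self f m
  have hβs : Function.Surjective (subLift (shiftGMod X (-e)) X (LinearMap.range f) hI f
      hβmem) := by
    intro w
    obtain ⟨m, hm⟩ := subIncl_mem X (LinearMap.range f) hI w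
    refine ⟨m, subIncl_injective _ _ hI ?_⟩
    rw [subIncl_subLift]
    exact hm
  have hker₁ : LinearMap.ker (subLift (shiftGMod X (-e)) X (LinearMap.range f) hI f hβmem) =
      LinearMap.range (subIncl (shiftGMod X (-e)) (LinearMap.ker f) hKh) := by
    rw [range_subIncl]
    ext m
    rw [LinearMap.mem_ker, LinearMap.mem_ker]
    constructor
    · intro h
      have := congrArg (subIncl X (LinearMap.range f) hI) h
      rw [subIncl_subLift, map_zero] at this
      exact this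
    · intro h
      apply subIncl_injective _ _ hI
      rw [subIncl_subLift, map_zero]
      exact h
  exact van_mid
    (ℳ' := (subGMod (shiftGMod X (-e)) (LinearMap.ker f) hKh).gr)
    (ℳ := (shiftGMod X (-e)).gr)
    (ℳ'' := (subGMod X (LinearMap.range f) hI).gr)
    (subIncl _ (LinearMap.ker f) hKh) (subIncl_injective _ _ hKh) (subIncl_grHom _ _ hKh)
    (subLift _ X (LinearMap.range f) hI f hβmem) hβs
    (subLift_grHom _ _ _ hI f hβmem hfg) hker₁ a (j + 1) g hvK hvI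

end QuotAux

section Quot

variable {M N : Type u} [AddCommGroup M] [Module R M] [AddCommGroup N] [Module R N]
  {ℳ : ι → AddSubgroup M} {𝒩 : ι → AddSubgroup N}
  [DirectSum.Decomposition ℳ] [SetLike.GradedSMul 𝒜 ℳ]
  [DirectSum.Decomposition 𝒩] [SetLike.GradedSMul 𝒜 𝒩]
  (x : R) (e : ι) (hx : x ∈ 𝒜 e) (a : HomogeneousIdeal 𝒜)
  (hK : ∀ m : M, x • m = 0 → m ∈ GrLC.gam a.toIdeal M)
  (π : M →ₗ[R] N) (hπ : Function.Surjective π) (hπg : GrLC.IsGrHom ℳ 𝒩 π)
  (hker : LinearMap.ker π = LinearMap.range (x • (LinearMap.id : M →ₗ[R] M)))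

include hx hK hπ hπg hker in
/-- helper86's quotient step, in `Van` form. -/
theorem van_quot (i : ℕ) (g : ι) (h1 : Van ℳ a i g) (h2 : Van ℳ a (i + 1) (g + -e)) :
    Van 𝒩 a i g := by
  obtain ⟨E⟩ := Groth.Agent.S13215.result R 𝒜 M ℳ
  intro E'' z hz
  exact Groth.Agent.Lib.Seat86.GrQReg.Hgr_quot_eq_zero x e hx a hK π hπ hπg hker E E'' i g
    (h1 E) (h2 E) z hz

include hx hK hπ hπg hker in
/-- `H^{j+1}(M)_n = 0` and `H^j(N)_n = 0` imply `H^{j+1}(M)_{n-e} = 0`. -/
theorem van_pred (j : ℕ) (g : ι) (h1 : Van ℳ a (j + 1) g) (h2 : Van 𝒩 a j g) :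
    Van ℳ a (j + 1) (g + -e) :=
  van_pred_aux x e hx a (GrLC.GMod.of 𝒜 M ℳ) hK π hπ hπg hker j g h1 h2

end Quot

end General

section Int

variable {R : Type u} [CommRing R] [IsNoetherianRing R] {𝒜 : ℤ → AddSubgroup R} [GradedRing 𝒜]
  (hpos : ∀ n : ℤ, n < 0 → 𝒜 n = ⊥) (a : HomogeneousIdeal 𝒜)
  (ha : a.toIdeal = Ideal.span (⋃ n ∈ Set.Ioi (0 : ℤ), (𝒜 n : Set R)))
  (hhom : a.toIdeal = Ideal.span ((𝒜 1 : AddSubgroup R) : Set R))

section Persist

variable {M : Type u} [AddCommGroup M] [Module R M] {ℳ : ℤ → AddSubgroup M}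
  [DirectSum.Decomposition ℳ] [SetLike.GradedSMul 𝒜 ℳ]

include hhom in
/-- Persistence of weak regularity. -/
theorem van_persist (d : ℤ) (h : ∀ i : ℕ, 0 < i → Van ℳ a i (d - (i : ℤ) + 1)) (i : ℕ)
    (hi : 0 < i) (n : ℤ) (hn : d - (i : ℤ) + 1 ≤ n) : Van ℳ a i n := by
  classical
  have hfg : (Submodule.span R ((𝒜 1 : AddSubgroup R) : Set R)).FG := by
    have h := (isNoetherianRing_iff_ideal_fg R).mp inferInstance a.toIdeal
    rw [hhom] at h
    exact h
  obtain ⟨S, hS1, hS2⟩ := (Submodule.fg_span_iff_fg_span_finset_subset _).mp hfg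
  have hxs : ∀ x ∈ S.toList, x ∈ 𝒜 1 := fun x hx => hS1 (Finset.mem_toList.mp hx)
  have hspan : a.toIdeal = Ideal.span {x | x ∈ S.toList} := by
    rw [hhom]
    have : {x | x ∈ S.toList} = (S : Set R) := by
      ext x
      simp
    rw [this]
    exact hS2
  have key : ∀ (k : ℕ) (j : ℕ), 0 < j → Van ℳ a j (d - (j : ℤ) + 1 + (k : ℤ)) := by
    intro k
    induction k with
    | zero =>
      intro j hj
      rw [Nat.cast_zero, add_zero]
      exact h j hj
    | succ k ih =>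
      intro j hj
      obtain ⟨j', rfl⟩ := Nat.exists_eq_succ_of_ne_zero (show j ≠ 0 by omega)
      refine koszul_descent a 1 S.toList hxs hspan (GrLC.GMod.of 𝒜 M ℳ) j' _ ?_
      intro p
      have h1 := ih (j' + p + 1) (by omega)
      have heq : d - ((j' + 1 : ℕ) : ℤ) + 1 + ((k + 1 : ℕ) : ℤ) + -((p + 1) • (1 : ℤ)) =
          d - ((j' + p + 1 : ℕ) : ℤ) + 1 + (k : ℤ) := by
        rw [nsmul_eq_mul, mul_one]
        push_cast
        ring
      rw [heq]
      exact h1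
  have hk : n = d - (i : ℤ) + 1 + ((n - (d - (i : ℤ) + 1)).toNat : ℤ) := by
    rw [Int.toNat_of_nonneg (by omega)]
    ring
  rw [hk]
  exact key _ i hi

end Persist

section Main

variable {M N : Type u} [AddCommGroup M] [Module R M] [AddCommGroup N] [Module R N]
  [Module.Finite R M]
  {ℳ : ℤ → AddSubgroup M} {𝒩 : ℤ → AddSubgroup N}
  [DirectSum.Decomposition ℳ] [SetLike.GradedSMul 𝒜 ℳ]
  [DirectSum.Decomposition 𝒩] [SetLike.GradedSMul 𝒜 𝒩]
  (x : R) (hx : x ∈ 𝒜 1)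
  (hK : ∀ m : M, x • m = 0 → m ∈ GrLC.gam a.toIdeal M)
  (π : M →ₗ[R] N) (hπ : Function.Surjective π) (hπg : GrLC.IsGrHom ℳ 𝒩 π)
  (hker : LinearMap.ker π = LinearMap.range (x • (LinearMap.id : M →ₗ[R] M)))

include hpos ha hhom hx hK hπ hπg hker in
/-- `M` is `d`-regular iff `M/xM` is `d`-regular and `H^0(M)` lives in degrees `≤ d`. -/
theorem regular_iff (d : ℤ) :
    ((∀ n : ℤ, d < n → Van ℳ a 0 n) ∧ ∀ i : ℕ, 0 < i → Van ℳ a i (d - (i : ℤ) + 1)) ↔
      (((∀ n : ℤ, d < n → Van 𝒩 a 0 n) ∧ ∀ i : ℕ, 0 < i → Van 𝒩 a i (d - (i : ℤ) + 1)) ∧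
        ∀ n : ℤ, d < n → Van ℳ a 0 n) := by
  constructor
  · rintro ⟨h0, hW⟩
    have hP := van_persist a hhom d hW
    refine ⟨⟨?_, ?_⟩, h0⟩
    · intro n hn
      apply van_quot x 1 hx a hK π hπ hπg hker 0 n (h0 n hn)
      exact hP 1 Nat.one_pos (n + -1) (by push_cast; omega)
    · intro i hi
      apply van_quot x 1 hx a hK π hπ hπg hker i _ (hW i hi)
      have := hW (i + 1) (Nat.succ_pos i)
      have heq : d - (i : ℤ) + 1 + -1 = d - ((i + 1 : ℕ) : ℤ) + 1 := by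
        push_cast
        ring
      rw [heq]
      exact this
  · rintro ⟨⟨hN0, hNW⟩, h0⟩
    refine ⟨h0, ?_⟩
    have hNP := van_persist a hhom d hNW
    -- `H^j(N)_n = 0` for all `j` and `n ≥ d - j + 1`
    have hNall : ∀ (j : ℕ) (n : ℤ), d - (j : ℤ) + 1 ≤ n → Van 𝒩 a j n := by
      intro j n hn
      rcases Nat.eq_zero_or_pos j with rfl | hj
      · exact hN0 n (by push_cast at hn; omega)
      · exact hNP j hj n hn
    intro i hi
    obtain ⟨j, rfl⟩ := Nat.exists_eq_succ_of_ne_zero (show i ≠ 0 by omega)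
    obtain ⟨E⟩ := Groth.Agent.S13215.result R 𝒜 M ℳ
    obtain ⟨r, hr⟩ := Groth.Agent.S13227.result R 𝒜 hpos a ha M ℳ E
    -- descending induction
    have key : ∀ (k : ℕ) (n : ℤ), d - ((j + 1 : ℕ) : ℤ) + 1 ≤ n → r ≤ n + (k : ℤ) →
        Van ℳ a (j + 1) n := by
      intro k
      induction k with
      | zero =>
        intro n _ hrn
        rw [van_iff_Hcomp a (j + 1) n E]
        exact hr (j + 1) n (by simpa using hrn)
      | succ k ih =>
        intro n hn hrn
        have h1 : Van ℳ a (j + 1) (n + 1) := ih (n + 1) (by omega) (by push_cast at hrn ⊢; omega)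
        have h2 : Van 𝒩 a j (n + 1) := hNall j (n + 1) (by push_cast at hn ⊢; omega)
        have := van_pred x 1 hx a hK π hπ hπg hker j (n + 1) h1 h2
        rw [add_neg_cancel_right] at this
        exact this
    exact key (r - (d - ((j + 1 : ℕ) : ℤ) + 1)).toNat _ le_rfl (by
      have := Int.self_le_toNat (r - (d - ((j + 1 : ℕ) : ℤ) + 1))
      omega)

end Main

end Int

end Groth.Agent.Lib.Seat97.GrCMReg
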