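import Mathlib
import Groth.Prelude.Def_GrLC
import Groth.Agent.Lib.Seat97GrVan
import Groth.Agent.Lib.Seat86GrSerreA
import Groth.Agent.Lib.Seat86GrSerreB

/-!
# Graded free modules with prescribed basis degrees (seat 97)

* `freeGr 𝒜 a` : the grading of `Fin n → R` in which the `b`-th basis vector has degree `a b`,
  with its `DirectSum.Decomposition` and `SetLike.GradedSMul` instances;
* `van_zero_iff` : `H^0_a(M)_g = 0` iff `Γ_a(M) ∩ M_g = 0`;
* `van_free` : vanishing of a piece of the local cohomology of a graded free module from that of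
  the ring.

Namespace `Groth.Agent.Lib.Seat97.GrFree`.
-/

set_option autoImplicit false
set_option linter.style.haveILetI false
set_option linter.unusedSectionVars false
open DirectSum

noncomputable section

namespace Groth.Agent.Lib.Seat97.GrFree

open Groth.Agent.Lib.Seat86.GrProd Groth.Agent.Lib.Seat97.GrVan
  Groth.Agent.Lib.Helper29GrShift

universe u

section Free

variable {ι : Type} [AddCommGroup ι] [DecidableEq ι]
variable {R : Type u} [CommRing R] (𝒜 : ι → AddSubgroup R) [GradedRing 𝒜]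
variable {n : ℕ} (a : Fin n → ι)

/-- The pieces of the graded free module whose `b`-th basis vector has degree `a b`. -/
def freeGr : ι → AddSubgroup (Fin n → R) := fun g =>
  { carrier := {v | ∀ b, v b ∈ 𝒜 (g - a b)}
    zero_mem' := fun _ => zero_mem _
    add_mem' := fun hv hw b => add_mem (hv b) (hw b)
    neg_mem' := fun hv b => neg_mem (hv b) }

theorem mem_freeGr (g : ι) (v : Fin n → R) : v ∈ freeGr 𝒜 a g ↔ ∀ b, v b ∈ 𝒜 (g - a b) :=
  Iff.rfl

theorem single_mem (b : Fin n) (j : ι) (r : R) (hr : r ∈ 𝒜 j) :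
    (Pi.single b r : Fin n → R) ∈ freeGr 𝒜 a (j + a b) := by
  intro b'
  by_cases h : b' = b
  · subst h
    rw [Pi.single_eq_same, add_sub_cancel_right]
    exact hr
  · rw [Pi.single_eq_of_ne h]
    exact zero_mem _

/-- Insertion of a homogeneous element in the `b`-th coordinate. -/
def insPiece (b : Fin n) (j : ι) : ↥(𝒜 j) →+ ↥(freeGr 𝒜 a (j + a b)) where
  toFun r := ⟨Pi.single b (r : R), single_mem 𝒜 a b j r r.2⟩
  map_zero' := Subtype.ext (by simp)
  map_add' r s := Subtype.ext (by simp [Pi.single_add])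

/-- The `b`-th coordinate embedding on the level of direct sums. -/
def T (b : Fin n) : (⨁ j, 𝒜 j) →+ ⨁ g, freeGr 𝒜 a g :=
  DirectSum.toAddMonoid (fun j =>
    (DirectSum.of (fun g => ↥(freeGr 𝒜 a g)) (j + a b)).comp (insPiece 𝒜 a b j))

theorem T_of (b : Fin n) (j : ι) (r : ↥(𝒜 j)) :
    T 𝒜 a b (DirectSum.of (fun j => ↥(𝒜 j)) j r) =
      DirectSum.of (fun g => ↥(freeGr 𝒜 a g)) (j + a b) (insPiece 𝒜 a b j r) := by
  unfold T
  rw [DirectSum.toAddMonoid_of]
  rfl

theorem coe_T (b : Fin n) (y : ⨁ j, 𝒜 j) :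
    DirectSum.coeAddMonoidHom (freeGr 𝒜 a) (T 𝒜 a b y) =
      Pi.single b (DirectSum.coeAddMonoidHom 𝒜 y) := by
  induction y using DirectSum.induction_on with
  | zero => simp
  | of j r =>
    rw [T_of, DirectSum.coeAddMonoidHom_of, DirectSum.coeAddMonoidHom_of]
    rfl
  | add x y hx hy =>
    rw [map_add, map_add, map_add, hx, hy, Pi.single_add]

/-- The decomposition map. -/
def decHom : (Fin n → R) →+ ⨁ g, freeGr 𝒜 a g :=
  ∑ b : Fin n, (T 𝒜 a b).comp
    ((DirectSum.decomposeAddEquiv 𝒜).toAddMonoidHom.comp (Pi.evalAddMonoidHom (fun _ => R) b))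

theorem decHom_apply (v : Fin n → R) :
    decHom 𝒜 a v = ∑ b : Fin n, T 𝒜 a b (DirectSum.decompose 𝒜 (v b)) := by
  unfold decHom
  rw [AddMonoidHom.finsetSum_apply]
  rfl

theorem of_congr {g g' : ι} (h : g = g') (x : Fin n → R) (hx : x ∈ freeGr 𝒜 a g)
    (hx' : x ∈ freeGr 𝒜 a g') :
    DirectSum.of (fun g => ↥(freeGr 𝒜 a g)) g ⟨x, hx⟩ =
      DirectSum.of (fun g => ↥(freeGr 𝒜 a g)) g' ⟨x, hx'⟩ := by
  subst h
  rfl

instance freeDecomposition : DirectSum.Decomposition (freeGr 𝒜 a) where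
  decompose' := decHom 𝒜 a
  left_inv := by
    intro v
    rw [decHom_apply, map_sum]
    have h : ∀ b : Fin n, DirectSum.coeAddMonoidHom (freeGr 𝒜 a)
        (T 𝒜 a b (DirectSum.decompose 𝒜 (v b))) = Pi.single b (v b) := by
      intro b
      rw [coe_T]
      congr 1
      exact DirectSum.Decomposition.left_inv (v b)
    rw [Finset.sum_congr rfl (fun b _ => h b)]
    exact Finset.univ_sum_single v
  right_inv := by
    intro y
    induction y using DirectSum.induction_on with
    | zero => rw [map_zero, map_zero]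
    | add x y hx hy => rw [map_add, map_add, hx, hy]
    | of g w =>
      obtain ⟨v, hv⟩ := w
      rw [DirectSum.coeAddMonoidHom_of, decHom_apply]
      have h : ∀ b : Fin n, T 𝒜 a b (DirectSum.decompose 𝒜 (v b)) =
          DirectSum.of (fun g => ↥(freeGr 𝒜 a g)) g
            ⟨Pi.single b (v b), by
              have := single_mem 𝒜 a b (g - a b) (v b) (hv b)
              rwa [sub_add_cancel] at this⟩ := by
        intro b
        rw [DirectSum.decompose_of_mem 𝒜 (hv b), T_of]
        exact of_congr 𝒜 a (sub_add_cancel g (a b)) _ _ _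
      rw [Finset.sum_congr rfl (fun b _ => h b), ← map_sum]
      congr 1
      apply Subtype.ext
      rw [AddSubmonoidClass.coe_finsetSum]
      exact Finset.univ_sum_single v

instance free_gradedSMul : SetLike.GradedSMul 𝒜 (freeGr 𝒜 a) where
  smul_mem := by
    intro i j r v hr hv b
    have h := SetLike.GradedMul.mul_mem hr (hv b)
    rw [vadd_eq_add, add_sub_assoc]
    exact h

/-- The graded free module, bundled. -/
def freeGMod : GrLC.GMod.{u} 𝒜 where
  carrier := Fin n → R
  gr := freeGr 𝒜 a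

end Free

section Int

variable {R : Type u} [CommRing R] [IsNoetherianRing R] {𝒜 : ℤ → AddSubgroup R} [GradedRing 𝒜]

section Zero

variable {M : Type u} [AddCommGroup M] [Module R M] {ℳ : ℤ → AddSubgroup M}
  [DirectSum.Decomposition ℳ] [SetLike.GradedSMul 𝒜 ℳ]

/-- `H^0_a(M)_g = 0` iff `Γ_a(M) ∩ M_g = 0`. -/
theorem van_zero_iff (a : HomogeneousIdeal 𝒜) (g : ℤ) :
    Van ℳ a 0 g ↔ ∀ m ∈ ℳ g, m ∈ GrLC.gam a.toIdeal M → m = 0 := by
  obtain ⟨E⟩ := Groth.Agent.S13215.result R 𝒜 M ℳ
  rw [van_iff_Hcomp a 0 g E]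
  have hlen := Groth.Agent.Lib.Seat86.GrSerreA.length_Hcomp_zero E a g
  have h1 : E.Hcomp a 0 g = ⊥ ↔ Module.length (GrLC.deg0 𝒜) ↥(E.Hcomp a 0 g) = 0 := by
    rw [Module.length_eq_zero_iff, Submodule.subsingleton_iff_eq_bot]
  have h2 : Module.length (GrLC.deg0 𝒜)
      ↥(GrLC.comp 𝒜 ℳ g ⊓ (GrLC.gam a.toIdeal M).restrictScalars (GrLC.deg0 𝒜)) = 0 ↔
      GrLC.comp 𝒜 ℳ g ⊓ (GrLC.gam a.toIdeal M).restrictScalars (GrLC.deg0 𝒜) = ⊥ := by
    rw [Module.length_eq_zero_iff, Submodule.subsingleton_iff_eq_bot]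
  rw [h1, hlen, h2, eq_bot_iff]
  constructor
  · intro h m hm hmg
    exact (Submodule.mem_bot _).mp (h ⟨hm, hmg⟩)
  · rintro h m ⟨hm, hmg⟩
    exact (Submodule.mem_bot _).mpr (h m hm hmg)

theorem van_zero_of_piece_eq_bot (a : HomogeneousIdeal 𝒜) (g : ℤ) (h : ℳ g = ⊥) :
    Van ℳ a 0 g := by
  rw [van_zero_iff]
  intro m hm _
  rw [h] at hm
  exact AddSubgroup.mem_bot.mp hm

theorem van_zero_of_gam_eq_bot (a : HomogeneousIdeal 𝒜) (g : ℤ)
    (h : GrLC.gam a.toIdeal M = ⊥) : Van ℳ a 0 g := by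
  rw [van_zero_iff]
  intro m _ hm
  rw [h] at hm
  exact (Submodule.mem_bot R).mp hm

variable {N : Type u} [AddCommGroup N] [Module R N] {𝒩 : ℤ → AddSubgroup N}
  [DirectSum.Decomposition 𝒩] [SetLike.GradedSMul 𝒜 𝒩]

/-- `H^0` is left exact. -/
theorem van_zero_of_injective (a : HomogeneousIdeal 𝒜) (g : ℤ) (α : M →ₗ[R] N)
    (hα : Function.Injective α) (hαg : GrLC.IsGrHom ℳ 𝒩 α) (h : Van 𝒩 a 0 g) :
    Van ℳ a 0 g := by
  rw [van_zero_iff] at h ⊢
  intro m hm hmg
  apply hα
  rw [map_zero]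
  refine h (α m) (hαg g m hm) ?_
  obtain ⟨s, hs⟩ := hmg
  exact ⟨s, fun r hr => by rw [← map_smul, hs r hr, map_zero]⟩

/-- All local cohomology of a module without nonzero elements vanishes. -/
theorem van_of_subsingleton (a : HomogeneousIdeal 𝒜) (hM : ∀ m : M, m = 0) (i : ℕ) (g : ℤ) :
    Van ℳ a i g := by
  obtain ⟨E⟩ := Groth.Agent.S13215.result R 𝒜 M ℳ
  rw [van_iff_Hcomp a i g E]
  apply Groth.Agent.Lib.Seat86.GrSerreB.Hcomp_eq_bot_of_pieces_eq_bot _ E a i g
  intro g'
  rw [eq_bot_iff]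
  intro m _
  exact AddSubgroup.mem_bot.mpr (hM m)

end Zero

section VanFree

/-- Vanishing for graded free modules from vanishing for the ring. -/
theorem van_free (a : HomogeneousIdeal 𝒜) (i : ℕ) : ∀ (n : ℕ) (deg : Fin n → ℤ) (g : ℤ),
    (∀ b, Van 𝒜 a i (g - deg b)) → Van (freeGr 𝒜 deg) a i g := by
  intro n
  induction n with
  | zero =>
    intro deg g _
    apply van_of_subsingleton a _ i g
    intro m
    exact Subsingleton.elim _ _
  | succ n ih =>
    intro deg g h
    have h1 : Van (shiftGr 𝒜 (-deg 0)) a i g := by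
      apply van_shift a i g (-deg 0)
      rw [← sub_eq_add_neg]
      exact h 0
    have h2 : Van (freeGr 𝒜 (fun b : Fin n => deg b.succ)) a i g :=
      ih (fun b => deg b.succ) g (fun b => h b.succ)
    refine van_mid (ℳ' := shiftGr 𝒜 (-deg 0)) (ℳ := freeGr 𝒜 deg)
      (ℳ'' := freeGr 𝒜 (fun b : Fin n => deg b.succ))
      (LinearMap.single R (fun _ : Fin (n + 1) => R) 0)
      (fun x y hxy => Pi.single_injective (M := fun _ : Fin (n + 1) => R) 0 hxy) ?_
      (LinearMap.funLeft R R (Fin.succ : Fin n → Fin (n + 1))) ?_ ?_ ?_ a i g h1 h2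
    · intro g' r hr
      have hr' : r ∈ 𝒜 (g' + -deg 0) := hr
      have := single_mem 𝒜 deg 0 (g' + -deg 0) r hr'
      rwa [neg_add_cancel_right] at this
    · intro w
      refine ⟨Fin.cons 0 w, ?_⟩
      ext b
      simp [LinearMap.funLeft_apply]
    · intro g' v hv b
      exact hv b.succ
    · ext v
      rw [LinearMap.mem_ker, LinearMap.mem_range]
      constructor
      · intro hv
        refine ⟨v 0, ?_⟩
        ext b
        refine Fin.cases ?_ (fun b' => ?_) b
        · simp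
        · have := congrFun hv b'
          simp only [LinearMap.funLeft_apply, Pi.zero_apply] at this
          rw [this]
          simp [Fin.succ_ne_zero]
      · rintro ⟨r, rfl⟩
        ext b
        simp [LinearMap.funLeft_apply, Fin.succ_ne_zero]

end VanFree

end Int

end Groth.Agent.Lib.Seat97.GrFree
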