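import Mathlib
import Groth.Prelude.Def_GrSyz
import Groth.Agent.Lib.Seat97GrFree
import Groth.Agent.Lib.Helper29GrHom

/-!
# The first syzygy module of a graded free resolution (seat 97)

For `F : GrSyz.FreeRes 𝒜 ℳ` (gradings by additive subgroups):
* `augLin_grHom` : the augmentation is homogeneous for `freeGr 𝒜 (F.deg 0)`;
* `syz F` : the kernel of the augmentation as a bundled graded module, with its inclusion
  `syzIncl F`;
* `tailRes F` : the rest of `F` as a graded free resolution of `syz F`.

Namespace `Groth.Agent.Lib.Seat97.GrSyz`.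
-/

set_option autoImplicit false
set_option linter.style.haveILetI false
set_option linter.unusedSectionVars false
open DirectSum

noncomputable section

namespace Groth.Agent.Lib.Seat97.GrSyz

open Groth.Agent.Lib.Seat86.GrProd Groth.Agent.Lib.Seat97.GrVan Groth.Agent.Lib.Seat97.GrFree
  Groth.Agent.Lib.Helper29GrSub Groth.Agent.Lib.Helper29GrHom

universe u

variable {R : Type u} [CommRing R] {𝒜 : ℤ → AddSubgroup R} [GradedRing 𝒜]
variable {M : Type u} [AddCommGroup M] [Module R M] {ℳ : ℤ → AddSubgroup M}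
  [DirectSum.Decomposition ℳ] [SetLike.GradedSMul 𝒜 ℳ] (F : GrSyz.FreeRes 𝒜 ℳ)

theorem augLin_apply (v : Fin (F.rk 0) → R) : F.augLin v = ∑ b, v b • F.aug b := by
  simp [GrSyz.FreeRes.augLin, Fintype.linearCombination_apply]

theorem augLin_grHom : GrLC.IsGrHom (freeGr 𝒜 (F.deg 0)) ℳ F.augLin := by
  intro g v hv
  rw [augLin_apply]
  refine sum_mem (fun b _ => ?_)
  have h := SetLike.GradedSMul.smul_mem (A := 𝒜) (B := ℳ) (hv b) (F.aug_mem b)
  rwa [vadd_eq_add, sub_add_cancel] at h

theorem ker_hom : Submodule.IsHomogeneous (LinearMap.ker F.augLin) (freeGr 𝒜 (F.deg 0)) :=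
  ker_isHomogeneous ℳ (freeGr 𝒜 (F.deg 0)) F.augLin (augLin_grHom F)

/-- The first syzygy module. -/
def syz : GrLC.GMod.{u} 𝒜 :=
  subGMod (freeGMod 𝒜 (F.deg 0)) (LinearMap.ker F.augLin) (ker_hom F)

/-- The inclusion of the syzygy module in `F_0`. -/
def syzIncl : (syz F).carrier →ₗ[R] (Fin (F.rk 0) → R) :=
  (LinearMap.ker F.augLin).subtype

theorem syzIncl_injective : Function.Injective (syzIncl F) :=
  Submodule.injective_subtype _

theorem syzIncl_grHom : GrLC.IsGrHom (syz F).gr (freeGr 𝒜 (F.deg 0)) (syzIncl F) :=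
  fun _ _ hm => hm

theorem range_syzIncl : LinearMap.range (syzIncl F) = LinearMap.ker F.augLin :=
  Submodule.range_subtype _

theorem augLin_syzIncl (y : (syz F).carrier) : F.augLin (syzIncl F y) = 0 :=
  LinearMap.mem_ker.mp (Subtype.property (p := fun v => v ∈ LinearMap.ker F.augLin) y)

theorem mem_gr_syz (g : ℤ) (y : (syz F).carrier) :
    y ∈ (syz F).gr g ↔ syzIncl F y ∈ freeGr 𝒜 (F.deg 0) g :=
  Iff.rfl

instance [IsNoetherianRing R] : Module.Finite R (syz F).carrier :=
  inferInstanceAs (Module.Finite R ↥(LinearMap.ker F.augLin))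

theorem mulVec_single (b : Fin (F.rk 1)) (a' : Fin (F.rk 0)) :
    (F.d 0).mulVec (Pi.single b 1) a' = F.d 0 a' b := by
  rw [Matrix.mulVec_single_one]
  rfl

/-- the images of the basis vectors of `F_1` in the syzygy module -/
def tailAug (b : Fin (F.rk 1)) : (syz F).carrier :=
  (⟨(F.d 0).mulVec (Pi.single b 1), by
    have h : (F.d 0).mulVec (Pi.single b 1) ∈ LinearMap.range (Matrix.mulVecLin (F.d 0)) :=
      ⟨Pi.single b 1, rfl⟩
    rw [← F.exact_zero] at h
    exact h⟩ : ↥(LinearMap.ker F.augLin))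

theorem syzIncl_tailAug (b : Fin (F.rk 1)) :
    syzIncl F (tailAug F b) = (F.d 0).mulVec (Pi.single b 1) := rfl

theorem syzIncl_linearCombination (w : Fin (F.rk 1) → R) :
    syzIncl F (Fintype.linearCombination R (tailAug F) w) = (F.d 0).mulVec w := by
  rw [Fintype.linearCombination_apply, map_sum]
  ext a'
  rw [Finset.sum_apply]
  simp only [map_smul, syzIncl_tailAug, Pi.smul_apply, mulVec_single, smul_eq_mul]
  rw [Matrix.mulVec, dotProduct]
  exact Finset.sum_congr rfl (fun b _ => mul_comm _ _)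

/-- The rest of the resolution, resolving the syzygy module. -/
def tailRes : GrSyz.FreeRes 𝒜 (syz F).gr where
  rk i := F.rk (i + 1)
  deg i := F.deg (i + 1)
  d i := F.d (i + 1)
  aug := tailAug F
  d_mem i := F.d_mem (i + 1)
  aug_mem b := by
    rw [mem_gr_syz, syzIncl_tailAug]
    intro a'
    rw [mulVec_single]
    exact F.d_mem 0 a' b
  aug_surjective := by
    intro y
    have hy : syzIncl F y ∈ LinearMap.range (Matrix.mulVecLin (F.d 0)) := by
      rw [← F.exact_zero, LinearMap.mem_ker]
      exact augLin_syzIncl F y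
    obtain ⟨w, hw⟩ := hy
    refine ⟨w, syzIncl_injective F ?_⟩
    rw [syzIncl_linearCombination]
    exact hw
  exact_zero := by
    rw [← F.exact_succ 0]
    ext w
    rw [LinearMap.mem_ker, LinearMap.mem_ker]
    constructor
    · intro h
      have := congrArg (syzIncl F) h
      rw [syzIncl_linearCombination, map_zero] at this
      exact this
    · intro h
      apply syzIncl_injective F
      rw [syzIncl_linearCombination, map_zero]
      exact h
  exact_succ i := F.exact_succ (i + 1)

theorem tailRes_rk (i : ℕ) : (tailRes F).rk i = F.rk (i + 1) := rfl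

theorem tailRes_isMinimal (𝔪 : Ideal R) (h : F.IsMinimal 𝔪) : (tailRes F).IsMinimal 𝔪 :=
  fun i a b => h (i + 1) a b

theorem tailRes_isGenLE (d : ℤ) (h : F.IsGenLE d) : (tailRes F).IsGenLE (d + 1) := by
  intro i b
  have h1 := h (i + 1) b
  push_cast at h1
  have h2 : (tailRes F).deg i b = F.deg (i + 1) b := rfl
  rw [h2]
  omega

theorem tailRes_hasLengthLE (n : ℕ) (h : F.HasLengthLE (n + 1)) : (tailRes F).HasLengthLE n :=
  fun i hi => h (i + 1) (by omega)

end Groth.Agent.Lib.Seat97.GrSyz
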