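import Mathlib
import Groth.Prelude.Def_GrSyz
import Groth.Agent.Lib.Seat97GrSyz
import Groth.Agent.Lib.Seat97GrCMReg
import Groth.Agent.Lib.Seat97GrGen
import Groth.Agent.Lib.Seat96GrNak

/-!
# Eisenbud–Goto: regularity from a minimal resolution equals regularity from local cohomology
(seat 97; abstract form)

`R` Noetherian positively `ℤ`-graded (by additive subgroups), `a = R_+` generated by `R_1`, and the
local cohomology of `R` itself vanishes outside cohomological degree `c > 0` and internal degrees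
`≤ -c` (hypothesis `hS`; true for polynomial rings in `c` variables).

* `van_of_isGenLE` : a finite graded free resolution with `F_i` generated in degrees `≤ d + i`
  forces `H^i_a(M)_g = 0` for `g > d - i`;
* `span_le_eq_top` : `H^i_a(M)_g = 0` for all `g > d - i` implies generation in degrees `≤ d`;
* `isGenLE_of_van` : the converse for a minimal resolution;
* `isGenLE_iff`.

Namespace `Groth.Agent.Lib.Seat97.GrEG`.
-/

set_option autoImplicit false
set_option linter.style.haveILetI false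
set_option linter.unusedSectionVars false
open DirectSum

noncomputable section

namespace Groth.Agent.Lib.Seat97.GrEG

open Groth.Agent.Lib.Seat86.GrProd Groth.Agent.Lib.Seat97.GrVan Groth.Agent.Lib.Seat97.GrFree
  Groth.Agent.Lib.Seat97.GrSyz Groth.Agent.Lib.Seat97.GrCMReg
  Groth.Agent.Lib.Helper29GrSub Groth.Agent.Lib.Helper29GrHom

universe u

variable {R : Type u} [CommRing R] [IsNoetherianRing R] {𝒜 : ℤ → AddSubgroup R} [GradedRing 𝒜]
  (hpos : ∀ n : ℤ, n < 0 → 𝒜 n = ⊥) (a : HomogeneousIdeal 𝒜)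
  (ha : a.toIdeal = Ideal.span (⋃ n ∈ Set.Ioi (0 : ℤ), (𝒜 n : Set R)))
  (hhom : a.toIdeal = Ideal.span ((𝒜 1 : AddSubgroup R) : Set R))
  (c : ℕ) (hc : 0 < c)
  (hS : ∀ (i : ℕ) (g : ℤ), (i ≠ c ∨ -(c : ℤ) < g) → Van 𝒜 a i g)

section Free

include hS in
/-- Local cohomology of `F_0` when its generators have degrees `≤ d`. -/
theorem van_free_of_le {n : ℕ} (deg : Fin n → ℤ) (d : ℤ) (hd : ∀ b, deg b ≤ d) (i : ℕ) (g : ℤ)
    (hg : i ≠ c ∨ d - (c : ℤ) < g) : Van (freeGr 𝒜 deg) a i g := by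
  apply van_free a i n deg g
  intro b
  apply hS
  rcases hg with h | h
  · exact Or.inl h
  · refine Or.inr ?_
    have := hd b
    omega

end Free

section A

include hS in
/-- From the resolution to local cohomology. -/
theorem van_of_isGenLE : ∀ (n : ℕ) (M : Type u) [AddCommGroup M] [Module R M]
    (ℳ : ℤ → AddSubgroup M) [DirectSum.Decomposition ℳ] [SetLike.GradedSMul 𝒜 ℳ]
    (F : GrSyz.FreeRes 𝒜 ℳ) (d : ℤ), F.HasLengthLE n → F.IsGenLE d →
    ∀ (i : ℕ) (g : ℤ), d - (i : ℤ) < g → Van ℳ a i g := by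
  intro n
  induction n with
  | zero =>
    intro M _ _ ℳ _ _ F d hlen hgen i g hg
    have hP : Van (freeGr 𝒜 (F.deg 0)) a i g := by
      apply van_free_of_le a c hS (F.deg 0) d _ i g
      · by_cases h : i = c
        · subst h
          exact Or.inr hg
        · exact Or.inl h
      · intro b
        have := hgen 0 b
        simpa using this
    have hrk : F.rk 1 = 0 := hlen 1 Nat.one_pos
    have hzero : ∀ y : (syz F).carrier, y = 0 := by
      intro y
      have hy : syzIncl F y ∈ LinearMap.range (Matrix.mulVecLin (F.d 0)) := by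
        rw [← F.exact_zero, LinearMap.mem_ker]
        exact augLin_syzIncl F y
      obtain ⟨w, hw⟩ := hy
      have hemp : IsEmpty (Fin (F.rk 1)) := by
        rw [hrk]
        exact Fin.isEmpty'
      have hw0 : w = 0 := Subsingleton.elim _ _
      rw [hw0, map_zero] at hw
      apply syzIncl_injective F
      rw [← hw, map_zero]
    have hK : Van (syz F).gr a (i + 1) g := van_of_subsingleton a hzero (i + 1) g
    exact van_right (ℳ' := (syz F).gr) (ℳ := freeGr 𝒜 (F.deg 0)) (ℳ'' := ℳ)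
      (syzIncl F) (syzIncl_injective F) (syzIncl_grHom F) F.augLin F.aug_surjective
      (augLin_grHom F) (range_syzIncl F).symm a i g hP hK
  | succ n ih =>
    intro M _ _ ℳ _ _ F d hlen hgen i g hg
    have hP : Van (freeGr 𝒜 (F.deg 0)) a i g := by
      apply van_free_of_le a c hS (F.deg 0) d _ i g
      · by_cases h : i = c
        · subst h
          exact Or.inr hg
        · exact Or.inl h
      · intro b
        have := hgen 0 b
        simpa using this
    have hK : Van (syz F).gr a (i + 1) g := by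
      apply ih (syz F).carrier (syz F).gr (tailRes F) (d + 1) (tailRes_hasLengthLE F n hlen)
        (tailRes_isGenLE F d hgen) (i + 1) g
      push_cast
      omega
    exact van_right (ℳ' := (syz F).gr) (ℳ := freeGr 𝒜 (F.deg 0)) (ℳ'' := ℳ)
      (syzIncl F) (syzIncl_injective F) (syzIncl_grHom F) F.augLin F.aug_surjective
      (augLin_grHom F) (range_syzIncl F).symm a i g hP hK

end A

section Gen

variable {M : Type u} [AddCommGroup M] [Module R M] [Module.Finite R M]
  {ℳ : ℤ → AddSubgroup M} [DirectSum.Decomposition ℳ] [SetLike.GradedSMul 𝒜 ℳ]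

include hpos ha hhom in
/-- Generation in degrees at most the regularity. -/
theorem span_le_eq_top (d : ℤ) (h : ∀ (j : ℕ) (g : ℤ), d - (j : ℤ) < g → Van ℳ a j g) :
    Submodule.span R (⋃ (n : ℤ) (_ : n ≤ d), (ℳ n : Set M)) = ⊤ := by
  classical
  have hfg : (Submodule.span R ((𝒜 1 : AddSubgroup R) : Set R)).FG := by
    have h := (isNoetherianRing_iff_ideal_fg R).mp inferInstance a.toIdeal
    rw [hhom] at h
    exact h
  obtain ⟨S, hS1, hS2⟩ := (Submodule.fg_span_iff_fg_span_finset_subset _).mp hfg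
  have hxs : ∀ x ∈ S.toList, x ∈ 𝒜 1 := fun x hx => hS1 (Finset.mem_toList.mp hx)
  have hspan : a.toIdeal = Ideal.span {x | x ∈ S.toList} := by
    rw [hhom]
    have : {x | x ∈ S.toList} = (S : Set R) := by
      ext x
      simp
    rw [this]
    exact hS2
  have hneg : ∀ i : ℤ, i < 0 → ∀ x ∈ 𝒜 i, x = 0 := by
    intro i hi x hx
    rw [hpos i hi] at hx
    exact AddSubgroup.mem_bot.mp hx
  have hapos : a.toIdeal = Groth.Agent.Lib.Seat96.GrNak.pos 𝒜 := by
    rw [ha]
    unfold Groth.Agent.Lib.Seat96.GrNak.pos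
    congr 1
    ext x
    constructor
    · intro hx
      obtain ⟨n, hn, hxn⟩ := Set.mem_iUnion₂.mp hx
      exact ⟨n, hn, hxn⟩
    · rintro ⟨n, hn, hxn⟩
      exact Set.mem_iUnion₂.mpr ⟨n, hn, hxn⟩
  have habove : ∀ n : ℤ, ¬ n ≤ d → ∀ m ∈ ℳ n, m ∈ a.toIdeal • (⊤ : Submodule R M) := by
    intro n hn m hm
    refine Groth.Agent.Lib.Seat97.GrGen.mem_smul_top_of_van a 1 S.toList hxs hspan
      (GrLC.GMod.of 𝒜 M ℳ) n ?_ m hm
    intro p
    apply h p
    rw [nsmul_eq_mul, mul_one]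
    omega
  apply Groth.Agent.Lib.Seat96.GrNak.nakayama 𝒜 ℳ hneg
  · intro m hm i
    refine Groth.Agent.Lib.Seat96.GrNak.comp_mem_span 𝒜 ℳ _ ?_ m hm i
    intro s hs
    obtain ⟨n, hs'⟩ := Set.mem_iUnion.mp hs
    obtain ⟨-, hs''⟩ := Set.mem_iUnion.mp hs'
    exact ⟨n, hs''⟩
  · rw [eq_top_iff]
    intro m _
    rw [← DirectSum.sum_support_decompose ℳ m]
    apply Submodule.sum_mem
    intro n _
    by_cases hn : n ≤ d
    · apply Submodule.mem_sup_left
      apply Submodule.subset_span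
      exact Set.mem_iUnion.mpr ⟨n, Set.mem_iUnion.mpr ⟨hn, SetLike.coe_mem _⟩⟩
    · apply Submodule.mem_sup_right
      rw [← hapos]
      exact habove n hn _ (SetLike.coe_mem _)

/-- Homogeneous elements lift to homogeneous elements of `F_0`. -/
theorem exists_freeGr_aug (F : GrSyz.FreeRes 𝒜 ℳ) (n : ℤ) (m : M) (hm : m ∈ ℳ n) :
    ∃ v ∈ freeGr 𝒜 (F.deg 0) n, F.augLin v = m := by
  obtain ⟨v₀, rfl⟩ := F.aug_surjective m
  refine ⟨((DirectSum.decompose (freeGr 𝒜 (F.deg 0)) v₀) n : Fin (F.rk 0) → R),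
    SetLike.coe_mem _, ?_⟩
  have h := decompose_map ℳ (freeGr 𝒜 (F.deg 0)) F.augLin (augLin_grHom F) v₀ n
  rw [← h]
  exact DirectSum.decompose_of_mem_same ℳ hm

include hpos ha hhom in
/-- For a minimal resolution, `F_0` is generated in degrees at most the regularity. -/
theorem deg_zero_le (𝔪 : Ideal R) (h𝔪 : 𝔪 ≠ ⊤) (F : GrSyz.FreeRes 𝒜 ℳ) (hF : F.IsMinimal 𝔪)
    (d : ℤ) (h : ∀ (j : ℕ) (g : ℤ), d - (j : ℤ) < g → Van ℳ a j g) (b₀ : Fin (F.rk 0)) :
    F.deg 0 b₀ ≤ d := by
  classical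
  by_contra hlt
  have hlt' : d < F.deg 0 b₀ := by omega
  have hspan := span_le_eq_top hpos a ha hhom (ℳ := ℳ) d h
  -- the submodule of images of vectors with vanishing `b₀`-th coordinate
  obtain ⟨W, hW⟩ : ∃ W : Submodule R M, ∀ m, m ∈ W ↔ ∃ w : Fin (F.rk 0) → R, w b₀ = 0 ∧
      F.augLin w = m := by
    refine ⟨Submodule.map F.augLin (LinearMap.ker (LinearMap.proj (R := R)
      (φ := fun _ : Fin (F.rk 0) => R) b₀)), fun m => ?_⟩
    rw [Submodule.mem_map]
    constructor
    · rintro ⟨w, hw, rfl⟩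
      exact ⟨w, LinearMap.mem_ker.mp hw, rfl⟩
    · rintro ⟨w, hw, rfl⟩
      exact ⟨w, LinearMap.mem_ker.mpr hw, rfl⟩
  have hle : Submodule.span R (⋃ (n : ℤ) (_ : n ≤ d), (ℳ n : Set M)) ≤ W := by
    rw [Submodule.span_le]
    intro m hm
    obtain ⟨n, hm'⟩ := Set.mem_iUnion.mp hm
    obtain ⟨hn, hm''⟩ := Set.mem_iUnion.mp hm'
    obtain ⟨v, hv, hvm⟩ := exists_freeGr_aug F n m hm''
    refine (hW m).mpr ⟨v, ?_, hvm⟩
    have h1 : v b₀ ∈ 𝒜 (n - F.deg 0 b₀) := hv b₀
    rw [hpos _ (by omega)] at h1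
    exact AddSubgroup.mem_bot.mp h1
  have hb : F.aug b₀ ∈ W := hle (by rw [hspan]; exact Submodule.mem_top)
  obtain ⟨w, hw0, hw⟩ := (hW _).mp hb
  have hsingle : F.augLin (Pi.single b₀ 1) = F.aug b₀ := by
    rw [augLin_apply]
    rw [Finset.sum_eq_single b₀]
    · rw [Pi.single_eq_same, one_smul]
    · intro b _ hb
      rw [Pi.single_eq_of_ne hb, zero_smul]
    · intro hb
      exact absurd (Finset.mem_univ _) hb
  have hu : (Pi.single b₀ 1 - w : Fin (F.rk 0) → R) ∈ LinearMap.ker F.augLin := by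
    rw [LinearMap.mem_ker, map_sub, hsingle, hw, sub_self]
  rw [F.exact_zero] at hu
  obtain ⟨z, hz⟩ := hu
  have h1 : (1 : R) ∈ 𝔪 := by
    have h2 := congrFun hz b₀
    rw [Pi.sub_apply, Pi.single_eq_same, hw0, sub_zero] at h2
    rw [← h2]
    change (F.d 0).mulVec z b₀ ∈ 𝔪
    rw [Matrix.mulVec, dotProduct]
    exact Ideal.sum_mem _ (fun b' _ => Ideal.mul_mem_right _ _ (hF 0 b₀ b'))
  exact h𝔪 ((Ideal.eq_top_iff_one _).mpr h1)

end Gen

section B

include hpos ha hhom hc hS in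
/-- From local cohomology to a minimal resolution. -/
theorem isGenLE_of_van (𝔪 : Ideal R) (h𝔪 : 𝔪 ≠ ⊤) : ∀ (i : ℕ) (M : Type u) [AddCommGroup M]
    [Module R M] [Module.Finite R M]
    (ℳ : ℤ → AddSubgroup M) [DirectSum.Decomposition ℳ] [SetLike.GradedSMul 𝒜 ℳ]
    (F : GrSyz.FreeRes 𝒜 ℳ) (d : ℤ), F.IsMinimal 𝔪 →
    (∀ (j : ℕ) (g : ℤ), d - (j : ℤ) < g → Van ℳ a j g) →
    ∀ b : Fin (F.rk i), F.deg i b ≤ d + (i : ℤ) := by
  intro i
  induction i with
  | zero =>
    intro M _ _ _ ℳ _ _ F d hF h b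
    rw [Nat.cast_zero, add_zero]
    exact deg_zero_le hpos a ha hhom 𝔪 h𝔪 F hF d h b
  | succ i ih =>
    intro M _ _ _ ℳ _ _ F d hF h b
    have h0 : ∀ b, F.deg 0 b ≤ d := deg_zero_le hpos a ha hhom 𝔪 h𝔪 F hF d h
    have hsyz : ∀ (j : ℕ) (g : ℤ), d + 1 - (j : ℤ) < g → Van (syz F).gr a j g := by
      intro j g hg
      rcases Nat.eq_zero_or_pos j with rfl | hj
      · apply van_zero_of_injective a g (syzIncl F) (syzIncl_injective F) (syzIncl_grHom F)
        apply van_free_of_le a c hS (F.deg 0) d h0 0 g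
        exact Or.inl (by omega)
      · obtain ⟨j', rfl⟩ := Nat.exists_eq_succ_of_ne_zero (show j ≠ 0 by omega)
        have h1 : Van (freeGr 𝒜 (F.deg 0)) a (j' + 1) g := by
          apply van_free_of_le a c hS (F.deg 0) d h0 (j' + 1) g
          by_cases hjc : j' + 1 = c
          · refine Or.inr ?_
            rw [← hjc]
            push_cast at hg ⊢
            omega
          · exact Or.inl hjc
        have h2 : Van ℳ a j' g := by
          apply h
          push_cast at hg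
          omega
        exact van_left (ℳ' := (syz F).gr) (ℳ := freeGr 𝒜 (F.deg 0)) (ℳ'' := ℳ)
          (syzIncl F) (syzIncl_injective F) (syzIncl_grHom F) F.augLin F.aug_surjective
          (augLin_grHom F) (range_syzIncl F).symm a j' g h1 h2
    have h3 := ih (syz F).carrier (syz F).gr (tailRes F) (d + 1) (tailRes_isMinimal F 𝔪 hF)
      hsyz b
    have h4 : (tailRes F).deg i b = F.deg (i + 1) b := rfl
    rw [h4] at h3
    push_cast
    omega

include hpos ha hhom hc hS in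
/-- **Eisenbud–Goto**, abstract form. -/
theorem isGenLE_iff (𝔪 : Ideal R) (h𝔪 : 𝔪 ≠ ⊤) {M : Type u} [AddCommGroup M]
    [Module R M] [Module.Finite R M]
    {ℳ : ℤ → AddSubgroup M} [DirectSum.Decomposition ℳ] [SetLike.GradedSMul 𝒜 ℳ]
    (F : GrSyz.FreeRes 𝒜 ℳ) (hF : F.IsMinimal 𝔪) (n : ℕ) (hn : F.HasLengthLE n) (d : ℤ) :
    F.IsGenLE d ↔ ∀ (i : ℕ) (g : ℤ), d - (i : ℤ) < g → Van ℳ a i g := by
  constructor
  · intro hgen
    exact van_of_isGenLE a c hS n M ℳ F d hn hgen
  · intro h i b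
    exact isGenLE_of_van hpos a ha hhom c hc hS 𝔪 h𝔪 i M ℳ F d hF h b

end B

end Groth.Agent.Lib.Seat97.GrEG
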