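import Mathlib
import Groth.Agent.Lib.Seat97GrFree
import Groth.Agent.Lib.Seat97GrCMReg

/-!
# Local cohomology and a regular element of degree one (seat 97)

* `van_of_bijective'` : transport of `Van` along a bijective homogeneous map, all degrees;
* `van_regular_step` : if `x ∈ R_1 ∩ a` is regular on the finite graded module `X` and the local
  cohomology of `X/xX` is concentrated in cohomological degree `t` and internal degrees `≤ c`,
  then that of `X` is concentrated in cohomological degree `t+1` and internal degrees `≤ c-1`.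

Namespace `Groth.Agent.Lib.Seat97.GrRegStep`.
-/

set_option autoImplicit false
set_option linter.style.haveILetI false
set_option linter.unusedSectionVars false
open DirectSum

noncomputable section

namespace Groth.Agent.Lib.Seat97.GrRegStep

open Groth.Agent.Lib.Seat86.GrProd Groth.Agent.Lib.Seat97.GrVan Groth.Agent.Lib.Seat97.GrFree
  Groth.Agent.Lib.Seat97.GrCMReg Groth.Agent.Lib.Helper29GrSub

universe u

section General

variable {ι : Type} [AddCommGroup ι] [DecidableEq ι] [Module.Free ℤ ι] [Module.Finite ℤ ι]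
variable {R : Type u} [CommRing R] [IsNoetherianRing R] {𝒜 : ι → AddSubgroup R} [GradedRing 𝒜]

/-- Transport along a bijective homogeneous map (all cohomological degrees). -/
theorem van_of_bijective' (a : HomogeneousIdeal 𝒜) (X Y : GrLC.GMod.{u} 𝒜)
    (β : X.carrier →ₗ[R] Y.carrier)
    (hβ : Function.Bijective β) (hβg : GrLC.IsGrHom X.gr Y.gr β) (m : ℕ) (g : ι)
    (h : Van X.gr a m g) : Van Y.gr a m g := by
  have hbot : (⊥ : Submodule R X.carrier).IsHomogeneous X.gr := IsHomogeneous.bot X.gr
  have hK : Van (subGMod X ⊥ hbot).gr a (m + 1) g := by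
    apply van_sub_of_torsion a X ⊥ hbot _ m g
    intro x hx
    rw [(Submodule.mem_bot R).mp hx]
    exact zero_mem _
  refine van_right (ℳ' := (subGMod X ⊥ hbot).gr) (ℳ := X.gr) (ℳ'' := Y.gr)
    (subIncl X ⊥ hbot) (subIncl_injective X ⊥ hbot) (subIncl_grHom X ⊥ hbot) β
    hβ.2 hβg ?_ a m g h hK
  rw [range_subIncl]
  exact LinearMap.ker_eq_bot.mpr hβ.1

end General

section Int

variable {R : Type u} [CommRing R] [IsNoetherianRing R] {𝒜 : ℤ → AddSubgroup R} [GradedRing 𝒜]
  (hpos : ∀ n : ℤ, n < 0 → 𝒜 n = ⊥) (a : HomogeneousIdeal 𝒜)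
  (ha : a.toIdeal = Ideal.span (⋃ n ∈ Set.Ioi (0 : ℤ), (𝒜 n : Set R)))

variable {N : Type u} [AddCommGroup N] [Module R N] {𝒩 : ℤ → AddSubgroup N}
  [DirectSum.Decomposition 𝒩] [SetLike.GradedSMul 𝒜 𝒩]
  (X : GrLC.GMod.{u} 𝒜) [Module.Finite R X.carrier]
  (x : R) (hx : x ∈ 𝒜 1) (hxa : x ∈ a.toIdeal)
  (hreg : ∀ m : X.carrier, x • m = 0 → m = 0)
  (π : X.carrier →ₗ[R] N) (hπ : Function.Surjective π) (hπg : GrLC.IsGrHom X.gr 𝒩 π)
  (hker : LinearMap.ker π =
    LinearMap.range (x • (LinearMap.id : X.carrier →ₗ[R] X.carrier)))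

include hxa hreg in
theorem gam_eq_bot_of_regular : GrLC.gam a.toIdeal X.carrier = ⊥ := by
  rw [eq_bot_iff]
  rintro m ⟨s, hs⟩
  have h1 : x ^ s • m = 0 := hs _ (Ideal.pow_mem_pow hxa s)
  have key : ∀ s : ℕ, x ^ s • m = 0 → m = 0 := by
    intro s
    induction s with
    | zero =>
      intro h
      rwa [pow_zero, one_smul] at h
    | succ s ih =>
      intro h
      apply ih
      apply hreg
      rw [← mul_smul, ← pow_succ']
      exact h
  exact (Submodule.mem_bot R).mpr (key s h1)

include hpos ha hx hxa hreg hπ hπg hker in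
/-- The regular-element step. -/
theorem van_regular_step (t : ℕ) (c : ℤ)
    (hN : ∀ (i : ℕ) (g : ℤ), (i ≠ t ∨ c < g) → Van 𝒩 a i g) :
    ∀ (i : ℕ) (g : ℤ), (i ≠ t + 1 ∨ c - 1 < g) → Van X.gr a i g := by
  intro i g hig
  rcases Nat.eq_zero_or_pos i with rfl | hi
  · exact van_zero_of_gam_eq_bot a g (gam_eq_bot_of_regular a X x hxa hreg)
  · obtain ⟨j, rfl⟩ := Nat.exists_eq_succ_of_ne_zero (show i ≠ 0 by omega)
    obtain ⟨E⟩ := Groth.Agent.S13215.result R 𝒜 X.carrier X.gr
    obtain ⟨r₀, hr₀⟩ := Groth.Agent.S13227.result R 𝒜 hpos a ha X.carrier X.gr E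
    have hK : ∀ m : X.carrier, x • m = 0 → m ∈ GrLC.gam a.toIdeal X.carrier := by
      intro m hm
      rw [hreg m hm]
      exact zero_mem _
    have key : ∀ (k : ℕ) (n : ℤ), (j + 1 ≠ t + 1 ∨ c - 1 < n) → r₀ ≤ n + (k : ℤ) →
        Van X.gr a (j + 1) n := by
      intro k
      induction k with
      | zero =>
        intro n _ hrn
        rw [van_iff_Hcomp a (j + 1) n E]
        exact hr₀ (j + 1) n (by simpa using hrn)
      | succ k ih =>
        intro n hn hrn
        have h1 : Van X.gr a (j + 1) (n + 1) := by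
          apply ih (n + 1)
          · rcases hn with hn | hn
            · exact Or.inl hn
            · exact Or.inr (by omega)
          · push_cast at hrn
            omega
        have h2 : Van 𝒩 a j (n + 1) := by
          apply hN
          rcases hn with hn | hn
          · exact Or.inl (by omega)
          · exact Or.inr (by omega)
        have h3 := van_pred_aux x 1 hx a X hK π hπ hπg hker j (n + 1) h1 h2
        have e : n + 1 + -1 = n := by ring
        rw [e] at h3
        exact h3
    have hk : r₀ ≤ g + ((r₀ - g).toNat : ℤ) := by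
      have := Int.self_le_toNat (r₀ - g)
      omega
    exact key _ g hig hk

end Int

end Groth.Agent.Lib.Seat97.GrRegStep
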