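import Mathlib
import Groth.Prelude.Def_GrSyz
import Groth.Agent.Lib.Seat97GrRegStep
import Groth.Agent.Lib.Seat86GrConv
import Groth.Agent.Lib.Helper13HB
import Groth.Agent.Lib.Helper13RegCount
import Groth.Agent.Lib.Helper13Syzygy

/-!
# Graded local cohomology of the polynomial ring (seat 97)

`S = k[x_0..x_r]` with its standard grading (as a grading by additive subgroups), `𝔪` the irrelevant
ideal.  `van_ring` : `H^i_𝔪(S)_g = 0` unless `i = r+1` and `g ≤ -(r+1)`.

Namespace `Groth.Agent.Lib.Seat97.GrPolyLC`.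
-/

set_option autoImplicit false
set_option linter.style.haveILetI false
set_option linter.unusedSectionVars false
open DirectSum

noncomputable section

namespace Groth.Agent.Lib.Seat97.GrPolyLC

open Groth.Agent.Lib.Seat86.GrProd Groth.Agent.Lib.Seat97.GrVan Groth.Agent.Lib.Seat97.GrFree
  Groth.Agent.Lib.Seat97.GrRegStep Groth.Agent.Lib.Seat86.GrConv
  Groth.Agent.Lib.Helper29GrQuot Groth.Agent.Helper13Syzygy

universe u

variable (k : Type u) [Field k] (r : ℕ)

/-- The standard grading of `k[x_0..x_r]` by additive subgroups. -/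
abbrev gr : ℤ → AddSubgroup (MvPolynomial (Fin (r + 1)) k) :=
  addGr (GrSyz.stdGr k (Fin (r + 1)))

/-- The irrelevant ideal. -/
abbrev irr : HomogeneousIdeal (gr k r) :=
  convIdeal (GrSyz.irrel (GrSyz.stdGr k (Fin (r + 1))))

theorem hpos : ∀ n : ℤ, n < 0 → gr k r n = ⊥ := by
  intro n hn
  rw [eq_bot_iff]
  intro p hp
  have hp' : p ∈ GrSyz.stdGr k (Fin (r + 1)) n := hp
  rw [Groth.Agent.Helper13HB.stdGr_neg n hn] at hp'
  exact AddSubgroup.mem_bot.mpr ((Submodule.mem_bot k).mp hp')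

theorem ha : (irr k r).toIdeal = Ideal.span (⋃ n ∈ Set.Ioi (0 : ℤ),
    ((gr k r n : AddSubgroup (MvPolynomial (Fin (r + 1)) k)) :
      Set (MvPolynomial (Fin (r + 1)) k))) := by
  change Ideal.span {p : MvPolynomial (Fin (r + 1)) k |
    ∃ n : ℤ, 0 < n ∧ p ∈ GrSyz.stdGr k (Fin (r + 1)) n} = _
  congr 1
  ext p
  constructor
  · rintro ⟨n, hn, hp⟩
    exact Set.mem_iUnion₂.mpr ⟨n, hn, hp⟩
  · intro hp
    obtain ⟨n, hn, hp⟩ := Set.mem_iUnion₂.mp hp
    exact ⟨n, hn, hp⟩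

theorem X_mem (l : Fin (r + 1)) :
    (MvPolynomial.X l : MvPolynomial (Fin (r + 1)) k) ∈ gr k r 1 := by
  have h := Groth.Agent.Helper13HB.stdGr_natCast (k := k) (σ := Fin (r + 1)) 1
  rw [Nat.cast_one] at h
  change (MvPolynomial.X l : MvPolynomial (Fin (r + 1)) k) ∈ GrSyz.stdGr k (Fin (r + 1)) 1
  rw [h, MvPolynomial.mem_homogeneousSubmodule]
  exact MvPolynomial.isHomogeneous_X k l

theorem mem_irr_of_pos (n : ℤ) (hn : 0 < n) (p : MvPolynomial (Fin (r + 1)) k)
    (hp : p ∈ gr k r n) : p ∈ (irr k r).toIdeal :=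
  Ideal.subset_span ⟨n, hn, hp⟩

theorem hhom : (irr k r).toIdeal = Ideal.span
    (((gr k r 1 : AddSubgroup (MvPolynomial (Fin (r + 1)) k)) :
      Set (MvPolynomial (Fin (r + 1)) k))) := by
  apply le_antisymm
  · rw [convIdeal_toIdeal, Groth.Agent.Helper13RegCount.irrel_eq_span_X k (r + 1), Ideal.span_le]
    rintro _ ⟨l, rfl⟩
    exact Ideal.subset_span (X_mem k r l)
  · rw [Ideal.span_le]
    intro p hp
    exact mem_irr_of_pos k r 1 one_pos p hp

theorem irr_ne_top : (irr k r).toIdeal ≠ ⊤ := by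
  rw [convIdeal_toIdeal]
  exact (Groth.Agent.Helper13FreeRes.isMaximal_irrel_stdGr (k := k) (σ := Fin (r + 1))).ne_top

/-- The ring as a graded module over itself. -/
def ringGMod : GrLC.GMod.{u} (gr k r) :=
  GrLC.GMod.of (gr k r) (MvPolynomial (Fin (r + 1)) k) (gr k r)

theorem hI (j : ℕ) : Submodule.IsHomogeneous (I k (r + 1) j) (gr k r) := by
  change Ideal.IsHomogeneous (gr k r) (Ideal.span _)
  apply Ideal.homogeneous_span
  rintro _ ⟨l, _, rfl⟩
  exact ⟨1, X_mem k r l⟩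

/-- `S/(x_0, …, x_{j-1})` as a graded module. -/
def quotI (j : ℕ) : GrLC.GMod.{u} (gr k r) :=
  quotGMod (ringGMod k r) (I k (r + 1) j) (hI k r j)

/-- the class of a polynomial -/
def mk (j : ℕ) : MvPolynomial (Fin (r + 1)) k →ₗ[MvPolynomial (Fin (r + 1)) k]
    (quotI k r j).carrier :=
  Submodule.mkQ (I k (r + 1) j)

theorem mk_surjective (j : ℕ) : Function.Surjective (mk k r j) :=
  Submodule.mkQ_surjective _

theorem mk_eq_zero_iff (j : ℕ) (p : MvPolynomial (Fin (r + 1)) k) :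
    mk k r j p = 0 ↔ p ∈ I k (r + 1) j :=
  Submodule.Quotient.mk_eq_zero _

theorem mem_gr_quotI (j : ℕ) (g : ℤ) (y : (quotI k r j).carrier) :
    y ∈ (quotI k r j).gr g ↔ ∃ p ∈ gr k r g, mk k r j p = y :=
  Iff.rfl

instance (j : ℕ) : Module.Finite (MvPolynomial (Fin (r + 1)) k) (quotI k r j).carrier :=
  Module.Finite.of_surjective (mk k r j) (mk_surjective k r j)

/-- The projection `S/I_j → S/I_{j+1}`. -/
def piQ (j : ℕ) : (quotI k r j).carrier →ₗ[MvPolynomial (Fin (r + 1)) k]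
    (quotI k r (j + 1)).carrier :=
  Submodule.liftQ (I k (r + 1) j) (mk k r (j + 1)) (by
    intro p hp
    rw [LinearMap.mem_ker, mk_eq_zero_iff]
    exact I_mono k (r + 1) j hp)

theorem piQ_mk (j : ℕ) (p : MvPolynomial (Fin (r + 1)) k) :
    piQ k r j (mk k r j p) = mk k r (j + 1) p :=
  Submodule.liftQ_apply _ _ _

theorem piQ_surjective (j : ℕ) : Function.Surjective (piQ k r j) := by
  intro y
  obtain ⟨p, rfl⟩ := mk_surjective k r (j + 1) y
  exact ⟨mk k r j p, piQ_mk k r j p⟩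

theorem piQ_grHom (j : ℕ) : GrLC.IsGrHom (quotI k r j).gr (quotI k r (j + 1)).gr (piQ k r j) := by
  intro g y hy
  obtain ⟨p, hp, rfl⟩ := (mem_gr_quotI k r j g y).mp hy
  rw [piQ_mk]
  exact (mem_gr_quotI k r (j + 1) g _).mpr ⟨p, hp, rfl⟩

theorem ker_piQ (j : ℕ) (hj : j < r + 1) : LinearMap.ker (piQ k r j) =
    LinearMap.range ((MvPolynomial.X ⟨j, hj⟩ : MvPolynomial (Fin (r + 1)) k) •
      (LinearMap.id : (quotI k r j).carrier →ₗ[MvPolynomial (Fin (r + 1)) k]
        (quotI k r j).carrier)) := by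
  ext y
  obtain ⟨p, rfl⟩ := mk_surjective k r j y
  rw [LinearMap.mem_ker, piQ_mk, mk_eq_zero_iff, LinearMap.mem_range]
  constructor
  · intro hp
    rw [I_succ k (r + 1) j hj] at hp
    obtain ⟨u, hu, v, hv, huv⟩ := Submodule.mem_sup.mp hp
    obtain ⟨q, hq⟩ := Ideal.mem_span_singleton'.mp hv
    refine ⟨mk k r j q, ?_⟩
    rw [LinearMap.smul_apply, LinearMap.id_apply, ← map_smul, smul_eq_mul, ← huv, map_add,
      (mk_eq_zero_iff k r j u).mpr hu, zero_add, ← hq, mul_comm]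
  · rintro ⟨z, hz⟩
    obtain ⟨q, rfl⟩ := mk_surjective k r j z
    rw [LinearMap.smul_apply, LinearMap.id_apply, ← map_smul, smul_eq_mul] at hz
    have h1 : mk k r (j + 1) p = mk k r (j + 1) (MvPolynomial.X ⟨j, hj⟩ * q) := by
      rw [← piQ_mk, ← piQ_mk, hz]
    have h2 : mk k r (j + 1) (MvPolynomial.X ⟨j, hj⟩ * q) = 0 := by
      rw [mk_eq_zero_iff]
      exact Ideal.mul_mem_right _ _ (X_mem_I k (r + 1) (j + 1) ⟨j, hj⟩ (Nat.lt_succ_self j))
    rw [← mk_eq_zero_iff, h1, h2]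

theorem regular (j : ℕ) (hj : j < r + 1) (m : (quotI k r j).carrier)
    (hm : (MvPolynomial.X ⟨j, hj⟩ : MvPolynomial (Fin (r + 1)) k) • m = 0) : m = 0 := by
  obtain ⟨p, rfl⟩ := mk_surjective k r j m
  rw [← map_smul, smul_eq_mul, mk_eq_zero_iff] at hm
  rw [mk_eq_zero_iff]
  exact mem_I_of_X_mul_mem k (r + 1) j hj p hm

theorem van_quotI : ∀ t : ℕ, t ≤ r + 1 → ∀ (i : ℕ) (g : ℤ), (i ≠ t ∨ -(t : ℤ) < g) →
    Van (quotI k r (r + 1 - t)).gr (irr k r) i g := by
  intro t
  induction t with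
  | zero =>
    intro _ i g hig
    rw [Nat.sub_zero]
    have htop : I k (r + 1) (r + 1) = (irr k r).toIdeal := I_top_eq_irrel k (r + 1)
    rcases Nat.eq_zero_or_pos i with rfl | hi
    · have hg : 0 < g := by
        rcases hig with h | h
        · exact absurd rfl h
        · simpa using h
      apply van_zero_of_piece_eq_bot
      rw [eq_bot_iff]
      intro y hy
      obtain ⟨p, hp, rfl⟩ := (mem_gr_quotI k r (r + 1) g y).mp hy
      apply AddSubgroup.mem_bot.mpr
      rw [mk_eq_zero_iff, htop]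
      exact mem_irr_of_pos k r g hg p hp
    · obtain ⟨j, rfl⟩ := Nat.exists_eq_succ_of_ne_zero (show i ≠ 0 by omega)
      apply van_torsion
      intro y
      obtain ⟨p, rfl⟩ := mk_surjective k r (r + 1) y
      refine ⟨1, fun s hs => ?_⟩
      rw [pow_one] at hs
      rw [← map_smul, smul_eq_mul, mk_eq_zero_iff, htop]
      exact Ideal.mul_mem_right _ _ hs
  | succ t ih =>
    intro ht i g hig
    have hj : r + 1 - (t + 1) < r + 1 := by omega
    have e : r + 1 - t = (r + 1 - (t + 1)) + 1 := by omega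
    have ih' := ih (by omega)
    rw [e] at ih'
    refine van_regular_step (hpos k r) (irr k r) (ha k r) (quotI k r (r + 1 - (t + 1)))
      (MvPolynomial.X ⟨r + 1 - (t + 1), hj⟩) (X_mem k r _)
      (mem_irr_of_pos k r 1 one_pos _ (X_mem k r _))
      (regular k r _ hj) (piQ k r _) (piQ_surjective k r _) (piQ_grHom k r _)
      (ker_piQ k r _ hj) t (-(t : ℤ)) ih' i g ?_
    rcases hig with h | h
    · exact Or.inl h
    · refine Or.inr ?_
      push_cast at h
      omega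

/-- `H^i_𝔪(S)_g = 0` unless `i = r + 1` and `g ≤ -(r+1)`. -/
theorem van_ring (i : ℕ) (g : ℤ) (h : i ≠ r + 1 ∨ -((r : ℤ) + 1) < g) :
    Van (gr k r) (irr k r) i g := by
  have h0 := van_quotI k r (r + 1) le_rfl i g (by
    rcases h with h | h
    · exact Or.inl h
    · refine Or.inr ?_
      push_cast
      exact h)
  rw [Nat.sub_self] at h0
  obtain ⟨e, he⟩ : ∃ e : (quotI k r 0).carrier ≃ₗ[MvPolynomial (Fin (r + 1)) k]
      MvPolynomial (Fin (r + 1)) k, ∀ p, e (mk k r 0 p) = p :=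
    ⟨Submodule.quotEquivOfEqBot (I k (r + 1) 0) (I_zero k (r + 1)),
      fun p => Submodule.quotEquivOfEqBot_apply_mk _ _ p⟩
  refine van_of_bijective' (irr k r) (quotI k r 0) (ringGMod k r) e.toLinearMap e.bijective ?_
    i g h0
  intro g' y hy
  obtain ⟨p, hp, rfl⟩ := (mem_gr_quotI k r 0 g' y).mp hy
  change e (mk k r 0 p) ∈ gr k r g'
  rw [he]
  exact hp

end Groth.Agent.Lib.Seat97.GrPolyLC
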