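import Mathlib
import Groth.Prelude.Def_GrSyz
import Groth.Prelude.Def_GrLC
import Groth.Agent.Lib.Seat97GrEG
import Groth.Agent.Lib.Seat97GrPolyLC
import Groth.Agent.Lib.Helper13RegLin

/-!
# Eisenbud–Goto for polynomial rings (seat 97)

* `van_conv_iff`, `Hgr_eq_bot_iff`, `convFreeRes` : translations between gradings by submodules and
  gradings by additive subgroups;
* `add_le_coe_iff`, `endDeg_add_le_iff` : arithmetic in `WithBot (WithTop ℤ)`;
* `eg` : for a minimal graded free resolution `F` of a finite graded module `M` over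
  `k[x_0..x_r]`: `F.IsGenLE d ↔ ∀ i, end(H^i_𝔪(M)) + i ≤ d`;
* `eg_van` : the same with the right-hand side in `Van` form.

Namespace `Groth.Agent.Lib.Seat97.GrEGPoly`.
-/

set_option autoImplicit false
set_option linter.style.haveILetI false
set_option linter.unusedSectionVars false
open DirectSum

noncomputable section

namespace Groth.Agent.Lib.Seat97.GrEGPoly

open Groth.Agent.Lib.Seat97.GrVan Groth.Agent.Lib.Seat97.GrFree
  Groth.Agent.Lib.Seat97.GrCMReg Groth.Agent.Lib.Seat97.GrPolyLC Groth.Agent.Lib.Seat86.GrConv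

universe u

section Conv

variable {R : Type u} [CommRing R] [IsNoetherianRing R] {σ : Type u} [SetLike σ R]
  [AddSubgroupClass σ R] {𝒜 : ℤ → σ} [GradedRing 𝒜]
  {M : Type u} [AddCommGroup M] [Module R M] {τ : Type u} [SetLike τ M] [AddSubgroupClass τ M]
  {ℳ : ℤ → τ} [DirectSum.Decomposition ℳ] [SetLike.GradedSMul 𝒜 ℳ]

theorem van_conv_iff (E : GrLC.StarInjRes 𝒜 ℳ) (a : HomogeneousIdeal 𝒜) (i : ℕ) (g : ℤ) :
    Van (addGr ℳ) (convIdeal a) i g ↔ E.Hcomp a i g = ⊥ := by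
  rw [van_iff_Hcomp _ i g (convRes E)]
  constructor
  · intro h
    apply Hcomp_eq_bot_of_conv E _ i g
    intro z hz
    have hz' : z ∈ (convRes E).Hcomp (convIdeal a) i g := hz
    rw [h] at hz'
    exact (Submodule.mem_bot _).mp hz'
  · intro h
    rw [eq_bot_iff]
    intro z hz
    exact (Submodule.mem_bot _).mpr (conv_eq_zero_of_Hcomp_eq_bot E _ i g h z hz)

theorem Hgr_eq_bot_iff (E : GrLC.StarInjRes 𝒜 ℳ) (a : HomogeneousIdeal 𝒜) (i : ℕ) (g : ℤ) :
    E.Hgr a i g = ⊥ ↔ E.Hcomp a i g = ⊥ := by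
  constructor
  · intro h
    rw [eq_bot_iff]
    intro z hz
    have hz' : z ∈ E.Hgr a i g := hz
    rw [h] at hz'
    exact (Submodule.mem_bot _).mpr (AddSubgroup.mem_bot.mp hz')
  · intro h
    change (E.Hcomp a i g).toAddSubgroup = ⊥
    rw [h]
    rfl

theorem van_iff_Hgr (E : GrLC.StarInjRes 𝒜 ℳ) (a : HomogeneousIdeal 𝒜) (i : ℕ) (g : ℤ) :
    Van (addGr ℳ) (convIdeal a) i g ↔ E.Hgr a i g = ⊥ := by
  rw [van_conv_iff E, Hgr_eq_bot_iff]

/-- The same graded free resolution, over the gradings by additive subgroups. -/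
def convFreeRes (F : GrSyz.FreeRes 𝒜 ℳ) : GrSyz.FreeRes (addGr 𝒜) (addGr ℳ) where
  rk := F.rk
  deg := F.deg
  d := F.d
  aug := F.aug
  d_mem := F.d_mem
  aug_mem := F.aug_mem
  aug_surjective := F.aug_surjective
  exact_zero := F.exact_zero
  exact_succ := F.exact_succ

end Conv

section Arith

theorem add_le_coe_iff (x : WithBot (WithTop ℤ)) (i d : ℤ) :
    x + ((i : WithTop ℤ) : WithBot (WithTop ℤ)) ≤ ((d : WithTop ℤ) : WithBot (WithTop ℤ)) ↔
      x ≤ (((d - i : ℤ) : WithTop ℤ) : WithBot (WithTop ℤ)) := by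
  induction x using WithBot.recBotCoe with
  | bot => simp
  | coe y =>
    induction y using WithTop.recTopCoe with
    | top =>
      rw [← WithBot.coe_add, WithTop.top_add, WithBot.coe_le_coe, WithBot.coe_le_coe]
      simp
    | coe n =>
      rw [← WithBot.coe_add, ← WithTop.coe_add, WithBot.coe_le_coe, WithBot.coe_le_coe,
        WithTop.coe_le_coe, WithTop.coe_le_coe]
      omega

variable {H : Type u} [AddCommGroup H]

theorem endDeg_add_le_iff (𝓗 : ℤ → AddSubgroup H) (i d : ℤ) :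
    GrLC.endDeg 𝓗 + ((i : WithTop ℤ) : WithBot (WithTop ℤ)) ≤
      ((d : WithTop ℤ) : WithBot (WithTop ℤ)) ↔ ∀ n : ℤ, d - i < n → 𝓗 n = ⊥ := by
  rw [add_le_coe_iff, endDeg_le_iff]

end Arith

section Poly

variable (k : Type u) [Field k] (r : ℕ)
  (M : Type u) [AddCommGroup M] [Module k M] [Module (MvPolynomial (Fin (r + 1)) k) M]
  [IsScalarTower k (MvPolynomial (Fin (r + 1)) k) M]
  [Module.Finite (MvPolynomial (Fin (r + 1)) k) M]
  (ℳ : ℤ → Submodule k M) [DirectSum.Decomposition ℳ]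
  [SetLike.GradedSMul (GrSyz.stdGr k (Fin (r + 1))) ℳ]

theorem hS (i : ℕ) (g : ℤ) (h : i ≠ r + 1 ∨ -((r + 1 : ℕ) : ℤ) < g) :
    Van (gr k r) (irr k r) i g := by
  apply van_ring k r i g
  rcases h with h | h
  · exact Or.inl h
  · refine Or.inr ?_
    push_cast at h
    exact h

/-- Eisenbud–Goto, `Van` form. -/
theorem eg_van (F : GrSyz.FreeRes (GrSyz.stdGr k (Fin (r + 1))) ℳ)
    (hF : F.IsMinimal (GrSyz.irrel (GrSyz.stdGr k (Fin (r + 1)))).toIdeal) (d : ℤ) :
    F.IsGenLE d ↔ ∀ (i : ℕ) (g : ℤ), d - (i : ℤ) < g → Van (addGr ℳ) (irr k r) i g := by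
  have hlen := Groth.Agent.Helper13RegLin.hasLengthLE_of_isMinimal F hF
  exact Groth.Agent.Lib.Seat97.GrEG.isGenLE_iff (hpos k r) (irr k r) (ha k r) (hhom k r) (r + 1)
    (Nat.succ_pos r) (hS k r) (irr k r).toIdeal (irr_ne_top k r) (convFreeRes F) hF (r + 1) hlen d

/-- **Eisenbud–Goto** for polynomial rings. -/
theorem eg (F : GrSyz.FreeRes (GrSyz.stdGr k (Fin (r + 1))) ℳ)
    (hF : F.IsMinimal (GrSyz.irrel (GrSyz.stdGr k (Fin (r + 1)))).toIdeal)
    (E : GrLC.StarInjRes (GrSyz.stdGr k (Fin (r + 1))) ℳ) (d : ℤ) :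
    F.IsGenLE d ↔ ∀ i : ℕ, GrLC.endDeg (E.Hgr (GrSyz.irrel (GrSyz.stdGr k (Fin (r + 1)))) i) +
      (((i : ℤ) : WithTop ℤ) : WithBot (WithTop ℤ)) ≤ ((d : WithTop ℤ) : WithBot (WithTop ℤ)) := by
  rw [eg_van k r M ℳ F hF d]
  apply forall_congr'
  intro i
  rw [endDeg_add_le_iff]
  apply forall_congr'
  intro g
  apply imp_congr_right
  intro _
  exact van_iff_Hgr E _ i g

end Poly

end Groth.Agent.Lib.Seat97.GrEGPoly
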