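import Mathlib
import Groth.Agent.Lib.Seat97GrPolyLC
import Groth.Agent.Lib.Seat97GrDimField
import Groth.Agent.Lib.Seat86GrSerreB
import Groth.Agent.Lib.Helper13Hilb

/-!
# The standard graded polynomial ring as a *local ring over a field (seat 97)

For `S = k[x_0..x_r]` with `gr k r = addGr stdGr`, `irr k r` the irrelevant ideal:
* `isField_deg0`, instance `IsArtinianRing (deg0 (gr k r))`;
* `isStarLocal : GrLC.IsStarLocal (gr k r) (irr k r)`;
* `ringKrullDim_eq`;
* `finite_piece`, `hilb_eq_finrank` : helper86's Hilbert function `hilb` (length over `S_0`) of a finite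
  graded module given by `k`-subspaces is the `k`-dimension of the piece.

Namespace `Groth.Agent.Lib.Seat97.GrPolyStd`.
-/

set_option autoImplicit false
set_option linter.style.haveILetI false
set_option linter.unusedSectionVars false
open DirectSum

noncomputable section

namespace Groth.Agent.Lib.Seat97.GrPolyStd

open Groth.Agent.Lib.Seat97.GrPolyLC Groth.Agent.Lib.Seat86.GrConv

universe u

variable (k : Type u) [Field k] (r : ℕ)

theorem eq_C_of_mem_gr_zero {p : MvPolynomial (Fin (r + 1)) k} (hp : p ∈ gr k r 0) :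
    p = MvPolynomial.C (MvPolynomial.constantCoeff p) :=
  Groth.Agent.Helper13RegCount.eq_C_of_mem_stdGr_zero (n := r + 1) hp

theorem C_mem_gr_zero (c : k) : (MvPolynomial.C c : MvPolynomial (Fin (r + 1)) k) ∈ gr k r 0 :=
  (GrSyz.mem_stdGr_iff k (Fin (r + 1)) _ _).2 (MvPolynomial.isWeightedHomogeneous_C _ _)

theorem isField_deg0 : IsField (GrLC.deg0 (gr k r)) where
  exists_pair_ne := ⟨0, 1, fun h => by
    have h1 : ((0 : GrLC.deg0 (gr k r)) : MvPolynomial (Fin (r + 1)) k) =
      ((1 : GrLC.deg0 (gr k r)) : MvPolynomial (Fin (r + 1)) k) := congrArg Subtype.val h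
    exact zero_ne_one h1⟩
  mul_comm := mul_comm
  mul_inv_cancel := by
    intro a ha
    have hmem : (a : MvPolynomial (Fin (r + 1)) k) ∈ gr k r 0 := a.2
    have hC := eq_C_of_mem_gr_zero k r hmem
    have hc : MvPolynomial.constantCoeff (a : MvPolynomial (Fin (r + 1)) k) ≠ 0 := by
      intro h0
      apply ha
      apply Subtype.ext
      rw [hC, h0, map_zero]
      rfl
    refine ⟨⟨MvPolynomial.C (MvPolynomial.constantCoeff (a : MvPolynomial (Fin (r + 1)) k))⁻¹,
      C_mem_gr_zero k r _⟩, ?_⟩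
    apply Subtype.ext
    change (a : MvPolynomial (Fin (r + 1)) k) * MvPolynomial.C _ = 1
    rw [hC, MvPolynomial.constantCoeff_C, ← map_mul, mul_inv_cancel₀ hc, map_one]

instance : IsArtinianRing (GrLC.deg0 (gr k r)) := by
  letI := (isField_deg0 k r).toField
  infer_instance

theorem irr_ne_top' : irr k r ≠ ⊤ := by
  intro h
  apply irr_ne_top k r
  rw [h]
  exact HomogeneousIdeal.toIdeal_top

theorem le_irr (J : HomogeneousIdeal (gr k r)) (hJ : J ≠ ⊤) : J ≤ irr k r := by
  have h1 : J.toIdeal ≠ ⊤ := by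
    intro h
    apply hJ
    apply HomogeneousIdeal.toIdeal_injective
    rw [h]
    exact HomogeneousIdeal.toIdeal_top.symm
  have h2 := Groth.Agent.Lib.Seat97.GrDimField.le_irrelevant (gr k r) (isField_deg0 k r) (hpos k r)
    J.toIdeal J.isHomogeneous h1
  rw [← ha k r] at h2
  exact h2

theorem isStarLocal : GrLC.IsStarLocal (gr k r) (irr k r) := by
  constructor
  · refine ⟨irr_ne_top' k r, fun b hb => ?_⟩
    by_contra hne
    exact lt_irrefl _ (lt_of_lt_of_le hb (le_irr k r b hne))
  · intro n' hn'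
    rcases eq_or_lt_of_le (le_irr k r n' hn'.1) with h | h
    · exact h
    · exact absurd (hn'.2 _ h) (irr_ne_top' k r)

theorem ringKrullDim_eq :
    ringKrullDim (MvPolynomial (Fin (r + 1)) k) = ((r + 1 : ℕ) : WithBot ℕ∞) := by
  rw [MvPolynomial.ringKrullDim_of_isNoetherianRing, ringKrullDim_eq_zero_of_field, zero_add,
    Nat.card_eq_fintype_card, Fintype.card_fin]

section Module

variable {M : Type u} [AddCommGroup M] [Module k M] [Module (MvPolynomial (Fin (r + 1)) k) M]
  [IsScalarTower k (MvPolynomial (Fin (r + 1)) k) M]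
  [Module.Finite (MvPolynomial (Fin (r + 1)) k) M]
  (ℳ : ℤ → Submodule k M) [DirectSum.Decomposition ℳ]
  [SetLike.GradedSMul (GrSyz.stdGr k (Fin (r + 1))) ℳ]

include r in
/-- The pieces of a finite graded module are finite dimensional. -/
theorem finite_piece (g : ℤ) : Module.Finite k ↥(ℳ g) := by
  obtain ⟨F, -⟩ := Groth.Agent.Helper13MinRes.exists_freeRes_isMinimal (k := k)
    (σ := Fin (r + 1)) ℳ
  exact Module.Finite.of_surjective (Groth.Agent.Helper13Hilb.augStrand F g)
    (Groth.Agent.Helper13Hilb.augStrand_surjective F g)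

/-- The length over `S_0` of a piece is its dimension over `k`. -/
theorem length_comp_eq_finrank (g : ℤ) :
    Module.length (GrLC.deg0 (gr k r)) ↥(GrLC.comp (gr k r) (addGr ℳ) g) =
      (Module.finrank k ↥(ℳ g) : ℕ∞) := by
  haveI := finite_piece k r ℳ g
  -- `k → S_0`
  let φ : k →+* GrLC.deg0 (gr k r) :=
    { toFun := fun c => ⟨MvPolynomial.C c, C_mem_gr_zero k r c⟩
      map_one' := Subtype.ext (map_one _)
      map_mul' := fun a b => Subtype.ext (map_mul _ a b)
      map_zero' := Subtype.ext (map_zero _)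
      map_add' := fun a b => Subtype.ext (map_add _ a b) }
  letI : Algebra k (GrLC.deg0 (gr k r)) := φ.toAlgebra
  have hφ : Function.Surjective (algebraMap k (GrLC.deg0 (gr k r))) := by
    intro a
    have hmem : (a : MvPolynomial (Fin (r + 1)) k) ∈ gr k r 0 := a.2
    refine ⟨MvPolynomial.constantCoeff (a : MvPolynomial (Fin (r + 1)) k), ?_⟩
    apply Subtype.ext
    exact (eq_C_of_mem_gr_zero k r hmem).symm
  letI : Module k ↥(GrLC.comp (gr k r) (addGr ℳ) g) :=
    Module.compHom _ (algebraMap k (GrLC.deg0 (gr k r)))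
  haveI : IsScalarTower k (GrLC.deg0 (gr k r)) ↥(GrLC.comp (gr k r) (addGr ℳ) g) :=
    ⟨fun c a m => by
      rw [Algebra.smul_def, mul_smul]
      rfl⟩
  rw [← Module.length_eq_of_surjective hφ, ← Module.length_eq_finrank k ↥(ℳ g)]
  -- the identity is a `k`-linear equivalence
  let e : ↥(GrLC.comp (gr k r) (addGr ℳ) g) ≃ₗ[k] ↥(ℳ g) :=
    { toFun := fun m => ⟨m.1, m.2⟩
      invFun := fun m => ⟨m.1, m.2⟩
      left_inv := fun _ => rfl
      right_inv := fun _ => rfl
      map_add' := fun _ _ => rfl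
      map_smul' := fun c m => by
        apply Subtype.ext
        change (MvPolynomial.C c : MvPolynomial (Fin (r + 1)) k) • (m.1 : M) = c • (m.1 : M)
        rw [← MvPolynomial.algebraMap_eq, algebraMap_smul] }
  exact e.length_eq

theorem hilb_eq_finrank (g : ℤ) :
    Groth.Agent.Lib.Seat86.GrSerreB.hilb (gr k r) (addGr ℳ) g =
      (Module.finrank k ↥(ℳ g) : ℚ) := by
  unfold Groth.Agent.Lib.Seat86.GrSerreB.hilb
  rw [length_comp_eq_finrank]
  simp

end Module

end Groth.Agent.Lib.Seat97.GrPolyStd
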