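import Mathlib
import Groth.Agent.Lib.Seat97GrPolyStd
import Groth.Agent.Lib.Seat97GrEGPoly
import Groth.Agent.Lib.Helper8GV
import Groth.Agent.Lib.Seat92LCFib
import Groth.Agent.S16323
import Groth.Agent.S13224

/-!
# Hilbert function versus Hilbert polynomial for Cohen–Macaulay graded modules (seat 97)

`hilb_ne` : for a Cohen–Macaulay finite graded module `M` over `k[x_0..x_n]` with minimal resolution
of length exactly `ℓ` and regularity exactly `ρ`, `dim_k M_d ≠ P_M(d)` at `d = ρ + ℓ - n - 1`.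

Namespace `Groth.Agent.Lib.Seat97.GrCMHilb`.
-/

set_option autoImplicit false
set_option linter.style.haveILetI false
set_option linter.unusedSectionVars false
open DirectSum

noncomputable section

namespace Groth.Agent.Lib.Seat97.GrCMHilb

open Groth.Agent.Lib.Seat97.GrVan Groth.Agent.Lib.Seat97.GrPolyLC Groth.Agent.Lib.Seat86.GrConv
  Groth.Agent.Lib.Seat97.GrEGPoly Groth.Agent.Lib.Seat97.GrPolyStd
  Groth.Agent.Lib.Seat86.GrSerreB

universe u

theorem hilb_ne (k : Type u) [Field k] [IsAlgClosed k] [CharZero k] (n : ℕ)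
    (M : Type u) [AddCommGroup M] [Module k M] [Module (MvPolynomial (Fin (n + 1)) k) M]
    [IsScalarTower k (MvPolynomial (Fin (n + 1)) k) M]
    [Module.Finite (MvPolynomial (Fin (n + 1)) k) M]
    (ℳ : ℤ → Submodule k M) [DirectSum.Decomposition ℳ]
    [SetLike.GradedSMul (GrSyz.stdGr k (Fin (n + 1))) ℳ]
    (hCM : Module.supportDim (MvPolynomial (Fin (n + 1)) k) M =
      ((LocCoh.idealDepth (GrSyz.irrel (GrSyz.stdGr k (Fin (n + 1)))).toIdeal M : ℕ∞) :
        WithBot ℕ∞))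
    (F : GrSyz.FreeRes (GrSyz.stdGr k (Fin (n + 1))) ℳ)
    (hF : F.IsMinimal (GrSyz.irrel (GrSyz.stdGr k (Fin (n + 1)))).toIdeal)
    (ℓ : ℕ) (hℓ : F.HasLengthLE ℓ) (hℓ' : F.rk ℓ ≠ 0)
    (ρ : ℤ) (hρ : F.IsGenLE ρ) (hρ' : ∃ (i : ℕ) (b : Fin (F.rk i)), F.deg i b = ρ + i)
    (P : Polynomial ℚ)
    (hP : ∃ d₁ : ℤ, ∀ d : ℤ, d₁ ≤ d →
      ((Module.finrank k ↥(ℳ d) : ℤ) : ℚ) = P.eval (d : ℚ)) :
    ((Module.finrank k ↥(ℳ (ρ + ℓ - n - 1)) : ℤ) : ℚ) ≠
      P.eval ((ρ + ℓ - n - 1 : ℤ) : ℚ) := by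
  classical
  -- Auslander–Buchsbaum
  have hAB := Groth.Agent.S16323.result k n M ℳ F hF ℓ hℓ hℓ'
  have hne : LocCoh.idealDepth (GrSyz.irrel (GrSyz.stdGr k (Fin (n + 1)))).toIdeal M ≠ ⊤ := by
    intro h
    rw [h, add_top] at hAB
    exact ENat.top_ne_natCast _ hAB
  obtain ⟨D, hD⟩ : ∃ D : ℕ,
      LocCoh.idealDepth (GrSyz.irrel (GrSyz.stdGr k (Fin (n + 1)))).toIdeal M = (D : ℕ∞) :=
    ⟨_, (ENat.natCast_toNat hne).symm⟩
  have hDl : ℓ + D = n + 1 := by
    rw [hD] at hAB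
    exact_mod_cast hAB
  rw [hD] at hCM
  obtain ⟨E⟩ := Groth.Agent.S13215.result (MvPolynomial (Fin (n + 1)) k) (gr k n) M (addGr ℳ)
  -- vanishing outside `D`
  have hvan : ∀ i : ℕ, i ≠ D → ∀ g : ℤ, Van (addGr ℳ) (irr k n) i g := by
    intro i hi g
    apply van_of_res _ i g E
    obtain ⟨e⟩ := Groth.Agent.S13224.result (MvPolynomial (Fin (n + 1)) k) (gr k n) (irr k n) M
      (addGr ℳ) E i
    have hz : ∀ y : LocCoh.H (irr k n).toIdeal i M, y = 0 := by
      rcases lt_or_gt_of_ne hi with h | h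
      · intro y
        refine Groth.Agent.Lib.Seat92.LCFib.H_eq_zero_of_lt_idealDepth (irr k n).toIdeal D M ?_ i h y
        rw [convIdeal_toIdeal, hD]
      · exact Groth.Agent.Lib.Helper8.GV.H_eq_zero_of_supportDim_lt (irr k n).toIdeal i M (by
          rw [hCM]
          exact_mod_cast h)
    intro y _
    apply e.injective
    rw [hz (e y), map_zero]
  -- non-vanishing at `(D, ρ - D)`
  have hnv : ¬ Van (addGr ℳ) (irr k n) D (ρ - (D : ℤ)) := by
    intro hv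
    have hgen : F.IsGenLE (ρ - 1) := by
      rw [eg_van k n M ℳ F hF (ρ - 1)]
      intro i g hg
      by_cases hi : i = D
      · subst hi
        rcases eq_or_lt_of_le (show ρ - (i : ℤ) ≤ g by omega) with h | h
        · rw [← h]
          exact hv
        · exact (eg_van k n M ℳ F hF ρ).mp hρ i g h
      · exact hvan i hi g
    obtain ⟨i, b, hb⟩ := hρ'
    have := hgen i b
    omega
  -- Serre's formula
  obtain ⟨d₁, hd₁⟩ := hP
  have hP' : ∃ N : ℤ, ∀ d : ℤ, N ≤ d → P.eval (d : ℚ) = hilb (gr k n) (addGr ℳ) d := by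
    refine ⟨d₁, fun d hd => ?_⟩
    rw [hilb_eq_finrank, ← hd₁ d hd, Int.cast_natCast]
  have hdeg : P.degree < ((P.natDegree + 1 : ℕ) : WithBot ℕ) :=
    lt_of_le_of_lt Polynomial.degree_le_natDegree (by exact_mod_cast Nat.lt_succ_self _)
  have hserre := claim (hpos k n) (isStarLocal k n) (n + 1) (ringKrullDim_eq k n)
    (P.natDegree + 1) M (addGr ℳ) E P hP' hdeg (ρ - (D : ℤ))
  have hlc0 : ∀ i : ℕ, i ≠ D → lc E (irr k n) i (ρ - (D : ℤ)) = 0 := by
    intro i hi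
    unfold lc
    have h1 : E.Hcomp (irr k n) i (ρ - (D : ℤ)) = ⊥ :=
      (van_iff_Hcomp _ i _ E).mp (hvan i hi _)
    rw [h1]
    have h2 : Module.length (GrLC.deg0 (gr k n))
        ↥(⊥ : Submodule (GrLC.deg0 (gr k n)) (E.H (irr k n) i)) = 0 := Module.length_bot
    rw [h2]
    simp
  have hlcD : lc E (irr k n) D (ρ - (D : ℤ)) ≠ 0 := by
    unfold lc
    have h1 : E.Hcomp (irr k n) D (ρ - (D : ℤ)) ≠ ⊥ := fun h =>
      hnv ((van_iff_Hcomp _ D _ E).mpr h)
    have h2 : Module.length (GrLC.deg0 (gr k n)) ↥(E.Hcomp (irr k n) D (ρ - (D : ℤ))) ≠ 0 := by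
      rw [Ne, Module.length_eq_zero_iff, Submodule.subsingleton_iff_eq_bot]
      exact h1
    have h3 := length_Hcomp_ne_top (hpos k n) (isStarLocal k n) E D (ρ - (D : ℤ))
    have h4 : (Module.length (GrLC.deg0 (gr k n))
        ↥(E.Hcomp (irr k n) D (ρ - (D : ℤ)))).toNat ≠ 0 := by
      intro h0
      rcases (ENat.toNat_eq_zero.mp h0) with h | h
      · exact h2 h
      · exact h3 h
    exact_mod_cast h4
  have hchi : chi E (irr k n) (n + 1) (ρ - (D : ℤ)) =
      (-1 : ℚ) ^ D * lc E (irr k n) D (ρ - (D : ℤ)) := by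
    unfold chi
    rw [Finset.sum_eq_single D]
    · intro i _ hi
      rw [hlc0 i hi, mul_zero]
    · intro hD'
      exact absurd (Finset.mem_range.mpr (by omega)) hD'
  rw [hchi, hilb_eq_finrank] at hserre
  have hidx : ρ + (ℓ : ℤ) - (n : ℤ) - 1 = ρ - (D : ℤ) := by
    have : (ℓ : ℤ) + (D : ℤ) = (n : ℤ) + 1 := by exact_mod_cast hDl
    omega
  rw [hidx]
  intro heq
  rw [Int.cast_natCast] at heq
  rw [heq, sub_self] at hserre
  have : (-1 : ℚ) ^ D ≠ 0 := pow_ne_zero _ (by norm_num)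
  exact (mul_ne_zero this hlcD) hserre.symm

end Groth.Agent.Lib.Seat97.GrCMHilb
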