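import Mathlib
import Groth.Prelude.Def_GrSyz
import Groth.Prelude.Def_GrLC
import Groth.Agent.Lib.Seat97GrEGPoly
import Groth.Agent.Lib.Seat86GrQReg
import Groth.Agent.Lib.Helper13MinRes

/-!
# Corollaries of Eisenbud–Goto for polynomial rings (seat 97)

* `iInf_coe_of_le`, `eq_of_forall_le_coe_iff` : elements of `WithBot (WithTop ℤ)` are determined by
  their integer upper bounds;
* `strong_iff_weak` : strong and weak `d`-regularity (persistence);
* `eg_weak` : `F.IsGenLE d ↔ M` is `d`-regular (weak form);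
* `isRegLE_iff_van`, `reg_eq` : `GrSyz.reg = sup_i (end H^i + i)`;
* `reg_quot` : `reg M = max (end H^0(M)) (reg M/xM)` for a quasi-regular linear form.

Namespace `Groth.Agent.Lib.Seat97.GrEGCor`.
-/

set_option autoImplicit false
set_option linter.style.haveILetI false
set_option linter.unusedSectionVars false
open DirectSum

noncomputable section

namespace Groth.Agent.Lib.Seat97.GrEGCor

open Groth.Agent.Lib.Seat97.GrVan Groth.Agent.Lib.Seat97.GrFree
  Groth.Agent.Lib.Seat97.GrCMReg Groth.Agent.Lib.Seat97.GrPolyLC Groth.Agent.Lib.Seat86.GrConv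
  Groth.Agent.Lib.Seat97.GrEGPoly

universe u

section Arith

theorem iInf_coe_of_le (s : WithBot (WithTop ℤ)) :
    ⨅ (d : ℤ) (_ : s ≤ ((d : WithTop ℤ) : WithBot (WithTop ℤ))),
      ((d : WithTop ℤ) : WithBot (WithTop ℤ)) = s := by
  apply le_antisymm
  · induction s using WithBot.recBotCoe with
    | bot =>
      rw [le_bot_iff]
      by_contra hne
      obtain ⟨y, hy⟩ := WithBot.ne_bot_iff_exists.mp hne
      have hle : ∀ d : ℤ, y ≤ ((d : ℤ) : WithTop ℤ) := by
        intro d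
        have h1 : (⨅ (d : ℤ) (_ : (⊥ : WithBot (WithTop ℤ)) ≤
            ((d : WithTop ℤ) : WithBot (WithTop ℤ))),
            ((d : WithTop ℤ) : WithBot (WithTop ℤ))) ≤ ((d : WithTop ℤ) : WithBot (WithTop ℤ)) :=
          le_trans (iInf_le _ d) (iInf_le _ bot_le)
        rw [← hy, WithBot.coe_le_coe] at h1
        exact h1
      have hy' : y ≠ ⊤ := by
        intro h
        have := hle 0
        rw [h, top_le_iff] at this
        exact WithTop.coe_ne_top this
      obtain ⟨m, hm⟩ := WithTop.ne_top_iff_exists.mp hy'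
      have := hle (m - 1)
      rw [← hm, WithTop.coe_le_coe] at this
      omega
    | coe y =>
      induction y using WithTop.recTopCoe with
      | top =>
        rw [WithBot.coe_top]
        exact le_top
      | coe n => exact le_trans (iInf_le _ n) (iInf_le _ le_rfl)
  · exact le_iInf₂ (fun d h => h)

theorem eq_of_forall_le_coe_iff (x y : WithBot (WithTop ℤ))
    (h : ∀ d : ℤ, x ≤ ((d : WithTop ℤ) : WithBot (WithTop ℤ)) ↔
      y ≤ ((d : WithTop ℤ) : WithBot (WithTop ℤ))) : x = y := by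
  rw [← iInf_coe_of_le x, ← iInf_coe_of_le y]
  exact iInf_congr fun d => iInf_congr_Prop (h d) (fun _ => rfl)

end Arith

section Int

variable {R : Type u} [CommRing R] [IsNoetherianRing R] {𝒜 : ℤ → AddSubgroup R} [GradedRing 𝒜]
  (a : HomogeneousIdeal 𝒜)
  (hhom : a.toIdeal = Ideal.span ((𝒜 1 : AddSubgroup R) : Set R))
  {M : Type u} [AddCommGroup M] [Module R M] {ℳ : ℤ → AddSubgroup M}
  [DirectSum.Decomposition ℳ] [SetLike.GradedSMul 𝒜 ℳ]

include hhom in
/-- Strong and weak `d`-regularity agree. -/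
theorem strong_iff_weak (d : ℤ) :
    (∀ (i : ℕ) (g : ℤ), d - (i : ℤ) < g → Van ℳ a i g) ↔
      ((∀ n : ℤ, d < n → Van ℳ a 0 n) ∧ ∀ i : ℕ, 0 < i → Van ℳ a i (d - (i : ℤ) + 1)) := by
  constructor
  · intro h
    refine ⟨fun n hn => h 0 n (by simpa using hn), fun i _ => h i _ (by omega)⟩
  · rintro ⟨h0, hW⟩ i g hg
    rcases Nat.eq_zero_or_pos i with rfl | hi
    · exact h0 g (by simpa using hg)
    · exact van_persist a hhom d hW i hi g (by omega)

/-- The local cohomology regularity is at most `d` iff all the relevant pieces vanish. -/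
theorem sup_le_iff_van (E : GrLC.StarInjRes 𝒜 ℳ) (d : ℤ) :
    (⨆ i : ℕ, (GrLC.endDeg (E.Hgr a i) + (((i : ℤ) : WithTop ℤ) : WithBot (WithTop ℤ)))) ≤
        ((d : WithTop ℤ) : WithBot (WithTop ℤ)) ↔
      ∀ (i : ℕ) (g : ℤ), d - (i : ℤ) < g → Van ℳ a i g := by
  rw [iSup_le_iff]
  apply forall_congr'
  intro i
  rw [endDeg_add_le_iff]
  apply forall_congr'
  intro g
  apply imp_congr_right
  intro _
  rw [van_iff_Hcomp a i g E, Hgr_eq_bot_iff]

end Int

/-- A quasi-regular linear form has torsion annihilator. -/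
theorem hK_of_finiteLength (k : Type u) [Field k] (r : ℕ)
    {M : Type u} [AddCommGroup M] [Module k M] [Module (MvPolynomial (Fin (r + 1)) k) M]
    [IsScalarTower k (MvPolynomial (Fin (r + 1)) k) M]
    (ℳ : ℤ → Submodule k M) [DirectSum.Decomposition ℳ]
    [SetLike.GradedSMul (GrSyz.stdGr k (Fin (r + 1))) ℳ]
    (x : MvPolynomial (Fin (r + 1)) k)
    (hx : x ∈ GrSyz.stdGr k (Fin (r + 1)) 1)
    (hq : IsFiniteLength (MvPolynomial (Fin (r + 1)) k)
      ↥(Submodule.torsionBy (MvPolynomial (Fin (r + 1)) k) M x)) :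
    ∀ m : M, x • m = 0 → m ∈ GrLC.gam (irr k r).toIdeal M := by
  classical
  have hx' : x ∈ gr k r 1 := hx
  have hKhom : (Submodule.torsionBy (MvPolynomial (Fin (r + 1)) k) M x).IsHomogeneous
      (addGr ℳ) := by
    intro j m hm
    rw [Submodule.mem_torsionBy_iff] at hm ⊢
    have h := Groth.Agent.Lib.Helper29GrEss.decompose_smul_of_mem (gr k r) (addGr ℳ) hx' m (j + 1)
    rw [hm, DirectSum.decompose_zero, add_sub_cancel_right] at h
    exact h.symm
  have : IsArtinian (MvPolynomial (Fin (r + 1)) k)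
      ↥(Submodule.torsionBy (MvPolynomial (Fin (r + 1)) k) M x) :=
    (isFiniteLength_iff_isNoetherian_isArtinian.mp hq).2
  exact fun m hm =>
    Groth.Agent.Lib.Seat86.GrQReg.mem_gam_of_isArtinian (hpos k r) (ha k r)
      (Submodule.torsionBy (MvPolynomial (Fin (r + 1)) k) M x) hKhom m
      ((Submodule.mem_torsionBy_iff _ _).mpr hm)

section Poly

variable (k : Type u) [Field k] (r : ℕ)
  (M : Type u) [AddCommGroup M] [Module k M] [Module (MvPolynomial (Fin (r + 1)) k) M]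
  [IsScalarTower k (MvPolynomial (Fin (r + 1)) k) M]
  [Module.Finite (MvPolynomial (Fin (r + 1)) k) M]
  (ℳ : ℤ → Submodule k M) [DirectSum.Decomposition ℳ]
  [SetLike.GradedSMul (GrSyz.stdGr k (Fin (r + 1))) ℳ]

/-- The local cohomology regularity computed from a resolution over the submodule grading. -/
theorem sup_le_iff_van' (E : GrLC.StarInjRes (GrSyz.stdGr k (Fin (r + 1))) ℳ) (d : ℤ) :
    (⨆ i : ℕ, (GrLC.endDeg (E.Hgr (GrSyz.irrel (GrSyz.stdGr k (Fin (r + 1)))) i) +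
        (((i : ℤ) : WithTop ℤ) : WithBot (WithTop ℤ)))) ≤
        ((d : WithTop ℤ) : WithBot (WithTop ℤ)) ↔
      ∀ (i : ℕ) (g : ℤ), d - (i : ℤ) < g → Van (addGr ℳ) (irr k r) i g := by
  rw [iSup_le_iff]
  apply forall_congr'
  intro i
  rw [endDeg_add_le_iff]
  apply forall_congr'
  intro g
  apply imp_congr_right
  intro _
  exact (van_iff_Hgr E _ i g).symm

/-- Eisenbud–Goto, weak form. -/
theorem eg_weak (F : GrSyz.FreeRes (GrSyz.stdGr k (Fin (r + 1))) ℳ)
    (hF : F.IsMinimal (GrSyz.irrel (GrSyz.stdGr k (Fin (r + 1)))).toIdeal)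
    (E : GrLC.StarInjRes (GrSyz.stdGr k (Fin (r + 1))) ℳ) (d : ℤ) :
    F.IsGenLE d ↔ (GrLC.endDeg (E.Hgr (GrSyz.irrel (GrSyz.stdGr k (Fin (r + 1)))) 0) ≤
        ((d : WithTop ℤ) : WithBot (WithTop ℤ)) ∧
      ∀ i : ℕ, 0 < i →
        E.Hcomp (GrSyz.irrel (GrSyz.stdGr k (Fin (r + 1)))) i (d - (i : ℤ) + 1) = ⊥) := by
  rw [eg_van k r M ℳ F hF d, strong_iff_weak (irr k r) (hhom k r) d, endDeg_le_iff]
  apply and_congr
  · apply forall_congr'
    intro n
    apply imp_congr_right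
    intro _
    exact van_iff_Hgr E _ 0 n
  · apply forall_congr'
    intro i
    apply imp_congr_right
    intro _
    exact van_conv_iff E _ i _

theorem isRegLE_iff_van (d : ℤ) :
    GrSyz.IsRegLE (GrSyz.stdGr k (Fin (r + 1))) ℳ
        (GrSyz.irrel (GrSyz.stdGr k (Fin (r + 1)))).toIdeal d ↔
      ∀ (i : ℕ) (g : ℤ), d - (i : ℤ) < g → Van (addGr ℳ) (irr k r) i g := by
  constructor
  · rintro ⟨F, hF, hgen⟩
    exact (eg_van k r M ℳ F hF d).mp hgen
  · intro h
    obtain ⟨F, hF⟩ := Groth.Agent.Helper13MinRes.exists_freeRes_isMinimal (k := k)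
      (σ := Fin (r + 1)) ℳ
    exact ⟨F, hF, (eg_van k r M ℳ F hF d).mpr h⟩

theorem reg_eq_of_forall (s : WithBot (WithTop ℤ))
    (h : ∀ d : ℤ, (∀ (i : ℕ) (g : ℤ), d - (i : ℤ) < g → Van (addGr ℳ) (irr k r) i g) ↔
      s ≤ ((d : WithTop ℤ) : WithBot (WithTop ℤ))) :
    GrSyz.reg (GrSyz.stdGr k (Fin (r + 1))) ℳ
      (GrSyz.irrel (GrSyz.stdGr k (Fin (r + 1)))).toIdeal = s := by
  unfold GrSyz.reg
  rw [← iInf_coe_of_le s]
  exact iInf_congr fun d => iInf_congr_Prop ((isRegLE_iff_van k r M ℳ d).trans (h d))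
    (fun _ => rfl)

/-- The regularity is the local cohomology regularity. -/
theorem reg_eq (E : GrLC.StarInjRes (GrSyz.stdGr k (Fin (r + 1))) ℳ) :
    GrSyz.reg (GrSyz.stdGr k (Fin (r + 1))) ℳ
      (GrSyz.irrel (GrSyz.stdGr k (Fin (r + 1)))).toIdeal =
      ⨆ i : ℕ, (GrLC.endDeg (E.Hgr (GrSyz.irrel (GrSyz.stdGr k (Fin (r + 1)))) i) +
        (((i : ℤ) : WithTop ℤ) : WithBot (WithTop ℤ))) :=
  reg_eq_of_forall k r M ℳ _ (fun d => (sup_le_iff_van' k r M ℳ E d).symm)

/-- `reg M = max (end H^0_𝔪(M)) (reg M/xM)` for a quasi-regular linear form `x`. -/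
theorem reg_quot (x : MvPolynomial (Fin (r + 1)) k) (hx : x ∈ GrSyz.stdGr k (Fin (r + 1)) 1)
    (hq : IsFiniteLength (MvPolynomial (Fin (r + 1)) k)
      ↥(Submodule.torsionBy (MvPolynomial (Fin (r + 1)) k) M x))
    (N : Type u) [AddCommGroup N] [Module k N] [Module (MvPolynomial (Fin (r + 1)) k) N]
    [IsScalarTower k (MvPolynomial (Fin (r + 1)) k) N]
    [Module.Finite (MvPolynomial (Fin (r + 1)) k) N]
    (𝒩 : ℤ → Submodule k N) [DirectSum.Decomposition 𝒩]
    [SetLike.GradedSMul (GrSyz.stdGr k (Fin (r + 1))) 𝒩]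
    (π : M →ₗ[MvPolynomial (Fin (r + 1)) k] N) (hπ : Function.Surjective π)
    (hπg : GrLC.IsGrHom ℳ 𝒩 π)
    (hker : LinearMap.ker π =
      LinearMap.range (x • (LinearMap.id : M →ₗ[MvPolynomial (Fin (r + 1)) k] M)))
    (E : GrLC.StarInjRes (GrSyz.stdGr k (Fin (r + 1))) ℳ) :
    GrSyz.reg (GrSyz.stdGr k (Fin (r + 1))) ℳ
        (GrSyz.irrel (GrSyz.stdGr k (Fin (r + 1)))).toIdeal =
      GrLC.endDeg (E.Hgr (GrSyz.irrel (GrSyz.stdGr k (Fin (r + 1)))) 0) ⊔
        GrSyz.reg (GrSyz.stdGr k (Fin (r + 1))) 𝒩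
          (GrSyz.irrel (GrSyz.stdGr k (Fin (r + 1)))).toIdeal := by
  classical
  obtain ⟨E'⟩ := Groth.Agent.S13215.result (MvPolynomial (Fin (r + 1)) k) (gr k r) N (addGr 𝒩)
  have hN : GrSyz.reg (GrSyz.stdGr k (Fin (r + 1))) 𝒩
      (GrSyz.irrel (GrSyz.stdGr k (Fin (r + 1)))).toIdeal =
      ⨆ i : ℕ, (GrLC.endDeg (E'.Hgr (irr k r) i) +
        (((i : ℤ) : WithTop ℤ) : WithBot (WithTop ℤ))) :=
    reg_eq_of_forall k r N 𝒩 _ (fun d => (sup_le_iff_van (irr k r) E' d).symm)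
  rw [hN]
  apply reg_eq_of_forall
  intro d
  rw [sup_le_iff, sup_le_iff_van (irr k r) E' d, endDeg_le_iff,
    strong_iff_weak (irr k r) (hhom k r) d, strong_iff_weak (irr k r) (hhom k r) d]
  have hx' : x ∈ gr k r 1 := hx
  have hπg' : GrLC.IsGrHom (addGr ℳ) (addGr 𝒩) π := hπg
  have hmain := regular_iff (hpos k r) (irr k r) (ha k r) (hhom k r)
    (ℳ := addGr ℳ) (𝒩 := addGr 𝒩) x hx' (hK_of_finiteLength k r ℳ x hx hq) π hπ hπg' hker d
  rw [hmain, and_comm]
  apply and_congr_left'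
  apply forall_congr'
  intro n
  apply imp_congr_right
  intro _
  exact van_iff_Hgr E _ 0 n

end Poly

end Groth.Agent.Lib.Seat97.GrEGCor
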