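import Groth.Agent.Lib.Helper29Cone
import Groth.Agent.Lib.Helper29GrCompare
import Groth.Agent.S13217

/-!
# Maps induced on graded local cohomology by chain maps of *injective resolutions (seat 97)

* `Hmap E₁ E₂ a φ hφ i : E₁.H a i →ₗ[R] E₂.H a i` for a chain map `φ`;
  `isGrHom_Hmap` (homogeneous if `φ i` is), `Hmap_toH`.
* `Hmap_eq_of_aug_eq` : two homogeneous chain maps with the same augmentation induce the same map
  (homotopy argument in the graded category).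
* `Hmap_bijective` : a chain map over the identity of the resolved module induces bijections
  (cone argument of helper29 + acyclicity of *injectives).

Namespace `Groth.Agent.Lib.Seat97.GrHmap`.
-/

set_option autoImplicit false
set_option linter.unusedSectionVars false
open DirectSum

noncomputable section

namespace Groth.Agent.Lib.Seat97.GrHmap

open Groth.Agent.Lib.Helper29Cone Groth.Agent.Lib.Helper29GrCompare
  Groth.Agent.Lib.Helper29LCAcyclic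

universe u

variable {ι : Type} [AddCommGroup ι] [DecidableEq ι]
variable {R : Type u} [CommRing R] {𝒜 : ι → AddSubgroup R} [GradedRing 𝒜]
variable {M₁ : Type u} [AddCommGroup M₁] [Module R M₁] {ℳ₁ : ι → AddSubgroup M₁}
  [DirectSum.Decomposition ℳ₁] [SetLike.GradedSMul 𝒜 ℳ₁]
variable {M₂ : Type u} [AddCommGroup M₂] [Module R M₂] {ℳ₂ : ι → AddSubgroup M₂}
  [DirectSum.Decomposition ℳ₂] [SetLike.GradedSMul 𝒜 ℳ₂]
variable (E₁ : GrLC.StarInjRes 𝒜 ℳ₁) (E₂ : GrLC.StarInjRes 𝒜 ℳ₂) (a : HomogeneousIdeal 𝒜)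

theorem map_mem_gam {A B : Type u} [AddCommGroup A] [Module R A] [AddCommGroup B] [Module R B]
    (J : Ideal R) (f : A →ₗ[R] B) {x : A} (hx : x ∈ GrLC.gam J A) : f x ∈ GrLC.gam J B := by
  obtain ⟨k, hk⟩ := hx
  exact ⟨k, fun r hr => by rw [← map_smul, hk r hr, map_zero]⟩

theorem E_d_d (n : ℕ) (x : (E₁.X n).carrier) : E₁.d (n + 1) (E₁.d n x) = 0 := by
  have : E₁.d n x ∈ LinearMap.ker (E₁.d (n + 1)) := by
    rw [E₁.exact_succ n]; exact LinearMap.mem_range_self _ x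
  exact this

theorem E_d_ε (m : M₁) : E₁.d 0 (E₁.ε m) = 0 := by
  have : E₁.ε m ∈ LinearMap.ker (E₁.d 0) := by
    rw [E₁.exact_zero]; exact LinearMap.mem_range_self _ m
  exact this

section Map

variable (φ : ∀ n, (E₁.X n).carrier →ₗ[R] (E₂.X n).carrier)
  (hφ : ∀ (n : ℕ) (x : (E₁.X n).carrier), φ (n + 1) (E₁.d n x) = E₂.d n (φ n x))

include hφ in
theorem map_mem_cocyc (i : ℕ) : ∀ x ∈ E₁.cocyc a i, φ i x ∈ E₂.cocyc a i := by
  rintro x ⟨hx1, hx2⟩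
  refine ⟨map_mem_gam a.toIdeal (φ i) hx1, ?_⟩
  have hx2' : E₁.d i x = 0 := hx2
  show E₂.d i (φ i x) = 0
  rw [← hφ i x, hx2', map_zero]

include hφ in
theorem map_mem_cobdy (i : ℕ) : ∀ x ∈ E₁.cobdy a i, φ i x ∈ E₂.cobdy a i := by
  intro x hx
  cases i with
  | zero =>
    have hx0 : x = 0 := (Submodule.mem_bot R).mp hx
    rw [hx0, map_zero]; exact zero_mem _
  | succ n =>
    obtain ⟨w, hw, rfl⟩ := hx
    exact ⟨φ n w, map_mem_gam a.toIdeal (φ n) hw, (hφ n w).symm⟩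

/-- The map on cocycles. -/
def cocycMap (i : ℕ) : ↥(E₁.cocyc a i) →ₗ[R] ↥(E₂.cocyc a i) :=
  (φ i).restrict (map_mem_cocyc E₁ E₂ a φ hφ i)

theorem cocycMap_coe (i : ℕ) (z : ↥(E₁.cocyc a i)) :
    ((cocycMap E₁ E₂ a φ hφ i z : ↥(E₂.cocyc a i)) : (E₂.X i).carrier) = φ i z := rfl

/-- The map induced on graded local cohomology by a chain map. -/
def Hmap (i : ℕ) : E₁.H a i →ₗ[R] E₂.H a i :=
  Submodule.mapQ _ _ (cocycMap E₁ E₂ a φ hφ i)
    (fun x hx => map_mem_cobdy E₁ E₂ a φ hφ i x hx)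

theorem Hmap_toH (i : ℕ) (z : ↥(E₁.cocyc a i)) :
    Hmap E₁ E₂ a φ hφ i (E₁.toH a i z) = E₂.toH a i (cocycMap E₁ E₂ a φ hφ i z) := rfl

theorem isGrHom_Hmap (i : ℕ) (hhom : GrLC.IsGrHom (E₁.X i).gr (E₂.X i).gr (φ i)) :
    GrLC.IsGrHom (E₁.Hgr a i) (E₂.Hgr a i) (Hmap E₁ E₂ a φ hφ i) := by
  rintro g _ ⟨z, hz, rfl⟩
  rw [Hmap_toH]
  exact ⟨cocycMap E₁ E₂ a φ hφ i z, hhom g _ hz, rfl⟩

end Map


section Comp

variable {M₃ : Type u} [AddCommGroup M₃] [Module R M₃] {ℳ₃ : ι → AddSubgroup M₃}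
  [DirectSum.Decomposition ℳ₃] [SetLike.GradedSMul 𝒜 ℳ₃] (E₃ : GrLC.StarInjRes 𝒜 ℳ₃)
variable (φ : ∀ n, (E₁.X n).carrier →ₗ[R] (E₂.X n).carrier)
  (hφ : ∀ (n : ℕ) (x : (E₁.X n).carrier), φ (n + 1) (E₁.d n x) = E₂.d n (φ n x))
  (ψ : ∀ n, (E₂.X n).carrier →ₗ[R] (E₃.X n).carrier)
  (hψ : ∀ (n : ℕ) (x : (E₂.X n).carrier), ψ (n + 1) (E₂.d n x) = E₃.d n (ψ n x))

include hφ hψ in
theorem comp_chain (n : ℕ) (x : (E₁.X n).carrier) :
    (ψ (n + 1) ∘ₗ φ (n + 1)) (E₁.d n x) = E₃.d n ((ψ n ∘ₗ φ n) x) := by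
  rw [LinearMap.comp_apply, LinearMap.comp_apply, hφ, hψ]

/-- Functoriality of `Hmap`. -/
theorem Hmap_comp (i : ℕ) (y : E₁.H a i) :
    Hmap E₁ E₃ a (fun n => ψ n ∘ₗ φ n) (comp_chain E₁ E₂ E₃ φ hφ ψ hψ) i y =
      Hmap E₂ E₃ a ψ hψ i (Hmap E₁ E₂ a φ hφ i y) := by
  obtain ⟨z, rfl⟩ := Submodule.mkQ_surjective _ y
  rfl

end Comp

section Homotopy

variable (φ ψ : ∀ n, (E₁.X n).carrier →ₗ[R] (E₂.X n).carrier)
  (hφ : ∀ (n : ℕ) (x : (E₁.X n).carrier), φ (n + 1) (E₁.d n x) = E₂.d n (φ n x))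
  (hψ : ∀ (n : ℕ) (x : (E₁.X n).carrier), ψ (n + 1) (E₁.d n x) = E₂.d n (ψ n x))
  (hφhom : ∀ n, GrLC.IsGrHom (E₁.X n).gr (E₂.X n).gr (φ n))
  (hψhom : ∀ n, GrLC.IsGrHom (E₁.X n).gr (E₂.X n).gr (ψ n))
  (haug : ∀ m : M₁, φ 0 (E₁.ε m) = ψ 0 (E₁.ε m))

/-- A stage of the homotopy. -/
structure HStage (n : ℕ) where
  h : (E₁.X (n + 1)).carrier →ₗ[R] (E₂.X n).carrier
  hom : GrLC.IsGrHom (E₁.X (n + 1)).gr (E₂.X n).gr h
  kills : ∀ x : (E₁.X (n + 1)).carrier, E₁.d (n + 1) x = 0 →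
    φ (n + 1) x - ψ (n + 1) x = E₂.d n (h x)

include hφ hψ hφhom hψhom haug in
theorem exists_hstage_zero :
    ∃ s : HStage E₁ E₂ φ ψ 0, ∀ x : (E₁.X 0).carrier, s.h (E₁.d 0 x) = φ 0 x - ψ 0 x := by
  have hker : LinearMap.ker (E₁.d 0) ≤ LinearMap.ker (φ 0 - ψ 0) := by
    intro x hx
    rw [E₁.exact_zero] at hx
    obtain ⟨m, rfl⟩ := hx
    rw [LinearMap.mem_ker, LinearMap.sub_apply, haug m, sub_self]
  have hγ : GrLC.IsGrHom (E₁.X 0).gr (E₂.X 0).gr (φ 0 - ψ 0) := by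
    intro k x hx
    rw [LinearMap.sub_apply]
    exact sub_mem (hφhom 0 k x hx) (hψhom 0 k x hx)
  obtain ⟨h, hh, hhd⟩ := exists_extension 𝒜 (E₁.X 1) (E₂.X 0) (E₁.X 0).gr (E₂.starInj 0)
    (E₁.d 0) (E₁.d_grHom 0) (φ 0 - ψ 0) hγ hker
  refine ⟨⟨h, hh, ?_⟩, fun x => by rw [hhd x, LinearMap.sub_apply]⟩
  intro x hx
  have hx' : x ∈ LinearMap.range (E₁.d 0) := by rw [← E₁.exact_succ 0]; exact hx
  obtain ⟨y, rfl⟩ := hx'
  rw [hhd y, LinearMap.sub_apply, map_sub, hφ 0 y, hψ 0 y]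

include hφ hψ hφhom hψhom in
theorem exists_hstage_succ (n : ℕ) (s : HStage E₁ E₂ φ ψ n) :
    ∃ t : HStage E₁ E₂ φ ψ (n + 1), ∀ x : (E₁.X (n + 1)).carrier,
      t.h (E₁.d (n + 1) x) = φ (n + 1) x - ψ (n + 1) x - E₂.d n (s.h x) := by
  have hker : LinearMap.ker (E₁.d (n + 1)) ≤
      LinearMap.ker (φ (n + 1) - ψ (n + 1) - E₂.d n ∘ₗ s.h) := by
    intro x hx
    rw [LinearMap.mem_ker, LinearMap.sub_apply, LinearMap.sub_apply, LinearMap.comp_apply,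
      s.kills x hx, sub_self]
  have hγ : GrLC.IsGrHom (E₁.X (n + 1)).gr (E₂.X (n + 1)).gr
      (φ (n + 1) - ψ (n + 1) - E₂.d n ∘ₗ s.h) := by
    intro k x hx
    rw [LinearMap.sub_apply, LinearMap.sub_apply, LinearMap.comp_apply]
    exact sub_mem (sub_mem (hφhom (n + 1) k x hx) (hψhom (n + 1) k x hx))
      (E₂.d_grHom n k _ (s.hom k x hx))
  obtain ⟨h, hh, hhd⟩ := exists_extension 𝒜 (E₁.X (n + 2)) (E₂.X (n + 1)) (E₁.X (n + 1)).gr
    (E₂.starInj (n + 1)) (E₁.d (n + 1)) (E₁.d_grHom (n + 1))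
    (φ (n + 1) - ψ (n + 1) - E₂.d n ∘ₗ s.h) hγ hker
  refine ⟨⟨h, hh, ?_⟩, fun x => by
    rw [hhd x, LinearMap.sub_apply, LinearMap.sub_apply, LinearMap.comp_apply]⟩
  intro x hx
  have hx' : x ∈ LinearMap.range (E₁.d (n + 1)) := by rw [← E₁.exact_succ (n + 1)]; exact hx
  obtain ⟨y, rfl⟩ := hx'
  rw [hhd y, LinearMap.sub_apply, LinearMap.sub_apply, LinearMap.comp_apply, map_sub, map_sub,
    hφ (n + 1) y, hψ (n + 1) y, E_d_d E₂ n, sub_zero]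

include hφ hψ hφhom hψhom haug in
/-- The homotopy between two homogeneous chain maps with the same augmentation. -/
theorem exists_homotopy :
    ∃ h : ∀ n, (E₁.X (n + 1)).carrier →ₗ[R] (E₂.X n).carrier,
      (∀ x : (E₁.X 0).carrier, h 0 (E₁.d 0 x) = φ 0 x - ψ 0 x) ∧
      ∀ (n : ℕ) (x : (E₁.X (n + 1)).carrier),
        h (n + 1) (E₁.d (n + 1) x) = φ (n + 1) x - ψ (n + 1) x - E₂.d n (h n x) := by
  obtain ⟨s0, hs0⟩ := exists_hstage_zero E₁ E₂ φ ψ hφ hψ hφhom hψhom haug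
  choose next hnext using exists_hstage_succ E₁ E₂ φ ψ hφ hψ hφhom hψhom
  let S : ∀ n, HStage E₁ E₂ φ ψ n := fun n => Nat.rec s0 (fun n s => next n s) n
  exact ⟨fun n => (S n).h, hs0, fun n x => hnext n (S n) x⟩

include hφhom hψhom haug in
/-- Two homogeneous chain maps with the same augmentation induce the same map on graded local
cohomology. -/
theorem Hmap_eq_of_aug_eq (i : ℕ) : Hmap E₁ E₂ a φ hφ i = Hmap E₁ E₂ a ψ hψ i := by
  obtain ⟨h, h0, hs⟩ := exists_homotopy E₁ E₂ φ ψ hφ hψ hφhom hψhom haug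
  apply LinearMap.ext
  intro x
  obtain ⟨z, rfl⟩ := Submodule.mkQ_surjective _ x
  show Hmap E₁ E₂ a φ hφ i (E₁.toH a i z) = Hmap E₁ E₂ a ψ hψ i (E₁.toH a i z)
  rw [Hmap_toH, Hmap_toH, Submodule.mkQ_apply, Submodule.mkQ_apply, Submodule.Quotient.eq]
  show φ i (z : (E₁.X i).carrier) - ψ i (z : (E₁.X i).carrier) ∈ E₂.cobdy a i
  have hz2 : E₁.d i (z : (E₁.X i).carrier) = 0 := z.2.2
  cases i with
  | zero =>
    rw [← h0 z, hz2, map_zero]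
    exact zero_mem _
  | succ n =>
    have e := hs n z
    rw [hz2, map_zero] at e
    have e' : φ (n + 1) (z : (E₁.X (n + 1)).carrier) - ψ (n + 1) (z : (E₁.X (n + 1)).carrier) =
        E₂.d n (h n z) := (sub_eq_zero.mp e.symm)
    rw [e']
    exact ⟨h n z, map_mem_gam a.toIdeal (h n) z.2.1, rfl⟩

end Homotopy

section Iso

variable [Module.Free ℤ ι] [Module.Finite ℤ ι] [IsNoetherianRing R]
variable {M : Type u} [AddCommGroup M] [Module R M] {ℳ : ι → AddSubgroup M}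
  [DirectSum.Decomposition ℳ] [SetLike.GradedSMul 𝒜 ℳ]
variable (F₁ F₂ : GrLC.StarInjRes 𝒜 ℳ)

theorem hacyc (F : GrLC.StarInjRes 𝒜 ℳ) (n j : ℕ) (x : LC a.toIdeal (j + 1) (F.X n).carrier) :
    x = 0 := by
  have := Groth.Agent.S13217.result R 𝒜 a (F.X n).carrier (F.X n).gr (F.starInj n) (j + 1)
    (Nat.le_add_left 1 j)
  exact Subsingleton.elim _ _

theorem cobdy_eq (F : GrLC.StarInjRes 𝒜 ℳ) (j : ℕ) :
    cobdy a.toIdeal (fun n => (F.X n).carrier) F.d j = F.cobdy a j := by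
  cases j <;> rfl

variable (θ : ∀ n, (F₁.X n).carrier →ₗ[R] (F₂.X n).carrier)
  (hθ : ∀ (n : ℕ) (x : (F₁.X n).carrier), θ (n + 1) (F₁.d n x) = F₂.d n (θ n x))
  (hθ0 : ∀ m : M, θ 0 (F₁.ε m) = F₂.ε m)

include hθ0 in
/-- A chain map over the identity induces bijections on graded local cohomology. -/
theorem Hmap_bijective (i : ℕ) : Function.Bijective (Hmap F₁ F₂ a θ hθ i) := by
  constructor
  · rw [injective_iff_map_eq_zero]
    intro x hx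
    obtain ⟨z, rfl⟩ := Submodule.mkQ_surjective _ x
    have hx' : Hmap F₁ F₂ a θ hθ i (F₁.toH a i z) = 0 := hx
    rw [Hmap_toH, Submodule.mkQ_apply, Submodule.Quotient.mk_eq_zero] at hx'
    have hz : θ i (z : (F₁.X i).carrier) ∈
        cobdy a.toIdeal (fun n => (F₂.X n).carrier) F₂.d i := by
      rw [cobdy_eq]; exact hx'
    have := comparison_inj a.toIdeal (fun n => (F₁.X n).carrier) F₁.d F₁.ε F₁.exact_succ
      F₁.exact_zero (hacyc a F₁) (fun n => (F₂.X n).carrier) F₂.d F₂.ε F₂.exact_succ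
      F₂.ε_injective F₂.exact_zero (hacyc a F₂) θ hθ0 hθ i z z.2.1 z.2.2 hz
    rw [cobdy_eq] at this
    show F₁.toH a i z = 0
    rw [Submodule.mkQ_apply, Submodule.Quotient.mk_eq_zero]
    exact this
  · intro y
    obtain ⟨w, rfl⟩ := Submodule.mkQ_surjective _ y
    obtain ⟨x, hx1, hx2, hx3⟩ := comparison_surj a.toIdeal (fun n => (F₁.X n).carrier) F₁.d F₁.ε
      F₁.exact_succ F₁.exact_zero (hacyc a F₁) (fun n => (F₂.X n).carrier) F₂.d F₂.ε F₂.exact_succ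
      F₂.ε_injective F₂.exact_zero (hacyc a F₂) θ hθ0 hθ i w w.2.1 w.2.2
    refine ⟨F₁.toH a i ⟨x, hx1, hx2⟩, ?_⟩
    rw [Hmap_toH]
    symm
    show F₂.toH a i w = _
    rw [Submodule.mkQ_apply, Submodule.mkQ_apply, Submodule.Quotient.eq]
    rw [cobdy_eq] at hx3
    exact hx3

end Iso

end Groth.Agent.Lib.Seat97.GrHmap
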