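import Groth.Agent.Lib.Seat97GrProd
import Groth.Agent.Lib.Seat97GrHmap

/-!
# The horseshoe resolution and the long exact sequence of graded local cohomology (seat 97)

For a short exact sequence `0 → M' → M → M'' → 0` of graded modules (homogeneous maps `f`, `g`) and
*injective resolutions `E'` of `M'`, `E''` of `M''`:

* `HData` / `exists_hdata` : the twisting maps of the horseshoe;
* `horse D : GrLC.StarInjRes 𝒜 ℳ` : the horseshoe resolution of `M`, with terms `E'.X n × E''.X n`;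
* `hα`, `hβ`, `hδ` and `exact_hα_hβ`, `exact_hβ_hδ`, `exact_hδ_hα` : the long exact sequence
  for the horseshoe resolution;
* `exists_les` : the long exact sequence for ARBITRARY *injective resolutions `E'`, `E`, `E''`, where
  the first map is induced by any given homogeneous chain map `E' → E` over `f`.

Namespace `Groth.Agent.Lib.Seat97.GrHorse`.
-/

set_option autoImplicit false
set_option linter.unusedSectionVars false
open DirectSum

noncomputable section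

namespace Groth.Agent.Lib.Seat97.GrHorse

open Groth.Agent.Lib.Seat97.GrProd Groth.Agent.Lib.Seat97.GrHmap
  Groth.Agent.Lib.Helper29GrCompare

universe u

variable {ι : Type} [AddCommGroup ι] [DecidableEq ι]
variable {R : Type u} [CommRing R] {𝒜 : ι → AddSubgroup R} [GradedRing 𝒜]
variable {M' : Type u} [AddCommGroup M'] [Module R M'] {ℳ' : ι → AddSubgroup M'}
  [DirectSum.Decomposition ℳ'] [SetLike.GradedSMul 𝒜 ℳ']
variable {M : Type u} [AddCommGroup M] [Module R M] {ℳ : ι → AddSubgroup M}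
  [DirectSum.Decomposition ℳ] [SetLike.GradedSMul 𝒜 ℳ]
variable {M'' : Type u} [AddCommGroup M''] [Module R M''] {ℳ'' : ι → AddSubgroup M''}
  [DirectSum.Decomposition ℳ''] [SetLike.GradedSMul 𝒜 ℳ'']
variable (f : M' →ₗ[R] M) (g : M →ₗ[R] M'')
variable (E' : GrLC.StarInjRes 𝒜 ℳ') (E'' : GrLC.StarInjRes 𝒜 ℳ'')

variable (ℳ) in
/-- The twisting data of the horseshoe resolution. -/
structure HData where
  σ : M →ₗ[R] (E'.X 0).carrier
  σ_hom : GrLC.IsGrHom ℳ (E'.X 0).gr σ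
  σ_f : ∀ m' : M', σ (f m') = E'.ε m'
  θ : ∀ n, (E''.X n).carrier →ₗ[R] (E'.X (n + 1)).carrier
  θ_hom : ∀ n, GrLC.IsGrHom (E''.X n).gr (E'.X (n + 1)).gr (θ n)
  θ_zero : ∀ m : M, θ 0 (E''.ε (g m)) = -E'.d 0 (σ m)
  θ_succ : ∀ (n : ℕ) (x : (E''.X n).carrier), θ (n + 1) (E''.d n x) = -E'.d (n + 1) (θ n x)

section Exists

variable (hf : GrLC.IsGrHom ℳ' ℳ f) (hg : GrLC.IsGrHom ℳ ℳ'' g)
  (hfinj : Function.Injective f) (hgsurj : Function.Surjective g) (hex : Function.Exact f g)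

/-- A stage of the twisting maps. -/
structure TStage (n : ℕ) where
  θ : (E''.X n).carrier →ₗ[R] (E'.X (n + 1)).carrier
  hom : GrLC.IsGrHom (E''.X n).gr (E'.X (n + 1)).gr θ
  kills : ∀ x : (E''.X n).carrier, E''.d n x = 0 → E'.d (n + 1) (θ x) = 0

include hf hfinj in
theorem exists_σ : ∃ σ : M →ₗ[R] (E'.X 0).carrier, GrLC.IsGrHom ℳ (E'.X 0).gr σ ∧
    ∀ m' : M', σ (f m') = E'.ε m' := by
  have hker : LinearMap.ker f ≤ LinearMap.ker E'.ε := by
    intro m hm
    rw [LinearMap.mem_ker] at hm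
    have : m = 0 := hfinj (by rw [hm, map_zero])
    rw [this]
    exact zero_mem _
  exact exists_extension 𝒜 (GrLC.GMod.of 𝒜 M ℳ) (E'.X 0) ℳ' (E'.starInj 0) f hf E'.ε
    E'.ε_grHom hker

include hg hgsurj hex in
theorem exists_tstage_zero (σ : M →ₗ[R] (E'.X 0).carrier) (hσ : GrLC.IsGrHom ℳ (E'.X 0).gr σ)
    (hσf : ∀ m' : M', σ (f m') = E'.ε m') :
    ∃ s : TStage E' E'' 0, ∀ m : M, s.θ (E''.ε (g m)) = -E'.d 0 (σ m) := by
  have hker : LinearMap.ker (E''.ε ∘ₗ g) ≤ LinearMap.ker (-(E'.d 0 ∘ₗ σ)) := by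
    intro m hm
    rw [LinearMap.mem_ker, LinearMap.comp_apply] at hm
    have hgm : g m = 0 := E''.ε_injective (by rw [hm, map_zero])
    obtain ⟨m', rfl⟩ := (hex m).mp hgm
    rw [LinearMap.mem_ker, LinearMap.neg_apply, LinearMap.comp_apply, hσf, GrHmap.E_d_ε, neg_zero]
  have hδ : GrLC.IsGrHom ℳ (E''.X 0).gr (E''.ε ∘ₗ g) :=
    fun k m hm => E''.ε_grHom k _ (hg k m hm)
  have hγ : GrLC.IsGrHom ℳ (E'.X 1).gr (-(E'.d 0 ∘ₗ σ)) := by
    intro k m hm
    rw [LinearMap.neg_apply, LinearMap.comp_apply]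
    exact neg_mem (E'.d_grHom 0 k _ (hσ k m hm))
  obtain ⟨h, hh, hhd⟩ := exists_extension 𝒜 (E''.X 0) (E'.X 1) ℳ (E'.starInj 1)
    (E''.ε ∘ₗ g) hδ (-(E'.d 0 ∘ₗ σ)) hγ hker
  refine ⟨⟨h, hh, ?_⟩, fun m => by
    have := hhd m
    rw [LinearMap.comp_apply, LinearMap.neg_apply, LinearMap.comp_apply] at this
    exact this⟩
  intro x hx
  have hx' : x ∈ LinearMap.range E''.ε := by rw [← E''.exact_zero]; exact hx
  obtain ⟨m'', rfl⟩ := hx'
  obtain ⟨m, rfl⟩ := hgsurj m''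
  have := hhd m
  rw [LinearMap.comp_apply, LinearMap.neg_apply, LinearMap.comp_apply] at this
  rw [this, map_neg, GrHmap.E_d_d, neg_zero]

theorem exists_tstage_succ (n : ℕ) (s : TStage E' E'' n) :
    ∃ t : TStage E' E'' (n + 1), ∀ x : (E''.X n).carrier,
      t.θ (E''.d n x) = -E'.d (n + 1) (s.θ x) := by
  have hker : LinearMap.ker (E''.d n) ≤ LinearMap.ker (-(E'.d (n + 1) ∘ₗ s.θ)) := by
    intro x hx
    rw [LinearMap.mem_ker, LinearMap.neg_apply, LinearMap.comp_apply, s.kills x hx, neg_zero]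
  have hγ : GrLC.IsGrHom (E''.X n).gr (E'.X (n + 2)).gr (-(E'.d (n + 1) ∘ₗ s.θ)) := by
    intro k x hx
    rw [LinearMap.neg_apply, LinearMap.comp_apply]
    exact neg_mem (E'.d_grHom (n + 1) k _ (s.hom k x hx))
  obtain ⟨h, hh, hhd⟩ := exists_extension 𝒜 (E''.X (n + 1)) (E'.X (n + 2)) (E''.X n).gr
    (E'.starInj (n + 2)) (E''.d n) (E''.d_grHom n) (-(E'.d (n + 1) ∘ₗ s.θ)) hγ hker
  refine ⟨⟨h, hh, ?_⟩, fun x => by
    have := hhd x
    rw [LinearMap.neg_apply, LinearMap.comp_apply] at this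
    exact this⟩
  intro x hx
  have hx' : x ∈ LinearMap.range (E''.d n) := by rw [← E''.exact_succ n]; exact hx
  obtain ⟨y, rfl⟩ := hx'
  have := hhd y
  rw [LinearMap.neg_apply, LinearMap.comp_apply] at this
  rw [this, map_neg, GrHmap.E_d_d, neg_zero]

include hf hg hfinj hgsurj hex in
/-- The twisting data of the horseshoe exist. -/
theorem exists_hdata : Nonempty (HData ℳ f g E' E'') := by
  obtain ⟨σ, hσ, hσf⟩ := exists_σ f E' hf hfinj
  obtain ⟨s0, hs0⟩ := exists_tstage_zero f g E' E'' hg hgsurj hex σ hσ hσf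
  choose next hnext using exists_tstage_succ E' E''
  let S : ∀ n, TStage E' E'' n := fun n => Nat.rec s0 (fun n s => next n s) n
  exact ⟨{ σ := σ, σ_hom := hσ, σ_f := hσf, θ := fun n => (S n).θ, θ_hom := fun n => (S n).hom,
           θ_zero := hs0, θ_succ := fun n x => hnext n (S n) x }⟩

end Exists

section Horse

variable {f g E' E''}
variable (D : HData ℳ f g E' E'')

/-- The differential of the horseshoe resolution. -/
def hd (n : ℕ) : (E'.X n).carrier × (E''.X n).carrier →ₗ[R]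
    (E'.X (n + 1)).carrier × (E''.X (n + 1)).carrier :=
  LinearMap.prod (E'.d n ∘ₗ LinearMap.fst R _ _ + D.θ n ∘ₗ LinearMap.snd R _ _)
    (E''.d n ∘ₗ LinearMap.snd R _ _)

theorem hd_apply (n : ℕ) (x' : (E'.X n).carrier) (x'' : (E''.X n).carrier) :
    hd D n (x', x'') = (E'.d n x' + D.θ n x'', E''.d n x'') := rfl

/-- The augmentation of the horseshoe resolution. -/
def hε : M →ₗ[R] (E'.X 0).carrier × (E''.X 0).carrier :=
  LinearMap.prod D.σ (E''.ε ∘ₗ g)

theorem hε_apply (m : M) : hε D m = (D.σ m, E''.ε (g m)) := rfl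

theorem hd_grHom (n : ℕ) :
    GrLC.IsGrHom (prodGr (E'.X n).gr (E''.X n).gr) (prodGr (E'.X (n + 1)).gr (E''.X (n + 1)).gr)
      (hd D n) := by
  rintro k ⟨x', x''⟩ hx
  obtain ⟨h1, h2⟩ := (mem_prodGr _ _).mp hx
  rw [hd_apply]
  exact (mem_prodGr _ _).mpr
    ⟨add_mem (E'.d_grHom n k _ h1) (D.θ_hom n k _ h2), E''.d_grHom n k _ h2⟩

theorem hε_grHom (hg : GrLC.IsGrHom ℳ ℳ'' g) :
    GrLC.IsGrHom ℳ (prodGr (E'.X 0).gr (E''.X 0).gr) (hε D) := by
  intro k m hm
  rw [hε_apply]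
  exact (mem_prodGr _ _).mpr ⟨D.σ_hom k m hm, E''.ε_grHom k _ (hg k m hm)⟩

theorem hε_injective (hex : Function.Exact f g) :
    Function.Injective (hε D) := by
  rw [injective_iff_map_eq_zero]
  intro m hm
  rw [hε_apply, Prod.mk_eq_zero] at hm
  have hgm : g m = 0 := E''.ε_injective (by rw [hm.2, map_zero])
  obtain ⟨m', rfl⟩ := (hex m).mp hgm
  have h1 := hm.1
  rw [D.σ_f] at h1
  have : m' = 0 := E'.ε_injective (by rw [h1, map_zero])
  rw [this, map_zero]

theorem g_f (hex : Function.Exact f g) (m' : M') : g (f m') = 0 :=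
  (hex (f m')).mpr ⟨m', rfl⟩

theorem hε_f (hex : Function.Exact f g) (m' : M') : hε D (f m') = (E'.ε m', 0) := by
  rw [hε_apply, D.σ_f, g_f hex, map_zero]

theorem h_exact_zero (hgsurj : Function.Surjective g) (hex : Function.Exact f g) :
    LinearMap.ker (hd D 0) = LinearMap.range (hε D) := by
  apply le_antisymm
  · rintro ⟨x', x''⟩ hx
    rw [LinearMap.mem_ker, hd_apply, Prod.mk_eq_zero] at hx
    obtain ⟨h1, h2⟩ := hx
    have hx'' : x'' ∈ LinearMap.range E''.ε := by rw [← E''.exact_zero]; exact h2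
    obtain ⟨m'', rfl⟩ := hx''
    obtain ⟨m, rfl⟩ := hgsurj m''
    rw [D.θ_zero, ← sub_eq_add_neg, ← map_sub] at h1
    have hx' : x' - D.σ m ∈ LinearMap.range E'.ε := by rw [← E'.exact_zero]; exact h1
    obtain ⟨m', hm'⟩ := hx'
    refine ⟨m + f m', ?_⟩
    rw [map_add, hε_f D hex, hε_apply, hm', Prod.mk_add_mk, add_zero, add_sub_cancel]
  · rintro _ ⟨m, rfl⟩
    rw [LinearMap.mem_ker, hε_apply, hd_apply, D.θ_zero, add_neg_cancel, GrHmap.E_d_ε]
    rfl

theorem h_exact_succ (n : ℕ) :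
    LinearMap.ker (hd D (n + 1)) = LinearMap.range (hd D n) := by
  apply le_antisymm
  · rintro ⟨x', x''⟩ hx
    rw [LinearMap.mem_ker, hd_apply, Prod.mk_eq_zero] at hx
    obtain ⟨h1, h2⟩ := hx
    have hx'' : x'' ∈ LinearMap.range (E''.d n) := by rw [← E''.exact_succ n]; exact h2
    obtain ⟨y'', rfl⟩ := hx''
    rw [D.θ_succ, ← sub_eq_add_neg, ← map_sub] at h1
    have hx' : x' - D.θ n y'' ∈ LinearMap.range (E'.d n) := by
      rw [← E'.exact_succ n]; exact h1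
    obtain ⟨y', hy'⟩ := hx'
    refine ⟨(y', y''), ?_⟩
    rw [hd_apply, hy', sub_add_cancel]
  · rintro _ ⟨⟨y', y''⟩, rfl⟩
    rw [LinearMap.mem_ker, hd_apply, hd_apply, map_add, GrHmap.E_d_d, zero_add, D.θ_succ,
      add_neg_cancel, GrHmap.E_d_d]
    rfl

variable (hg : GrLC.IsGrHom ℳ ℳ'' g)
  (hgsurj : Function.Surjective g) (hex : Function.Exact f g)

/-- The horseshoe resolution of the middle term. -/
def horse : GrLC.StarInjRes 𝒜 ℳ where
  X n := gprod 𝒜 (E'.X n) (E''.X n)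
  d n := hd D n
  ε := hε D
  d_grHom n := hd_grHom D n
  ε_grHom := hε_grHom D hg
  ε_injective := hε_injective D hex
  exact_zero := h_exact_zero D hgsurj hex
  exact_succ n := h_exact_succ D n
  starInj n := isStarInj_prod (E'.X n) (E''.X n) (E'.starInj n) (E''.starInj n)

end Horse


section LES

open Groth.Agent.Lib.Helper29Cone

variable {f g E' E''}
variable (D : HData ℳ f g E' E'') (hg : GrLC.IsGrHom ℳ ℳ'' g)
  (hgsurj : Function.Surjective g) (hex : Function.Exact f g) (a : HomogeneousIdeal 𝒜)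

/-- The inclusion of `E'` into the horseshoe resolution. -/
def ιmap (n : ℕ) : (E'.X n).carrier →ₗ[R] ((horse D hg hgsurj hex).X n).carrier :=
  LinearMap.inl R (E'.X n).carrier (E''.X n).carrier

theorem ιmap_apply (n : ℕ) (x : (E'.X n).carrier) :
    ιmap D hg hgsurj hex n x = ((x, 0) : (E'.X n).carrier × (E''.X n).carrier) := rfl

theorem ιmap_chain (n : ℕ) (x : (E'.X n).carrier) :
    ιmap D hg hgsurj hex (n + 1) (E'.d n x) =
      (horse D hg hgsurj hex).d n (ιmap D hg hgsurj hex n x) := by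
  show ((E'.d n x, 0) : (E'.X (n + 1)).carrier × (E''.X (n + 1)).carrier) = hd D n (x, 0)
  rw [hd_apply, map_zero, map_zero, add_zero]

theorem ιmap_hom (n : ℕ) :
    GrLC.IsGrHom (E'.X n).gr ((horse D hg hgsurj hex).X n).gr (ιmap D hg hgsurj hex n) := by
  intro k x hx
  exact (mem_prodGr (E'.X n).gr (E''.X n).gr).mpr ⟨hx, zero_mem _⟩

/-- The projection of the horseshoe resolution onto `E''`. -/
def πmap (n : ℕ) : ((horse D hg hgsurj hex).X n).carrier →ₗ[R] (E''.X n).carrier :=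
  LinearMap.snd R (E'.X n).carrier (E''.X n).carrier

theorem πmap_chain (n : ℕ) (x : ((horse D hg hgsurj hex).X n).carrier) :
    πmap D hg hgsurj hex (n + 1) ((horse D hg hgsurj hex).d n x) =
      E''.d n (πmap D hg hgsurj hex n x) := rfl

theorem πmap_hom (n : ℕ) :
    GrLC.IsGrHom ((horse D hg hgsurj hex).X n).gr (E''.X n).gr (πmap D hg hgsurj hex n) := by
  intro k x hx
  exact ((mem_prodGr (E'.X n).gr (E''.X n).gr).mp hx).2

/-- `H(E') → H(horse)`. -/
def hα (i : ℕ) : E'.H a i →ₗ[R] (horse D hg hgsurj hex).H a i :=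
  Hmap E' (horse D hg hgsurj hex) a (ιmap D hg hgsurj hex) (ιmap_chain D hg hgsurj hex) i

/-- `H(horse) → H(E'')`. -/
def hβ (i : ℕ) : (horse D hg hgsurj hex).H a i →ₗ[R] E''.H a i :=
  Hmap (horse D hg hgsurj hex) E'' a (πmap D hg hgsurj hex) (πmap_chain D hg hgsurj hex) i

theorem isGrHom_hα (i : ℕ) :
    GrLC.IsGrHom (E'.Hgr a i) ((horse D hg hgsurj hex).Hgr a i) (hα D hg hgsurj hex a i) :=
  isGrHom_Hmap _ _ a _ _ i (ιmap_hom D hg hgsurj hex i)

theorem isGrHom_hβ (i : ℕ) :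
    GrLC.IsGrHom ((horse D hg hgsurj hex).Hgr a i) (E''.Hgr a i) (hβ D hg hgsurj hex a i) :=
  isGrHom_Hmap _ _ a _ _ i (πmap_hom D hg hgsurj hex i)

theorem θ_mem_cocyc (i : ℕ) : ∀ x ∈ E''.cocyc a i, D.θ i x ∈ E'.cocyc a (i + 1) := by
  rintro x ⟨hx1, hx2⟩
  refine ⟨map_mem_gam a.toIdeal (D.θ i) hx1, ?_⟩
  have hx2' : E''.d i x = 0 := hx2
  show E'.d (i + 1) (D.θ i x) = 0
  have := D.θ_succ i x
  rw [hx2', map_zero] at this
  exact neg_eq_zero.mp this.symm

theorem θ_mem_cobdy (i : ℕ) : ∀ x ∈ E''.cobdy a i, D.θ i x ∈ E'.cobdy a (i + 1) := by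
  intro x hx
  cases i with
  | zero =>
    have hx0 : x = 0 := (Submodule.mem_bot R).mp hx
    rw [hx0, map_zero]; exact zero_mem _
  | succ n =>
    obtain ⟨w, hw, rfl⟩ := hx
    refine ⟨-D.θ n w, neg_mem (map_mem_gam a.toIdeal (D.θ n) hw), ?_⟩
    rw [map_neg, D.θ_succ]

/-- The connecting map on cocycles. -/
def δcocyc (i : ℕ) : ↥(E''.cocyc a i) →ₗ[R] ↥(E'.cocyc a (i + 1)) :=
  (D.θ i).restrict (θ_mem_cocyc D a i)

/-- The connecting homomorphism `H^i(E'') → H^{i+1}(E')`. -/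
def hδ (i : ℕ) : E''.H a i →ₗ[R] E'.H a (i + 1) :=
  Submodule.mapQ _ _ (δcocyc D a i) (fun x hx => θ_mem_cobdy D a i x hx)

theorem hδ_toH (i : ℕ) (z : ↥(E''.cocyc a i)) :
    hδ D a i (E''.toH a i z) = E'.toH a (i + 1) (δcocyc D a i z) := rfl

theorem isGrHom_hδ (i : ℕ) : GrLC.IsGrHom (E''.Hgr a i) (E'.Hgr a (i + 1)) (hδ D a i) := by
  rintro k _ ⟨z, hz, rfl⟩
  rw [hδ_toH]
  exact ⟨δcocyc D a i z, D.θ_hom i k _ hz, rfl⟩

theorem toH_eq_zero_iff {N : Type u} [AddCommGroup N] [Module R N] {𝒩 : ι → AddSubgroup N}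
    [DirectSum.Decomposition 𝒩] [SetLike.GradedSMul 𝒜 𝒩] (E : GrLC.StarInjRes 𝒜 𝒩) (i : ℕ)
    (z : ↥(E.cocyc a i)) : E.toH a i z = 0 ↔ (z : (E.X i).carrier) ∈ E.cobdy a i := by
  rw [Submodule.mkQ_apply, Submodule.Quotient.mk_eq_zero]
  rfl

theorem toH_eq_iff {N : Type u} [AddCommGroup N] [Module R N] {𝒩 : ι → AddSubgroup N}
    [DirectSum.Decomposition 𝒩] [SetLike.GradedSMul 𝒜 𝒩] (E : GrLC.StarInjRes 𝒜 𝒩) (i : ℕ)
    (z w : ↥(E.cocyc a i)) :
    E.toH a i z = E.toH a i w ↔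
      (z : (E.X i).carrier) - (w : (E.X i).carrier) ∈ E.cobdy a i := by
  rw [Submodule.mkQ_apply, Submodule.mkQ_apply, Submodule.Quotient.eq]
  rfl

theorem mem_gam_horse (n : ℕ) (x' : (E'.X n).carrier) (x'' : (E''.X n).carrier) :
    ((x', x'') : (E'.X n).carrier × (E''.X n).carrier) ∈
        GrLC.gam a.toIdeal ((horse D hg hgsurj hex).X n).carrier ↔
      x' ∈ GrLC.gam a.toIdeal (E'.X n).carrier ∧ x'' ∈ GrLC.gam a.toIdeal (E''.X n).carrier :=
  mem_gam_prod a.toIdeal (A := (E'.X n).carrier) (B := (E''.X n).carrier) (x', x'')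

theorem horse_d_apply (n : ℕ) (x' : (E'.X n).carrier) (x'' : (E''.X n).carrier) :
    (horse D hg hgsurj hex).d n ((x', x'') : (E'.X n).carrier × (E''.X n).carrier) =
      ((E'.d n x' + D.θ n x'', E''.d n x'') :
        (E'.X (n + 1)).carrier × (E''.X (n + 1)).carrier) := rfl

/-- A cocycle of the horseshoe, in components. -/
theorem mem_cocyc_horse (n : ℕ) (x' : (E'.X n).carrier) (x'' : (E''.X n).carrier) :
    ((x', x'') : (E'.X n).carrier × (E''.X n).carrier) ∈ (horse D hg hgsurj hex).cocyc a n ↔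
      (x' ∈ GrLC.gam a.toIdeal (E'.X n).carrier ∧ x'' ∈ GrLC.gam a.toIdeal (E''.X n).carrier) ∧
        E'.d n x' + D.θ n x'' = 0 ∧ E''.d n x'' = 0 := by
  constructor
  · rintro ⟨h1, h2⟩
    refine ⟨(mem_gam_horse D hg hgsurj hex a n x' x'').mp h1, ?_⟩
    have h2' : (horse D hg hgsurj hex).d n
        ((x', x'') : (E'.X n).carrier × (E''.X n).carrier) = 0 := h2
    rw [horse_d_apply] at h2'
    exact Prod.mk_eq_zero.mp h2'
  · rintro ⟨h1, h2, h3⟩
    refine ⟨(mem_gam_horse D hg hgsurj hex a n x' x'').mpr h1, ?_⟩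
    show (horse D hg hgsurj hex).d n
        ((x', x'') : (E'.X n).carrier × (E''.X n).carrier) = 0
    rw [horse_d_apply, h2, h3]
    rfl

theorem exact_hα_hβ (i : ℕ) :
    Function.Exact (hα D hg hgsurj hex a i) (hβ D hg hgsurj hex a i) := by
  intro y
  constructor
  · intro hy
    obtain ⟨⟨⟨x', x''⟩, hz⟩, rfl⟩ := Submodule.mkQ_surjective _ y
    obtain ⟨⟨hx'g, hx''g⟩, hc1, hc2⟩ := (mem_cocyc_horse D hg hgsurj hex a i x' x'').mp hz
    have hy' : hβ D hg hgsurj hex a i ((horse D hg hgsurj hex).toH a i ⟨(x', x''), hz⟩) = 0 := hy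
    rw [hβ, Hmap_toH, toH_eq_zero_iff] at hy'
    have hx''b : x'' ∈ E''.cobdy a i := hy'
    cases i with
    | zero =>
      have hx0 : x'' = 0 := (Submodule.mem_bot R).mp hx''b
      subst hx0
      rw [map_zero, add_zero] at hc1
      refine ⟨E'.toH a 0 ⟨x', hx'g, hc1⟩, ?_⟩
      rfl
    | succ n =>
      obtain ⟨w, hw, rfl⟩ := hx''b
      have hz'g : x' - D.θ n w ∈ GrLC.gam a.toIdeal (E'.X (n + 1)).carrier :=
        sub_mem hx'g (map_mem_gam a.toIdeal (D.θ n) hw)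
      have hz'd : E'.d (n + 1) (x' - D.θ n w) = 0 := by
        rw [map_sub, sub_eq_add_neg, ← D.θ_succ]
        exact hc1
      refine ⟨E'.toH a (n + 1) ⟨x' - D.θ n w, hz'g, hz'd⟩, ?_⟩
      show (horse D hg hgsurj hex).toH a (n + 1)
        (cocycMap E' (horse D hg hgsurj hex) a (ιmap D hg hgsurj hex)
          (ιmap_chain D hg hgsurj hex) (n + 1) ⟨x' - D.θ n w, hz'g, hz'd⟩) = _
      rw [toH_eq_iff]
      refine ⟨((0, -w) : (E'.X n).carrier × (E''.X n).carrier),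
        (mem_gam_horse D hg hgsurj hex a n 0 (-w)).mpr ⟨zero_mem _, neg_mem hw⟩, ?_⟩
      rw [horse_d_apply, map_zero, zero_add, map_neg, map_neg]
      show _ = ((x' - D.θ n w, 0) : (E'.X (n + 1)).carrier × (E''.X (n + 1)).carrier) -
        (x', E''.d n w)
      rw [Prod.mk_sub_mk, sub_sub_cancel_left, zero_sub]
  · rintro ⟨y', rfl⟩
    obtain ⟨z', rfl⟩ := Submodule.mkQ_surjective _ y'
    show hβ D hg hgsurj hex a i (hα D hg hgsurj hex a i (E'.toH a i z')) = 0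
    rw [hα, Hmap_toH, hβ, Hmap_toH, toH_eq_zero_iff]
    show (0 : (E''.X i).carrier) ∈ E''.cobdy a i
    exact zero_mem _

theorem exact_hβ_hδ (i : ℕ) :
    Function.Exact (hβ D hg hgsurj hex a i) (hδ D a i) := by
  intro y''
  constructor
  · intro hy
    obtain ⟨z'', rfl⟩ := Submodule.mkQ_surjective _ y''
    have hy' : hδ D a i (E''.toH a i z'') = 0 := hy
    rw [hδ_toH, toH_eq_zero_iff] at hy'
    obtain ⟨y', hy'g, hy'd⟩ := hy'
    have hy'd' : E'.d i y' = D.θ i (z'' : (E''.X i).carrier) := hy'd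
    have hp : ((-y', (z'' : (E''.X i).carrier)) : (E'.X i).carrier × (E''.X i).carrier) ∈
        (horse D hg hgsurj hex).cocyc a i := by
      refine (mem_cocyc_horse D hg hgsurj hex a i _ _).mpr ⟨⟨neg_mem hy'g, z''.2.1⟩, ?_, z''.2.2⟩
      rw [map_neg, hy'd', neg_add_cancel]
    refine ⟨(horse D hg hgsurj hex).toH a i ⟨_, hp⟩, ?_⟩
    rw [hβ, Hmap_toH]
    rfl
  · rintro ⟨y, rfl⟩
    obtain ⟨⟨⟨x', x''⟩, hz⟩, rfl⟩ := Submodule.mkQ_surjective _ y
    obtain ⟨⟨hx'g, hx''g⟩, hc1, hc2⟩ := (mem_cocyc_horse D hg hgsurj hex a i x' x'').mp hz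
    show hδ D a i (hβ D hg hgsurj hex a i
      ((horse D hg hgsurj hex).toH a i ⟨(x', x''), hz⟩)) = 0
    rw [hβ, Hmap_toH, hδ_toH, toH_eq_zero_iff]
    show D.θ i x'' ∈ E'.cobdy a (i + 1)
    refine ⟨-x', neg_mem hx'g, ?_⟩
    rw [map_neg]
    exact (eq_neg_of_add_eq_zero_right hc1).symm

theorem exact_hδ_hα (i : ℕ) :
    Function.Exact (hδ D a i) (hα D hg hgsurj hex a (i + 1)) := by
  intro y'
  constructor
  · intro hy
    obtain ⟨z', rfl⟩ := Submodule.mkQ_surjective _ y'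
    have hy' : hα D hg hgsurj hex a (i + 1) (E'.toH a (i + 1) z') = 0 := hy
    rw [hα, Hmap_toH, toH_eq_zero_iff] at hy'
    obtain ⟨⟨w', w''⟩, hwg, hwd⟩ := hy'
    obtain ⟨hw'g, hw''g⟩ := (mem_gam_horse D hg hgsurj hex a i w' w'').mp hwg
    have hwd' : ((E'.d i w' + D.θ i w'', E''.d i w'') :
        (E'.X (i + 1)).carrier × (E''.X (i + 1)).carrier) =
        ((z' : (E'.X (i + 1)).carrier), 0) := hwd
    rw [Prod.mk.injEq] at hwd'
    obtain ⟨e1, e2⟩ := hwd'
    refine ⟨E''.toH a i ⟨w'', hw''g, e2⟩, ?_⟩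
    rw [hδ_toH, toH_eq_iff]
    show D.θ i w'' - (z' : (E'.X (i + 1)).carrier) ∈ E'.cobdy a (i + 1)
    refine ⟨-w', neg_mem hw'g, ?_⟩
    rw [map_neg, ← e1]
    abel
  · rintro ⟨y'', rfl⟩
    obtain ⟨z'', rfl⟩ := Submodule.mkQ_surjective _ y''
    show hα D hg hgsurj hex a (i + 1) (hδ D a i (E''.toH a i z'')) = 0
    rw [hδ_toH, hα, Hmap_toH, toH_eq_zero_iff]
    refine ⟨((0, (z'' : (E''.X i).carrier)) : (E'.X i).carrier × (E''.X i).carrier),
      (mem_gam_horse D hg hgsurj hex a i 0 _).mpr ⟨zero_mem _, z''.2.1⟩, ?_⟩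
    have hz2 : E''.d i (z'' : (E''.X i).carrier) = 0 := z''.2.2
    rw [horse_d_apply, map_zero, zero_add, hz2]
    rfl

end LES


section General

variable [Module.Free ℤ ι] [Module.Finite ℤ ι] [IsNoetherianRing R]
variable (hf : GrLC.IsGrHom ℳ' ℳ f) (hg : GrLC.IsGrHom ℳ ℳ'' g)
  (hfinj : Function.Injective f) (hgsurj : Function.Surjective g) (hex : Function.Exact f g)
variable (E : GrLC.StarInjRes 𝒜 ℳ) (a : HomogeneousIdeal 𝒜)
variable (φ : ∀ n, (E'.X n).carrier →ₗ[R] (E.X n).carrier)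
  (hφ : ∀ (n : ℕ) (x : (E'.X n).carrier), φ (n + 1) (E'.d n x) = E.d n (φ n x))
  (hφhom : ∀ n, GrLC.IsGrHom (E'.X n).gr (E.X n).gr (φ n))
  (hφ0 : ∀ m' : M', φ 0 (E'.ε m') = E.ε (f m'))

include hf hg hfinj hgsurj hex hφhom hφ0 in
/-- **The long exact sequence of graded local cohomology**, for arbitrary *injective resolutions
`E'`, `E`, `E''` of the terms of a short exact sequence `0 → M' → M → M'' → 0` in the graded
category; the first map is the one induced by a given homogeneous chain map `φ : E' → E` over `f`;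
the connecting map is homogeneous. -/
theorem exists_les (i : ℕ) :
    ∃ (β : E.H a i →ₗ[R] E''.H a i) (δ : E''.H a i →ₗ[R] E'.H a (i + 1)),
      GrLC.IsGrHom (E''.Hgr a i) (E'.Hgr a (i + 1)) δ ∧
      Function.Exact (Hmap E' E a φ hφ i) β ∧ Function.Exact β δ ∧
      Function.Exact δ (Hmap E' E a φ hφ (i + 1)) := by
  obtain ⟨D⟩ := exists_hdata f g E' E'' hf hg hfinj hgsurj hex
  obtain ⟨c, hchom, hc0, hc⟩ := exists_comparison 𝒜 ℳ (horse D hg hgsurj hex).X
    (horse D hg hgsurj hex).d (horse D hg hgsurj hex).ε (horse D hg hgsurj hex).d_grHom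
    (horse D hg hgsurj hex).ε_grHom (horse D hg hgsurj hex).exact_zero
    (horse D hg hgsurj hex).exact_succ E (horse D hg hgsurj hex).ε_injective
  have hCbij : ∀ j, Function.Bijective (Hmap (horse D hg hgsurj hex) E a c hc j) :=
    fun j => Hmap_bijective a (horse D hg hgsurj hex) E c hc hc0 j
  have haug : ∀ m' : M', φ 0 (E'.ε m') = (c 0 ∘ₗ ιmap D hg hgsurj hex 0) (E'.ε m') := by
    intro m'
    rw [hφ0, LinearMap.comp_apply, ιmap_apply, ← hε_f D hex m']
    exact (hc0 (f m')).symm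
  have hfac : ∀ (j : ℕ) (y : E'.H a j), Hmap E' E a φ hφ j y =
      Hmap (horse D hg hgsurj hex) E a c hc j (hα D hg hgsurj hex a j y) := by
    intro j y
    rw [hα, ← Hmap_comp]
    rw [Hmap_eq_of_aug_eq E' E a φ (fun n => c n ∘ₗ ιmap D hg hgsurj hex n) hφ
      (comp_chain E' (horse D hg hgsurj hex) E (ιmap D hg hgsurj hex)
        (ιmap_chain D hg hgsurj hex) c hc) hφhom
      (fun n k x hx => hchom n k _ (ιmap_hom D hg hgsurj hex n k x hx)) haug j]
  let C : (horse D hg hgsurj hex).H a i ≃ₗ[R] E.H a i := LinearEquiv.ofBijective _ (hCbij i)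
  have hC : ∀ w, C w = Hmap (horse D hg hgsurj hex) E a c hc i w := fun w => rfl
  refine ⟨hβ D hg hgsurj hex a i ∘ₗ C.symm.toLinearMap, hδ D a i, isGrHom_hδ D a i, ?_, ?_, ?_⟩
  · intro y
    rw [LinearMap.comp_apply, LinearEquiv.coe_coe, exact_hα_hβ D hg hgsurj hex a i (C.symm y)]
    constructor
    · rintro ⟨y', hy'⟩
      refine ⟨y', ?_⟩
      rw [hfac, hy', ← hC, LinearEquiv.apply_symm_apply]
    · rintro ⟨y', hy'⟩
      refine ⟨y', ?_⟩
      rw [← hy', hfac, ← hC, LinearEquiv.symm_apply_apply]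
  · intro y''
    rw [exact_hβ_hδ D hg hgsurj hex a i y'']
    constructor
    · rintro ⟨w, hw⟩
      refine ⟨C w, ?_⟩
      rw [LinearMap.comp_apply, LinearEquiv.coe_coe, LinearEquiv.symm_apply_apply, hw]
    · rintro ⟨y, hy⟩
      exact ⟨C.symm y, hy⟩
  · intro y'
    rw [← exact_hδ_hα D hg hgsurj hex a i y', hfac]
    constructor
    · intro h
      apply (hCbij (i + 1)).1
      rw [h, map_zero]
    · intro h
      rw [h, map_zero]

end General

end Groth.Agent.Lib.Seat97.GrHorse
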