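import Mathlib
import Groth.Prelude.Def_GrSeg
import Groth.Prelude.Def_GrLC
import Groth.Agent.Lib.Helper24GrDual
import Groth.Agent.Lib.Helper24GrDual2
import Groth.Agent.Lib.Helper24GrDual3

/-!
# Graded Matlis duality over a graded ring defined over a field (seat 97)

`M` finite ⇒ `M^*` Artinian; `M` Artinian ⇒ `M^*` finite; in both cases `M = M^{**}`.
-/

set_option autoImplicit false
set_option linter.unusedSectionVars false
set_option linter.style.haveILetI false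
universe u
open DirectSum

namespace Groth.Agent.Lib.Seat97.GrMatlis

open Groth.Agent.Lib.Helper24GrDual Groth.Agent.Lib.Helper24GrDual2 Groth.Agent.Lib.Helper24GrDual3

variable {k : Type u} [Field k] {R : Type u} [CommRing R] [Algebra k R]
  (𝒜 : ℤ → Submodule k R) [GradedAlgebra 𝒜]
  {M : Type u} [AddCommGroup M] [Module R M] [Module k M] [IsScalarTower k R M]
  (ℳ : ℤ → AddSubgroup M) [DirectSum.Decomposition ℳ] [SetLike.GradedSMul 𝒜 ℳ]
  {D : Type u} [AddCommGroup D] [Module R D] [Module k D] [IsScalarTower k R D]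
  (𝒟 : ℤ → AddSubgroup D) [DirectSum.Decomposition 𝒟] [SetLike.GradedSMul 𝒜 𝒟]
  (β : D →ₗ[k] M →ₗ[k] k)

section Flip

theorem flip_isGDual (hD : GrSeg.IsGDual R ℳ 𝒟 β)
    (hfd : ∀ m, Module.Finite k (pieceSub 𝒜 ℳ m)) : GrSeg.IsGDual R 𝒟 ℳ β.flip where
  map_smul r x d := by
    simp only [LinearMap.flip_apply]
    exact (hD.map_smul r d x).symm
  vanish n x hx m hm d hd := by
    rw [LinearMap.flip_apply]
    exact hD.vanish m d hd n (by omega) x hx
  eq_zero n x hx h := by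
    apply eq_zero_of_pairing ℳ 𝒟 β hD x
    intro d
    have hx' : x ∈ ℳ (-(-n)) := by rwa [neg_neg]
    rw [← pairD_P' ℳ 𝒟 β hD hx' d]
    exact h _ (P_mem 𝒟 (-n) d)
  exists_eq n g := by
    haveI := hfd n
    exact exists_on_piece 𝒜 ℳ 𝒟 β hD n g

end Flip

section Key

/-- Restriction of the pairing to the piece `M_{-j}`. -/
noncomputable def res (j : ℤ) : D →ₗ[k] Module.Dual k (pieceSub 𝒜 ℳ (-j)) where
  toFun d := (β d) ∘ₗ (pieceSub 𝒜 ℳ (-j)).subtype
  map_add' d d' := by ext; simp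
  map_smul' c d := by ext; simp

theorem res_apply (j : ℤ) (d : D) (v : pieceSub 𝒜 ℳ (-j)) : res 𝒜 ℳ β j d v = β d (v : M) := rfl

/-- Finite-dimensional duality on one piece. -/
theorem key (hD : GrSeg.IsGDual R ℳ 𝒟 β) (j : ℤ) [Module.Finite k (pieceSub 𝒜 ℳ (-j))]
    (Γ : Submodule k D) (hΓ : ∀ d ∈ Γ, d ∈ 𝒟 j) {d' : D} (hd' : d' ∈ 𝒟 j)
    (h : ∀ x ∈ ℳ (-j), (∀ d ∈ Γ, β d x = 0) → β d' x = 0) : d' ∈ Γ := by
  have h1 : res 𝒜 ℳ β j d' ∈ (Γ.map (res 𝒜 ℳ β j)).dualCoannihilator.dualAnnihilator := by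
    rw [Submodule.mem_dualAnnihilator]
    intro v hv
    rw [Submodule.mem_dualCoannihilator] at hv
    rw [res_apply]
    apply h v.1 v.2
    intro d hd
    exact hv _ (Submodule.mem_map_of_mem hd)
  rw [Subspace.dualCoannihilator_dualAnnihilator_eq] at h1
  obtain ⟨d, hd, hdd⟩ := h1
  have h0 : d - d' = 0 := hD.eq_zero j _ (sub_mem (hΓ d hd) hd') (fun x hx => by
    have h2 := LinearMap.congr_fun hdd ⟨x, hx⟩
    rw [res_apply, res_apply] at h2
    rw [map_sub, LinearMap.sub_apply, h2, sub_self])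
  rw [← sub_eq_zero.1 h0]
  exact hd

theorem dual_pieceSub_finite (hD : GrSeg.IsGDual R ℳ 𝒟 β) (j : ℤ)
    [Module.Finite k (pieceSub 𝒜 ℳ (-j))] : Module.Finite k (pieceSub 𝒜 𝒟 j) := by
  apply Module.Finite.of_injective ((res 𝒜 ℳ β j) ∘ₗ (pieceSub 𝒜 𝒟 j).subtype)
  intro d d' hdd
  have h0 : (d : D) - (d' : D) = 0 := hD.eq_zero j _ (sub_mem d.2 d'.2) (fun x hx => by
    have h2 := LinearMap.congr_fun hdd ⟨x, hx⟩
    simp only [LinearMap.comp_apply, Submodule.subtype_apply, res_apply] at h2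
    rw [map_sub, LinearMap.sub_apply, h2, sub_self])
  exact Subtype.ext (sub_eq_zero.1 h0)

end Key

section Artinian

variable (hpos : ∀ n : ℤ, n < 0 → 𝒜 n = ⊥)

theorem geSub_anti {m n : ℤ} (h : m ≤ n) : geSub 𝒜 ℳ hpos n ≤ geSub 𝒜 ℳ hpos m :=
  fun _ hz j hj => hz j (lt_of_lt_of_le hj h)

theorem mem_geSub_of_mem {n : ℤ} {x : M} (hx : x ∈ ℳ n) : x ∈ geSub 𝒜 ℳ hpos n :=
  fun _ hj => P_of_mem_ne ℳ hx (by omega)

include hpos in
/-- An Artinian graded module is bounded above. -/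
theorem bounded_above_of_isArtinian [IsArtinian R M] :
    ∃ N : ℤ, ∀ i : ℤ, N < i → ∀ x ∈ ℳ i, x = 0 := by
  let f : ℕ →o (Submodule R M)ᵒᵈ :=
    ⟨fun n => OrderDual.toDual (geSub 𝒜 ℳ hpos (n : ℤ)), fun a b hab =>
      geSub_anti 𝒜 ℳ hpos (by exact_mod_cast hab)⟩
  obtain ⟨n, hn⟩ := IsArtinian.monotone_stabilizes f
  refine ⟨n, fun i hi x hx => ?_⟩
  obtain ⟨i', rfl⟩ : ∃ i' : ℕ, (i' : ℤ) = i := ⟨i.toNat, Int.toNat_of_nonneg (by omega)⟩
  have h1 : geSub 𝒜 ℳ hpos (i' : ℤ) = geSub 𝒜 ℳ hpos ((i' + 1 : ℕ) : ℤ) := by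
    have e1 := hn i' (by omega)
    have e2 := hn (i' + 1) (by omega)
    have e3 : f i' = f (i' + 1) := e1.symm.trans e2
    exact e3
  have h2 : x ∈ geSub 𝒜 ℳ hpos ((i' + 1 : ℕ) : ℤ) := by
    rw [← h1]; exact mem_geSub_of_mem 𝒜 ℳ hpos hx
  have h3 := h2 (i' : ℤ) (by push_cast; omega)
  rwa [P_of_mem_same ℳ hx] at h3

variable (h0R : 𝒜 0 = Submodule.span k {(1 : R)})

/-- The `R`-submodule `V + M_{>n}` attached to a subspace `V ⊆ M_n`. -/
def PsiSub (n : ℤ) (V : Submodule k (pieceSub 𝒜 ℳ n)) : Submodule R M where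
  carrier := {z | z ∈ geSub 𝒜 ℳ hpos n ∧ P ℳ n z ∈ V.map (pieceSub 𝒜 ℳ n).subtype}
  add_mem' := by
    rintro x y ⟨hx, hx'⟩ ⟨hy, hy'⟩
    refine ⟨add_mem hx hy, ?_⟩
    rw [P_add]
    exact add_mem hx' hy'
  zero_mem' := ⟨zero_mem _, by rw [P_zero]; exact zero_mem _⟩
  smul_mem' := by
    rintro r z ⟨hz, hz'⟩
    refine ⟨Submodule.smul_mem _ r hz, ?_⟩
    rw [P_smul_of_ge 𝒜 ℳ hpos hz r]
    have h1 : ((DirectSum.decompose 𝒜 r 0 : 𝒜 0) : R) ∈ Submodule.span k {(1 : R)} := by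
      rw [← h0R]; exact (DirectSum.decompose 𝒜 r 0).2
    obtain ⟨c, hc⟩ := Submodule.mem_span_singleton.1 h1
    rw [← hc, smul_assoc, one_smul]
    exact Submodule.smul_mem _ c hz'

theorem PsiSub_strictMono (n : ℤ) : StrictMono (PsiSub 𝒜 ℳ hpos h0R n) := by
  intro V V' hVV'
  refine lt_of_le_of_ne ?_ ?_
  · rintro z ⟨hz, hz'⟩
    exact ⟨hz, Submodule.map_mono hVV'.le hz'⟩
  · intro e
    obtain ⟨v, hv', hv⟩ := SetLike.exists_of_lt hVV'
    have hvn : (v : M) ∈ ℳ n := v.2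
    have h1 : (v : M) ∈ PsiSub 𝒜 ℳ hpos h0R n V' := by
      refine ⟨mem_geSub_of_mem 𝒜 ℳ hpos hvn, ?_⟩
      rw [P_of_mem_same ℳ hvn]
      exact ⟨v, hv', rfl⟩
    rw [← e] at h1
    obtain ⟨-, w, hw, hwv⟩ := h1
    rw [P_of_mem_same ℳ hvn] at hwv
    have : w = v := Subtype.ext hwv
    exact hv (this ▸ hw)

include hpos h0R in
/-- The pieces of an Artinian graded module are finite dimensional. -/
theorem pieceSub_finite_of_isArtinian [IsArtinian R M] (n : ℤ) :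
    Module.Finite k (pieceSub 𝒜 ℳ n) := by
  have h1 : WellFoundedLT (Submodule k (pieceSub 𝒜 ℳ n)) :=
    (PsiSub_strictMono 𝒜 ℳ hpos h0R n).wellFoundedLT
  have h2 : IsArtinian k (pieceSub 𝒜 ℳ n) := h1
  exact (IsSemisimpleModule.finite_tfae.out 0 2).mpr h2

end Artinian

section DualArtinian

variable (hpos : ∀ n : ℤ, n < 0 → 𝒜 n = ⊥)

theorem smul_mem_geSub {a j : ℤ} {r : R} (hr : r ∈ 𝒜 a) {u : D}
    (hu : u ∈ geSub 𝒜 𝒟 hpos j) : r • u ∈ geSub 𝒜 𝒟 hpos (j + a) := by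
  intro i hi
  rw [P_smul_homog 𝒜 𝒟 hr i u, hu (i - a) (by omega), smul_zero]

/-- The orthogonal in `M` of the initial forms of `U ⊆ D`. -/
def PhiSub (hD : GrSeg.IsGDual R ℳ 𝒟 β) (U : Submodule R D) : Submodule R M where
  carrier := {x | ∀ (j : ℤ) (u : D), u ∈ U → u ∈ geSub 𝒜 𝒟 hpos j → β (P 𝒟 j u) x = 0}
  add_mem' := by
    intro x y hx hy j u hu hj
    rw [map_add, hx j u hu hj, hy j u hu hj, add_zero]
  zero_mem' := by
    intro j u _ _
    rw [map_zero]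
  smul_mem' := by
    intro r x hx
    induction r using DirectSum.Decomposition.inductionOn 𝒜 with
    | zero =>
      intro j u _ _
      rw [zero_smul, map_zero]
    | add r r' hr hr' =>
      intro j u hu hj
      have e1 := hr j u hu hj
      have e2 := hr' j u hu hj
      rw [add_smul, map_add, e1, e2, add_zero]
    | homogeneous r =>
      rename_i a
      intro j u hu hj
      rw [← hD.map_smul]
      have e1 : (r : R) • P 𝒟 j u = P 𝒟 (j + a) ((r : R) • u) := by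
        rw [P_smul_homog 𝒜 𝒟 r.2 (j + a) u, show j + a - a = j by ring]
      rw [e1]
      exact hx (j + a) _ (U.smul_mem _ hu) (smul_mem_geSub 𝒜 𝒟 hpos r.2 hj)

theorem PhiSub_anti (hD : GrSeg.IsGDual R ℳ 𝒟 β) {U U' : Submodule R D} (h : U ≤ U') :
    PhiSub 𝒜 ℳ 𝒟 β hpos hD U' ≤ PhiSub 𝒜 ℳ 𝒟 β hpos hD U :=
  fun _ hx j u hu hj => hx j u (h hu) hj

theorem le_of_PhiSub_le (hD : GrSeg.IsGDual R ℳ 𝒟 β)
    (hfd : ∀ m, Module.Finite k (pieceSub 𝒜 ℳ m)) (N : ℤ)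
    (hN : ∀ i : ℤ, N < i → ∀ z ∈ 𝒟 i, z = 0) {U U' : Submodule R D} (hUU' : U ≤ U')
    (hΦ : PhiSub 𝒜 ℳ 𝒟 β hpos hD U ≤ PhiSub 𝒜 ℳ 𝒟 β hpos hD U') : U' ≤ U := by
  have claim : ∀ (t : ℕ) (j : ℤ), N + 1 - j ≤ t → ∀ u' ∈ U', u' ∈ geSub 𝒜 𝒟 hpos j → u' ∈ U := by
    intro t
    induction t with
    | zero =>
      intro j hj u' _ hu'j
      have h0 : u' = 0 := by
        apply eq_zero_of_P_eq_zero 𝒟
        intro i
        by_cases hi : i < j
        · exact hu'j i hi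
        · exact hN i (by push_cast at hj; omega) _ (P_mem 𝒟 i u')
      rw [h0]; exact zero_mem _
    | succ t ih =>
      intro j hj u' hu' hu'j
      haveI := hfd (-j)
      let Γ : Submodule k D :=
        ((U.restrictScalars k) ⊓ ((geSub 𝒜 𝒟 hpos j).restrictScalars k)).map (Plin 𝒜 𝒟 j)
      have hΓ : ∀ d ∈ Γ, d ∈ 𝒟 j := by
        rintro d ⟨u, -, rfl⟩
        exact P_mem 𝒟 j u
      have hmem : P 𝒟 j u' ∈ Γ := by
        apply key 𝒜 ℳ 𝒟 β hD j Γ hΓ (P_mem 𝒟 j u')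
        intro x hx hxΓ
        have hxU : x ∈ PhiSub 𝒜 ℳ 𝒟 β hpos hD U := by
          intro i u hu hui
          by_cases hij : i = j
          · subst hij
            exact hxΓ _ ⟨u, ⟨hu, hui⟩, rfl⟩
          · exact hD.vanish i _ (P_mem 𝒟 i u) (-j) (by omega) x hx
        exact hΦ hxU j u' hu' hu'j
      obtain ⟨u, ⟨hu, huj⟩, hPu⟩ := hmem
      have hPu' : P 𝒟 j u = P 𝒟 j u' := hPu
      have hdiff : u' - u ∈ U := by
        apply ih (j + 1) (by push_cast at hj ⊢; omega) _ (sub_mem hu' (hUU' hu))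
        intro i hi
        rw [P_sub]
        by_cases hij : i < j
        · rw [hu'j i hij, huj i hij, sub_zero]
        · have : i = j := by omega
          subst this
          rw [hPu', sub_self]
      have : u' = (u' - u) + u := by abel
      rw [this]
      exact add_mem hdiff hu
  intro u' hu'
  obtain ⟨m, hm⟩ := exists_lower 𝒟 u'
  exact claim (N + 1 - m).toNat m (by omega) u' hu' hm

include hpos in
/-- The graded dual of a finite graded module is Artinian. -/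
theorem isArtinian_dual (hD : GrSeg.IsGDual R ℳ 𝒟 β)
    (h0R : 𝒜 0 = Submodule.span k {(1 : R)}) [Algebra.FiniteType k R] [Module.Finite R M] :
    IsArtinian R D := by
  have hfd : ∀ m, Module.Finite k (pieceSub 𝒜 ℳ m) := pieceSub_finite 𝒜 ℳ hpos h0R
  obtain ⟨m, hm⟩ := exists_bound 𝒜 ℳ hpos
  have hN : ∀ i : ℤ, -m < i → ∀ z ∈ 𝒟 i, z = 0 :=
    fun i hi z hz => dual_piece_zero ℳ 𝒟 β hD hm hi hz
  haveI : IsNoetherianRing R := Algebra.FiniteType.isNoetherianRing k R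
  haveI : IsNoetherian R M := isNoetherian_of_isNoetherianRing_of_finite R M
  have hW : WellFoundedGT (Submodule R M) := isNoetherian_iff'.mp inferInstance
  have hanti : StrictAnti (PhiSub 𝒜 ℳ 𝒟 β hpos hD) := by
    intro U U' hUU'
    refine lt_of_le_of_ne (PhiSub_anti 𝒜 ℳ 𝒟 β hpos hD hUU'.le) ?_
    intro e
    have := le_of_PhiSub_le 𝒜 ℳ 𝒟 β hpos hD hfd (-m) hN hUU'.le e.symm.le
    exact absurd hUU' (not_lt_of_ge this)
  exact hanti.wellFoundedLT

end DualArtinian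

section DualFinite

include 𝒜 in
/-- The span of homogeneous elements is stable under the projections. -/
theorem P_mem_span_of_homogeneous {S : Set D} (hS : ∀ s ∈ S, ∃ j, s ∈ 𝒟 j) {d : D}
    (hd : d ∈ Submodule.span R S) (i : ℤ) : P 𝒟 i d ∈ Submodule.span R S := by
  induction hd using Submodule.span_induction generalizing i with
  | mem s hs =>
    obtain ⟨j, hj⟩ := hS s hs
    by_cases hij : j = i
    · subst hij
      rw [P_of_mem_same 𝒟 hj]; exact Submodule.subset_span hs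
    · rw [P_of_mem_ne 𝒟 hj hij]; exact zero_mem _
  | zero => rw [P_zero]; exact zero_mem _
  | add x y _ _ hx hy => rw [P_add]; exact add_mem (hx i) (hy i)
  | smul r x _ hx =>
    induction r using DirectSum.Decomposition.inductionOn 𝒜 generalizing i with
    | zero => rw [zero_smul, P_zero]; exact zero_mem _
    | add r r' hr hr' => rw [add_smul, P_add]; exact add_mem (hr i) (hr' i)
    | homogeneous r =>
      rename_i a
      rw [P_smul_homog 𝒜 𝒟 r.2 i x]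
      exact Submodule.smul_mem _ _ (hx (i - a))

/-- The annihilator in `M` of a submodule of `D`. -/
def annSub (hD : GrSeg.IsGDual R ℳ 𝒟 β) (G : Submodule R D) : Submodule R M where
  carrier := {x | ∀ d ∈ G, β d x = 0}
  add_mem' := by
    intro x y hx hy d hd
    rw [map_add, hx d hd, hy d hd, add_zero]
  zero_mem' := by
    intro d _
    rw [map_zero]
  smul_mem' := by
    intro r x hx d hd
    rw [← hD.map_smul]
    exact hx _ (G.smul_mem r hd)

theorem annSub_anti (hD : GrSeg.IsGDual R ℳ 𝒟 β) {G G' : Submodule R D} (h : G ≤ G') :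
    annSub ℳ 𝒟 β hD G' ≤ annSub ℳ 𝒟 β hD G :=
  fun _ hx d hd => hx d (h hd)

/-- The submodule of `D` generated by the pieces of degree `≤ b`. -/
def lowGen (b : ℤ) : Submodule R D := Submodule.span R {d : D | ∃ j : ℤ, j ≤ b ∧ d ∈ 𝒟 j}

theorem lowGen_mono {b b' : ℤ} (h : b ≤ b') : lowGen (R := R) 𝒟 b ≤ lowGen (R := R) 𝒟 b' :=
  Submodule.span_mono (fun _ ⟨j, hj, hd⟩ => ⟨j, le_trans hj h, hd⟩)

/-- The graded dual of an Artinian graded module is finitely generated. -/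
theorem finite_dual (hpos : ∀ n : ℤ, n < 0 → 𝒜 n = ⊥)
    (h0R : 𝒜 0 = Submodule.span k {(1 : R)}) (hD : GrSeg.IsGDual R ℳ 𝒟 β) [IsArtinian R M] :
    Module.Finite R D := by
  classical
  have hfd : ∀ m, Module.Finite k (pieceSub 𝒜 ℳ m) :=
    pieceSub_finite_of_isArtinian 𝒜 ℳ hpos h0R
  obtain ⟨N, hN⟩ := bounded_above_of_isArtinian 𝒜 ℳ hpos
  -- pieces of `D` of degree `< -N` vanish
  have hDlow : ∀ j : ℤ, j < -N → ∀ d ∈ 𝒟 j, d = 0 := by
    intro j hj d hd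
    apply hD.eq_zero j d hd
    intro x hx
    rw [hN (-j) (by omega) x hx, map_zero]
  -- the chain of annihilators stabilises
  let f : ℕ →o (Submodule R M)ᵒᵈ :=
    ⟨fun n => OrderDual.toDual (annSub ℳ 𝒟 β hD (lowGen (R := R) 𝒟 (n : ℤ))), fun a b hab =>
      annSub_anti ℳ 𝒟 β hD (lowGen_mono 𝒟 (by exact_mod_cast hab))⟩
  obtain ⟨b₀, hb₀⟩ := IsArtinian.monotone_stabilizes f
  have hstab : ∀ b : ℕ, b₀ ≤ b → annSub ℳ 𝒟 β hD (lowGen (R := R) 𝒟 (b₀ : ℤ)) =
      annSub ℳ 𝒟 β hD (lowGen (R := R) 𝒟 (b : ℤ)) := fun b hb => hb₀ b hb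
  -- the stable annihilator is zero
  have hann : ∀ x ∈ annSub ℳ 𝒟 β hD (lowGen (R := R) 𝒟 (b₀ : ℤ)), x = 0 := by
    intro x hx
    apply eq_zero_of_pairing ℳ 𝒟 β hD x
    intro d
    induction d using DirectSum.Decomposition.inductionOn 𝒟 with
    | zero => rw [map_zero, LinearMap.zero_apply]
    | add d d' hd hd' => rw [map_add, LinearMap.add_apply, hd, hd', add_zero]
    | homogeneous d =>
      rename_i j
      have hx' : x ∈ annSub ℳ 𝒟 β hD (lowGen (R := R) 𝒟 ((max b₀ j.toNat : ℕ) : ℤ)) := by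
        rw [← hstab _ (le_max_left _ _)]; exact hx
      apply hx' d
      apply Submodule.subset_span
      refine ⟨j, ?_, d.2⟩
      have := Int.self_le_toNat j
      push_cast
      omega
  -- hence the generated submodule is everything
  have hS : ∀ s ∈ {d : D | ∃ j : ℤ, j ≤ (b₀ : ℤ) ∧ d ∈ 𝒟 j}, ∃ j, s ∈ 𝒟 j :=
    fun s ⟨j, _, hs⟩ => ⟨j, hs⟩
  have hpiece : ∀ (j : ℤ) (d' : D), d' ∈ 𝒟 j → d' ∈ lowGen (R := R) 𝒟 (b₀ : ℤ) := by
    intro j d' hd'
    haveI := hfd (-j)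
    let Γ : Submodule k D := (lowGen (R := R) 𝒟 (b₀ : ℤ)).restrictScalars k ⊓ pieceSub 𝒜 𝒟 j
    have hΓ : ∀ d ∈ Γ, d ∈ 𝒟 j := fun d hd => hd.2
    have hmem : d' ∈ Γ := by
      apply key 𝒜 ℳ 𝒟 β hD j Γ hΓ hd'
      intro x hx hxΓ
      have hx0 : x = 0 := by
        apply hann
        intro d hd
        have hx' : x ∈ ℳ (-j) := hx
        rw [← pairD_P' ℳ 𝒟 β hD hx' d]
        exact hxΓ _ ⟨P_mem_span_of_homogeneous 𝒜 𝒟 hS hd j, P_mem 𝒟 j d⟩
      rw [hx0, map_zero]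
    exact hmem.1
  have htop : lowGen (R := R) 𝒟 (b₀ : ℤ) = ⊤ := by
    have hall : ∀ d : D, d ∈ lowGen (R := R) 𝒟 (b₀ : ℤ) := by
      intro d
      induction d using DirectSum.Decomposition.inductionOn 𝒟 with
      | zero => exact zero_mem _
      | add d d' hd hd' => exact add_mem hd hd'
      | homogeneous d => exact hpiece _ _ d.2
    exact eq_top_iff.2 fun d _ => hall d
  -- finitely many finite-dimensional pieces generate
  have hle : lowGen (R := R) 𝒟 (b₀ : ℤ) ≤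
      ⨆ j ∈ Finset.Icc (-N) (b₀ : ℤ), Submodule.span R ((pieceSub 𝒜 𝒟 j : Submodule k D) : Set D) := by
    apply Submodule.span_le.2
    rintro d ⟨j, hj, hd⟩
    by_cases hjN : j < -N
    · rw [hDlow j hjN d hd]; exact zero_mem _
    · have hj' : j ∈ Finset.Icc (-N) (b₀ : ℤ) := Finset.mem_Icc.2 ⟨by omega, hj⟩
      exact (le_biSup (fun j => Submodule.span R ((pieceSub 𝒜 𝒟 j : Submodule k D) : Set D)) hj')
        (Submodule.subset_span hd)
  have hfg : (⨆ j ∈ Finset.Icc (-N) (b₀ : ℤ),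
      Submodule.span R ((pieceSub 𝒜 𝒟 j : Submodule k D) : Set D)).FG := by
    apply Submodule.fg_biSup
    intro j _
    haveI := hfd (-j)
    haveI : Module.Finite k (pieceSub 𝒜 𝒟 j) := dual_pieceSub_finite 𝒜 ℳ 𝒟 β hD j
    obtain ⟨T, hT⟩ := (Module.Finite.iff_fg.1 ‹Module.Finite k (pieceSub 𝒜 𝒟 j)›)
    refine ⟨T, ?_⟩
    rw [← hT, Submodule.span_span_of_tower]
  have htop' : (⨆ j ∈ Finset.Icc (-N) (b₀ : ℤ),
      Submodule.span R ((pieceSub 𝒜 𝒟 j : Submodule k D) : Set D)) = ⊤ :=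
    eq_top_iff.2 (htop ▸ hle)
  exact ⟨htop' ▸ hfg⟩

end DualFinite

end Groth.Agent.Lib.Seat97.GrMatlis
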