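import Mathlib
import Groth.Prelude.Def_GrSeg
import Groth.Prelude.Def_GrLC
import Groth.Agent.Lib.Helper24GrDual
import Groth.Agent.Lib.Helper24GrDual2
import Groth.Agent.Lib.Helper24GrDual3
import Groth.Agent.Lib.Seat97GrMatlis

/-!
# Artinian graded modules embed in sums of shifted duals `R^*` (seat 97)
-/

set_option autoImplicit false
set_option linter.unusedSectionVars false
set_option linter.style.haveILetI false
universe u
open DirectSum

namespace Groth.Agent.Lib.Seat97.GrMatlis2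

open Groth.Agent.Lib.Helper24GrDual Groth.Agent.Lib.Helper24GrDual2 Groth.Agent.Lib.Helper24GrDual3
open Groth.Agent.Lib.Seat97.GrMatlis

section Transfer

variable {ι : Type} [DecidableEq ι] {X : Type u} [AddCommMonoid X]
  {σ σ' : Type u} [SetLike σ X] [AddSubmonoidClass σ X] [SetLike σ' X] [AddSubmonoidClass σ' X]
  (𝒳 : ι → σ) (𝒳' : ι → σ') [DirectSum.Decomposition 𝒳]

/-- The identity between pieces with the same elements. -/
def toPiece' (h : ∀ i x, x ∈ 𝒳 i ↔ x ∈ 𝒳' i) (i : ι) : 𝒳 i →+ 𝒳' i where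
  toFun x := ⟨x.1, (h i x.1).1 x.2⟩
  map_zero' := rfl
  map_add' _ _ := rfl

/-- A decomposition only depends on the underlying sets of the pieces. -/
@[instance_reducible]
noncomputable def decompOfEq (h : ∀ i x, x ∈ 𝒳 i ↔ x ∈ 𝒳' i) : DirectSum.Decomposition 𝒳' :=
  DirectSum.Decomposition.ofAddHom 𝒳'
    ((DFinsupp.mapRange.addMonoidHom (toPiece' 𝒳 𝒳' h)).comp
      (DirectSum.decomposeAddEquiv 𝒳).toAddMonoidHom)
    (by
      ext x
      simp only [AddMonoidHom.coe_comp, Function.comp_apply, AddMonoidHom.id_apply]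
      have h1 : ∀ d : ⨁ i, 𝒳 i, DirectSum.coeAddMonoidHom 𝒳'
          (DFinsupp.mapRange.addMonoidHom (toPiece' 𝒳 𝒳' h) d) = DirectSum.coeAddMonoidHom 𝒳 d := by
        intro d
        induction d using DirectSum.induction_on with
        | zero => simp
        | of i y =>
          rw [DirectSum.coeAddMonoidHom_of]
          change DirectSum.coeAddMonoidHom 𝒳'
            (DFinsupp.mapRange.addMonoidHom (toPiece' 𝒳 𝒳' h) (DFinsupp.single i y)) = _
          rw [DFinsupp.mapRange.addMonoidHom_apply, DFinsupp.mapRange_single]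
          exact DirectSum.coeAddMonoidHom_of 𝒳' i _
        | add x y hx hy => rw [map_add, map_add, hx, hy, map_add]
      have h2 := h1 (DirectSum.decompose 𝒳 x)
      exact h2.trans (DirectSum.Decomposition.left_inv x))
    (by
      refine DirectSum.addHom_ext fun i z => ?_
      simp only [AddMonoidHom.coe_comp, Function.comp_apply, AddMonoidHom.id_apply]
      rw [DirectSum.coeAddMonoidHom_of]
      have hz : (z : X) ∈ 𝒳 i := (h i z.1).2 z.2
      change DFinsupp.mapRange.addMonoidHom (toPiece' 𝒳 𝒳' h) (DirectSum.decompose 𝒳 (z : X)) = _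
      rw [DirectSum.decompose_of_mem 𝒳 hz]
      change DFinsupp.mapRange.addMonoidHom (toPiece' 𝒳 𝒳' h) (DFinsupp.single i _) = _
      rw [DFinsupp.mapRange.addMonoidHom_apply, DFinsupp.mapRange_single]
      rfl)

end Transfer

section Main

variable {k : Type u} [Field k] {R : Type u} [CommRing R] [Algebra k R]
  (𝒜 : ℤ → Submodule k R) [GradedAlgebra 𝒜]
  {D : Type u} [AddCommGroup D] [Module R D] [Module k D] [IsScalarTower k R D]
  (𝒟 : ℤ → AddSubgroup D) [DirectSum.Decomposition 𝒟] [SetLike.GradedSMul 𝒜 𝒟]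
  (β : D →ₗ[k] R →ₗ[k] k)
  {M : Type u} [AddCommGroup M] [Module R M] [Module k M] [IsScalarTower k R M]
  (ℳ : ℤ → AddSubgroup M) [DirectSum.Decomposition ℳ] [SetLike.GradedSMul 𝒜 ℳ]

/-- The pieces of `R` as additive subgroups. -/
def addPiece (n : ℤ) : AddSubgroup R := (𝒜 n).toAddSubgroup

/-- The graded dual `R^*` is an Artinian module. -/
theorem isArtinian_Rdual (hpos : ∀ n : ℤ, n < 0 → 𝒜 n = ⊥)
    (h0R : 𝒜 0 = Submodule.span k {(1 : R)}) [Algebra.FiniteType k R]
    (hD : GrSeg.IsGDual R 𝒜 𝒟 β) : IsArtinian R D := by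
  letI : DirectSum.Decomposition (addPiece 𝒜) :=
    decompOfEq 𝒜 (addPiece 𝒜) (fun _ _ => Iff.rfl)
  haveI : SetLike.GradedSMul 𝒜 (addPiece 𝒜) :=
    ⟨fun i j r x hr hx => by
      have h : r * x ∈ 𝒜 (i + j) := SetLike.mul_mem_graded hr hx
      exact h⟩
  have hD' : GrSeg.IsGDual R (addPiece 𝒜) 𝒟 β :=
    ⟨hD.map_smul, hD.vanish, hD.eq_zero, hD.exists_eq⟩
  exact isArtinian_dual 𝒜 (addPiece 𝒜) 𝒟 β hpos hD' h0R

/-- A homogeneous functional on `M` gives a graded homomorphism `M → R^*`. -/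
theorem exists_gradedHom (hD : GrSeg.IsGDual R 𝒜 𝒟 β) (g : ℤ) (ε' : M →ₗ[k] k) :
    ∃ F : M →ₗ[R] D, (∀ (x : M) (r : R), β (F x) r = ε' (P ℳ g (r • x))) ∧
      ∀ (g' : ℤ) (x : M), x ∈ ℳ g' → F x ∈ 𝒟 (g' + (-g)) := by
  have step1 : ∀ x : M, ∃ d : D, ∀ r : R, β d r = ε' (P ℳ g (r • x)) := by
    intro x
    induction x using DirectSum.Decomposition.inductionOn ℳ with
    | zero => exact ⟨0, fun r => by rw [smul_zero, P_zero, map_zero, map_zero, LinearMap.zero_apply]⟩
    | add x y hx hy =>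
      obtain ⟨d, hd⟩ := hx
      obtain ⟨d', hd'⟩ := hy
      exact ⟨d + d', fun r => by
        rw [map_add, LinearMap.add_apply, hd, hd', smul_add, P_add, map_add]⟩
    | homogeneous x =>
      rename_i g'
      obtain ⟨lam, hlam⟩ : ∃ lam : R →ₗ[k] k, ∀ r, lam r = ε' (P ℳ g (r • (x : M))) :=
        ⟨(ε' ∘ₗ Plin 𝒜 ℳ g) ∘ₗ ((LinearMap.toSpanSingleton R M (x : M)).restrictScalars k),
          fun r => rfl⟩
      obtain ⟨d, hd, hdr⟩ := hD.exists_eq (g' - g) lam
      refine ⟨d, fun r => ?_⟩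
      rw [← hlam]
      induction r using DirectSum.Decomposition.inductionOn 𝒜 with
      | zero => rw [map_zero, map_zero]
      | add r r' hr hr' => rw [map_add, hr, hr', map_add]
      | homogeneous r =>
        rename_i c
        by_cases hc : c = -(g' - g)
        · subst hc
          exact hdr _ r.2
        · rw [hD.vanish (g' - g) d hd c hc _ r.2, hlam]
          have hrx : (r : R) • (x : M) ∈ ℳ (c + g') := by
            have h := SetLike.GradedSMul.smul_mem (A := 𝒜) (B := ℳ) r.2 x.2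
            rwa [vadd_eq_add] at h
          rw [P_of_mem_ne ℳ hrx (by omega), map_zero]
  choose F hF using step1
  have hadd : ∀ x y, F (x + y) = F x + F y := by
    intro x y
    have h0 : F (x + y) - (F x + F y) = 0 := by
      apply sepD 𝒜 𝒟 β hD
      intro r
      rw [map_sub, LinearMap.sub_apply, map_add, LinearMap.add_apply, hF, hF, hF, smul_add,
        P_add, map_add, sub_self]
    exact sub_eq_zero.1 h0
  have hsmul : ∀ (s : R) (x : M), F (s • x) = s • F x := by
    intro s x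
    have h0 : F (s • x) - s • F x = 0 := by
      apply sepD 𝒜 𝒟 β hD
      intro r
      rw [map_sub, LinearMap.sub_apply, hD.map_smul, hF, hF, smul_eq_mul, mul_comm s r,
        mul_smul, sub_self]
    exact sub_eq_zero.1 h0
  refine ⟨{ toFun := F, map_add' := hadd, map_smul' := hsmul }, fun x r => hF x r, ?_⟩
  intro g' x hx
  change F x ∈ 𝒟 (g' + (-g))
  apply mem_of_P_ne_eq_zero 𝒟
  intro j hj
  apply hD.eq_zero j _ (P_mem 𝒟 j (F x))
  intro r hr
  rw [pairD_P 𝒜 𝒟 β hD hr, hF]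
  have hrx : r • x ∈ ℳ (-j + g') := by
    have h := SetLike.GradedSMul.smul_mem (A := 𝒜) (B := ℳ) hr hx
    rwa [vadd_eq_add] at h
  rw [P_of_mem_ne ℳ hrx (by omega), map_zero]

/-- An Artinian graded module embeds in a finite sum of shifted copies of `R^*`. -/
theorem exists_embedding (hD : GrSeg.IsGDual R 𝒜 𝒟 β) [IsArtinian R M] :
    ∃ (t : ℕ) (sh : Fin t → ℤ) (f : M →ₗ[R] (Fin t → D)), Function.Injective f ∧
      ∀ (i : Fin t) (g : ℤ) (x : M), x ∈ ℳ g → f x i ∈ 𝒟 (g + sh i) := by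
  classical
  let 𝒮 : Set (Submodule R M) := {K | ∃ (t : ℕ) (sh : Fin t → ℤ) (f : M →ₗ[R] (Fin t → D)),
    (∀ (i : Fin t) (g : ℤ) (x : M), x ∈ ℳ g → f x i ∈ 𝒟 (g + sh i)) ∧ K = LinearMap.ker f}
  have hne : 𝒮.Nonempty :=
    ⟨⊤, 0, Fin.elim0, 0, fun i => i.elim0, (LinearMap.ker_zero).symm⟩
  obtain ⟨K₀, ⟨t, sh, f, hgr, rfl⟩, hmin⟩ := IsArtinian.set_has_minimal 𝒮 hne
  by_cases hK : LinearMap.ker f = ⊥
  · exact ⟨t, sh, f, LinearMap.ker_eq_bot.1 hK, hgr⟩
  · exfalso
    obtain ⟨x, hx, hx0⟩ := Submodule.exists_mem_ne_zero_of_ne_bot hK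
    obtain ⟨g, hg⟩ : ∃ g, P ℳ g x ≠ 0 := by
      by_contra hcon
      simp only [not_exists, not_not] at hcon
      exact hx0 (eq_zero_of_P_eq_zero ℳ hcon)
    obtain ⟨ε', hε'⟩ : ∃ ε' : M →ₗ[k] k, ε' (P ℳ g x) ≠ 0 := by
      by_contra hcon
      simp only [not_exists, not_not] at hcon
      exact hg ((Module.forall_dual_apply_eq_zero_iff k _).1 hcon)
    obtain ⟨F, hF, hFgr⟩ := exists_gradedHom 𝒜 𝒟 β ℳ hD g ε'
    let f' : M →ₗ[R] (Fin (t + 1) → D) :=
      LinearMap.pi (Fin.cons F (fun i => LinearMap.proj i ∘ₗ f))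
    have hf'0 : ∀ y, f' y 0 = F y := fun y => rfl
    have hf's : ∀ y (i : Fin t), f' y i.succ = f y i := fun y i => rfl
    have hmem : LinearMap.ker f' ∈ 𝒮 := by
      refine ⟨t + 1, Fin.cons (-g) sh, f', ?_, rfl⟩
      intro i g' y hy
      refine Fin.cases ?_ (fun i => ?_) i
      · rw [hf'0, Fin.cons_zero]; exact hFgr g' y hy
      · rw [hf's, Fin.cons_succ]; exact hgr i g' y hy
    apply hmin _ hmem
    refine lt_of_le_of_ne ?_ ?_
    · intro y hy
      rw [LinearMap.mem_ker] at hy ⊢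
      funext i
      have := congrFun hy i.succ
      rw [hf's] at this
      exact this
    · intro e
      have hx' : x ∈ LinearMap.ker f' := e ▸ hx
      rw [LinearMap.mem_ker] at hx'
      have h1 : F x = 0 := by
        have := congrFun hx' 0
        rwa [hf'0] at this
      have h2 := hF x 1
      rw [h1, one_smul, map_zero, LinearMap.zero_apply] at h2
      exact hε' h2.symm

end Main

end Groth.Agent.Lib.Seat97.GrMatlis2
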