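import Mathlib
import Groth.Prelude.Def_GrLC

/-!
# Products and shifts of graded modules (seat 97)

* `prodGr 𝓐 𝓑` : the grading of `A × B` by the products of the pieces, with its decomposition and
  graded scalar multiplication; `gprod X Y : GrLC.GMod 𝒜`; a product of *injectives is *injective.
* `shiftGr 𝓜 k` : the shifted grading `n ↦ 𝓜 (n - k)` (i.e. the module `M(-k)`), with its
  decomposition and graded scalar multiplication; `gshift X k : GrLC.GMod 𝒜`; a shift of a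
  *injective is *injective.

Namespace `Groth.Agent.Lib.Seat97.GrProd`.
-/

set_option autoImplicit false
set_option linter.unusedSectionVars false
open DirectSum

noncomputable section

namespace Groth.Agent.Lib.Seat97.GrProd

universe u

variable {ι : Type} [AddCommGroup ι] [DecidableEq ι]
variable {R : Type u} [CommRing R]

section Prod

variable {A B : Type u} [AddCommGroup A] [Module R A] [AddCommGroup B] [Module R B]
variable (𝓐 : ι → AddSubgroup A) (𝓑 : ι → AddSubgroup B)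

/-- The pieces of the product of two graded modules. -/
def prodGr : ι → AddSubgroup (A × B) := fun i => (𝓐 i).prod (𝓑 i)

theorem mem_prodGr {i : ι} {p : A × B} : p ∈ prodGr 𝓐 𝓑 i ↔ p.1 ∈ 𝓐 i ∧ p.2 ∈ 𝓑 i :=
  AddSubgroup.mem_prod

/-- Inclusion of a piece of the first factor. -/
def inlPiece (i : ι) : ↥(𝓐 i) →+ ↥(prodGr 𝓐 𝓑 i) where
  toFun x := ⟨((x : A), 0), (mem_prodGr 𝓐 𝓑).mpr ⟨x.2, zero_mem _⟩⟩
  map_zero' := Subtype.ext rfl
  map_add' x y := Subtype.ext (by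
    show (((x : A) + (y : A)), (0 : B)) = ((x : A), (0 : B)) + ((y : A), (0 : B))
    rw [Prod.mk_add_mk, add_zero])

/-- Inclusion of a piece of the second factor. -/
def inrPiece (i : ι) : ↥(𝓑 i) →+ ↥(prodGr 𝓐 𝓑 i) where
  toFun x := ⟨(0, (x : B)), (mem_prodGr 𝓐 𝓑).mpr ⟨zero_mem _, x.2⟩⟩
  map_zero' := Subtype.ext rfl
  map_add' x y := Subtype.ext (by
    show ((0 : A), ((x : B) + (y : B))) = ((0 : A), (x : B)) + ((0 : A), (y : B))
    rw [Prod.mk_add_mk, add_zero])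

theorem coe_map_inlPiece (y : ⨁ i, 𝓐 i) :
    DirectSum.coeAddMonoidHom (prodGr 𝓐 𝓑) (DirectSum.map (inlPiece 𝓐 𝓑) y) =
      (DirectSum.coeAddMonoidHom 𝓐 y, 0) := by
  classical
  induction y using DirectSum.induction_on with
  | zero => rw [map_zero, map_zero, map_zero]; rfl
  | of g x =>
    rw [DirectSum.map_of, DirectSum.coeAddMonoidHom_of, DirectSum.coeAddMonoidHom_of]
    rfl
  | add x y hx hy =>
    rw [map_add, map_add, map_add, hx, hy, Prod.mk_add_mk, add_zero]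

theorem coe_map_inrPiece (y : ⨁ i, 𝓑 i) :
    DirectSum.coeAddMonoidHom (prodGr 𝓐 𝓑) (DirectSum.map (inrPiece 𝓐 𝓑) y) =
      (0, DirectSum.coeAddMonoidHom 𝓑 y) := by
  classical
  induction y using DirectSum.induction_on with
  | zero => rw [map_zero, map_zero, map_zero]; rfl
  | of g x =>
    rw [DirectSum.map_of, DirectSum.coeAddMonoidHom_of, DirectSum.coeAddMonoidHom_of]
    rfl
  | add x y hx hy =>
    rw [map_add, map_add, map_add, hx, hy, Prod.mk_add_mk, add_zero]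

variable [DirectSum.Decomposition 𝓐] [DirectSum.Decomposition 𝓑]

/-- The decomposition map of the product. -/
def prodDec : A × B →+ ⨁ i, prodGr 𝓐 𝓑 i :=
  ((DirectSum.map (inlPiece 𝓐 𝓑)).comp (DirectSum.decomposeAddEquiv 𝓐).toAddMonoidHom).comp
      (AddMonoidHom.fst A B) +
    ((DirectSum.map (inrPiece 𝓐 𝓑)).comp (DirectSum.decomposeAddEquiv 𝓑).toAddMonoidHom).comp
      (AddMonoidHom.snd A B)

theorem prodDec_apply (p : A × B) :
    prodDec 𝓐 𝓑 p = DirectSum.map (inlPiece 𝓐 𝓑) (DirectSum.decompose 𝓐 p.1) +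
      DirectSum.map (inrPiece 𝓐 𝓑) (DirectSum.decompose 𝓑 p.2) := rfl

instance prodDecomposition : DirectSum.Decomposition (prodGr 𝓐 𝓑) :=
  DirectSum.Decomposition.ofAddHom (prodGr 𝓐 𝓑) (prodDec 𝓐 𝓑)
    (by
      apply AddMonoidHom.ext
      intro p
      rw [AddMonoidHom.comp_apply, prodDec_apply, map_add, coe_map_inlPiece, coe_map_inrPiece]
      have h1 : DirectSum.coeAddMonoidHom 𝓐 (DirectSum.decompose 𝓐 p.1) = p.1 :=
        DirectSum.Decomposition.left_inv p.1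
      have h2 : DirectSum.coeAddMonoidHom 𝓑 (DirectSum.decompose 𝓑 p.2) = p.2 :=
        DirectSum.Decomposition.left_inv p.2
      rw [h1, h2, Prod.mk_add_mk, add_zero, zero_add]
      rfl)
    (by
      apply DirectSum.addHom_ext
      rintro g ⟨⟨a, b⟩, hab⟩
      obtain ⟨ha, hb⟩ := (mem_prodGr 𝓐 𝓑).mp hab
      rw [AddMonoidHom.comp_apply, DirectSum.coeAddMonoidHom_of, AddMonoidHom.id_apply]
      change prodDec 𝓐 𝓑 (a, b) = _
      have ha' : a ∈ 𝓐 g := ha
      have hb' : b ∈ 𝓑 g := hb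
      rw [prodDec_apply, DirectSum.decompose_of_mem 𝓐 ha', DirectSum.decompose_of_mem 𝓑 hb',
        DirectSum.map_of, DirectSum.map_of, ← map_add]
      congr 1
      apply Subtype.ext
      show ((a, (0 : B)) + ((0 : A), b)) = (a, b)
      rw [Prod.mk_add_mk, add_zero, zero_add])

instance prod_gradedSMul (𝒜 : ι → AddSubgroup R) [GradedRing 𝒜] [SetLike.GradedSMul 𝒜 𝓐]
    [SetLike.GradedSMul 𝒜 𝓑] : SetLike.GradedSMul 𝒜 (prodGr 𝓐 𝓑) where
  smul_mem := by
    intro i j r p hr hp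
    obtain ⟨h1, h2⟩ := (mem_prodGr 𝓐 𝓑).mp hp
    exact (mem_prodGr 𝓐 𝓑).mpr
      ⟨SetLike.GradedSMul.smul_mem (A := 𝒜) (B := 𝓐) hr h1,
        SetLike.GradedSMul.smul_mem (A := 𝒜) (B := 𝓑) hr h2⟩

end Prod

section GProd

variable (𝒜 : ι → AddSubgroup R) [GradedRing 𝒜]

/-- The product of two bundled graded modules. -/
def gprod (X Y : GrLC.GMod.{u} 𝒜) : GrLC.GMod.{u} 𝒜 :=
  GrLC.GMod.of 𝒜 (X.carrier × Y.carrier) (prodGr X.gr Y.gr)

variable {𝒜}

theorem isGrHom_fst (X Y : GrLC.GMod.{u} 𝒜) :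
    GrLC.IsGrHom (prodGr X.gr Y.gr) X.gr (LinearMap.fst R X.carrier Y.carrier) :=
  fun _ _ hp => ((mem_prodGr _ _).mp hp).1

theorem isGrHom_snd (X Y : GrLC.GMod.{u} 𝒜) :
    GrLC.IsGrHom (prodGr X.gr Y.gr) Y.gr (LinearMap.snd R X.carrier Y.carrier) :=
  fun _ _ hp => ((mem_prodGr _ _).mp hp).2

/-- A product of *injective graded modules is *injective. -/
theorem isStarInj_prod (X Y : GrLC.GMod.{u} 𝒜) (hX : GrLC.IsStarInj 𝒜 X.gr)
    (hY : GrLC.IsStarInj 𝒜 Y.gr) : GrLC.IsStarInj 𝒜 (prodGr X.gr Y.gr) := by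
  intro A B f hf hinj g hg
  obtain ⟨h1, hh1, e1⟩ := hX A B f hf hinj (LinearMap.fst R _ _ ∘ₗ g)
    (fun k a ha => isGrHom_fst X Y k _ (hg k a ha))
  obtain ⟨h2, hh2, e2⟩ := hY A B f hf hinj (LinearMap.snd R _ _ ∘ₗ g)
    (fun k a ha => isGrHom_snd X Y k _ (hg k a ha))
  refine ⟨LinearMap.prod h1 h2, fun k b hb => (mem_prodGr _ _).mpr ⟨hh1 k b hb, hh2 k b hb⟩, ?_⟩
  apply LinearMap.ext
  intro a
  have e1' := LinearMap.congr_fun e1 a
  have e2' := LinearMap.congr_fun e2 a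
  exact Prod.ext e1' e2'

end GProd

section Shift

variable {M : Type u} [AddCommGroup M] [Module R M] (𝓜 : ι → AddSubgroup M) (k : ι)

/-- The shifted grading: the piece of degree `n` is `𝓜 (n - k)`; this is the module `M(-k)`. -/
def shiftGr : ι → AddSubgroup M := fun n => 𝓜 (n - k)

theorem mem_shiftGr {n : ι} {x : M} : x ∈ shiftGr 𝓜 k n ↔ x ∈ 𝓜 (n - k) := Iff.rfl

theorem mem_shiftGr_add {n : ι} {x : M} (hx : x ∈ 𝓜 n) : x ∈ shiftGr 𝓜 k (n + k) := by
  rw [mem_shiftGr, add_sub_cancel_right]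
  exact hx

/-- A piece, viewed as a piece of the shifted grading. -/
def castPiece (i : ι) : ↥(𝓜 i) →+ ↥(shiftGr 𝓜 k (i + k)) where
  toFun x := ⟨(x : M), mem_shiftGr_add 𝓜 k x.2⟩
  map_zero' := Subtype.ext rfl
  map_add' _ _ := Subtype.ext rfl

variable [DirectSum.Decomposition 𝓜]

/-- The decomposition map of the shifted grading. -/
def shiftDec : M →+ ⨁ n, shiftGr 𝓜 k n :=
  (DirectSum.toAddMonoid (fun i =>
    (DirectSum.of (fun n => ↥(shiftGr 𝓜 k n)) (i + k)).comp (castPiece 𝓜 k i))).comp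
    (DirectSum.decomposeAddEquiv 𝓜).toAddMonoidHom

theorem shiftDec_of_mem {i : ι} {x : M} (hx : x ∈ 𝓜 i) :
    shiftDec 𝓜 k x = DirectSum.of (fun n => ↥(shiftGr 𝓜 k n)) (i + k)
      ⟨x, mem_shiftGr_add 𝓜 k hx⟩ := by
  change DirectSum.toAddMonoid _ (DirectSum.decompose 𝓜 x) = _
  rw [DirectSum.decompose_of_mem 𝓜 hx, DirectSum.toAddMonoid_of]
  rfl

instance shiftDecomposition : DirectSum.Decomposition (shiftGr 𝓜 k) :=
  DirectSum.Decomposition.ofAddHom (shiftGr 𝓜 k) (shiftDec 𝓜 k)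
    (by
      apply AddMonoidHom.ext
      intro x
      rw [AddMonoidHom.comp_apply, AddMonoidHom.id_apply]
      induction x using DirectSum.Decomposition.inductionOn 𝓜 with
      | zero => rw [map_zero, map_zero]
      | homogeneous m =>
        rw [shiftDec_of_mem 𝓜 k m.2, DirectSum.coeAddMonoidHom_of]
      | add m m' hm hm' => rw [map_add, map_add, hm, hm'])
    (by
      apply DirectSum.addHom_ext
      rintro n ⟨y, hy⟩
      rw [AddMonoidHom.comp_apply, DirectSum.coeAddMonoidHom_of, AddMonoidHom.id_apply]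
      have hy' : y ∈ 𝓜 (n - k) := hy
      change shiftDec 𝓜 k y = _
      rw [shiftDec_of_mem 𝓜 k hy']
      apply DirectSum.of_eq_of_gradedMonoid_eq
      exact Sigma.subtype_ext (sub_add_cancel n k) rfl)

instance shift_gradedSMul (𝒜 : ι → AddSubgroup R) [GradedRing 𝒜] [SetLike.GradedSMul 𝒜 𝓜] :
    SetLike.GradedSMul 𝒜 (shiftGr 𝓜 k) where
  smul_mem := by
    intro i j r x hr hx
    have h := SetLike.GradedSMul.smul_mem (A := 𝒜) (B := 𝓜) hr ((mem_shiftGr 𝓜 k).mp hx)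
    rw [mem_shiftGr, vadd_eq_add, add_sub_assoc]
    rw [vadd_eq_add] at h
    exact h

end Shift

section GShift

variable (𝒜 : ι → AddSubgroup R) [GradedRing 𝒜]

/-- The shift `X(-k)` of a bundled graded module. -/
def gshift (X : GrLC.GMod.{u} 𝒜) (k : ι) : GrLC.GMod.{u} 𝒜 :=
  GrLC.GMod.of 𝒜 X.carrier (shiftGr X.gr k)

variable {𝒜}

/-- A shift of a *injective graded module is *injective. -/
theorem isStarInj_shift (X : GrLC.GMod.{u} 𝒜) (k : ι) (hX : GrLC.IsStarInj 𝒜 X.gr) :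
    GrLC.IsStarInj 𝒜 (shiftGr X.gr k) := by
  intro A B f hf hinj g hg
  have hf' : GrLC.IsGrHom (gshift 𝒜 A (-k)).gr (gshift 𝒜 B (-k)).gr f := by
    intro n a ha
    exact hf (n - -k) a ha
  have hg' : GrLC.IsGrHom (gshift 𝒜 A (-k)).gr X.gr g := by
    intro n a ha
    have h1 : a ∈ A.gr (n - -k) := ha
    have h2 := hg (n - -k) a h1
    rw [mem_shiftGr] at h2
    have h3 : n - -k - k = n := by abel
    rw [h3] at h2
    exact h2
  obtain ⟨h, hh, e⟩ := hX (gshift 𝒜 A (-k)) (gshift 𝒜 B (-k)) f hf' hinj g hg'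
  refine ⟨h, ?_, e⟩
  intro n b hb
  rw [mem_shiftGr]
  apply hh (n - k) b
  show b ∈ B.gr (n - k - -k)
  have h3 : n - k - -k = n := by abel
  rw [h3]
  exact hb

end GShift

end Groth.Agent.Lib.Seat97.GrProd
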