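import Groth.Agent.Lib.Seat97GrHorse
import Groth.Agent.S13225

/-!
# Graded local cohomology of `M/xM` for a homogeneous `M`-regular element `x` (seat 97)

* `shiftRes E k` : the *injective resolution of `M(-k)` obtained by shifting the gradings of `E`;
  its cohomology modules are those of `E` (definitionally), with shifted pieces;
* `exists_les_regular` : for `x ∈ 𝒜 k` regular on `M` and `N = M/xM`, the exact sequence
  `H^i(M) → H^i(N) → H^{i+1}(M) --x--> H^{i+1}(M)` with connecting map of degree `-k`;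
* `subsingleton_H_quot` : vanishing propagation; `endDeg_eq_add`, `endDeg_regular_quotient` :
  `end H^e(M/xM) = end H^{e+1}(M) + k` when `H^e(M) = 0` (ℤ-gradings, `x` in the ideal, `k ≥ 0`).

Namespace `Groth.Agent.Lib.Seat97.GrRegQuot`.
-/

set_option autoImplicit false
set_option linter.unusedSectionVars false
open DirectSum

noncomputable section

namespace Groth.Agent.Lib.Seat97.GrRegQuot

open Groth.Agent.Lib.Seat97.GrProd Groth.Agent.Lib.Seat97.GrHmap Groth.Agent.Lib.Seat97.GrHorse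

universe u

section Shift

variable {ι : Type} [AddCommGroup ι] [DecidableEq ι]
variable {R : Type u} [CommRing R] {𝒜 : ι → AddSubgroup R} [GradedRing 𝒜]
variable {M : Type u} [AddCommGroup M] [Module R M] {ℳ : ι → AddSubgroup M}
  [DirectSum.Decomposition ℳ] [SetLike.GradedSMul 𝒜 ℳ]
variable (E : GrLC.StarInjRes 𝒜 ℳ) (k : ι) (a : HomogeneousIdeal 𝒜)

/-- The resolution `E` with all gradings shifted: a *injective resolution of `M(-k)`. -/
def shiftRes : GrLC.StarInjRes 𝒜 (shiftGr ℳ k) where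
  X n := gshift 𝒜 (E.X n) k
  d n := E.d n
  ε := E.ε
  d_grHom n := fun j x hx => E.d_grHom n (j - k) x hx
  ε_grHom := fun j m hm => E.ε_grHom (j - k) m hm
  ε_injective := E.ε_injective
  exact_zero := E.exact_zero
  exact_succ := E.exact_succ
  starInj n := isStarInj_shift (E.X n) k (E.starInj n)

theorem shiftRes_H (i : ℕ) : (shiftRes E k).H a i = E.H a i := rfl

theorem mem_shiftRes_Hgr (i : ℕ) (n : ι) (y : E.H a i) :
    y ∈ (shiftRes E k).Hgr a i n ↔ y ∈ E.Hgr a i (n - k) := Iff.rfl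

variable (x : R) (hx : x ∈ 𝒜 k)

/-- Multiplication by `x`, as a chain map `E(-k) → E`. -/
def mulMap (n : ℕ) : ((shiftRes E k).X n).carrier →ₗ[R] (E.X n).carrier :=
  x • (LinearMap.id : (E.X n).carrier →ₗ[R] (E.X n).carrier)

theorem mulMap_apply (n : ℕ) (z : (E.X n).carrier) : mulMap E k x n z = x • z := rfl

theorem mulMap_chain (n : ℕ) (z : ((shiftRes E k).X n).carrier) :
    mulMap E k x (n + 1) ((shiftRes E k).d n z) = E.d n (mulMap E k x n z) :=
  (map_smul (E.d n) x (show (E.X n).carrier from z)).symm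

include hx in
theorem mulMap_hom (n : ℕ) :
    GrLC.IsGrHom ((shiftRes E k).X n).gr (E.X n).gr (mulMap E k x n) := by
  intro j (z : (E.X n).carrier) hz
  have hz' : z ∈ (E.X n).gr (j - k) := hz
  have h := SetLike.GradedSMul.smul_mem (A := 𝒜) (B := (E.X n).gr) hx hz'
  rw [vadd_eq_add, add_sub_cancel] at h
  exact h

theorem Hmap_mulMap (i : ℕ) (y : E.H a i) :
    Hmap (shiftRes E k) E a (mulMap E k x) (mulMap_chain E k x) i y = x • y := by
  obtain ⟨z, rfl⟩ := Submodule.mkQ_surjective _ y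
  show _ = x • E.toH a i z
  rw [← map_smul]
  rfl

theorem smul_mem_Hgr (i : ℕ) (j n : ι) (r : R) (y : E.H a i) (hr : r ∈ 𝒜 j)
    (hy : y ∈ E.Hgr a i n) : r • y ∈ E.Hgr a i (j + n) := by
  obtain ⟨z, hz, rfl⟩ := hy
  refine ⟨r • z, ?_, map_smul _ _ _⟩
  have h := SetLike.GradedSMul.smul_mem (A := 𝒜) (B := (E.X i).gr) hr hz
  rw [vadd_eq_add] at h
  exact h

/-- Elements of `H^i_a` are killed by a power of any element of `a`. -/
theorem exists_pow_smul_eq_zero (i : ℕ) (hxa : x ∈ a.toIdeal) (y : E.H a i) :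
    ∃ j : ℕ, x ^ j • y = 0 := by
  obtain ⟨z, rfl⟩ := Submodule.mkQ_surjective _ y
  obtain ⟨N, hN⟩ := z.2.1
  refine ⟨N, ?_⟩
  have h1 : x ^ N • z = 0 := by
    apply Subtype.ext
    rw [Submodule.coe_smul, Submodule.coe_zero]
    exact hN _ (Ideal.pow_mem_pow hxa N)
  show x ^ N • E.toH a i z = 0
  rw [← map_smul, h1, map_zero]

end Shift

section Preimage

variable {ι : Type} [DecidableEq ι]

/-- A homogeneous element in the image of a homogeneous map has a homogeneous preimage. -/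
theorem exists_homogeneous_preimage {A B : Type*} [AddCommGroup A] [AddCommGroup B]
    (𝓐 : ι → AddSubgroup A) (𝓑 : ι → AddSubgroup B) (hA : DirectSum.IsInternal 𝓐)
    (hB : DirectSum.IsInternal 𝓑) (δ : A →+ B) (hδ : ∀ n a, a ∈ 𝓐 n → δ a ∈ 𝓑 n) (n : ι) (z : B)
    (hz : z ∈ 𝓑 n) (w : A) (hw : δ w = z) : ∃ w' ∈ 𝓐 n, δ w' = z := by
  classical
  let Δ : ∀ j, ↥(𝓐 j) →+ ↥(𝓑 j) := fun j =>
    (δ.comp (𝓐 j).subtype).codRestrict (𝓑 j) (fun a => hδ j a a.2)
  have hcomm : ∀ d : ⨁ j, 𝓐 j, DirectSum.coeAddMonoidHom 𝓑 (DirectSum.map Δ d) =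
      δ (DirectSum.coeAddMonoidHom 𝓐 d) := by
    intro d
    induction d using DirectSum.induction_on with
    | zero => rw [map_zero, map_zero, map_zero, map_zero]
    | of j a =>
      rw [DirectSum.map_of, DirectSum.coeAddMonoidHom_of, DirectSum.coeAddMonoidHom_of]
      rfl
    | add x y hx hy => rw [map_add, map_add, map_add, map_add, hx, hy]
  obtain ⟨d, hd⟩ := hA.2 w
  have h1 : DirectSum.coeAddMonoidHom 𝓑 (DirectSum.map Δ d) =
      DirectSum.coeAddMonoidHom 𝓑 (DirectSum.of (fun j => ↥(𝓑 j)) n ⟨z, hz⟩) := by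
    rw [hcomm, hd, hw, DirectSum.coeAddMonoidHom_of]
  have h2 := hB.1 h1
  refine ⟨(d n : A), (d n).2, ?_⟩
  have h3 : ((DirectSum.map Δ d) n : B) = ((DirectSum.of (fun j => ↥(𝓑 j)) n ⟨z, hz⟩) n : B) := by
    rw [h2]
  rw [DirectSum.map_apply, DirectSum.of_eq_same] at h3
  exact h3

end Preimage

section EndDeg

theorem wb_add_cancel (w : WithBot (WithTop ℤ)) (p q : ℤ) (hpq : p + q = 0) :
    w + ((p : WithTop ℤ) : WithBot (WithTop ℤ)) + ((q : WithTop ℤ) : WithBot (WithTop ℤ)) = w := by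
  induction w using WithBot.recBotCoe with
  | bot => rfl
  | coe t =>
    induction t using WithTop.recTopCoe with
    | top => rfl
    | coe n =>
      rw [← WithBot.coe_add, ← WithTop.coe_add, ← WithBot.coe_add, ← WithTop.coe_add, add_assoc,
        hpq, add_zero]

/-- Shifting a family of pieces shifts its end. -/
theorem endDeg_eq_add {H₁ H₂ : Type*} [AddCommGroup H₁] [AddCommGroup H₂]
    (ℋ₁ : ℤ → AddSubgroup H₁) (ℋ₂ : ℤ → AddSubgroup H₂) (k : ℤ)
    (h1 : ∀ n, ℋ₂ n ≠ ⊥ → ℋ₁ (n - k) ≠ ⊥)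
    (h2 : ∀ n', ℋ₁ n' ≠ ⊥ → ∃ n'', n' ≤ n'' ∧ ℋ₂ (n'' + k) ≠ ⊥) :
    GrLC.endDeg ℋ₂ = GrLC.endDeg ℋ₁ + ((k : WithTop ℤ) : WithBot (WithTop ℤ)) := by
  apply le_antisymm
  · unfold GrLC.endDeg
    apply iSup₂_le
    intro n hn
    have h3 : (((n - k : ℤ) : WithTop ℤ) : WithBot (WithTop ℤ)) ≤
        ⨆ (n : ℤ) (_ : ℋ₁ n ≠ ⊥), ((n : WithTop ℤ) : WithBot (WithTop ℤ)) :=
      le_iSup₂ (f := fun (n : ℤ) (_ : ℋ₁ n ≠ ⊥) => ((n : WithTop ℤ) : WithBot (WithTop ℤ)))
        (n - k) (h1 n hn)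
    have h4 : ((n : WithTop ℤ) : WithBot (WithTop ℤ)) =
        (((n - k : ℤ) : WithTop ℤ) : WithBot (WithTop ℤ)) + ((k : WithTop ℤ) : WithBot (WithTop ℤ)) := by
      rw [← WithBot.coe_add, ← WithTop.coe_add, sub_add_cancel]
    rw [h4]
    exact add_le_add_left h3 _
  · have h4 : GrLC.endDeg ℋ₁ ≤
        GrLC.endDeg ℋ₂ + (((-k : ℤ) : WithTop ℤ) : WithBot (WithTop ℤ)) := by
      unfold GrLC.endDeg
      apply iSup₂_le
      intro n' hn'
      obtain ⟨n'', hge, hne⟩ := h2 n' hn'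
      have h5 : (((n'' + k : ℤ) : WithTop ℤ) : WithBot (WithTop ℤ)) ≤
          ⨆ (n : ℤ) (_ : ℋ₂ n ≠ ⊥), ((n : WithTop ℤ) : WithBot (WithTop ℤ)) :=
        le_iSup₂ (f := fun (n : ℤ) (_ : ℋ₂ n ≠ ⊥) => ((n : WithTop ℤ) : WithBot (WithTop ℤ)))
          (n'' + k) hne
      have h6 : ((n'' : WithTop ℤ) : WithBot (WithTop ℤ)) =
          (((n'' + k : ℤ) : WithTop ℤ) : WithBot (WithTop ℤ)) +
            (((-k : ℤ) : WithTop ℤ) : WithBot (WithTop ℤ)) := by
        rw [← WithBot.coe_add, ← WithTop.coe_add, add_neg_cancel_right]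
      have h7 : ((n' : WithTop ℤ) : WithBot (WithTop ℤ)) ≤ ((n'' : WithTop ℤ) : WithBot (WithTop ℤ)) :=
        WithBot.coe_le_coe.mpr (WithTop.coe_le_coe.mpr hge)
      refine h7.trans ?_
      rw [h6]
      exact add_le_add_left h5 _
    have h8 := add_le_add_left h4 ((k : WithTop ℤ) : WithBot (WithTop ℤ))
    rw [wb_add_cancel _ (-k) k (neg_add_cancel k)] at h8
    exact h8

end EndDeg

section Regular

variable {ι : Type} [AddCommGroup ι] [DecidableEq ι] [Module.Free ℤ ι] [Module.Finite ℤ ι]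
variable {R : Type u} [CommRing R] [IsNoetherianRing R] {𝒜 : ι → AddSubgroup R} [GradedRing 𝒜]
variable {M : Type u} [AddCommGroup M] [Module R M] {ℳ : ι → AddSubgroup M}
  [DirectSum.Decomposition ℳ] [SetLike.GradedSMul 𝒜 ℳ]
variable {N : Type u} [AddCommGroup N] [Module R N] {𝒩 : ι → AddSubgroup N}
  [DirectSum.Decomposition 𝒩] [SetLike.GradedSMul 𝒜 𝒩]
variable (E : GrLC.StarInjRes 𝒜 ℳ) (F : GrLC.StarInjRes 𝒜 𝒩) (a : HomogeneousIdeal 𝒜)
variable (x : R) (k : ι) (hxk : x ∈ 𝒜 k) (hreg : ∀ z : M, x • z = 0 → z = 0)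
  (π : M →ₗ[R] N) (hπ : GrLC.IsGrHom ℳ 𝒩 π) (hπs : Function.Surjective π)
  (hπk : ∀ z : M, π z = 0 ↔ ∃ w : M, x • w = z)

include hxk hreg hπ hπs hπk in
/-- The long exact sequence of graded local cohomology for `0 → M(-k) --x--> M → M/xM → 0`. -/
theorem exists_les_regular (i : ℕ) :
    ∃ (β : E.H a i →ₗ[R] F.H a i) (δ : F.H a i →ₗ[R] E.H a (i + 1)),
      (∀ (n : ι) (y : F.H a i), y ∈ F.Hgr a i n → δ y ∈ E.Hgr a (i + 1) (n - k)) ∧
      (∀ y : E.H a i, β y = 0 ↔ ∃ y' : E.H a i, x • y' = y) ∧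
      (∀ y'' : F.H a i, δ y'' = 0 ↔ ∃ y : E.H a i, β y = y'') ∧
      (∀ y' : E.H a (i + 1), x • y' = 0 ↔ ∃ y'' : F.H a i, δ y'' = y') := by
  have hf : GrLC.IsGrHom (shiftGr ℳ k) ℳ (x • (LinearMap.id : M →ₗ[R] M)) := by
    intro j z hz
    have hz' : z ∈ ℳ (j - k) := hz
    have h := SetLike.GradedSMul.smul_mem (A := 𝒜) (B := ℳ) hxk hz'
    rw [vadd_eq_add, add_sub_cancel] at h
    exact h
  have hfinj : Function.Injective (x • (LinearMap.id : M →ₗ[R] M)) := by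
    rw [injective_iff_map_eq_zero]
    intro z hz
    exact hreg z hz
  have hex : Function.Exact (x • (LinearMap.id : M →ₗ[R] M)) π := by
    intro z
    rw [hπk z]
    rfl
  have hφ0 : ∀ m' : M, mulMap E k x 0 ((shiftRes E k).ε m') =
      E.ε ((x • (LinearMap.id : M →ₗ[R] M)) m') := by
    intro m'
    show x • E.ε m' = E.ε (x • m')
    rw [map_smul]
  obtain ⟨β, δ, hδ, ex1, ex2, ex3⟩ := exists_les (ℳ := ℳ) (x • (LinearMap.id : M →ₗ[R] M)) π
    (shiftRes E k) F hf hπ hfinj hπs hex E a (mulMap E k x) (mulMap_chain E k x)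
    (mulMap_hom E k x hxk) hφ0 i
  refine ⟨β, δ, fun n y hy => hδ n y hy, ?_, fun y'' => ex2 y'', ?_⟩
  · intro y
    rw [ex1 y]
    constructor
    · rintro ⟨y', hy'⟩
      exact ⟨y', by rw [← hy', Hmap_mulMap]⟩
    · rintro ⟨y', hy'⟩
      exact ⟨y', by rw [← hy', Hmap_mulMap]⟩
  · intro y'
    have := ex3 y'
    rw [Hmap_mulMap] at this
    exact this

include hxk hreg hπ hπs hπk in
/-- Vanishing propagates to the quotient. -/
theorem subsingleton_H_quot (i : ℕ) (h1 : Subsingleton (E.H a i))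
    (h2 : Subsingleton (E.H a (i + 1))) : Subsingleton (F.H a i) := by
  obtain ⟨β, δ, -, -, ex2, -⟩ := exists_les_regular E F a x k hxk hreg π hπ hπs hπk i
  refine ⟨fun y₁ y₂ => ?_⟩
  have key : ∀ y'' : F.H a i, y'' = 0 := by
    intro y''
    obtain ⟨y, rfl⟩ := (ex2 y'').mp (Subsingleton.elim _ _)
    rw [Subsingleton.elim y 0, map_zero]
  rw [key y₁, key y₂]

end Regular

section Int

variable {R : Type u} [CommRing R] [IsNoetherianRing R] {𝒜 : ℤ → AddSubgroup R} [GradedRing 𝒜]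
variable {M : Type u} [AddCommGroup M] [Module R M] {ℳ : ℤ → AddSubgroup M}
  [DirectSum.Decomposition ℳ] [SetLike.GradedSMul 𝒜 ℳ]
variable {N : Type u} [AddCommGroup N] [Module R N] {𝒩 : ℤ → AddSubgroup N}
  [DirectSum.Decomposition 𝒩] [SetLike.GradedSMul 𝒜 𝒩]
variable (E : GrLC.StarInjRes 𝒜 ℳ) (F : GrLC.StarInjRes 𝒜 𝒩) (a : HomogeneousIdeal 𝒜)
variable (x : R) (k : ℤ) (hxk : x ∈ 𝒜 k) (hk : 0 ≤ k) (hxa : x ∈ a.toIdeal)
  (hreg : ∀ z : M, x • z = 0 → z = 0)
  (π : M →ₗ[R] N) (hπ : GrLC.IsGrHom ℳ 𝒩 π) (hπs : Function.Surjective π)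
  (hπk : ∀ z : M, π z = 0 ↔ ∃ w : M, x • w = z)

include hxk hk hxa hreg hπ hπs hπk in
/-- `end H^e_a(M/xM) = end H^{e+1}_a(M) + deg x` when `H^e_a(M) = 0`. -/
theorem endDeg_regular_quotient (e : ℕ) (hvan : Subsingleton (E.H a e)) :
    GrLC.endDeg (F.Hgr a e) =
      GrLC.endDeg (E.Hgr a (e + 1)) + ((k : WithTop ℤ) : WithBot (WithTop ℤ)) := by
  obtain ⟨β, δ, hδ, -, ex2, ex3⟩ := exists_les_regular E F a x k hxk hreg π hπ hπs hπk e
  have hδinj : ∀ y'' : F.H a e, δ y'' = 0 → y'' = 0 := by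
    intro y'' h
    obtain ⟨y, rfl⟩ := (ex2 y'').mp h
    rw [Subsingleton.elim y 0, map_zero]
  apply endDeg_eq_add
  · intro n hn hbot
    apply hn
    rw [eq_bot_iff]
    intro y hy
    have h1 : δ y ∈ E.Hgr a (e + 1) (n - k) := hδ n y hy
    rw [hbot] at h1
    exact (AddSubgroup.mem_bot).mpr (hδinj y ((AddSubgroup.mem_bot).mp h1))
  · intro n' hn'
    have hex : ∃ y ∈ E.Hgr a (e + 1) n', y ≠ 0 := by
      by_contra hcon
      apply hn'
      rw [eq_bot_iff]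
      intro y hy
      by_contra hy0
      exact hcon ⟨y, hy, fun h => hy0 ((AddSubgroup.mem_bot).mpr h)⟩
    obtain ⟨y, hy, hy0⟩ := hex
    classical
    have hP : ∃ j : ℕ, x ^ j • y = 0 := exists_pow_smul_eq_zero E a x (e + 1) hxa y
    have hj0 : Nat.find hP ≠ 0 := by
      intro h0
      have := Nat.find_spec hP
      rw [h0, pow_zero, one_smul] at this
      exact hy0 this
    obtain ⟨j, hj⟩ := Nat.exists_eq_succ_of_ne_zero hj0
    have hzne : x ^ j • y ≠ 0 := Nat.find_min hP (by rw [hj]; exact Nat.lt_succ_self j)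
    have hxz : x • (x ^ j • y) = 0 := by
      have := Nat.find_spec hP
      rw [hj, Nat.succ_eq_add_one, pow_succ', mul_smul] at this
      exact this
    have hzmem : x ^ j • y ∈ E.Hgr a (e + 1) (j • k + n') :=
      smul_mem_Hgr E a (e + 1) (j • k) n' (x ^ j) y (SetLike.pow_mem_graded j hxk) hy
    refine ⟨j • k + n', le_add_of_nonneg_left (smul_nonneg (Nat.zero_le j) hk), ?_⟩
    obtain ⟨w, hw⟩ := (ex3 (x ^ j • y)).mp hxz
    have hIntF := Groth.Agent.S13225.result R 𝒜 a N 𝒩 F e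
    have hIntE := Groth.Agent.S13225.result R 𝒜 a M (shiftGr ℳ k) (shiftRes E k) (e + 1)
    have hzmem' : x ^ j • y ∈ (shiftRes E k).Hgr a (e + 1) (j • k + n' + k) := by
      rw [mem_shiftRes_Hgr, add_sub_cancel_right]
      exact hzmem
    obtain ⟨w', hw'mem, hw'⟩ := exists_homogeneous_preimage (F.Hgr a e)
      ((shiftRes E k).Hgr a (e + 1)) hIntF hIntE δ.toAddMonoidHom
      (fun n y hy => hδ n y hy) (j • k + n' + k) (x ^ j • y) hzmem' w hw
    intro hbot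
    rw [hbot] at hw'mem
    have hw'0 : w' = 0 := (AddSubgroup.mem_bot).mp hw'mem
    rw [hw'0, map_zero] at hw'
    exact hzne hw'.symm

end Int

end Groth.Agent.Lib.Seat97.GrRegQuot
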