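import Groth.Agent.Lib.Seat97HilbMod
import Mathlib

/-!
# Seat97: dimension of a Segre product of modules

`dim (M # N) = dim M + dim N - 1` for finite graded non-Artinian modules over standard graded
algebras over a field, by comparing the growth of Hilbert functions:
`dim_k (M # N)_n = dim_k M_n * dim_k N_n`.
-/

set_option autoImplicit false
set_option linter.unusedSectionVars false
set_option linter.style.haveILetI false

universe u

open scoped TensorProduct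

namespace Groth.Agent.Lib.Seat97.HilbSegre

open Groth.Agent.Lib.Seat97.SegreFin Groth.Agent.Lib.Seat97.HilbStd
open Groth.Agent.Lib.Seat97.HilbMod Groth.Agent.Lib.Helper24GrDual

section Growth

theorem le_of_pow_le (p q K c : ℕ) (h : ∀ m : ℕ, (m + 1) ^ p ≤ K * (m + c) ^ q) : p ≤ q := by
  by_contra hlt
  rw [not_le] at hlt
  set t := K * (1 + c) ^ q + 1 with ht
  have h1 := h (t - 1)
  have ht1 : t - 1 + 1 = t := by omega
  rw [ht1] at h1
  have h2 : t ^ (q + 1) ≤ t ^ p := Nat.pow_le_pow_right (by omega) hlt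
  have h3 : t - 1 + c ≤ t * (1 + c) := by
    have : c ≤ t * c := Nat.le_mul_of_pos_left c (by omega)
    rw [mul_add, mul_one]
    omega
  have h4 : (t - 1 + c) ^ q ≤ t ^ q * (1 + c) ^ q := by
    rw [← mul_pow]
    exact Nat.pow_le_pow_left h3 q
  have h5 : t * t ^ q ≤ (K * (1 + c) ^ q) * t ^ q := by
    calc t * t ^ q = t ^ (q + 1) := by rw [pow_succ, mul_comm]
      _ ≤ t ^ p := h2
      _ ≤ K * (t - 1 + c) ^ q := h1
      _ ≤ K * (t ^ q * (1 + c) ^ q) := Nat.mul_le_mul_left _ h4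
      _ = (K * (1 + c) ^ q) * t ^ q := by ring
  have h6 : 0 < t ^ q := Nat.pow_pos (by omega)
  have h7 := Nat.le_of_mul_le_mul_right h5 h6
  omega

open Nat in
/-- numerical heart of the dimension formula. -/
theorem dim_eq_of_growth (hM hN hP : ℤ → ℕ) (hmul : ∀ j, hP j = hM j * hN j) (δM δN e : ℕ)
    (lowM : ∃ a : ℤ, ∀ a' : ℤ, a ≤ a' → ∀ m : ℕ, (m + 1) ^ δM ≤ δM ! * hM ((m : ℤ) + a'))
    (lowN : ∃ a : ℤ, ∀ a' : ℤ, a ≤ a' → ∀ m : ℕ, (m + 1) ^ δN ≤ δN ! * hN ((m : ℤ) + a'))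
    (upM : ∃ C b : ℕ, ∀ j : ℤ, hM j ≤ C * ((j + b).toNat + 1) ^ δM)
    (upN : ∃ C b : ℕ, ∀ j : ℤ, hN j ≤ C * ((j + b).toNat + 1) ^ δN)
    (lowP : ∀ e' : ℕ, e = e' + 1 →
      ∃ a : ℤ, ∀ a' : ℤ, a ≤ a' → ∀ m : ℕ, (m + 1) ^ e' ≤ e' ! * hP ((m : ℤ) + a'))
    (upP : ∀ e' : ℕ, e = e' + 1 → ∃ C b : ℕ, ∀ j : ℤ, hP j ≤ C * ((j + b).toNat + 1) ^ e')
    (zeroP : e = 0 → ∃ b : ℤ, ∀ j : ℤ, b ≤ j → hP j = 0) : e = δM + δN + 1 := by
  obtain ⟨aM, haM⟩ := lowM
  obtain ⟨aN, haN⟩ := lowN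
  obtain ⟨CM, bM, hCM⟩ := upM
  obtain ⟨CN, bN, hCN⟩ := upN
  rcases Nat.eq_zero_or_eq_succ_pred e with he | he
  · exfalso
    obtain ⟨b, hb⟩ := zeroP he
    set j := max b (max aM aN) with hj
    have h0 := hb j (le_max_left _ _)
    have h1 := haM j ((le_max_left _ _).trans (le_max_right _ _)) 0
    have h2 := haN j ((le_max_right _ _).trans (le_max_right _ _)) 0
    simp only [Nat.cast_zero, zero_add, one_pow] at h1 h2
    rw [hmul] at h0
    rcases Nat.mul_eq_zero.1 h0 with h0 | h0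
    · rw [h0] at h1; omega
    · rw [h0] at h2; omega
  · set e' := e.pred with he'
    have hle : e' ≤ δM + δN := by
      obtain ⟨aP, haP⟩ := lowP e' he
      set a' := max aP 0 with ha'
      have ha0 : 0 ≤ a' := le_max_right _ _
      apply le_of_pow_le e' (δM + δN) (e' ! * (CM * CN)) (a'.toNat + bM + bN + 1)
      intro m
      refine (haP a' (le_max_left _ _) m).trans ?_
      rw [hmul]
      have h1 : hM ((m : ℤ) + a') ≤ CM * (m + (a'.toNat + bM + bN + 1)) ^ δM := by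
        refine (hCM _).trans (Nat.mul_le_mul_left _ (Nat.pow_le_pow_left ?_ _))
        omega
      have h2 : hN ((m : ℤ) + a') ≤ CN * (m + (a'.toNat + bM + bN + 1)) ^ δN := by
        refine (hCN _).trans (Nat.mul_le_mul_left _ (Nat.pow_le_pow_left ?_ _))
        omega
      calc e' ! * (hM ((m : ℤ) + a') * hN ((m : ℤ) + a'))
          ≤ e' ! * ((CM * (m + (a'.toNat + bM + bN + 1)) ^ δM) *
              (CN * (m + (a'.toNat + bM + bN + 1)) ^ δN)) :=
            Nat.mul_le_mul_left _ (Nat.mul_le_mul h1 h2)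
        _ = e' ! * (CM * CN) * (m + (a'.toNat + bM + bN + 1)) ^ (δM + δN) := by
            rw [pow_add]; ring
    have hge : δM + δN ≤ e' := by
      obtain ⟨CP, bP, hCP⟩ := upP e' he
      set a' := max (max aM aN) 0 with ha'
      have ha0 : 0 ≤ a' := le_max_right _ _
      apply le_of_pow_le (δM + δN) e' (δM ! * δN ! * CP) (a'.toNat + bP + 1)
      intro m
      have h1 := haM a' ((le_max_left _ _).trans (le_max_left _ _)) m
      have h2 := haN a' ((le_max_right _ _).trans (le_max_left _ _)) m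
      have h3 : hP ((m : ℤ) + a') ≤ CP * (m + (a'.toNat + bP + 1)) ^ e' := by
        refine (hCP _).trans (Nat.mul_le_mul_left _ (Nat.pow_le_pow_left ?_ _))
        omega
      calc (m + 1) ^ (δM + δN) = (m + 1) ^ δM * (m + 1) ^ δN := pow_add _ _ _
        _ ≤ (δM ! * hM ((m : ℤ) + a')) * (δN ! * hN ((m : ℤ) + a')) := Nat.mul_le_mul h1 h2
        _ = δM ! * δN ! * hP ((m : ℤ) + a') := by rw [hmul]; ring
        _ ≤ δM ! * δN ! * (CP * (m + (a'.toNat + bP + 1)) ^ e') := Nat.mul_le_mul_left _ h3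
        _ = δM ! * δN ! * CP * (m + (a'.toNat + bP + 1)) ^ e' := by ring
    rw [he]
    have : e.pred = e' := rfl
    omega

end Growth

section Tensor

variable {k : Type u} [Field k] {M N : Type u} [AddCommGroup M] [Module k M] [AddCommGroup N]
  [Module k N]

theorem span_tmul_eq_range (U : Submodule k M) (V : Submodule k N) :
    Submodule.span k {x : M ⊗[k] N | ∃ a ∈ U, ∃ b ∈ V, x = a ⊗ₜ[k] b} =
      LinearMap.range (TensorProduct.mapIncl U V) := by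
  rw [TensorProduct.mapIncl, TensorProduct.range_map_eq_span_tmul]
  congr 1
  ext x
  constructor
  · rintro ⟨a, ha, b, hb, rfl⟩
    exact ⟨⟨a, ha⟩, ⟨b, hb⟩, rfl⟩
  · rintro ⟨a, b, rfl⟩
    exact ⟨a, a.2, b, b.2, rfl⟩

theorem finrank_span_tmul (U : Submodule k M) (V : Submodule k N) :
    Module.finrank k ↥(Submodule.span k {x : M ⊗[k] N | ∃ a ∈ U, ∃ b ∈ V, x = a ⊗ₜ[k] b}) =
      Module.finrank k U * Module.finrank k V := by
  rw [span_tmul_eq_range]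
  have hinj : Function.Injective (TensorProduct.mapIncl U V) :=
    TensorProduct.map_injective_of_flat_flat _ _ U.injective_subtype V.injective_subtype
  rw [← (LinearEquiv.ofInjective _ hinj).finrank_eq, Module.finrank_tensorProduct]

theorem finite_span_tmul (U : Submodule k M) (V : Submodule k N) [Module.Finite k U]
    [Module.Finite k V] :
    Module.Finite k ↥(Submodule.span k {x : M ⊗[k] N | ∃ a ∈ U, ∃ b ∈ V, x = a ⊗ₜ[k] b}) := by
  rw [span_tmul_eq_range]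
  exact Module.Finite.range _

end Tensor

section Ring

variable {k : Type u} [Field k] {R S T : Type u} [CommRing R] [CommRing S] [CommRing T]
  [Algebra k R] [Algebra k S] [Algebra k T]
  (𝒜 : ℤ → Submodule k R) [GradedAlgebra 𝒜] (ℬ : ℤ → Submodule k S) [GradedAlgebra ℬ]
  (𝒯 : ℤ → Submodule k T) [GradedAlgebra 𝒯] (ψ : T →ₐ[k] R ⊗[k] S)
  (hT : GrSeg.IsSegreRing 𝒜 ℬ 𝒯 ψ)

include hT

theorem psi_mem {i : ℤ} {t : T} (ht : t ∈ 𝒯 i) : ψ t ∈ GrSeg.segrePiece k 𝒜 ℬ i := by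
  rw [← hT.2 i]
  exact ⟨t, ht, rfl⟩

theorem exists_of_mem_segrePiece {i : ℤ} {b : R ⊗[k] S} (hb : b ∈ GrSeg.segrePiece k 𝒜 ℬ i) :
    ∃ t ∈ 𝒯 i, ψ t = b := by
  rw [← hT.2 i] at hb
  exact hb

theorem segre_neg (hpos : ∀ n : ℤ, n < 0 → 𝒜 n = ⊥) (j : ℤ) (hj : j < 0) : 𝒯 j = ⊥ := by
  rw [eq_bot_iff]
  intro t ht
  have h1 := psi_mem 𝒜 ℬ 𝒯 ψ hT ht
  have h2 : GrSeg.segrePiece k 𝒜 ℬ j = ⊥ := by
    rw [GrSeg.segrePiece, Submodule.span_eq_bot]
    rintro _ ⟨a, ha, b, hb, rfl⟩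
    rw [hpos j hj] at ha
    rw [(Submodule.mem_bot k).1 ha, TensorProduct.zero_tmul]
  rw [h2, Submodule.mem_bot] at h1
  rw [Submodule.mem_bot]
  exact hT.1 (h1.trans (map_zero ψ).symm)

theorem segre_zero (h0R : 𝒜 0 = Submodule.span k {(1 : R)})
    (h0S : ℬ 0 = Submodule.span k {(1 : S)}) : 𝒯 0 = Submodule.span k {(1 : T)} := by
  apply le_antisymm
  · intro t ht
    have h1 := psi_mem 𝒜 ℬ 𝒯 ψ hT ht
    have h2 : GrSeg.segrePiece k 𝒜 ℬ 0 ≤ Submodule.span k {(1 : R ⊗[k] S)} := by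
      rw [GrSeg.segrePiece, Submodule.span_le]
      rintro _ ⟨a, ha, b, hb, rfl⟩
      rw [h0R] at ha
      rw [h0S] at hb
      obtain ⟨c, rfl⟩ := Submodule.mem_span_singleton.1 ha
      obtain ⟨c', rfl⟩ := Submodule.mem_span_singleton.1 hb
      rw [TensorProduct.smul_tmul_smul]
      exact Submodule.smul_mem _ _ (Submodule.mem_span_singleton_self _)
    obtain ⟨c, hc⟩ := Submodule.mem_span_singleton.1 (h2 h1)
    have e : t = c • (1 : T) := hT.1 (by rw [← hc, map_smul, map_one])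
    rw [e]
    exact Submodule.smul_mem _ _ (Submodule.mem_span_singleton_self _)
  · rw [Submodule.span_le, Set.singleton_subset_iff]
    exact SetLike.one_mem_graded 𝒯

theorem segre_mem_span_one
    (hstdR : Ideal.span (⋃ n ∈ Set.Ioi (0 : ℤ), (𝒜 n : Set R)) =
      Ideal.span ((𝒜 1 : Submodule k R) : Set R))
    (hstdS : Ideal.span (⋃ n ∈ Set.Ioi (0 : ℤ), (ℬ n : Set S)) =
      Ideal.span ((ℬ 1 : Submodule k S) : Set S))
    {j : ℤ} (hj : 0 < j) {t : T} (ht : t ∈ 𝒯 j) :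
    t ∈ Ideal.span ((𝒯 1 : Submodule k T) : Set T) := by
  obtain ⟨m, rfl⟩ : ∃ m : ℤ, j = m + 1 := ⟨j - 1, by ring⟩
  set W : Submodule k (R ⊗[k] S) :=
    ((Ideal.span ((𝒯 1 : Submodule k T) : Set T)).restrictScalars k).map ψ.toLinearMap with hW
  have key : ∀ a ∈ Submodule.span k {z | ∃ c ∈ 𝒜 m, ∃ f ∈ ((𝒜 1 : Submodule k R) : Set R), z = c * f},
      ∀ b ∈ Submodule.span k {z | ∃ c ∈ ℬ m, ∃ f ∈ ((ℬ 1 : Submodule k S) : Set S), z = c * f},
      a ⊗ₜ[k] b ∈ W := by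
    intro a ha b hb
    induction ha using Submodule.span_induction with
    | mem a ha =>
      obtain ⟨c, hc, f, hf, rfl⟩ := ha
      induction hb using Submodule.span_induction with
      | mem b hb =>
        obtain ⟨c', hc', f', hf', rfl⟩ := hb
        obtain ⟨u, hu, hu'⟩ := exists_of_mem_segrePiece 𝒜 ℬ 𝒯 ψ hT
          (Submodule.subset_span ⟨c, hc, c', hc', rfl⟩ : c ⊗ₜ[k] c' ∈ GrSeg.segrePiece k 𝒜 ℬ m)
        obtain ⟨v, hv, hv'⟩ := exists_of_mem_segrePiece 𝒜 ℬ 𝒯 ψ hT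
          (Submodule.subset_span ⟨f, hf, f', hf', rfl⟩ : f ⊗ₜ[k] f' ∈ GrSeg.segrePiece k 𝒜 ℬ 1)
        refine ⟨u * v, Ideal.mul_mem_left _ u (Ideal.subset_span hv), ?_⟩
        change ψ (u * v) = _
        rw [map_mul, hu', hv', Algebra.TensorProduct.tmul_mul_tmul]
      | zero => rw [TensorProduct.tmul_zero]; exact zero_mem _
      | add x y _ _ hx hy => rw [TensorProduct.tmul_add]; exact add_mem hx hy
      | smul r x _ hx => rw [TensorProduct.tmul_smul]; exact Submodule.smul_mem _ _ hx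
    | zero => rw [TensorProduct.zero_tmul]; exact zero_mem _
    | add x y _ _ hx hy => rw [TensorProduct.add_tmul]; exact add_mem hx hy
    | smul r x _ hx => rw [← TensorProduct.smul_tmul']; exact Submodule.smul_mem _ _ hx
  have hmemR : ∀ a ∈ 𝒜 (m + 1),
      a ∈ Submodule.span k {z | ∃ c ∈ 𝒜 m, ∃ f ∈ ((𝒜 1 : Submodule k R) : Set R), z = c * f} := by
    intro a ha
    refine mem_span_mul_of_mem_ideal_span 𝒜 (F := ((𝒜 1 : Submodule k R) : Set R)) subset_rfl ha ?_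
    rw [← hstdR]
    exact Ideal.subset_span (Set.mem_biUnion (Set.mem_Ioi.2 hj) ha)
  have hmemS : ∀ b ∈ ℬ (m + 1),
      b ∈ Submodule.span k {z | ∃ c ∈ ℬ m, ∃ f ∈ ((ℬ 1 : Submodule k S) : Set S), z = c * f} := by
    intro b hb
    refine mem_span_mul_of_mem_ideal_span ℬ (F := ((ℬ 1 : Submodule k S) : Set S)) subset_rfl hb ?_
    rw [← hstdS]
    exact Ideal.subset_span (Set.mem_biUnion (Set.mem_Ioi.2 hj) hb)
  have hle : GrSeg.segrePiece k 𝒜 ℬ (m + 1) ≤ W := by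
    rw [GrSeg.segrePiece, Submodule.span_le]
    rintro _ ⟨a, ha, b, hb, rfl⟩
    exact key a (hmemR a ha) b (hmemS b hb)
  obtain ⟨t', ht', e⟩ := hle (psi_mem 𝒜 ℬ 𝒯 ψ hT ht)
  have e' : t' = t := hT.1 e
  rw [← e']
  exact ht'

theorem segre_hirr
    (hstdR : Ideal.span (⋃ n ∈ Set.Ioi (0 : ℤ), (𝒜 n : Set R)) =
      Ideal.span ((𝒜 1 : Submodule k R) : Set R))
    (hstdS : Ideal.span (⋃ n ∈ Set.Ioi (0 : ℤ), (ℬ n : Set S)) =
      Ideal.span ((ℬ 1 : Submodule k S) : Set S)) :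
    Ideal.span (⋃ j ∈ Set.Ioi (0 : ℤ), (𝒯 j : Set T)) =
      Ideal.span ((𝒯 1 : Submodule k T) : Set T) := by
  apply le_antisymm
  · rw [Ideal.span_le]
    intro t ht
    simp only [Set.mem_iUnion] at ht
    obtain ⟨j, hj, ht⟩ := ht
    exact segre_mem_span_one 𝒜 ℬ 𝒯 ψ hT hstdR hstdS (Set.mem_Ioi.1 hj) ht
  · apply Ideal.span_mono
    intro t ht
    exact Set.mem_biUnion (Set.mem_Ioi.2 one_pos) ht

theorem segre_finite_one [Module.Finite k (𝒜 1)] [Module.Finite k (ℬ 1)] :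
    Module.Finite k (𝒯 1) := by
  haveI : Module.Finite k ↥((𝒯 1).map ψ.toLinearMap) := by
    rw [hT.2 1]
    exact finite_span_tmul (𝒜 1) (ℬ 1)
  exact Module.Finite.equiv (Submodule.equivMapOfInjective ψ.toLinearMap hT.1 (𝒯 1)).symm

end Ring

section Mod

variable {k : Type u} [Field k] {R S T : Type u} [CommRing R] [CommRing S] [CommRing T]
  [Algebra k R] [Algebra k S] [Algebra k T]
  (𝒜 : ℤ → Submodule k R) [GradedAlgebra 𝒜] (ℬ : ℤ → Submodule k S) [GradedAlgebra ℬ]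
  (𝒯 : ℤ → Submodule k T) [GradedAlgebra 𝒯] (ψ : T →ₐ[k] R ⊗[k] S)
  (hT : GrSeg.IsSegreRing 𝒜 ℬ 𝒯 ψ)
  {M : Type u} [AddCommGroup M] [Module R M] [Module k M] [IsScalarTower k R M]
  (ℳ : ℤ → AddSubgroup M) [DirectSum.Decomposition ℳ] [SetLike.GradedSMul 𝒜 ℳ]
  {N : Type u} [AddCommGroup N] [Module S N] [Module k N] [IsScalarTower k S N]
  (𝒩 : ℤ → AddSubgroup N) [DirectSum.Decomposition 𝒩] [SetLike.GradedSMul ℬ 𝒩]
  {P : Type u} [AddCommGroup P] [Module T P] [Module k P] [IsScalarTower k T P]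
  (𝒬 : ℤ → AddSubgroup P) [DirectSum.Decomposition 𝒬]
  (φ : P →ₗ[k] M ⊗[k] N) (hP : GrSeg.IsSegreMod ψ ℳ 𝒩 𝒬 φ)

theorem act_mem_segrePiece {i j : ℤ} {b : R ⊗[k] S} (hb : b ∈ GrSeg.segrePiece k 𝒜 ℬ i)
    {e : M ⊗[k] N} (he : e ∈ GrSeg.segrePiece k ℳ 𝒩 j) :
    GrSeg.act k R S M N b e ∈ GrSeg.segrePiece k ℳ 𝒩 (i + j) := by
  induction hb using Submodule.span_induction with
  | mem b hb =>
    obtain ⟨a, ha, a', ha', rfl⟩ := hb
    induction he using Submodule.span_induction with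
    | mem e he =>
      obtain ⟨m, hm, n, hn, rfl⟩ := he
      rw [GrSeg.act_tmul]
      refine Submodule.subset_span ⟨a • m, ?_, a' • n, ?_, rfl⟩
      · have h := SetLike.GradedSMul.smul_mem (A := 𝒜) (B := ℳ) ha hm
        rwa [vadd_eq_add] at h
      · have h := SetLike.GradedSMul.smul_mem (A := ℬ) (B := 𝒩) ha' hn
        rwa [vadd_eq_add] at h
    | zero => rw [map_zero]; exact zero_mem _
    | add x y _ _ hx hy => rw [map_add]; exact add_mem hx hy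
    | smul r x _ hx => rw [map_smul]; exact Submodule.smul_mem _ _ hx
  | zero => rw [map_zero, LinearMap.zero_apply]; exact zero_mem _
  | add x y _ _ hx hy => rw [map_add, LinearMap.add_apply]; exact add_mem hx hy
  | smul r x _ hx => rw [map_smul, LinearMap.smul_apply]; exact Submodule.smul_mem _ _ hx

include hT hP in
theorem gradedSMul_of_isSegreMod : SetLike.GradedSMul 𝒯 𝒬 := by
  refine ⟨fun {i j t p} ht hp => ?_⟩
  rw [vadd_eq_add]
  have h1 : φ p ∈ GrSeg.segrePiece k ℳ 𝒩 j := by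
    have h : φ p ∈ φ '' (𝒬 j : Set P) := ⟨p, hp, rfl⟩
    rwa [hP.image_piece j] at h
  have h2 := act_mem_segrePiece 𝒜 ℬ ℳ 𝒩 (psi_mem 𝒜 ℬ 𝒯 ψ hT ht) h1
  rw [← hP.map_smul] at h2
  have h3 : φ (t • p) ∈ φ '' (𝒬 (i + j) : Set P) := by
    rw [hP.image_piece]
    exact h2
  obtain ⟨q, hq, e⟩ := h3
  rw [← hP.injective e]
  exact hq

include hP in
theorem finrank_segre_piece [SetLike.GradedSMul 𝒯 𝒬] (n : ℤ) :
    Module.finrank k (pieceSub 𝒯 𝒬 n) =
      Module.finrank k (pieceSub 𝒜 ℳ n) * Module.finrank k (pieceSub ℬ 𝒩 n) := by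
  have h1 : (pieceSub 𝒯 𝒬 n).map φ = GrSeg.segrePiece k ℳ 𝒩 n := by
    apply SetLike.coe_injective
    rw [Submodule.map_coe]
    exact hP.image_piece n
  rw [(Submodule.equivMapOfInjective φ hP.injective (pieceSub 𝒯 𝒬 n)).finrank_eq, h1]
  exact finrank_span_tmul (pieceSub 𝒜 ℳ n) (pieceSub ℬ 𝒩 n)

end Mod

section Final

/-- **Dimension of a Segre product of modules**: `dim (M # N) = dim M + dim N - 1`. -/
theorem supportDim_segre (k : Type u) [Field k] (R : Type u) [CommRing R] [Algebra k R]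
    (𝒜 : ℤ → Submodule k R) [GradedAlgebra 𝒜] (hposR : ∀ n : ℤ, n < 0 → 𝒜 n = ⊥)
    (h0R : 𝒜 0 = Submodule.span k {(1 : R)}) [Algebra.FiniteType k R]
    (S : Type u) [CommRing S] [Algebra k S] (ℬ : ℤ → Submodule k S) [GradedAlgebra ℬ]
    (hposS : ∀ n : ℤ, n < 0 → ℬ n = ⊥) (h0S : ℬ 0 = Submodule.span k {(1 : S)})
    [Algebra.FiniteType k S] (T : Type u) [CommRing T] [Algebra k T] (𝒯 : ℤ → Submodule k T)
    [GradedAlgebra 𝒯] (ψ : T →ₐ[k] TensorProduct k R S) (hT : GrSeg.IsSegreRing 𝒜 ℬ 𝒯 ψ)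
    (hstdR : Ideal.span (⋃ n ∈ Set.Ioi (0 : ℤ), (𝒜 n : Set R)) =
      Ideal.span ((𝒜 1 : Submodule k R) : Set R))
    (hstdS : Ideal.span (⋃ n ∈ Set.Ioi (0 : ℤ), (ℬ n : Set S)) =
      Ideal.span ((ℬ 1 : Submodule k S) : Set S))
    (M : Type u) [AddCommGroup M] [Module R M] [Module k M] [IsScalarTower k R M]
    (ℳ : ℤ → AddSubgroup M) [DirectSum.Decomposition ℳ] [SetLike.GradedSMul 𝒜 ℳ]
    [Module.Finite R M] (N : Type u) [AddCommGroup N] [Module S N] [Module k N]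
    [IsScalarTower k S N] (𝒩 : ℤ → AddSubgroup N) [DirectSum.Decomposition 𝒩]
    [SetLike.GradedSMul ℬ 𝒩] [Module.Finite S N] (P : Type u) [AddCommGroup P] [Module T P]
    [Module k P] [IsScalarTower k T P] (𝒬 : ℤ → AddSubgroup P) [DirectSum.Decomposition 𝒬]
    (φ : P →ₗ[k] TensorProduct k M N) (hP : GrSeg.IsSegreMod ψ ℳ 𝒩 𝒬 φ) (dM dN : ℕ)
    (hdM : Module.supportDim R M = dM) (hdN : Module.supportDim S N = dN)
    (hMA : ¬ IsArtinian R M) (hNA : ¬ IsArtinian S N) :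
    Module.supportDim T P = ((dM + dN - 1 : ℕ) : WithBot ℕ∞) := by
  classical
  haveI hR1 : Module.Finite k (𝒜 1) := finite_piece_one 𝒜 h0R
  haveI hS1 : Module.Finite k (ℬ 1) := finite_piece_one ℬ h0S
  obtain ⟨nR, xR, hxR⟩ := exists_isStd 𝒜 hposR h0R hstdR
  obtain ⟨nS, xS, hxS⟩ := exists_isStd ℬ hposS h0S hstdS
  have hposT := segre_neg 𝒜 ℬ 𝒯 ψ hT hposR
  have h0T := segre_zero 𝒜 ℬ 𝒯 ψ hT h0R h0S
  have hirrT := segre_hirr 𝒜 ℬ 𝒯 ψ hT hstdR hstdS
  haveI hT1 : Module.Finite k (𝒯 1) := segre_finite_one 𝒜 ℬ 𝒯 ψ hT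
  obtain ⟨nT, xT, hxT⟩ := exists_isStd 𝒯 hposT h0T hirrT
  haveI hgr : SetLike.GradedSMul 𝒯 𝒬 := gradedSMul_of_isSegreMod 𝒜 ℬ 𝒯 ψ hT ℳ 𝒩 𝒬 φ hP
  letI := pieceDecomposition 𝒜 ℳ
  letI := pieceDecomposition ℬ 𝒩
  letI := pieceDecomposition 𝒯 𝒬
  haveI := gradedSMul_pieceSub 𝒜 ℳ
  haveI := gradedSMul_pieceSub ℬ 𝒩
  haveI := gradedSMul_pieceSub 𝒯 𝒬
  haveI : IsNoetherian T P := isNoetherian_of_isSegreMod k R 𝒜 S ℬ T 𝒯 ψ hT M ℳ N 𝒩 P 𝒬 φ hP
  haveI : Module.Finite T P := inferInstance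
  have hdM1 : 1 ≤ dM := by
    by_contra hlt
    have h0 : dM = 0 := by omega
    apply hMA
    haveI : Module.Finite k M :=
      finite_of_supportDim_le_zero 𝒜 (pieceSub 𝒜 ℳ) xR hxR (by rw [hdM, h0, Nat.cast_zero])
    haveI : IsArtinian k M := inferInstance
    exact isArtinian_of_tower k inferInstance
  have hdN1 : 1 ≤ dN := by
    by_contra hlt
    have h0 : dN = 0 := by omega
    apply hNA
    haveI : Module.Finite k N :=
      finite_of_supportDim_le_zero ℬ (pieceSub ℬ 𝒩) xS hxS (by rw [hdN, h0, Nat.cast_zero])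
    haveI : IsArtinian k N := inferInstance
    exact isArtinian_of_tower k inferInstance
  obtain ⟨δM, rfl⟩ : ∃ δM, dM = δM + 1 := ⟨dM - 1, by omega⟩
  obtain ⟨δN, rfl⟩ : ∃ δN, dN = δN + 1 := ⟨dN - 1, by omega⟩
  have lowM := exists_pow_le_finrank 𝒜 (pieceSub 𝒜 ℳ) xR hxR δM hdM
  have lowN := exists_pow_le_finrank ℬ (pieceSub ℬ 𝒩) xS hxS δN hdN
  have upM := exists_finrank_le 𝒜 (pieceSub 𝒜 ℳ) xR hxR δM hdM.le
  have upN := exists_finrank_le ℬ (pieceSub ℬ 𝒩) xS hxS δN hdN.le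
  have hmul : ∀ j, Module.finrank k (pieceSub 𝒯 𝒬 j) =
      Module.finrank k (pieceSub 𝒜 ℳ j) * Module.finrank k (pieceSub ℬ 𝒩 j) :=
    finrank_segre_piece 𝒜 ℬ 𝒯 ψ ℳ 𝒩 𝒬 φ hP
  have hne : Module.supportDim T P ≠ ⊥ := by
    rw [Module.supportDim_ne_bot_iff_nontrivial]
    by_contra hsub
    rw [not_nontrivial_iff_subsingleton] at hsub
    obtain ⟨aM, haM⟩ := lowM
    obtain ⟨aN, haN⟩ := lowN
    have h1 := haM (max aM aN) (le_max_left _ _) 0
    have h2 := haN (max aM aN) (le_max_right _ _) 0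
    have h3 := hmul (((0 : ℕ) : ℤ) + max aM aN)
    rw [Module.finrank_zero_of_subsingleton] at h3
    simp only [one_pow, zero_add] at h1 h2
    rcases Nat.mul_eq_zero.1 h3.symm with h | h
    · rw [h] at h1; omega
    · rw [h] at h2; omega
  have hle : Module.supportDim T P ≤ ((nT + 1 : ℕ) : WithBot ℕ∞) := by
    refine (Module.supportDim_le_ringKrullDim T P).trans ?_
    have h1 := ringKrullDim_le_of_surjective
      ((MvPolynomial.aeval xT : MvPolynomial (Fin (nT + 1)) k →ₐ[k] T) :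
        MvPolynomial (Fin (nT + 1)) k →+* T) hxT.aeval_surjective
    rw [MvPolynomial.ringKrullDim_of_isNoetherianRing, ringKrullDim_eq_zero_of_field, zero_add,
      Nat.card_eq_fintype_card, Fintype.card_fin] at h1
    exact h1
  obtain ⟨e, he⟩ : ∃ e : ℕ, Module.supportDim T P = e := by
    obtain ⟨a, ha⟩ := WithBot.ne_bot_iff_exists.1 hne
    rw [← ha] at hle
    have hle' : a ≤ ((nT + 1 : ℕ) : ℕ∞) := by exact_mod_cast hle
    obtain ⟨m, hm⟩ := ENat.ne_top_iff_exists.1 (ne_top_of_le_ne_top (ENat.natCast_ne_top _) hle')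
    exact ⟨m, by rw [← ha, ← hm]; rfl⟩
  rw [he]
  have key := dim_eq_of_growth (fun j => Module.finrank k (pieceSub 𝒜 ℳ j))
    (fun j => Module.finrank k (pieceSub ℬ 𝒩 j)) (fun j => Module.finrank k (pieceSub 𝒯 𝒬 j))
    hmul δM δN e lowM lowN upM upN ?_ ?_ ?_
  · rw [key]
    congr 1
    omega
  · intro e' hee'
    exact exists_pow_le_finrank 𝒯 (pieceSub 𝒯 𝒬) xT hxT e' (by rw [he, hee'])
  · intro e' hee'
    exact exists_finrank_le 𝒯 (pieceSub 𝒯 𝒬) xT hxT e' (by rw [he, hee'])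
  · intro he0
    exact exists_finrank_eq_zero 𝒯 (pieceSub 𝒯 𝒬) xT hxT (by rw [he, he0, Nat.cast_zero])

end Final

end Groth.Agent.Lib.Seat97.HilbSegre
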