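import Mathlib
import Groth.Prelude.Def_DeRham

set_option autoImplicit false
universe u

/-!
# Kähler differentials of the Laurent polynomial ring `k[T, T⁻¹]` over a field `k`

`Ω[k[T;T⁻¹]⁄k]` is generated by `dT`, the Euler derivation `T d/dT` gives an injective
`A`-linear map `Ω → A`, and every Laurent polynomial is `θ f + c`.
-/

namespace Groth.Agent.Lib.Seat97.Laurent

open LaurentPolynomial

variable (k : Type u) [Field k]

/-- The Euler operator `t d/dt` as a `k`-linear map. -/
noncomputable def euler : LaurentPolynomial k →ₗ[k] LaurentPolynomial k :=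
  (AddMonoidAlgebra.coeffLinearEquiv k).symm.toLinearMap ∘ₗ
    (Finsupp.lsum k (fun n : ℤ => (n : k) • Finsupp.lsingle (R := k) (M := k) n)) ∘ₗ
    (AddMonoidAlgebra.coeffLinearEquiv k).toLinearMap

theorem euler_single (n : ℤ) (r : k) :
    euler k (AddMonoidAlgebra.single n r) = AddMonoidAlgebra.single n ((n : k) * r) := by
  apply AddMonoidAlgebra.coeff_injective
  show (Finsupp.lsum k (fun n : ℤ => (n : k) • Finsupp.lsingle (R := k) (M := k) n))
    (Finsupp.single n r) = Finsupp.single n ((n : k) * r)
  rw [Finsupp.lsum_single, LinearMap.smul_apply, Finsupp.lsingle_apply, Finsupp.smul_single,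
    smul_eq_mul]

theorem euler_coeff (f : LaurentPolynomial k) (n : ℤ) :
    (euler k f).coeff n = (n : k) * f.coeff n := by
  induction f using AddMonoidAlgebra.induction_linear with
  | zero => simp
  | add f g hf hg => rw [map_add, AddMonoidAlgebra.coeff_add, Finsupp.add_apply, hf, hg,
      AddMonoidAlgebra.coeff_add, Finsupp.add_apply, mul_add]
  | single m r =>
    rw [euler_single, AddMonoidAlgebra.coeff_single, AddMonoidAlgebra.coeff_single]
    by_cases h : m = n
    · subst h; simp
    · simp [Finsupp.single_eq_of_ne, Ne.symm h]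

theorem euler_leibniz (f g : LaurentPolynomial k) :
    euler k (f * g) = f • euler k g + g • euler k f := by
  induction f using AddMonoidAlgebra.induction_linear with
  | zero => simp
  | add f₁ f₂ h₁ h₂ =>
    rw [add_mul, map_add, h₁, h₂, map_add, add_smul, smul_add]; abel
  | single m r =>
    induction g using AddMonoidAlgebra.induction_linear with
    | zero => simp
    | add g₁ g₂ h₁ h₂ =>
      rw [mul_add, map_add, h₁, h₂, map_add, add_smul, smul_add]; abel
    | single n s =>
      rw [AddMonoidAlgebra.single_mul_single, euler_single, euler_single, euler_single,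
        smul_eq_mul, smul_eq_mul, AddMonoidAlgebra.single_mul_single,
        AddMonoidAlgebra.single_mul_single, add_comm n m, ← AddMonoidAlgebra.single_add]
      congr 1
      push_cast
      ring

/-- The Euler derivation. -/
noncomputable def eulerDer :
    Derivation k (LaurentPolynomial k) (LaurentPolynomial k) :=
  Derivation.mk' (euler k) (euler_leibniz k)

theorem eulerDer_apply (f : LaurentPolynomial k) : eulerDer k f = euler k f := rfl

/-- The `A`-linear map `Ω → A`, `df ↦ t f'`. -/
noncomputable def Lmap : Ω[LaurentPolynomial k⁄k] →ₗ[LaurentPolynomial k] LaurentPolynomial k :=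
  (eulerDer k).liftKaehlerDifferential

theorem Lmap_D (f : LaurentPolynomial k) :
    Lmap k (KaehlerDifferential.D k (LaurentPolynomial k) f) = euler k f :=
  Derivation.liftKaehlerDifferential_comp_D _ _

theorem euler_T (n : ℤ) : euler k (T n) = (n : k) • T n := by
  unfold T
  rw [euler_single, mul_one, AddMonoidAlgebra.smul_single, smul_eq_mul, mul_one]

/-- `d(T^m)` is a multiple of `dT`. -/
theorem D_T_mem (m : ℤ) : KaehlerDifferential.D k (LaurentPolynomial k) (T m) ∈
    Submodule.span (LaurentPolynomial k) {KaehlerDifferential.D k (LaurentPolynomial k) (T 1)} := by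
  induction m using Int.induction_on with
  | zero =>
    rw [T_zero, Derivation.map_one_eq_zero]
    exact Submodule.zero_mem _
  | succ i ih =>
    rw [T_add, Derivation.leibniz]
    exact Submodule.add_mem _ (Submodule.smul_mem _ _ (Submodule.subset_span rfl))
      (Submodule.smul_mem _ _ ih)
  | pred i ih =>
    -- `T (-i) = T (-i-1) * T 1`
    have h1 : (T (-(i : ℤ)) : LaurentPolynomial k) = T (-(i : ℤ) - 1) * T 1 := by
      rw [← T_add]; congr 1; ring
    have h2 := congrArg (KaehlerDifferential.D k (LaurentPolynomial k)) h1
    rw [Derivation.leibniz] at h2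
    -- `T 1 • D (T (-i-1)) = D (T (-i)) - T (-i-1) • D (T 1)`
    have h3 : (T 1 : LaurentPolynomial k) • KaehlerDifferential.D k (LaurentPolynomial k) (T (-(i : ℤ) - 1))
        = KaehlerDifferential.D k (LaurentPolynomial k) (T (-(i : ℤ)))
          - (T (-(i : ℤ) - 1) : LaurentPolynomial k) • KaehlerDifferential.D k (LaurentPolynomial k) (T 1) := by
      rw [h2]; abel
    have h4 : KaehlerDifferential.D k (LaurentPolynomial k) (T (-(i : ℤ) - 1)) =
        (T (-1) : LaurentPolynomial k) • ((T 1 : LaurentPolynomial k) •
          KaehlerDifferential.D k (LaurentPolynomial k) (T (-(i : ℤ) - 1))) := by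
      rw [smul_smul, ← T_add]
      norm_num
    rw [h4, h3]
    exact Submodule.smul_mem _ _ (Submodule.sub_mem _ ih
      (Submodule.smul_mem _ _ (Submodule.subset_span rfl)))

theorem D_mem (f : LaurentPolynomial k) : KaehlerDifferential.D k (LaurentPolynomial k) f ∈
    Submodule.span (LaurentPolynomial k) {KaehlerDifferential.D k (LaurentPolynomial k) (T 1)} := by
  induction f using AddMonoidAlgebra.induction_linear with
  | zero => rw [map_zero]; exact Submodule.zero_mem _
  | add f g hf hg => rw [map_add]; exact Submodule.add_mem _ hf hg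
  | single n r =>
    have : (AddMonoidAlgebra.single n r : LaurentPolynomial k) = r • T n := by
      unfold T
      rw [AddMonoidAlgebra.smul_single, smul_eq_mul, mul_one]
    rw [this, Derivation.map_smul]
    have h := D_T_mem k n
    rw [← algebraMap_smul (LaurentPolynomial k) r]
    exact Submodule.smul_mem _ _ h

/-- Every Kähler differential of `k[T;T⁻¹]` is a multiple of `dT`. -/
theorem exists_eq_smul_dT (ω : Ω[LaurentPolynomial k⁄k]) :
    ∃ a : LaurentPolynomial k, ω = a • KaehlerDifferential.D k (LaurentPolynomial k) (T 1) := by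
  have hω : ω ∈ Submodule.span (LaurentPolynomial k)
      (Set.range (KaehlerDifferential.D k (LaurentPolynomial k))) := by
    rw [KaehlerDifferential.span_range_derivation]; exact Submodule.mem_top
  have hle : Submodule.span (LaurentPolynomial k)
      (Set.range (KaehlerDifferential.D k (LaurentPolynomial k))) ≤
      Submodule.span (LaurentPolynomial k) {KaehlerDifferential.D k (LaurentPolynomial k) (T 1)} := by
    rw [Submodule.span_le]
    rintro _ ⟨f, rfl⟩
    exact D_mem k f
  obtain ⟨a, ha⟩ := Submodule.mem_span_singleton.mp (hle hω)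
  exact ⟨a, ha.symm⟩

theorem Lmap_dT : Lmap k (KaehlerDifferential.D k (LaurentPolynomial k) (T 1)) = T 1 := by
  rw [Lmap_D, euler_T]
  simp

theorem Lmap_injective : Function.Injective (Lmap k) := by
  rw [← LinearMap.ker_eq_bot, Submodule.eq_bot_iff]
  intro ω hω
  obtain ⟨a, rfl⟩ := exists_eq_smul_dT k ω
  rw [LinearMap.mem_ker, map_smul, Lmap_dT, smul_eq_mul] at hω
  have : a = 0 := by
    have h := congrArg (fun x => x * (T (-1) : LaurentPolynomial k)) hω
    simp only [zero_mul, mul_assoc, ← T_add] at h
    simpa using h
  rw [this, zero_smul]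

/-- In characteristic zero every Laurent polynomial is `θ f + c` with `c` a constant. -/
theorem exists_euler_add_C [CharZero k] (b : LaurentPolynomial k) :
    ∃ (f : LaurentPolynomial k) (c : k), b = euler k f + C c := by
  induction b using AddMonoidAlgebra.induction_linear with
  | zero => exact ⟨0, 0, by simp⟩
  | add b₁ b₂ h₁ h₂ =>
    obtain ⟨f₁, c₁, rfl⟩ := h₁
    obtain ⟨f₂, c₂, rfl⟩ := h₂
    exact ⟨f₁ + f₂, c₁ + c₂, by rw [map_add, map_add]; abel⟩
  | single n r =>
    by_cases hn : n = 0
    · subst hn
      exact ⟨0, r, by rw [map_zero, zero_add]; rfl⟩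
    · refine ⟨AddMonoidAlgebra.single n (r / (n : k)), 0, ?_⟩
      have hn' : (n : k) ≠ 0 := by exact_mod_cast hn
      rw [euler_single, map_zero, add_zero, mul_div_cancel₀ _ hn']

end Groth.Agent.Lib.Seat97.Laurent

namespace Groth.Agent.Lib.Seat97.Laurent

open exteriorPower

/-- If a module is generated by one element, its exterior powers of degree `≥ 2` vanish. -/
theorem extPow_subsingleton_of_span_singleton {R M : Type u} [CommRing R] [AddCommGroup M]
    [Module R M] (v : M) (hv : ∀ m : M, ∃ a : R, m = a • v) (p : ℕ) (hp : 2 ≤ p) :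
    Subsingleton ↥(⋀[R]^p M) := by
  have hzero : ∀ x : ↥(⋀[R]^p M), x = 0 := by
    intro x
    have hx : x ∈ Submodule.span R (Set.range (ιMulti R p (M := M))) := by
      rw [ιMulti_span]; exact Submodule.mem_top
    induction hx using Submodule.span_induction with
    | mem y hy =>
      obtain ⟨m, rfl⟩ := hy
      choose a ha using fun i => hv (m i)
      have : m = fun i => a i • v := funext ha
      rw [this, (ιMulti R p (M := M)).map_smul_univ]
      have h0 : ιMulti R p (fun _ : Fin p => v) = 0 :=
        (ιMulti R p (M := M)).map_eq_zero_of_eq (fun _ => v) (i := ⟨0, by omega⟩) (j := ⟨1, by omega⟩)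
          rfl (by simp [Fin.ext_iff])
      rw [h0, smul_zero]
    | zero => rfl
    | add x y _ _ hx hy => rw [hx, hy, add_zero]
    | smul c x _ hx => rw [hx, smul_zero]
  exact ⟨fun x y => by rw [hzero x, hzero y]⟩

end Groth.Agent.Lib.Seat97.Laurent
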