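import Mathlib
import Groth.Prelude.Def_DeRham

/-!
# Surjectivity of the last Čech differential for a chart of a normal crossings divisor (seat 97)
-/

set_option autoImplicit false
set_option linter.unusedSectionVars false
universe u
open exteriorPower

namespace Groth.Agent.Lib.Seat97.SNCCech

section Top

variable {A' V : Type u} [CommRing A'] [AddCommGroup V] [Module A' V]

/-- If `V` is spanned by `v : Fin d → V`, and `v` vanishes on `Z` whose complement has `m`
elements, then `⋀^m V` is generated by the wedge of the `v l`, `l ∉ Z`. -/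
theorem top_wedge {d m : ℕ} (v : Fin d → V) (hv : Submodule.span A' (Set.range v) = ⊤)
    (Z : Finset (Fin d)) (hZ : ∀ z ∈ Z, v z = 0) (hc : Zᶜ.card = m) (g : ⋀[A']^m V) :
    ∃ a : A', g = a • ιMulti A' m (v ∘ (Zᶜ.orderEmbOfFin hc)) := by
  have h := exteriorPower.ιMulti_family_span_of_span (R := A') (n := m) hv
  have hg : g ∈ Submodule.span A' (Set.range (ιMulti_family A' m v)) := by rw [h]; trivial
  have hle : Submodule.span A' (Set.range (ιMulti_family A' m v)) ≤
      Submodule.span A' {ιMulti A' m (v ∘ (Zᶜ.orderEmbOfFin hc))} := by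
    rw [Submodule.span_le]
    rintro _ ⟨s', rfl⟩
    by_cases hs : s'.val = Zᶜ
    · have : s' = ⟨Zᶜ, hc⟩ := Subtype.ext hs
      subst this
      exact Submodule.subset_span rfl
    · have : ∃ y ∈ s'.val, y ∈ Z := by
        by_contra hcon
        simp only [not_exists, not_and] at hcon
        apply hs
        apply Finset.eq_of_subset_of_card_le
        · intro y hy
          simp [hcon y hy]
        · rw [hc, s'.prop]
      obtain ⟨y, hy, hyZ⟩ := this
      obtain ⟨x, hx⟩ := (Set.powersetCard.mem_range_ofFinEmbEquiv_symm_iff_mem s' y).mpr hy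
      have h0 : ιMulti_family A' m v s' = 0 := by
        unfold ιMulti_family
        apply (ιMulti A' m).map_coord_zero x
        simp [hx, hZ y hyZ]
      rw [h0]
      exact zero_mem _
  obtain ⟨a, ha⟩ := Submodule.mem_span_singleton.1 (hle hg)
  exact ⟨a, ha.symm⟩

end Top

section Quot

variable (k A : Type u) [CommRing k] [CommRing A] [Algebra k A]

theorem span_D_quot {d : ℕ} (t : Fin d → A)
    (hspan : Submodule.span A (Set.range fun i => KaehlerDifferential.D k A (t i)) = ⊤)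
    (I : Ideal A) :
    Submodule.span (A ⧸ I)
      (Set.range fun i => KaehlerDifferential.D k (A ⧸ I) (Ideal.Quotient.mk I (t i))) = ⊤ := by
  rw [eq_top_iff, ← KaehlerDifferential.span_range_derivation k (A ⧸ I), Submodule.span_le]
  rintro _ ⟨x, rfl⟩
  obtain ⟨a, rfl⟩ := Ideal.Quotient.mk_surjective x
  have h1 : KaehlerDifferential.D k (A ⧸ I) (Ideal.Quotient.mk I a) =
      KaehlerDifferential.map k k A (A ⧸ I) (KaehlerDifferential.D k A a) :=
    (KaehlerDifferential.map_D k k A (A ⧸ I) a).symm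
  rw [h1]
  have ha : KaehlerDifferential.D k A a ∈
      Submodule.span A (Set.range fun i => KaehlerDifferential.D k A (t i)) := by
    rw [hspan]; trivial
  generalize KaehlerDifferential.D k A a = z at ha
  induction ha using Submodule.span_induction with
  | mem y hy =>
    obtain ⟨i, rfl⟩ := hy
    rw [KaehlerDifferential.map_D]
    exact Submodule.subset_span ⟨i, rfl⟩
  | zero => rw [map_zero]; exact zero_mem _
  | add y y' _ _ hy hy' => rw [map_add]; exact add_mem hy hy'
  | smul c y _ hy =>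
    rw [map_smul, ← algebraMap_smul (A ⧸ I) c]
    exact Submodule.smul_mem _ _ hy

end Quot

section Main

variable (k A : Type u) [CommRing k] [CommRing A] [Algebra k A]

open DeRham in
theorem cech_surj (d n : ℕ) (t : Fin d → A) (e : Fin n ↪ Fin d)
    (hspan : Submodule.span A (Set.range fun i => KaehlerDifferential.D k A (t i)) = ⊤)
    (𝔞 : Finset (Fin n) → Ideal A) (hmono : ∀ I J, I ⊆ J → 𝔞 I ≤ 𝔞 J)
    (hmem : ∀ I : Finset (Fin n), ∀ i ∈ I, t (e i) ∈ 𝔞 I)
    (ψ : ∀ (I J : Finset (Fin n)) (p : ℕ),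
      ↥(⋀[(A ⧸ 𝔞 I)]^p (Ω[(A ⧸ 𝔞 I)⁄k])) →+ ↥(⋀[(A ⧸ 𝔞 J)]^p (Ω[(A ⧸ 𝔞 J)⁄k])))
    (hψ : ∀ (I J : Finset (Fin n)) (h : I ⊆ J),
      DeRham.IsCxMap (KaehlerDifferential.D k (A ⧸ 𝔞 I)) (KaehlerDifferential.D k (A ⧸ 𝔞 J))
        (Ideal.Quotient.factor (hmono I J h)) (ψ I J))
    (s m : ℕ) (hs : s + 1 + m = d)
    (g : ∀ J : Finset (Fin n), ↥(⋀[(A ⧸ 𝔞 J)]^m (Ω[(A ⧸ 𝔞 J)⁄k]))) :
    ∃ ω : ∀ I : Finset (Fin n), ↥(⋀[(A ⧸ 𝔞 I)]^m (Ω[(A ⧸ 𝔞 I)⁄k])),
      ∀ J : Finset (Fin n), J.card = s + 1 →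
        (∑ j ∈ J.attach,
          ((-1 : ℤ) ^ (J.filter (fun i => i < j.1)).card) •
            ψ (J.erase j.1) J m (ω (J.erase j.1))) = g J := by
  classical
  -- step 1: generators
  have hJ : ∀ J : Finset (Fin n), ∃ (l : Fin m → Fin d) (a : A), J.card = s + 1 →
      (g J = gen (KaehlerDifferential.D k (A ⧸ 𝔞 J)) m (Ideal.Quotient.mk (𝔞 J) a)
          (fun x => Ideal.Quotient.mk (𝔞 J) (t (l x))) ∧
        ∀ y, y ∉ J.map e → ∃ x, l x = y) := by
    intro J
    by_cases hc : J.card = s + 1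
    · have hcard : ((J.map e)ᶜ).card = m := by
        rw [Finset.card_compl, Finset.card_map, Fintype.card_fin, hc]; omega
      have hZ : ∀ z ∈ J.map e, (fun l => KaehlerDifferential.D k (A ⧸ 𝔞 J)
          (Ideal.Quotient.mk (𝔞 J) (t l))) z = 0 := by
        intro z hz
        obtain ⟨j, hj, rfl⟩ := Finset.mem_map.1 hz
        have h0 : Ideal.Quotient.mk (𝔞 J) (t (e j)) = 0 :=
          Ideal.Quotient.eq_zero_iff_mem.2 (hmem J j hj)
        simp only [h0, map_zero]
      obtain ⟨a', ha'⟩ := top_wedge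
        (fun l => KaehlerDifferential.D k (A ⧸ 𝔞 J) (Ideal.Quotient.mk (𝔞 J) (t l)))
        (span_D_quot k A t hspan (𝔞 J)) (J.map e) hZ hcard (g J)
      obtain ⟨a, rfl⟩ := Ideal.Quotient.mk_surjective a'
      refine ⟨fun x => (J.map e)ᶜ.orderEmbOfFin hcard x, a, fun _ => ⟨ha', ?_⟩⟩
      intro y hy
      have hy' : y ∈ Set.range ((J.map e)ᶜ.orderEmbOfFin hcard) := by
        rw [Finset.range_orderEmbOfFin]
        simpa using hy
      exact hy'
    · exact ⟨fun _ => ⟨0, by omega⟩, 0, fun h => absurd h hc⟩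
  choose l a hla using hJ
  obtain ⟨term, hterm⟩ : ∃ term : ∀ (I _J : Finset (Fin n)), ↥(⋀[(A ⧸ 𝔞 I)]^m (Ω[(A ⧸ 𝔞 I)⁄k])),
      ∀ I J, term I J = gen (KaehlerDifferential.D k (A ⧸ 𝔞 I)) m (Ideal.Quotient.mk (𝔞 I) (a J))
        (fun x => Ideal.Quotient.mk (𝔞 I) (t (l J x))) := ⟨_, fun _ _ => rfl⟩
  have P1 : ∀ (I K J : Finset (Fin n)) (h : I ⊆ K), ψ I K m (term I J) = term K J := by
    intro I K J h
    have h1 := hψ I K h m (Ideal.Quotient.mk (𝔞 I) (a J))
      (fun x => Ideal.Quotient.mk (𝔞 I) (t (l J x)))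
    rw [hterm, hterm, h1]
    simp only [Ideal.Quotient.factor_mk]
  have P2 : ∀ J : Finset (Fin n), J.card = s + 1 → term J J = g J :=
    fun J hc => (hterm J J).trans ((hla J hc).1).symm
  have P3 : ∀ K J : Finset (Fin n), J.card = s + 1 → ¬ K ⊆ J → term K J = 0 := by
    intro K J hc hKJ
    obtain ⟨i, hiK, hiJ⟩ := Finset.not_subset.1 hKJ
    have hy : e i ∉ J.map e := by simpa using hiJ
    obtain ⟨x, hx⟩ := (hla J hc).2 (e i) hy
    have h0 : Ideal.Quotient.mk (𝔞 K) (t (l J x)) = 0 := by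
      rw [hx]; exact Ideal.Quotient.eq_zero_iff_mem.2 (hmem K i hiK)
    rw [hterm]
    unfold gen
    rw [(ιMulti _ m).map_coord_zero x (by simp only [h0, map_zero]), smul_zero]
  let F : Finset (Fin n) → Finset (Finset (Fin n)) := fun I =>
    Finset.univ.filter (fun J' => J'.card = s + 1 ∧ ∃ j ∈ J', (∀ i ∈ J', j ≤ i) ∧ J'.erase j = I)
  refine ⟨fun I => ∑ J' ∈ F I, term I J', ?_⟩
  intro J hc
  have hmain : ∀ j : {x // x ∈ J},
      ψ (J.erase j.1) J m (∑ J' ∈ F (J.erase j.1), term (J.erase j.1) J') =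
        if (∀ i ∈ J, j.1 ≤ i) then g J else 0 := by
    intro j
    rw [map_sum]
    rw [Finset.sum_congr rfl (fun J' _ => P1 _ _ J' (Finset.erase_subset j.1 J))]
    split_ifs with hmin
    · have hJF : J ∈ F (J.erase j.1) :=
        Finset.mem_filter.2 ⟨Finset.mem_univ _, hc, j.1, j.2, hmin, rfl⟩
      rw [Finset.sum_eq_single_of_mem J hJF, P2 J hc]
      intro J' hJ' hne
      have hc' : J'.card = s + 1 := (Finset.mem_filter.1 hJ').2.1
      apply P3 J J' hc'
      intro hsub
      exact hne (Finset.eq_of_subset_of_card_le hsub (by rw [hc, hc'])).symm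
    · apply Finset.sum_eq_zero
      intro J' hJ'
      obtain ⟨-, hc', j', hj', hmin', her⟩ := Finset.mem_filter.1 hJ'
      apply P3 J J' hc'
      intro hsub
      have hJJ' : J = J' := Finset.eq_of_subset_of_card_le hsub (by rw [hc, hc'])
      subst hJJ'
      have hjj : j' = j.1 := by
        by_contra hne
        have h1 : j.1 ∈ J.erase j' := Finset.mem_erase.2 ⟨fun h => hne h.symm, j.2⟩
        rw [her] at h1
        exact Finset.notMem_erase _ _ h1
      subst hjj
      exact hmin hmin'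
  rw [Finset.sum_congr rfl (fun j _ => by rw [hmain j])]
  have hne : J.Nonempty := Finset.card_pos.1 (by omega)
  rw [Finset.sum_eq_single ⟨J.min' hne, Finset.min'_mem J hne⟩]
  · have hf : J.filter (fun i => i < J.min' hne) = ∅ := by
      ext i
      simp only [Finset.mem_filter, Finset.notMem_empty, iff_false, not_and, not_lt]
      intro hi
      exact Finset.min'_le J i hi
    rw [hf, Finset.card_empty, pow_zero, one_smul, if_pos]
    intro i hi
    exact Finset.min'_le J i hi
  · intro j _ hj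
    rw [if_neg, smul_zero]
    intro hmin
    apply hj
    apply Subtype.ext
    exact le_antisymm (hmin _ (Finset.min'_mem J hne)) (Finset.min'_le J _ j.2)
  · intro h
    exact absurd (Finset.mem_attach _ _) h

end Main

end Groth.Agent.Lib.Seat97.SNCCech
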