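import Mathlib
import Groth.Prelude.Def_DeRham
import Groth.Agent.Lib.Seat97SNCCech

/-!
# Top-degree cochains of the total complex of a normal crossings chart (seat 97)
-/

set_option autoImplicit false
set_option linter.unusedSectionVars false
universe u
open exteriorPower

namespace Groth.Agent.Lib.Seat97.SNCTotal

open Groth.Agent.Lib.Seat97.SNCCech

variable (k A : Type u) [CommRing k] [CommRing A] [Algebra k A]

theorem total_top (d n : ℕ) (t : Fin d → A) (e : Fin n ↪ Fin d)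
    (hspan : Submodule.span A (Set.range fun i => KaehlerDifferential.D k A (t i)) = ⊤)
    (𝔞 : Finset (Fin n) → Ideal A) (hmono : ∀ I J, I ⊆ J → 𝔞 I ≤ 𝔞 J)
    (hmem : ∀ I : Finset (Fin n), ∀ i ∈ I, t (e i) ∈ 𝔞 I)
    (ψ : ∀ (I J : Finset (Fin n)) (p : ℕ),
      ↥(⋀[(A ⧸ 𝔞 I)]^p (Ω[(A ⧸ 𝔞 I)⁄k])) →+ ↥(⋀[(A ⧸ 𝔞 J)]^p (Ω[(A ⧸ 𝔞 J)⁄k])))
    (hψ : ∀ (I J : Finset (Fin n)) (h : I ⊆ J),
      DeRham.IsCxMap (KaehlerDifferential.D k (A ⧸ 𝔞 I)) (KaehlerDifferential.D k (A ⧸ 𝔞 J))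
        (Ideal.Quotient.factor (hmono I J h)) (ψ I J))
    (dq : ∀ (I : Finset (Fin n)) (p : ℕ),
      ↥(⋀[(A ⧸ 𝔞 I)]^p (Ω[(A ⧸ 𝔞 I)⁄k])) →ₗ[k] ↥(⋀[(A ⧸ 𝔞 I)]^(p + 1) (Ω[(A ⧸ 𝔞 I)⁄k])))
    (ω : ∀ (J : Finset (Fin n)) (q : ℕ), ↥(⋀[(A ⧸ 𝔞 J)]^q (Ω[(A ⧸ 𝔞 J)⁄k]))) :
    ∃ η : ∀ (I : Finset (Fin n)) (q : ℕ), ↥(⋀[(A ⧸ 𝔞 I)]^q (Ω[(A ⧸ 𝔞 I)⁄k])),
      (∀ (J : Finset (Fin n)) (q : ℕ), J.Nonempty → J.card + (q + 1) = d →
        ω J (q + 1) =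
          (∑ j ∈ J.attach, ((-1 : ℤ) ^ (J.filter (fun i => i < j.1)).card) •
            ψ (J.erase j.1) J (q + 1) (η (J.erase j.1) (q + 1))) +
            ((-1 : ℤ) ^ J.card) • dq J q (η J q)) ∧
      (∀ J : Finset (Fin n), J.Nonempty → J.card = d →
        ω J 0 = ∑ j ∈ J.attach, ((-1 : ℤ) ^ (J.filter (fun i => i < j.1)).card) •
          ψ (J.erase j.1) J 0 (η (J.erase j.1) 0)) := by
  classical
  have step : ∀ (q : ℕ) (prev : ∀ I : Finset (Fin n), ↥(⋀[(A ⧸ 𝔞 I)]^q (Ω[(A ⧸ 𝔞 I)⁄k]))),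
      ∃ next : ∀ I : Finset (Fin n), ↥(⋀[(A ⧸ 𝔞 I)]^(q + 1) (Ω[(A ⧸ 𝔞 I)⁄k])),
        ∀ J : Finset (Fin n), J.Nonempty → J.card + (q + 1) = d →
          ω J (q + 1) =
            (∑ j ∈ J.attach, ((-1 : ℤ) ^ (J.filter (fun i => i < j.1)).card) •
              ψ (J.erase j.1) J (q + 1) (next (J.erase j.1))) +
              ((-1 : ℤ) ^ J.card) • dq J q (prev J) := by
    intro q prev
    by_cases h : q + 2 ≤ d
    · obtain ⟨next, hnext⟩ := cech_surj k A d n t e hspan 𝔞 hmono hmem ψ hψ (d - q - 2) (q + 1)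
        (by omega) (fun J => ω J (q + 1) - ((-1 : ℤ) ^ J.card) • dq J q (prev J))
      refine ⟨next, fun J _ hcard => ?_⟩
      rw [hnext J (by omega)]
      abel
    · refine ⟨fun _ => 0, fun J hJ hcard => ?_⟩
      have := Finset.card_pos.2 hJ
      omega
  have base : ∃ η0 : ∀ I : Finset (Fin n), ↥(⋀[(A ⧸ 𝔞 I)]^0 (Ω[(A ⧸ 𝔞 I)⁄k])),
      ∀ J : Finset (Fin n), J.Nonempty → J.card = d →
        ω J 0 = ∑ j ∈ J.attach, ((-1 : ℤ) ^ (J.filter (fun i => i < j.1)).card) •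
          ψ (J.erase j.1) J 0 (η0 (J.erase j.1)) := by
    by_cases h : 1 ≤ d
    · obtain ⟨η0, hη0⟩ := cech_surj k A d n t e hspan 𝔞 hmono hmem ψ hψ (d - 1) 0
        (by omega) (fun J => ω J 0)
      exact ⟨η0, fun J _ hcard => (hη0 J (by omega)).symm⟩
    · refine ⟨fun _ => 0, fun J hJ hcard => ?_⟩
      have := Finset.card_pos.2 hJ
      omega
  choose next hnext using step
  obtain ⟨η0, hη0⟩ := base
  refine ⟨fun I q => (Nat.rec (motive := fun q => ∀ I : Finset (Fin n),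
    ↥(⋀[(A ⧸ 𝔞 I)]^q (Ω[(A ⧸ 𝔞 I)⁄k]))) η0 (fun q prev => next q prev) q) I, ?_, ?_⟩
  · intro J q hJ hcard
    exact hnext q _ J hJ hcard
  · exact hη0

end Groth.Agent.Lib.Seat97.SNCTotal
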