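import Groth.Agent.Lib.Helper28PolyCM
import Groth.Agent.Lib.Helper28DepthMore
import Groth.Agent.Lib.Helper28Unmixed
import Groth.Prelude.Def_GrSeg
import Mathlib

/-!
# Seat97: Segre products with a polynomial ring in one variable

`R = k[X]`, `S = k[Y_1, …, Y_s]` with the standard gradings. Then `T = R # S ≅ S` and
`R(a) # S(b)` is `S` (for `b ≤ a`) resp. the truncation `S_{≥ b - a}` (for `a < b`).
-/

set_option autoImplicit false
set_option linter.unusedSectionVars false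
set_option linter.style.haveILetI false

universe u

namespace Groth.Agent.Lib.Seat97.SegreLine

open TensorProduct MvPolynomial

section Graded

variable {A B σA σB : Type*} [AddCommGroup A] [AddCommGroup B] [SetLike σA A]
  [AddSubgroupClass σA A] [SetLike σB B] [AddSubgroupClass σB B] (𝒳 : ℤ → σA) (𝒴 : ℤ → σB)
  [DirectSum.Decomposition 𝒳] [DirectSum.Decomposition 𝒴]

/-- a homomorphism of graded groups of degree `c` which is injective on every piece is
injective. -/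
theorem graded_injective (f : A →+ B) (c : ℤ) (h1 : ∀ n, ∀ x ∈ 𝒳 n, f x ∈ 𝒴 (n + c))
    (h2 : ∀ n, ∀ x ∈ 𝒳 n, f x = 0 → x = 0) : Function.Injective f := by
  classical
  rw [injective_iff_map_eq_zero]
  intro x hx
  have hcomp : ∀ n, ((DirectSum.decompose 𝒳 x) n : A) = 0 := by
    intro n
    apply h2 n _ (SetLike.coe_mem _)
    have hsum := DirectSum.sum_support_decompose 𝒳 x
    have h3 : f x =
        ∑ m ∈ (DirectSum.decompose 𝒳 x).support, f ((DirectSum.decompose 𝒳 x) m : A) := by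
      conv_lhs => rw [← hsum]
      rw [map_sum]
    rw [hx] at h3
    have h4 : ((DirectSum.decompose 𝒴 (0 : B)) (n + c) : B) =
        ∑ m ∈ (DirectSum.decompose 𝒳 x).support,
          ((DirectSum.decompose 𝒴 (f ((DirectSum.decompose 𝒳 x) m : A))) (n + c) : B) := by
      rw [h3, DirectSum.decompose_sum, DFinsupp.finsetSum_apply, AddSubmonoidClass.coe_finsetSum]
    rw [DirectSum.decompose_zero, DirectSum.zero_apply, ZeroMemClass.coe_zero] at h4
    rw [Finset.sum_eq_single n] at h4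
    · rw [h4, DirectSum.decompose_of_mem_same 𝒴 (h1 n _ (SetLike.coe_mem _))]
    · intro m _ hmn
      exact DirectSum.decompose_of_mem_ne 𝒴 (h1 m _ (SetLike.coe_mem _)) (by omega)
    · intro hn
      rw [DFinsupp.notMem_support_iff] at hn
      rw [hn, ZeroMemClass.coe_zero, map_zero, DirectSum.decompose_zero, DirectSum.zero_apply,
        ZeroMemClass.coe_zero]
  have : DirectSum.decompose 𝒳 x = 0 := by
    ext n
    rw [hcomp n, DirectSum.zero_apply, ZeroMemClass.coe_zero]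
  exact (DirectSum.decompose 𝒳).injective (by rw [this, DirectSum.decompose_zero])

/-- a homomorphism of graded groups of degree `c` which is surjective on every piece is
surjective. -/
theorem graded_surjective (f : A →+ B) (c : ℤ)
    (h1 : ∀ n, ∀ y ∈ 𝒴 (n + c), ∃ x : A, f x = y) : Function.Surjective f := by
  classical
  intro y
  rw [← DirectSum.sum_support_decompose 𝒴 y]
  have : ∀ m : ℤ, ∃ x : A, f x = ((DirectSum.decompose 𝒴 y) m : B) := by
    intro m
    have hm : ((DirectSum.decompose 𝒴 y) m : B) ∈ 𝒴 (m - c + c) := by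
      rw [sub_add_cancel]; exact SetLike.coe_mem _
    exact h1 (m - c) _ hm
  choose g hg using this
  exact ⟨∑ m ∈ (DirectSum.decompose 𝒴 y).support, g m, by
    rw [map_sum]; exact Finset.sum_congr rfl fun m _ => hg m⟩

end Graded

section Poly

variable (k : Type u) [Field k]

/-- the standard grading of `k[X]` (one variable of weight one), indexed by `ℤ`. -/
noncomputable abbrev gA : ℤ → Submodule k (MvPolynomial (Fin 1) k) :=
  weightedHomogeneousSubmodule k (fun _ : Fin 1 => (1 : ℤ))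

/-- the standard grading of `k[Y_1, …, Y_s]`, indexed by `ℤ`. -/
noncomputable abbrev gB (s : ℕ) : ℤ → Submodule k (MvPolynomial (Fin s) k) :=
  weightedHomogeneousSubmodule k (fun _ : Fin s => (1 : ℤ))

theorem weight_one {σ : Type*} [Fintype σ] (d : σ →₀ ℕ) :
    Finsupp.weight (fun _ : σ => (1 : ℤ)) d = ((d.degree : ℕ) : ℤ) := by
  rw [Finsupp.weight_apply, Finsupp.sum_fintype _ _ (by simp), Finsupp.degree_eq_sum]
  push_cast
  exact Finset.sum_congr rfl fun i _ => by simp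

theorem weight_fin_one (d : Fin 1 →₀ ℕ) :
    Finsupp.weight (fun _ : Fin 1 => (1 : ℤ)) d = ((d 0 : ℕ) : ℤ) := by
  rw [weight_one, Finsupp.degree_eq_sum]
  simp

theorem X_pow_mem_gA (m : ℕ) : (X 0 : MvPolynomial (Fin 1) k) ^ m ∈ gA k (m : ℤ) := by
  rw [mem_weightedHomogeneousSubmodule]
  have h := (isWeightedHomogeneous_X k (fun _ : Fin 1 => (1 : ℤ)) 0).pow m
  simpa using h

theorem X_pow_toNat_mem_gA {i : ℤ} (hi : 0 ≤ i) :
    (X 0 : MvPolynomial (Fin 1) k) ^ i.toNat ∈ gA k i := by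
  have h := X_pow_mem_gA k i.toNat
  rwa [Int.toNat_of_nonneg hi] at h

theorem gA_piece {n : ℤ} {r : MvPolynomial (Fin 1) k} (hr : r ∈ gA k n) :
    (n < 0 → r = 0) ∧ ∃ c : k, r = c • (X 0 : MvPolynomial (Fin 1) k) ^ n.toNat := by
  rw [mem_weightedHomogeneousSubmodule] at hr
  have h0 : n < 0 → r = 0 := by
    intro hn
    apply hr.eq_zero_of_no_monomials
    intro d hd
    rw [weight_fin_one] at hd
    omega
  refine ⟨h0, ?_⟩
  by_cases hn : n < 0
  · exact ⟨0, by rw [h0 hn, zero_smul]⟩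
  · refine ⟨coeff (Finsupp.single 0 n.toNat) r, ?_⟩
    have h := hr.eq_monomial_of_unique_weight (d₀ := Finsupp.single 0 n.toNat) (by
      intro d hd
      rw [weight_fin_one] at hd
      ext
      have h0 : (default : Fin 1) = 0 := rfl
      rw [h0, Finsupp.single_eq_same]
      omega)
    conv_lhs => rw [h]
    rw [X_pow_eq_monomial, smul_monomial, smul_eq_mul, mul_one]

theorem gB_neg (s : ℕ) {n : ℤ} (hn : n < 0) {y : MvPolynomial (Fin s) k} (hy : y ∈ gB k s n) :
    y = 0 := by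
  rw [mem_weightedHomogeneousSubmodule] at hy
  apply hy.eq_zero_of_no_monomials
  intro d hd
  rw [weight_one] at hd
  omega

variable (s : ℕ)

/-- evaluation `X ↦ 1` on the first factor. -/
noncomputable def eps :
    MvPolynomial (Fin 1) k ⊗[k] MvPolynomial (Fin s) k →ₐ[k] MvPolynomial (Fin s) k :=
  Algebra.TensorProduct.lift (aeval (fun _ => (1 : MvPolynomial (Fin s) k)))
    (AlgHom.id k (MvPolynomial (Fin s) k)) (fun _ _ => Commute.all _ _)

theorem eps_X_pow_tmul (m : ℕ) (y : MvPolynomial (Fin s) k) :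
    eps k s (((X 0 : MvPolynomial (Fin 1) k) ^ m) ⊗ₜ[k] y) = y := by
  rw [eps, Algebra.TensorProduct.lift_tmul, map_pow, aeval_X, one_pow, one_mul]
  rfl

variable {k s}

theorem segrePiece_eq {ℳ : ℤ → Submodule k (MvPolynomial (Fin 1) k)}
    {𝒩 : ℤ → Submodule k (MvPolynomial (Fin s) k)} {n i j : ℤ}
    (hℳ : ℳ n = gA k i) (h𝒩 : 𝒩 n = gB k s j)
    {z : MvPolynomial (Fin 1) k ⊗[k] MvPolynomial (Fin s) k}
    (hz : z ∈ GrSeg.segrePiece k ℳ 𝒩 n) :
    ∃ y ∈ gB k s j, z = ((X 0 : MvPolynomial (Fin 1) k) ^ i.toNat) ⊗ₜ[k] y ∧ (i < 0 → y = 0) := by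
  induction hz using Submodule.span_induction with
  | mem z hz =>
    obtain ⟨x, hx, y', hy', rfl⟩ := hz
    rw [hℳ] at hx
    rw [h𝒩] at hy'
    obtain ⟨hneg, c, hc⟩ := gA_piece k hx
    by_cases hi : i < 0
    · exact ⟨0, zero_mem _, by rw [hneg hi, zero_tmul, tmul_zero], fun _ => rfl⟩
    · exact ⟨c • y', Submodule.smul_mem _ _ hy', by rw [hc, smul_tmul], fun h => absurd h hi⟩
  | zero => exact ⟨0, zero_mem _, by rw [tmul_zero], fun _ => rfl⟩
  | add z z' _ _ h h' =>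
    obtain ⟨y, hy, rfl, hy0⟩ := h
    obtain ⟨y', hy', rfl, hy0'⟩ := h'
    exact ⟨y + y', add_mem hy hy', by rw [tmul_add], fun hi => by rw [hy0 hi, hy0' hi, add_zero]⟩
  | smul c z _ h =>
    obtain ⟨y, hy, rfl, hy0⟩ := h
    exact ⟨c • y, Submodule.smul_mem _ _ hy, by rw [tmul_smul], fun hi => by rw [hy0 hi, smul_zero]⟩

theorem mem_segrePiece {ℳ : ℤ → Submodule k (MvPolynomial (Fin 1) k)}
    {𝒩 : ℤ → Submodule k (MvPolynomial (Fin s) k)} {n i j : ℤ}
    (hℳ : ℳ n = gA k i) (h𝒩 : 𝒩 n = gB k s j) (hi : 0 ≤ i)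
    {y : MvPolynomial (Fin s) k} (hy : y ∈ gB k s j) :
    ((X 0 : MvPolynomial (Fin 1) k) ^ i.toNat) ⊗ₜ[k] y ∈ GrSeg.segrePiece k ℳ 𝒩 n := by
  refine Submodule.subset_span ⟨_, ?_, y, ?_, rfl⟩
  · rw [hℳ]; exact X_pow_toNat_mem_gA k hi
  · rw [h𝒩]; exact hy

theorem act_eq_mul {R S : Type u} [CommRing R] [CommRing S] [Algebra k R] [Algebra k S]
    (z e : R ⊗[k] S) : GrSeg.act k R S R S z e = z * e := by
  induction z using TensorProduct.induction_on with
  | zero => simp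
  | tmul r t =>
    induction e using TensorProduct.induction_on with
    | zero => simp
    | tmul m n =>
      rw [GrSeg.act_tmul, Algebra.TensorProduct.tmul_mul_tmul, smul_eq_mul, smul_eq_mul]
    | add e e' h h' => rw [map_add, h, h', mul_add]
  | add z z' h h' => rw [map_add, LinearMap.add_apply, h, h', add_mul]

end Poly

section Main

attribute [local instance] MvPolynomial.weightedGradedAlgebra

open Groth.Agent.Lib.Helper28

variable {k : Type u} [Field k] {s : ℕ}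
  {T : Type u} [CommRing T] [Algebra k T] (𝒯 : ℤ → Submodule k T) [GradedAlgebra 𝒯]
  (ψ : T →ₐ[k] MvPolynomial (Fin 1) k ⊗[k] MvPolynomial (Fin s) k)
  (hψi : Function.Injective ψ)
  (hψp : ∀ n : ℤ, (𝒯 n).map ψ.toLinearMap = GrSeg.segrePiece k (gA k) (gB k s) n)

/-- the isomorphism `R # S → S`. -/
noncomputable def theta : T →ₐ[k] MvPolynomial (Fin s) k := (eps k s).comp ψ

include hψp in
theorem theta_piece {n : ℤ} {t : T} (ht : t ∈ 𝒯 n) :
    ∃ y ∈ gB k s n, ψ t = ((X 0 : MvPolynomial (Fin 1) k) ^ n.toNat) ⊗ₜ[k] y ∧ theta ψ t = y := by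
  have h1 : ψ t ∈ GrSeg.segrePiece k (gA k) (gB k s) n := by
    rw [← hψp n]; exact Submodule.mem_map_of_mem ht
  obtain ⟨y, hy, hz, -⟩ := segrePiece_eq (i := n) (j := n) rfl rfl h1
  exact ⟨y, hy, hz, by rw [theta, AlgHom.comp_apply, hz, eps_X_pow_tmul]⟩

include hψp in
theorem theta_mem {n : ℤ} {t : T} (ht : t ∈ 𝒯 n) : theta ψ t ∈ gB k s n := by
  obtain ⟨y, hy, -, h⟩ := theta_piece 𝒯 ψ hψp ht
  rw [h]; exact hy

include hψi hψp in
theorem theta_eq_zero {n : ℤ} {t : T} (ht : t ∈ 𝒯 n) (h : theta ψ t = 0) : t = 0 := by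
  obtain ⟨y, -, hz, h'⟩ := theta_piece 𝒯 ψ hψp ht
  rw [h] at h'
  rw [← h', tmul_zero] at hz
  exact hψi (by rw [hz, map_zero])

include hψp in
theorem theta_piece_surj {n : ℤ} {y : MvPolynomial (Fin s) k} (hy : y ∈ gB k s n) :
    ∃ t ∈ 𝒯 n, theta ψ t = y := by
  by_cases hn : n < 0
  · exact ⟨0, zero_mem _, by rw [map_zero, gB_neg k s hn hy]⟩
  · rw [not_lt] at hn
    have h1 : ((X 0 : MvPolynomial (Fin 1) k) ^ n.toNat) ⊗ₜ[k] y ∈
        GrSeg.segrePiece k (gA k) (gB k s) n := mem_segrePiece (i := n) (j := n) rfl rfl hn hy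
    rw [← hψp n] at h1
    obtain ⟨t, ht, hψt⟩ := h1
    refine ⟨t, ht, ?_⟩
    have hψt' : ψ t = ((X 0 : MvPolynomial (Fin 1) k) ^ n.toNat) ⊗ₜ[k] y := hψt
    rw [theta, AlgHom.comp_apply, hψt', eps_X_pow_tmul]

include hψi hψp in
theorem theta_injective : Function.Injective (theta ψ) := by
  refine graded_injective 𝒯 (gB k s) (theta ψ).toLinearMap.toAddMonoidHom 0 ?_ ?_
  · intro n x hx
    rw [add_zero]
    exact theta_mem 𝒯 ψ hψp hx
  · intro n x hx h
    exact theta_eq_zero 𝒯 ψ hψi hψp hx h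

include hψp in
theorem theta_surjective : Function.Surjective (theta ψ) := by
  refine graded_surjective (gB k s) (theta ψ).toLinearMap.toAddMonoidHom 0 ?_
  intro n y hy
  rw [add_zero] at hy
  obtain ⟨t, -, ht⟩ := theta_piece_surj 𝒯 ψ hψp hy
  exact ⟨t, ht⟩

variable {P : Type u} [AddCommGroup P] [Module T P] [Module k P] [IsScalarTower k T P]
  (𝒬 : ℤ → AddSubgroup P) [DirectSum.Decomposition 𝒬] (a b : ℤ)
  (φ : P →ₗ[k] MvPolynomial (Fin 1) k ⊗[k] MvPolynomial (Fin s) k)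
  (hP : GrSeg.IsSegreMod ψ (fun n : ℤ => gA k (n + a)) (fun n : ℤ => gB k s (n + b)) 𝒬 φ)

/-- the embedding `R(a) # S(b) → S`. -/
noncomputable def theta' : P →ₗ[k] MvPolynomial (Fin s) k := (eps k s).toLinearMap ∘ₗ φ

include hP in
theorem phi_mem_segrePiece {n : ℤ} {p : P} (hp : p ∈ 𝒬 n) :
    φ p ∈ GrSeg.segrePiece k (fun n : ℤ => gA k (n + a)) (fun n : ℤ => gB k s (n + b)) n := by
  have h := hP.image_piece n
  have h2 : φ p ∈ φ '' (𝒬 n : Set P) := ⟨p, hp, rfl⟩
  rw [h] at h2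
  exact h2

include hP in
theorem theta'_piece {n : ℤ} {p : P} (hp : p ∈ 𝒬 n) :
    ∃ y ∈ gB k s (n + b), φ p = ((X 0 : MvPolynomial (Fin 1) k) ^ (n + a).toNat) ⊗ₜ[k] y ∧
      theta' φ p = y ∧ (n + a < 0 → y = 0) := by
  have h1 := phi_mem_segrePiece ψ 𝒬 a b φ hP hp
  obtain ⟨y, hy, hz, h0⟩ := segrePiece_eq (ℳ := fun n : ℤ => gA k (n + a))
    (𝒩 := fun n : ℤ => gB k s (n + b)) (n := n) (i := n + a) (j := n + b) rfl rfl h1
  refine ⟨y, hy, hz, ?_, h0⟩
  rw [theta', LinearMap.comp_apply, hz]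
  exact eps_X_pow_tmul k s _ y

include hP in
theorem theta'_smul (t : T) (p : P) : theta' φ (t • p) = theta ψ t * theta' φ p := by
  rw [theta', LinearMap.comp_apply, hP.map_smul, act_eq_mul]
  exact map_mul (eps k s) _ _

include hP in
theorem theta'_injective : Function.Injective (theta' φ) := by
  refine graded_injective 𝒬 (gB k s) (theta' φ).toAddMonoidHom b ?_ ?_
  · intro n x hx
    obtain ⟨y, hy, -, h, -⟩ := theta'_piece ψ 𝒬 a b φ hP hx
    change theta' φ x ∈ _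
    rw [h]; exact hy
  · intro n x hx h
    obtain ⟨y, -, hz, h', -⟩ := theta'_piece ψ 𝒬 a b φ hP hx
    have h'' : theta' φ x = 0 := h
    rw [h''] at h'
    rw [← h', tmul_zero] at hz
    exact hP.injective (by rw [hz, map_zero])

include hP in
theorem theta'_piece_surj {n : ℤ} (hn : 0 ≤ n + a) {y : MvPolynomial (Fin s) k}
    (hy : y ∈ gB k s (n + b)) : ∃ p ∈ 𝒬 n, theta' φ p = y := by
  have h1 : ((X 0 : MvPolynomial (Fin 1) k) ^ (n + a).toNat) ⊗ₜ[k] y ∈
      GrSeg.segrePiece k (fun n : ℤ => gA k (n + a)) (fun n : ℤ => gB k s (n + b)) n :=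
    mem_segrePiece (ℳ := fun n : ℤ => gA k (n + a)) (𝒩 := fun n : ℤ => gB k s (n + b))
      (n := n) (i := n + a) (j := n + b) rfl rfl hn hy
  have h := hP.image_piece n
  have h2 : ((X 0 : MvPolynomial (Fin 1) k) ^ (n + a).toNat) ⊗ₜ[k] y ∈ φ '' (𝒬 n : Set P) := by
    rw [h]; exact h1
  obtain ⟨p, hp, hφp⟩ := h2
  refine ⟨p, hp, ?_⟩
  rw [theta', LinearMap.comp_apply, hφp]
  exact eps_X_pow_tmul k s _ y

section CM

include hψi hψp hP in
/-- for `b ≤ a` the module `R(a) # S(b)` is free of rank one over `T = R # S`. -/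
theorem exists_linearEquiv (hba : b ≤ a) : Nonempty (T ≃ₗ[T] P) := by
  have h1 : (1 : MvPolynomial (Fin s) k) ∈ gB k s (-b + b) := by
    rw [neg_add_cancel, mem_weightedHomogeneousSubmodule]
    exact isWeightedHomogeneous_one k _
  obtain ⟨p₀, -, hp₀⟩ := theta'_piece_surj ψ 𝒬 a b φ hP (n := -b) (by omega) h1
  have hg : ∀ t : T, theta' φ (t • p₀) = theta ψ t := by
    intro t
    rw [theta'_smul ψ 𝒬 a b φ hP, hp₀, mul_one]
  refine ⟨LinearEquiv.ofBijective (LinearMap.toSpanSingleton T P p₀) ⟨?_, ?_⟩⟩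
  · intro t t' h
    have h' : t • p₀ = t' • p₀ := h
    have h2 := congrArg (theta' φ) h'
    rw [hg, hg] at h2
    exact theta_injective 𝒯 ψ hψi hψp h2
  · intro p
    obtain ⟨t, ht⟩ := theta_surjective 𝒯 ψ hψp (theta' φ p)
    refine ⟨t, ?_⟩
    change t • p₀ = p
    exact theta'_injective ψ 𝒬 a b φ hP (by rw [hg, ht])

include hψi hψp in
theorem isCohenMacaulayRing_segre : LocCoh.IsCohenMacaulayRing T := by
  haveI hk : LocCoh.IsCohenMacaulayRing k := isCohenMacaulayRing_of_field k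
  haveI hS : LocCoh.IsCohenMacaulayRing (MvPolynomial (Fin s) k) :=
    isCohenMacaulayRing_mvPolynomial_fin s
  exact isCohenMacaulayRing_of_ringEquiv
    (RingEquiv.ofBijective (theta ψ)
      ⟨theta_injective 𝒯 ψ hψi hψp, theta_surjective 𝒯 ψ hψp⟩).symm

include hψi hψp hP in
theorem isCohenMacaulayModule_of_le (hba : b ≤ a) (q : Ideal T) [q.IsPrime] :
    LocCoh.IsCohenMacaulayModule (Localization.AtPrime q) (LocalizedModule q.primeCompl P) := by
  obtain ⟨e⟩ := exists_linearEquiv 𝒯 ψ hψi hψp 𝒬 a b φ hP hba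
  have hT := isCohenMacaulayRing_segre 𝒯 ψ hψi hψp
  have h := (hT.isCohenMacaulayLocalRing_localization q).supportDim_eq_depth
  let e1 : LocalizedModule q.primeCompl P ≃ₗ[Localization.AtPrime q]
      LocalizedModule q.primeCompl T :=
    IsLocalizedModule.mapEquiv q.primeCompl (LocalizedModule.mkLinearMap q.primeCompl P)
      (LocalizedModule.mkLinearMap q.primeCompl T) (Localization.AtPrime q) e.symm
  let e2 := e1.trans (localizedModuleSelfEquiv q)
  rw [LocCoh.IsCohenMacaulayModule, Module.supportDim_eq_of_equiv e2, LocCoh.depth,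
    idealDepth_congr e2 _]
  exact h

end CM

section Depth

open scoped Pointwise

theorem X_pow_mem_gB (k : Type u) [Field k] (s : ℕ) (i0 : Fin s) (m : ℕ) :
    (X i0 : MvPolynomial (Fin s) k) ^ m ∈ gB k s (m : ℤ) := by
  rw [mem_weightedHomogeneousSubmodule]
  have h := (isWeightedHomogeneous_X k (fun _ : Fin s => (1 : ℤ)) i0).pow m
  simpa using h

theorem coeff_mul_eq_zero {u v : MvPolynomial (Fin s) k} {c : ℕ} (hu : constantCoeff u = 0)
    (hv : ∀ d : Fin s →₀ ℕ, d.degree < c → coeff d v = 0) (d : Fin s →₀ ℕ)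
    (hd : d.degree ≤ c) : coeff d (u * v) = 0 := by
  classical
  rw [coeff_mul]
  refine Finset.sum_eq_zero fun x hx => ?_
  rw [Finset.HasAntidiagonal.mem_antidiagonal] at hx
  by_cases h1 : x.1 = 0
  · rw [h1, ← constantCoeff_eq, hu, zero_mul]
  · have h2 : 1 ≤ x.1.degree := by
      rw [Nat.one_le_iff_ne_zero, Ne, Finsupp.degree_eq_zero_iff]
      exact h1
    have h3 : x.1.degree + x.2.degree = d.degree := by rw [← hx, map_add]
    rw [hv x.2 (by omega), mul_zero]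

include hP in
theorem coeff_theta'_eq_zero (p : P) (d : Fin s →₀ ℕ) (hd : ((d.degree : ℕ) : ℤ) < b - a) :
    coeff d (theta' φ p) = 0 := by
  classical
  rw [← DirectSum.sum_support_decompose 𝒬 p, map_sum, coeff_sum]
  refine Finset.sum_eq_zero fun n _ => ?_
  obtain ⟨y, hy, -, h, h0⟩ :=
    theta'_piece ψ 𝒬 a b φ hP (SetLike.coe_mem ((DirectSum.decompose 𝒬 p) n))
  rw [h]
  by_cases hn : n + a < 0
  · rw [h0 hn, coeff_zero]
  · rw [mem_weightedHomogeneousSubmodule] at hy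
    apply hy.coeff_eq_zero
    rw [weight_one]
    omega

variable (mT : Ideal T) (hmT : mT = Ideal.span (⋃ n ∈ Set.Ioi (0 : ℤ), (𝒯 n : Set T)))

include hψp hmT in
theorem constantCoeff_theta_eq_zero {r : T} (hr : r ∈ mT) :
    constantCoeff (theta ψ r) = 0 := by
  rw [hmT] at hr
  induction hr using Submodule.span_induction with
  | mem r hr =>
    simp only [Set.mem_iUnion, Set.mem_Ioi, SetLike.mem_coe, exists_prop] at hr
    obtain ⟨n, hn, hrn⟩ := hr
    have h := theta_mem 𝒯 ψ hψp hrn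
    rw [mem_weightedHomogeneousSubmodule] at h
    rw [constantCoeff_eq]
    apply h.coeff_eq_zero
    rw [map_zero]
    omega
  | zero => rw [map_zero, map_zero]
  | add x y _ _ hx hy => rw [map_add, map_add, hx, hy, add_zero]
  | smul t x _ hx => rw [smul_eq_mul, map_mul, map_mul, hx, mul_zero]

include hψp hP hmT in
theorem exists_theta'_eq (i0 : Fin s) (c : ℕ) (hc : (c : ℤ) = b - a) (hc1 : 1 ≤ c) {r : T}
    (hr : r ∈ mT) :
    ∃ p : P, theta' φ p = theta ψ r * (X i0 : MvPolynomial (Fin s) k) ^ (c - 1) := by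
  rw [hmT] at hr
  induction hr using Submodule.span_induction with
  | mem r hr =>
    simp only [Set.mem_iUnion, Set.mem_Ioi, SetLike.mem_coe, exists_prop] at hr
    obtain ⟨n, hn, hrn⟩ := hr
    have h := theta_mem 𝒯 ψ hψp hrn
    have hy0 := X_pow_mem_gB k s i0 (c - 1)
    have hprod : theta ψ r * (X i0 : MvPolynomial (Fin s) k) ^ (c - 1) ∈
        gB k s (n + ((c - 1 : ℕ) : ℤ)) := IsWeightedHomogeneous.mul h hy0
    obtain ⟨p, -, hp⟩ := theta'_piece_surj ψ 𝒬 a b φ hP (n := n + ((c - 1 : ℕ) : ℤ) - b)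
      (by omega) (by rw [sub_add_cancel]; exact hprod)
    exact ⟨p, hp⟩
  | zero => exact ⟨0, by rw [map_zero, map_zero, zero_mul]⟩
  | add x y _ _ hx hy =>
    obtain ⟨p, hp⟩ := hx
    obtain ⟨p', hp'⟩ := hy
    exact ⟨p + p', by rw [map_add, map_add, hp, hp', add_mul]⟩
  | smul t x _ hx =>
    obtain ⟨p, hp⟩ := hx
    exact ⟨t • p, by rw [theta'_smul ψ 𝒬 a b φ hP, hp, smul_eq_mul, map_mul, mul_assoc]⟩

include hP in
theorem exists_min (i0 : Fin s) (c : ℕ) (hc : (c : ℤ) = b - a) :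
    ∃ pm : P, theta' φ pm = (X i0 : MvPolynomial (Fin s) k) ^ c := by
  have hXc : (X i0 : MvPolynomial (Fin s) k) ^ c ∈ gB k s (-a + b) := by
    have h := X_pow_mem_gB k s i0 c
    have e : (c : ℤ) = -a + b := by omega
    rwa [e] at h
  obtain ⟨pm, -, hpm⟩ := theta'_piece_surj ψ 𝒬 a b φ hP (n := -a) (by omega) hXc
  exact ⟨pm, hpm⟩

include hψp hP hmT in
theorem smul_top_ne_top (hab : a < b) (i0 : Fin s) : mT • (⊤ : Submodule T P) ≠ ⊤ := by
  classical
  intro htop
  obtain ⟨c, hc⟩ : ∃ c : ℕ, (c : ℤ) = b - a := ⟨(b - a).toNat, Int.toNat_of_nonneg (by omega)⟩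
  obtain ⟨pm, hpm⟩ := exists_min ψ 𝒬 a b φ hP i0 c hc
  have hmem : pm ∈ mT • (⊤ : Submodule T P) := by rw [htop]; trivial
  have key : ∀ p ∈ mT • (⊤ : Submodule T P),
      coeff (Finsupp.single i0 c) (theta' φ p) = 0 := by
    intro p hp
    refine Submodule.smul_induction_on hp ?_ ?_
    · intro r hr p _
      rw [theta'_smul ψ 𝒬 a b φ hP]
      refine coeff_mul_eq_zero (c := c) (constantCoeff_theta_eq_zero 𝒯 ψ hψp mT hmT hr)
        (fun d hd => coeff_theta'_eq_zero ψ 𝒬 a b φ hP p d (by omega)) _ ?_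
      rw [Finsupp.degree_single]
    · intro x y hx hy
      rw [map_add, coeff_add, hx, hy, add_zero]
  have h := key pm hmem
  rw [hpm, coeff_X_pow, if_pos rfl] at h
  exact one_ne_zero h

include hψp hP hmT in
theorem exists_regular (i0 : Fin s) : ∃ r ∈ mT, IsSMulRegular P r := by
  have hX : (X i0 : MvPolynomial (Fin s) k) ∈ gB k s 1 := by
    simpa using X_pow_mem_gB k s i0 1
  obtain ⟨r, hr, hθ⟩ := theta_piece_surj 𝒯 ψ hψp hX
  refine ⟨r, ?_, ?_⟩
  · rw [hmT]
    exact Ideal.subset_span (Set.mem_biUnion (show (1 : ℤ) ∈ Set.Ioi 0 by simp) hr)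
  · intro p p' h
    have h' : r • p = r • p' := h
    have h2 := congrArg (theta' φ) h'
    rw [theta'_smul ψ 𝒬 a b φ hP, theta'_smul ψ 𝒬 a b φ hP, hθ] at h2
    exact theta'_injective ψ 𝒬 a b φ hP (mul_left_cancel₀ (X_ne_zero i0) h2)

include hψi hψp hP hmT in
theorem not_regular_two (hab : a < b) (i0 : Fin s) {r₁ r₂ : T} (h1m : r₁ ∈ mT) (h2m : r₂ ∈ mT)
    (h1 : IsSMulRegular P r₁) (h2 : IsSMulRegular (QuotSMulTop r₁ P) r₂) : False := by
  classical
  obtain ⟨c, hc⟩ : ∃ c : ℕ, (c : ℤ) = b - a := ⟨(b - a).toNat, Int.toNat_of_nonneg (by omega)⟩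
  have hc1 : 1 ≤ c := by omega
  obtain ⟨pm, hpm⟩ := exists_min ψ 𝒬 a b φ hP i0 c hc
  have hθr₁ : theta ψ r₁ ≠ 0 := by
    intro h0
    have hr0 : r₁ = 0 := theta_injective 𝒯 ψ hψi hψp (by rw [h0, map_zero])
    have hpm0 : pm = 0 := h1 (by simp [hr0])
    rw [hpm0, map_zero] at hpm
    exact (pow_ne_zero c (X_ne_zero i0)) hpm.symm
  obtain ⟨w, hw⟩ := exists_theta'_eq 𝒯 ψ hψp 𝒬 a b φ hP mT hmT i0 c hc hc1 h1m
  obtain ⟨p', hp'⟩ := exists_theta'_eq 𝒯 ψ hψp 𝒬 a b φ hP mT hmT i0 c hc hc1 h2m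
  have hrw : r₂ • w = r₁ • p' := by
    apply theta'_injective ψ 𝒬 a b φ hP
    rw [theta'_smul ψ 𝒬 a b φ hP, theta'_smul ψ 𝒬 a b φ hP, hw, hp']
    ring
  have hwn : w ∉ (r₁ • (⊤ : Submodule T P)) := by
    intro hmem
    rw [Submodule.mem_smul_pointwise_iff_exists] at hmem
    obtain ⟨p'', -, hp''⟩ := hmem
    have h3 := congrArg (theta' φ) hp''
    rw [theta'_smul ψ 𝒬 a b φ hP, hw] at h3
    have h4 := mul_left_cancel₀ hθr₁ h3
    have h5 := coeff_theta'_eq_zero ψ 𝒬 a b φ hP p'' (Finsupp.single i0 (c - 1)) (by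
      rw [Finsupp.degree_single]; omega)
    rw [h4, coeff_X_pow, if_pos rfl] at h5
    exact one_ne_zero h5
  have hq : (Submodule.Quotient.mk w : QuotSMulTop r₁ P) = 0 := by
    apply h2
    change r₂ • (Submodule.Quotient.mk w : QuotSMulTop r₁ P) = r₂ • 0
    rw [smul_zero, ← Submodule.Quotient.mk_smul, hrw, Submodule.Quotient.mk_eq_zero]
    exact Submodule.smul_mem_pointwise_smul _ _ _ trivial
  rw [Submodule.Quotient.mk_eq_zero] at hq
  exact hwn hq

include hψi hψp hP hmT in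
/-- for `a < b` the `T_+`-depth of `R(a) # S(b)` is one. -/
theorem idealDepth_eq_one (hab : a < b) (hs : 1 ≤ s) : LocCoh.idealDepth mT P = 1 := by
  have i0 : Fin s := ⟨0, hs⟩
  rw [LocCoh.idealDepth, if_neg (smul_top_ne_top 𝒯 ψ hψp 𝒬 a b φ hP mT hmT hab i0)]
  apply le_antisymm
  · refine iSup₂_le fun rs hrs => ?_
    obtain ⟨hreg, hmem⟩ := hrs
    match rs, hreg, hmem with
    | [], _, _ => simp
    | [r], _, _ => simp
    | r₁ :: r₂ :: rest, hreg, hmem =>
      exfalso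
      rw [RingTheory.Sequence.isWeaklyRegular_cons_iff] at hreg
      obtain ⟨h1, hreg'⟩ := hreg
      rw [RingTheory.Sequence.isWeaklyRegular_cons_iff] at hreg'
      exact not_regular_two 𝒯 ψ hψi hψp 𝒬 a b φ hP mT hmT hab i0 (hmem r₁ (by simp))
        (hmem r₂ (by simp)) h1 hreg'.1
  · obtain ⟨r, hr, hreg⟩ := exists_regular 𝒯 ψ hψp 𝒬 a b φ hP mT hmT i0
    refine le_iSup₂_of_le [r]
      ⟨(RingTheory.Sequence.isWeaklyRegular_singleton_iff P r).2 hreg, by simpa using hr⟩ ?_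
    simp

end Depth

end Main

end Groth.Agent.Lib.Seat97.SegreLine
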