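import Groth.Agent.Lib.Seat97SegreDepth
import Groth.Agent.Lib.Seat97SegreLine
import Groth.Agent.Lib.Seat91SegreRetract
import Groth.Agent.Lib.Seat91GrIrr
import Groth.Prelude.Def_GrSeg

set_option autoImplicit false
set_option linter.unusedSectionVars false
universe u

namespace Groth.Agent.Lib.Seat97.SegreBridge

open MvPolynomial TensorProduct Groth.Agent.Lib.Seat97.WtPoly Groth.Agent.Lib.Seat97.SegreDepth
  Groth.Agent.Lib.Seat97.SegreLine

noncomputable section

attribute [local instance] MvPolynomial.weightedGradedAlgebra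

section Poly

variable (k : Type u) [Field k] (r s : ℕ)

/-- the weight on the variables of `k[X, Y]`: `X_i ↦ 1`, `Y_j ↦ -1` -/
def wt : Fin r ⊕ Fin s → ℤ := Sum.elim (fun _ => 1) (fun _ => -1)

theorem wt_cases (x : Fin r ⊕ Fin s) : wt r s x = 1 ∨ wt r s x = -1 := by
  cases x <;> simp [wt]

theorem cnt_wt_one : cnt (wt r s) 1 = r := by
  unfold cnt
  have h : {x : Fin r ⊕ Fin s | wt r s x = 1} = Sum.inl '' (Set.univ : Set (Fin r)) := by
    ext x
    cases x <;> simp [wt]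
  rw [h, Set.ncard_image_of_injective _ Sum.inl_injective, Set.ncard_univ, Nat.card_fin]

theorem cnt_wt_neg_one : cnt (wt r s) (-1) = s := by
  unfold cnt
  have h : {x : Fin r ⊕ Fin s | wt r s x = -1} = Sum.inr '' (Set.univ : Set (Fin s)) := by
    ext x
    cases x <;> simp [wt]
  rw [h, Set.ncard_image_of_injective _ Sum.inr_injective, Set.ncard_univ, Nat.card_fin]

variable {k}

theorem rename_mem {σ ν : Type} (f : σ → ν) (w : ν → ℤ) {i : ℤ} {p : MvPolynomial σ k}
    (hp : p ∈ weightedHomogeneousSubmodule k (w ∘ f) i) :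
    rename f p ∈ weightedHomogeneousSubmodule k w i := by
  intro d hd
  obtain ⟨u, rfl, hu⟩ := coeff_rename_ne_zero _ _ _ hd
  rw [← hp hu]
  change Finsupp.linearCombination ℕ w (u.mapDomain f) = Finsupp.linearCombination ℕ (w ∘ f) u
  rw [Finsupp.linearCombination_mapDomain]

theorem rename_inl_mem {i : ℤ} {p : MvPolynomial (Fin r) k} (hp : p ∈ gB k r i) :
    rename Sum.inl p ∈ W k (wt r s) i :=
  rename_mem Sum.inl (wt r s) hp

theorem rename_inr_mem {j : ℤ} {q : MvPolynomial (Fin s) k} (hq : q ∈ gB k s j) :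
    rename Sum.inr q ∈ W k (wt r s) (-j) := by
  refine rename_mem Sum.inr (wt r s) ?_
  intro d hd
  have h1 := hq hd
  rw [weight_const _ 1 (fun _ => rfl)] at h1
  rw [weight_const (wt r s ∘ Sum.inr) (-1) (fun _ => rfl)]
  omega

/-- `k[X] ⊗ k[Y] ≃ k[X, Y]` -/
def Theta : MvPolynomial (Fin r) k ⊗[k] MvPolynomial (Fin s) k ≃ₐ[k]
    MvPolynomial (Fin r ⊕ Fin s) k :=
  tensorEquivSum k (Fin r) (Fin s) k

theorem Theta_tmul_one (p : MvPolynomial (Fin r) k) :
    Theta r s (p ⊗ₜ[k] 1) = rename Sum.inl p := by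
  have h : ((Theta (k := k) r s).toAlgHom.comp Algebra.TensorProduct.includeLeft) =
      rename Sum.inl := by
    apply MvPolynomial.algHom_ext
    intro i
    simp [Theta]
  exact DFunLike.congr_fun h p

theorem Theta_one_tmul (q : MvPolynomial (Fin s) k) :
    Theta r s ((1 : MvPolynomial (Fin r) k) ⊗ₜ[k] q) = rename Sum.inr q := by
  have h : ((Theta (k := k) r s).toAlgHom.comp Algebra.TensorProduct.includeRight) =
      rename Sum.inr := by
    apply MvPolynomial.algHom_ext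
    intro i
    simp [Theta]
  exact DFunLike.congr_fun h q

theorem Theta_tmul (p : MvPolynomial (Fin r) k) (q : MvPolynomial (Fin s) k) :
    Theta r s (p ⊗ₜ[k] q) = rename Sum.inl p * rename Sum.inr q := by
  have h : p ⊗ₜ[k] q = (p ⊗ₜ[k] (1 : MvPolynomial (Fin s) k)) *
      ((1 : MvPolynomial (Fin r) k) ⊗ₜ[k] q) := by
    rw [Algebra.TensorProduct.tmul_mul_tmul, mul_one, one_mul]
  rw [h, map_mul, Theta_tmul_one, Theta_one_tmul]


theorem gB_zero (m : ℕ) : gB k m 0 = Submodule.span k {(1 : MvPolynomial (Fin m) k)} := by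
  refine le_antisymm ?_ ?_
  · intro p hp
    rw [Submodule.mem_span_singleton]
    refine ⟨coeff 0 p, ?_⟩
    have h := IsWeightedHomogeneous.eq_monomial_of_unique_weight (d₀ := 0) hp (by
      intro d hd
      rw [weight_one] at hd
      have : d.degree = 0 := by exact_mod_cast hd
      exact (Finsupp.degree_eq_zero_iff d).mp this)
    conv_rhs => rw [h]
    rw [Algebra.smul_def, mul_one]
    rfl
  · rw [Submodule.span_le]
    rintro _ rfl
    exact isWeightedHomogeneous_one k _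

theorem gB_neg' (m : ℕ) (n : ℤ) (hn : n < 0) : gB k m n = ⊥ := by
  rw [eq_bot_iff]
  intro p hp
  rw [Submodule.mem_bot]
  exact gB_neg k m hn hp

theorem constantCoeff_eq_zero_of_mem_gB {m : ℕ} {i : ℤ} (hi : i ≠ 0)
    {p : MvPolynomial (Fin m) k} (hp : p ∈ gB k m i) : constantCoeff p = 0 := by
  by_contra h
  rw [constantCoeff_eq] at h
  have h1 := hp h
  rw [map_zero] at h1
  exact hi h1.symm

end Poly

section Piece

variable {k : Type u} [Field k] (r s : ℕ) (a b : ℤ)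

/-- the pieces of `R(a) # S(b)` inside `R ⊗ S` -/
abbrev sp (n : ℤ) : Submodule k (MvPolynomial (Fin r) k ⊗[k] MvPolynomial (Fin s) k) :=
  GrSeg.segrePiece k (fun n : ℤ => gB k r (n + a)) (fun n : ℤ => gB k s (n + b)) n

theorem Theta_mem_of_mem_sp {n : ℤ} {z : MvPolynomial (Fin r) k ⊗[k] MvPolynomial (Fin s) k}
    (hz : z ∈ sp (k := k) r s a b n) : Theta r s z ∈ W k (wt r s) (a - b) := by
  induction hz using Submodule.span_induction with
  | mem z hz =>
    obtain ⟨x, hx, y, hy, rfl⟩ := hz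
    rw [Theta_tmul]
    have h := IsWeightedHomogeneous.mul (rename_inl_mem r s hx) (rename_inr_mem r s hy)
    have e : n + a + -(n + b) = a - b := by ring
    rw [e] at h
    exact h
  | zero => rw [map_zero]; exact Submodule.zero_mem _
  | add x y _ _ hx hy => rw [map_add]; exact Submodule.add_mem _ hx hy
  | smul c x _ hx => rw [map_smul]; exact Submodule.smul_mem _ _ hx

theorem constantCoeff_Theta_eq_zero {n : ℤ} (hn : n + a ≠ 0)
    {z : MvPolynomial (Fin r) k ⊗[k] MvPolynomial (Fin s) k}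
    (hz : z ∈ sp (k := k) r s a b n) : constantCoeff (Theta r s z) = 0 := by
  induction hz using Submodule.span_induction with
  | mem z hz =>
    obtain ⟨x, hx, y, hy, rfl⟩ := hz
    rw [Theta_tmul, map_mul, constantCoeff_rename, constantCoeff_eq_zero_of_mem_gB hn hx, zero_mul]
  | zero => rw [map_zero, map_zero]
  | add x y _ _ hx hy => rw [map_add, map_add, hx, hy, add_zero]
  | smul c x _ hx => rw [map_smul, smul_eq_C_mul, map_mul, hx, mul_zero]

theorem finsupp_sum_decomp (d : Fin r ⊕ Fin s →₀ ℕ) :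
    d = (d.comapDomain Sum.inl Sum.inl_injective.injOn).mapDomain Sum.inl +
      (d.comapDomain Sum.inr Sum.inr_injective.injOn).mapDomain Sum.inr := by
  ext x
  rw [Finsupp.add_apply]
  cases x with
  | inl i =>
    rw [Finsupp.mapDomain_apply Sum.inl_injective, Finsupp.mapDomain_of_notMem_range _ _ (by simp),
      Finsupp.comapDomain_apply, add_zero]
  | inr j =>
    rw [Finsupp.mapDomain_apply Sum.inr_injective, Finsupp.mapDomain_of_notMem_range _ _ (by simp),
      Finsupp.comapDomain_apply, zero_add]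

theorem weight_wt (d₁ : Fin r →₀ ℕ) (d₂ : Fin s →₀ ℕ) :
    Finsupp.weight (wt r s) (d₁.mapDomain Sum.inl + d₂.mapDomain Sum.inr) =
      ((d₁.degree : ℕ) : ℤ) - ((d₂.degree : ℕ) : ℤ) := by
  rw [map_add]
  have h1 : Finsupp.weight (wt r s) (d₁.mapDomain Sum.inl) = ((d₁.degree : ℕ) : ℤ) := by
    change Finsupp.linearCombination ℕ (wt r s) (d₁.mapDomain Sum.inl) = _
    rw [Finsupp.linearCombination_mapDomain]
    change Finsupp.weight (wt r s ∘ Sum.inl) d₁ = _
    rw [weight_const (wt r s ∘ Sum.inl) 1 (fun _ => rfl), mul_one]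
  have h2 : Finsupp.weight (wt r s) (d₂.mapDomain Sum.inr) = -((d₂.degree : ℕ) : ℤ) := by
    change Finsupp.linearCombination ℕ (wt r s) (d₂.mapDomain Sum.inr) = _
    rw [Finsupp.linearCombination_mapDomain]
    change Finsupp.weight (wt r s ∘ Sum.inr) d₂ = _
    rw [weight_const (wt r s ∘ Sum.inr) (-1) (fun _ => rfl), mul_neg, mul_one]
  rw [h1, h2, sub_eq_add_neg]

theorem exists_of_mem_W {f : MvPolynomial (Fin r ⊕ Fin s) k} (hf : f ∈ W k (wt r s) (a - b)) :
    ∃ z ∈ ⨆ n, sp (k := k) r s a b n, Theta r s z = f := by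
  refine IsWeightedHomogeneous.induction_on
    (motive := fun p _ => ∃ z ∈ ⨆ n, sp (k := k) r s a b n, Theta r s z = p) ?_ ?_ ?_ hf
  · exact ⟨0, Submodule.zero_mem _, map_zero _⟩
  · rintro p q _ _ ⟨z, hz, rfl⟩ ⟨z', hz', rfl⟩
    exact ⟨z + z', Submodule.add_mem _ hz hz', map_add _ _ _⟩
  · intro d c hd
    set d₁ := d.comapDomain Sum.inl Sum.inl_injective.injOn with hd₁
    set d₂ := d.comapDomain Sum.inr Sum.inr_injective.injOn with hd₂
    have hdd : d = d₁.mapDomain Sum.inl + d₂.mapDomain Sum.inr := finsupp_sum_decomp r s d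
    have hw : ((d₁.degree : ℕ) : ℤ) - ((d₂.degree : ℕ) : ℤ) = a - b := by
      rw [← weight_wt, ← hdd, hd]
    refine ⟨monomial d₁ c ⊗ₜ[k] monomial d₂ 1, ?_, ?_⟩
    · refine Submodule.mem_iSup_of_mem (((d₁.degree : ℕ) : ℤ) - a) ?_
      refine Submodule.subset_span ⟨_, ?_, _, ?_, rfl⟩
      · refine isWeightedHomogeneous_monomial _ d₁ c ?_
        rw [weight_one]
        ring
      · refine isWeightedHomogeneous_monomial _ d₂ 1 ?_
        rw [weight_one]
        omega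
    · rw [Theta_tmul, rename_monomial, rename_monomial, monomial_mul, mul_one, ← hdd]

theorem mul_mem_sp {i j : ℤ} {z z' : MvPolynomial (Fin r) k ⊗[k] MvPolynomial (Fin s) k}
    (hz : z ∈ sp (k := k) r s 0 0 i) (hz' : z' ∈ sp (k := k) r s a b j) :
    z * z' ∈ sp (k := k) r s a b (i + j) := by
  induction hz using Submodule.span_induction with
  | mem z hz =>
    obtain ⟨x, hx, y, hy, rfl⟩ := hz
    induction hz' using Submodule.span_induction with
    | mem z' hz' =>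
      obtain ⟨m, hm, n, hn, rfl⟩ := hz'
      rw [Algebra.TensorProduct.tmul_mul_tmul]
      refine Submodule.subset_span ⟨x * m, ?_, y * n, ?_, rfl⟩
      · have h := IsWeightedHomogeneous.mul hx hm
        have e : i + 0 + (j + a) = i + j + a := by ring
        rw [e] at h
        exact h
      · have h := IsWeightedHomogeneous.mul hy hn
        have e : i + 0 + (j + b) = i + j + b := by ring
        rw [e] at h
        exact h
    | zero => rw [mul_zero]; exact Submodule.zero_mem _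
    | add u v _ _ hu hv => rw [mul_add]; exact Submodule.add_mem _ hu hv
    | smul c u _ hu => rw [mul_smul_comm]; exact Submodule.smul_mem _ _ hu
  | zero => rw [zero_mul]; exact Submodule.zero_mem _
  | add u v _ _ hu hv => rw [add_mul]; exact Submodule.add_mem _ hu hv
  | smul c u _ hu => rw [smul_mul_assoc]; exact Submodule.smul_mem _ _ hu

end Piece

section Generic

variable {k : Type u} [Field k] {r s : ℕ} (a b : ℤ)
  {P : Type u} [AddCommGroup P] [Module k P] {τQ : Type u} [SetLike τQ P] [AddSubgroupClass τQ P]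
  (𝒬 : ℤ → τQ) [DirectSum.Decomposition 𝒬]
  (φ : P →ₗ[k] MvPolynomial (Fin r) k ⊗[k] MvPolynomial (Fin s) k)
  (himg : ∀ n : ℤ, φ '' (𝒬 n : Set P) = (sp (k := k) r s a b n : Set _))

omit [AddSubgroupClass τQ P] [DirectSum.Decomposition 𝒬] in
include himg in
theorem phi_mem_sp {n : ℤ} {p : P} (hp : p ∈ 𝒬 n) : φ p ∈ sp (k := k) r s a b n := by
  have h : φ p ∈ φ '' (𝒬 n : Set P) := ⟨p, hp, rfl⟩
  rw [himg n] at h
  exact h

include himg in
theorem Theta_phi_mem (p : P) : Theta r s (φ p) ∈ W k (wt r s) (a - b) := by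
  induction p using DirectSum.Decomposition.inductionOn 𝒬 with
  | zero => rw [map_zero, map_zero]; exact Submodule.zero_mem _
  | homogeneous p => exact Theta_mem_of_mem_sp r s a b (phi_mem_sp a b 𝒬 φ himg p.2)
  | add p q hp hq => rw [map_add, map_add]; exact Submodule.add_mem _ hp hq

omit [AddSubgroupClass τQ P] [DirectSum.Decomposition 𝒬] in
include himg in
theorem exists_Theta_phi_eq {f : MvPolynomial (Fin r ⊕ Fin s) k}
    (hf : f ∈ W k (wt r s) (a - b)) : ∃ p : P, Theta r s (φ p) = f := by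
  obtain ⟨z, hz, rfl⟩ := exists_of_mem_W r s a b hf
  have hle : (⨆ n, sp (k := k) r s a b n) ≤ LinearMap.range φ := by
    refine iSup_le fun n => ?_
    intro y hy
    have h : y ∈ φ '' (𝒬 n : Set P) := by rw [himg n]; exact hy
    obtain ⟨p, -, rfl⟩ := h
    exact ⟨p, rfl⟩
  obtain ⟨p, rfl⟩ := hle hz
  exact ⟨p, rfl⟩

/-- the comparison map `P → W_{a-b}` -/
def toW : P →+ Wm k (wt r s) (a - b) :=
  AddMonoidHom.codRestrict ((Theta (k := k) r s).toLinearMap ∘ₗ φ).toAddMonoidHom (Wm k (wt r s) (a - b))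
    (fun p => Theta_phi_mem a b 𝒬 φ himg p)

theorem toW_coe (p : P) :
    ((toW a b 𝒬 φ himg p : Wm k (wt r s) (a - b)) : MvPolynomial (Fin r ⊕ Fin s) k) =
      Theta r s (φ p) := rfl

theorem toW_bijective (hφ : Function.Injective φ) : Function.Bijective (toW a b 𝒬 φ himg) := by
  constructor
  · intro p q h
    have h1 : Theta r s (φ p) = Theta r s (φ q) := congrArg Subtype.val h
    exact hφ ((Theta (k := k) r s).injective h1)
  · intro f
    obtain ⟨p, hp⟩ := exists_Theta_phi_eq a b 𝒬 φ himg f.2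
    exact ⟨p, Subtype.ext hp⟩

end Generic

section Abstract

variable {k : Type u} [Field k] {r s : ℕ}
  {T : Type u} [CommRing T] [Algebra k T] (𝒯 : ℤ → Submodule k T) [GradedAlgebra 𝒯]
  (ψ : T →ₐ[k] MvPolynomial (Fin r) k ⊗[k] MvPolynomial (Fin s) k)
  (hT : GrSeg.IsSegreRing (gB k r) (gB k s) 𝒯 ψ)

include hT in
theorem himgT (n : ℤ) :
    ψ.toLinearMap '' (𝒯 n : Set T) = (sp (k := k) r s 0 0 n : Set _) := by
  have h := hT.2 n
  rw [← Submodule.map_coe, h]
  simp only [sp, add_zero]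

/-- the isomorphism `T → k[X,Y]_0` -/
def sig : T →+* T0 k (wt r s) :=
  RingHom.codRestrict ((Theta (k := k) r s).toAlgHom.toRingHom.comp ψ.toRingHom) (T0 k (wt r s))
    (fun t => by
      have h := Theta_phi_mem 0 0 𝒯 ψ.toLinearMap (himgT 𝒯 ψ hT) t
      rwa [sub_zero] at h)

theorem sig_coe (t : T) :
    ((sig 𝒯 ψ hT t : T0 k (wt r s)) : MvPolynomial (Fin r ⊕ Fin s) k) = Theta r s (ψ t) := rfl

theorem sig_bijective : Function.Bijective (sig 𝒯 ψ hT) := by
  constructor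
  · intro t t' h
    have h1 : Theta r s (ψ t) = Theta r s (ψ t') := congrArg Subtype.val h
    exact hT.1 ((Theta (k := k) r s).injective h1)
  · intro f
    have hf : (f : MvPolynomial (Fin r ⊕ Fin s) k) ∈ W k (wt r s) (0 - 0) := by
      rw [sub_zero]; exact f.2
    obtain ⟨t, ht⟩ := exists_Theta_phi_eq 0 0 𝒯 ψ.toLinearMap (himgT 𝒯 ψ hT) hf
    exact ⟨t, Subtype.ext ht⟩

include ψ in
theorem nontrivial_T : Nontrivial T := by
  refine ⟨⟨1, 0, fun h => ?_⟩⟩
  have h1 := congrArg (fun t => Theta (k := k) r s (ψ t)) h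
  simp only [map_one, map_zero] at h1
  exact one_ne_zero h1

include hT in
theorem neg_eq_bot (n : ℤ) (hn : n < 0) : 𝒯 n = ⊥ :=
  Groth.Agent.Lib.Seat91.SegreRetract.neg_eq_bot (gB k r) (gB k s) 𝒯 ψ hT.2 hT.1
    (gB_neg' r) n hn

include hT in
theorem zero_eq : 𝒯 0 = Submodule.span k {(1 : T)} :=
  Groth.Agent.Lib.Seat91.SegreRetract.zero_eq (gB k r) (gB k s) 𝒯 ψ hT.2 hT.1
    (gB_zero r) (gB_zero s)

include hT in
theorem irr_isMaximal : (Ideal.span (⋃ n ∈ Set.Ioi (0 : ℤ), (𝒯 n : Set T))).IsMaximal := by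
  have := nontrivial_T ψ
  exact Groth.Agent.Lib.Seat91.GrIrr.irr_isMaximal 𝒯 (neg_eq_bot 𝒯 ψ hT) (zero_eq 𝒯 ψ hT)

theorem map_sig_irr :
    (Ideal.span (⋃ n ∈ Set.Ioi (0 : ℤ), (𝒯 n : Set T))).map (sig 𝒯 ψ hT) = mI k (wt r s) := by
  have hmax := irr_isMaximal 𝒯 ψ hT
  have hle : (Ideal.span (⋃ n ∈ Set.Ioi (0 : ℤ), (𝒯 n : Set T))).map (sig 𝒯 ψ hT) ≤
      mI k (wt r s) := by
    rw [Ideal.map_le_iff_le_comap, Ideal.span_le]
    intro t ht
    simp only [Set.mem_iUnion] at ht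
    obtain ⟨n, hn, htn⟩ := ht
    change sig 𝒯 ψ hT t ∈ mI k (wt r s)
    rw [mem_mI, sig_coe]
    have h1 := phi_mem_sp 0 0 𝒯 ψ.toLinearMap (himgT 𝒯 ψ hT) htn
    refine constantCoeff_Theta_eq_zero r s 0 0 ?_ h1
    have : (0 : ℤ) < n := hn
    omega
  have hne : mI k (wt r s) ≠ ⊤ := by
    intro h
    have h1 : (1 : T0 k (wt r s)) ∈ mI k (wt r s) := by rw [h]; trivial
    rw [mem_mI] at h1
    simp at h1
  rcases Ideal.map_eq_top_or_isMaximal_of_surjective (sig 𝒯 ψ hT) (sig_bijective 𝒯 ψ hT).2 hmax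
    with h | h
  · rw [h] at hle
    exact absurd (top_le_iff.mp hle) hne
  · exact h.eq_of_le hne hle

variable {P : Type u} [AddCommGroup P] [Module T P] [Module k P] [IsScalarTower k T P]
  {τQ : Type u} [SetLike τQ P] [AddSubgroupClass τQ P]
  (𝒬 : ℤ → τQ) [DirectSum.Decomposition 𝒬] (a b : ℤ)
  (φ : P →ₗ[k] MvPolynomial (Fin r) k ⊗[k] MvPolynomial (Fin s) k)
  (hP : GrSeg.IsSegreMod ψ (fun n : ℤ => gB k r (n + a)) (fun n : ℤ => gB k s (n + b)) 𝒬 φ)

/-- the isomorphism `P → k[X,Y]_{a-b}` -/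
def eqv : P ≃+ Wm k (wt r s) (a - b) :=
  AddEquiv.ofBijective (toW a b 𝒬 φ hP.image_piece) (toW_bijective a b 𝒬 φ hP.image_piece hP.injective)

omit [IsScalarTower k T P] in
theorem eqv_coe (p : P) :
    ((eqv ψ 𝒬 a b φ hP p : Wm k (wt r s) (a - b)) : MvPolynomial (Fin r ⊕ Fin s) k) =
      Theta r s (φ p) := rfl

omit [IsScalarTower k T P] in
theorem eqv_smul (t : T) (p : P) :
    eqv ψ 𝒬 a b φ hP (t • p) = sig 𝒯 ψ hT t • eqv ψ 𝒬 a b φ hP p := by
  apply Subtype.ext
  rw [eqv_coe, hP.map_smul, act_eq_mul, map_mul]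
  rfl

include hT hP in
/-- the depth of `P` with respect to the irrelevant ideal is the depth of the concrete model -/
theorem idealDepth_eq :
    LocCoh.idealDepth (Ideal.span (⋃ n ∈ Set.Ioi (0 : ℤ), (𝒯 n : Set T))) P =
      dp k (wt r s) (a - b) :=
  Groth.Agent.Lib.Seat97.DepthTransfer.idealDepth_eq_of_semilinear (sig 𝒯 ψ hT)
    (eqv ψ 𝒬 a b φ hP) (eqv_smul 𝒯 ψ hT 𝒬 a b φ hP) _ _ (sig_bijective 𝒯 ψ hT).2
    (map_sig_irr 𝒯 ψ hT)

include hT in
theorem isSegreMod_self :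
    GrSeg.IsSegreMod ψ (fun n : ℤ => gB k r (n + 0)) (fun n : ℤ => gB k s (n + 0)) 𝒯
      ψ.toLinearMap where
  injective := hT.1
  image_piece := himgT 𝒯 ψ hT
  map_smul t p := by
    rw [smul_eq_mul, act_eq_mul]
    exact map_mul ψ t p

include hT in
theorem idealDepth_self_eq :
    LocCoh.idealDepth (Ideal.span (⋃ n ∈ Set.Ioi (0 : ℤ), (𝒯 n : Set T))) T =
      dp k (wt r s) 0 := by
  have h := idealDepth_eq 𝒯 ψ hT 𝒯 0 0 ψ.toLinearMap (isSegreMod_self 𝒯 ψ hT)
  rwa [sub_zero] at h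

include hT in
theorem isNoetherianRing_T : IsNoetherianRing T :=
  isNoetherianRing_of_ringEquiv _
    (RingEquiv.ofBijective (sig 𝒯 ψ hT) (sig_bijective 𝒯 ψ hT)).symm

include hT hP in
theorem finite_P : Module.Finite T P := by
  have : RingHomSurjective (sig 𝒯 ψ hT) := ⟨(sig_bijective 𝒯 ψ hT).2⟩
  let f : P →ₛₗ[sig 𝒯 ψ hT] Wm k (wt r s) (a - b) :=
    { toFun := eqv ψ 𝒬 a b φ hP
      map_add' := map_add _
      map_smul' := eqv_smul 𝒯 ψ hT 𝒬 a b φ hP }
  exact (LinearMap.finite_iff_of_bijective f (eqv ψ 𝒬 a b φ hP).bijective).mpr inferInstance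

include hT hP in
theorem smul_eq_zero_imp {t : T} {p : P} (h : t • p = 0) : t = 0 ∨ p = 0 := by
  have h1 := congrArg (fun x => ((eqv ψ 𝒬 a b φ hP x : Wm k (wt r s) (a - b)) :
    MvPolynomial (Fin r ⊕ Fin s) k)) h
  simp only [eqv_smul 𝒯 ψ hT 𝒬 a b φ hP, map_zero] at h1
  have h2 : ((sig 𝒯 ψ hT t : T0 k (wt r s)) : MvPolynomial (Fin r ⊕ Fin s) k) *
      ((eqv ψ 𝒬 a b φ hP p : Wm k (wt r s) (a - b)) : MvPolynomial (Fin r ⊕ Fin s) k) = 0 := h1
  rcases mul_eq_zero.mp h2 with h3 | h3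
  · left
    apply (sig_bijective 𝒯 ψ hT).1
    rw [map_zero]
    exact Subtype.ext h3
  · right
    apply (eqv ψ 𝒬 a b φ hP).injective
    rw [map_zero]
    exact Subtype.ext h3

include hT hP in
theorem gradedSMul : SetLike.GradedSMul 𝒯 𝒬 := by
  refine ⟨fun {i j t p} ht hp => ?_⟩
  rw [vadd_eq_add]
  have h1 := phi_mem_sp a b 𝒬 φ hP.image_piece hp
  have h0 := phi_mem_sp 0 0 𝒯 ψ.toLinearMap (himgT 𝒯 ψ hT) ht
  have h2 := mul_mem_sp r s a b h0 h1
  have h3 : φ (t • p) ∈ φ '' (𝒬 (i + j) : Set P) := by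
    rw [hP.image_piece, hP.map_smul, act_eq_mul]
    exact h2
  obtain ⟨q, hq, e⟩ := h3
  rw [← hP.injective e]
  exact hq

theorem nontrivial_Wm_wt (hr : 1 ≤ r) (hs : 1 ≤ s) (c : ℤ) : Nontrivial (Wm k (wt r s) c) := by
  by_cases hc : 0 ≤ c
  · obtain ⟨n, hn⟩ : ∃ n : ℕ, (n : ℤ) = c := ⟨c.toNat, Int.toNat_of_nonneg hc⟩
    have h := X_pow_mem k (wt r s) (Sum.inl ⟨0, hr⟩) n
    have h1 : (n : ℤ) * wt r s (Sum.inl ⟨0, hr⟩) = c := by rw [hn]; simp [wt]
    rw [h1] at h
    exact nontrivial_Wm_of_mem k (wt r s) h (pow_ne_zero n (X_ne_zero _))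
  · obtain ⟨n, hn⟩ : ∃ n : ℕ, (n : ℤ) = -c := ⟨(-c).toNat, Int.toNat_of_nonneg (by omega)⟩
    have h := X_pow_mem k (wt r s) (Sum.inr ⟨0, hs⟩) n
    have h1 : (n : ℤ) * wt r s (Sum.inr ⟨0, hs⟩) = c := by rw [hn]; simp [wt]
    rw [h1] at h
    exact nontrivial_Wm_of_mem k (wt r s) h (pow_ne_zero n (X_ne_zero _))

include hP in
theorem nontrivial_P (hr : 1 ≤ r) (hs : 1 ≤ s) : Nontrivial P := by
  have := nontrivial_Wm_wt (k := k) hr hs (a - b)
  exact (eqv ψ 𝒬 a b φ hP).toEquiv.nontrivial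

end Abstract

end

end Groth.Agent.Lib.Seat97.SegreBridge
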