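import Groth.Agent.Lib.Seat97WtPoly
import Groth.Agent.Lib.Seat97DepthTransfer

/-!
# Depth of the weight-`c` modules of a weight-graded polynomial ring (seat 97)
-/

set_option autoImplicit false
universe u

namespace Groth.Agent.Lib.Seat97.SegreDepth

open MvPolynomial Groth.Agent.Lib.Seat97.WtPoly Groth.Agent.Lib.Seat97.DepthTransfer
  Groth.Agent.Lib.Helper28

open scoped Pointwise

noncomputable section

section Level

variable (k : Type u) [Field k] {ν : Type} [Finite ν] (w : ν → ℤ)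

/-- the depth of the weight-`c` module with respect to the irrelevant ideal -/
def dp (c : ℤ) : ℕ∞ := LocCoh.idealDepth (mI k w) (Wm k w c)

omit [Finite ν] in
theorem dp_Q (v : ν) (c : ℤ) :
    LocCoh.idealDepth (mI k w) (Q k w v c) = dp k (wr w v) c :=
  idealDepth_eq_of_semilinear (kill0 k w v) (quotEquiv k w v c) (quotEquiv_smul k w v c)
    (mI k w) (mI k (wr w v)) (kill0_surjective k w v) (map_mI k w v)

theorem dp_mid (v : ν) (c' c : ℤ) (h : c' + w v = c) :
    min (dp k w c') (dp k (wr w v) c) ≤ dp k w c := by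
  rw [← dp_Q]
  exact min_le_mid (mI k w) (mulX k w v c' c h) (mulX_injective k w v c' c h) (XW k w v c)
    (range_mulX k w v c' c h)

theorem dp_right (v : ν) (c' c : ℤ) (h : c' + w v = c) :
    min (dp k w c) (dp k w c' - 1) ≤ dp k (wr w v) c := by
  rw [← dp_Q]
  exact min_le_right (mI k w) (mulX k w v c' c h) (mulX_injective k w v c' c h) (XW k w v c)
    (range_mulX k w v c' c h)

theorem dp_left (v : ν) (c' c : ℤ) (h : c' + w v = c) :
    min (dp k w c) (dp k (wr w v) c + 1) ≤ dp k w c' := by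
  rw [← dp_Q]
  exact min_le_left (mI k w) (mulX k w v c' c h) (mulX_injective k w v c' c h) (XW k w v c)
    (range_mulX k w v c' c h)

/-- the element `X u * X v` of the weight-zero subring -/
def zz (u v : ν) (huv : w u + w v = 0) : T0 k w :=
  ⟨X u * X v, by
    have h := IsWeightedHomogeneous.mul (isWeightedHomogeneous_X k w u) (isWeightedHomogeneous_X k w v)
    rw [huv] at h
    exact h⟩

omit [Finite ν] in
theorem zz_mem (u v : ν) (huv : w u + w v = 0) : zz k w u v huv ∈ mI k w := by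
  rw [mem_mI]
  change constantCoeff (X u * X v : MvPolynomial ν k) = 0
  rw [map_mul, constantCoeff_X, zero_mul]

omit [Finite ν] in
theorem zz_regular (u v : ν) (huv : w u + w v = 0) (c : ℤ) :
    IsSMulRegular (Wm k w c) (zz k w u v huv) := by
  intro p q h
  have h1 : (X u * X v : MvPolynomial ν k) * p.1 = (X u * X v) * q.1 := congrArg Subtype.val h
  exact Subtype.ext (mul_left_cancel₀ (mul_ne_zero (X_ne_zero u) (X_ne_zero v)) h1)

omit [Finite ν] in
theorem map_XW (u v : ν) (huv : w u + w v = 0) (c₁ c : ℤ) (h : c₁ + w u = c) :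
    (XW k w v c₁).map (mulX k w u c₁ c h) =
      (zz k w u v huv • (⊤ : Submodule (T0 k w) (Wm k w c))) := by
  ext p
  rw [Submodule.mem_map, Submodule.mem_smul_pointwise_iff_exists]
  constructor
  · rintro ⟨q, hq, rfl⟩
    obtain ⟨a, ha⟩ := (mem_XW k w v).mp hq
    have hq2 := q.2
    rw [mem_Wm, ha] at hq2
    have ha' : a ∈ W k w c := mem_of_X_mul_mem k w v (by omega) hq2
    refine ⟨⟨a, ha'⟩, trivial, Subtype.ext ?_⟩
    change (X u * X v : MvPolynomial ν k) * a = X u * q.1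
    rw [ha]
    ring
  · rintro ⟨n, -, rfl⟩
    refine ⟨⟨X v * n.1, X_mul_mem k w v (by omega) n.2⟩, ⟨n.1, rfl⟩, Subtype.ext ?_⟩
    change X u * (X v * n.1) = (X u * X v : MvPolynomial ν k) * n.1
    ring

/-- the `Z`-sequence: `depth (Wm c) ≥ 1 + min (depth Wm_{-v} c₁, depth Wm_{-u} c)`. -/
theorem dp_Z (u v : ν) (huv : w u + w v = 0) (c₁ c : ℤ) (h : c₁ + w u = c) :
    min (dp k (wr w v) c₁) (dp k (wr w u) c) + 1 ≤ dp k w c := by
  by_cases hIM : mI k w • (⊤ : Submodule (T0 k w) (Wm k w c)) = ⊤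
  · change _ ≤ LocCoh.idealDepth (mI k w) (Wm k w c)
    rw [idealDepth_eq_top_of_smul_top_eq_top _ _ hIM]
    exact le_top
  · change _ ≤ LocCoh.idealDepth (mI k w) (Wm k w c)
    rw [← idealDepth_quotSMulTop_add_one (mI k w) (Wm k w c) hIM (zz k w u v huv)
      (zz_mem k w u v huv) (zz_regular k w u v huv c)]
    gcongr
    rw [← dp_Q, ← dp_Q]
    exact min_le_quot (mI k w) (mulX k w u c₁ c h) (mulX_injective k w u c₁ c h) (XW k w u c)
      (range_mulX k w u c₁ c h) (XW k w v c₁) _ (map_XW k w u v huv c₁ c h)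

end Level

section Degenerate

variable (k : Type u) [Field k] {ν : Type} (w : ν → ℤ)

theorem weight_const (ε : ℤ) (hw : ∀ x, w x = ε) (d : ν →₀ ℕ) :
    Finsupp.weight w d = ((d.degree : ℕ) : ℤ) * ε := by
  rw [Finsupp.weight_apply, Finsupp.degree_apply, Finsupp.sum]
  push_cast
  rw [Finset.sum_mul]
  exact Finset.sum_congr rfl fun i _ => by rw [hw i, nsmul_eq_mul]

/-- all weights equal `ε = ±1` and `c ε < 0`: the weight-`c` module is zero -/
theorem subsingleton_Wm (ε : ℤ) (hw : ∀ x, w x = ε) (c : ℤ) (hc : c * ε < 0) (hε : ε * ε = 1) :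
    Subsingleton (Wm k w c) := by
  refine ⟨fun p q => ?_⟩
  have key : ∀ p : Wm k w c, p = 0 := by
    intro p
    apply Subtype.ext
    ext d
    rw [Submodule.coe_zero, coeff_zero]
    by_contra hne
    have h1 := p.2 hne
    rw [weight_const w ε hw] at h1
    have h2 : c * ε = ((d.degree : ℕ) : ℤ) := by rw [← h1, mul_assoc, hε, mul_one]
    have h3 : (0 : ℤ) ≤ ((d.degree : ℕ) : ℤ) := Int.natCast_nonneg _
    omega
  rw [key p, key q]

theorem dp_eq_top_of_const [Finite ν] (ε : ℤ) (hw : ∀ x, w x = ε) (c : ℤ) (hc : c * ε < 0)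
    (hε : ε * ε = 1) : dp k w c = ⊤ := by
  have := subsingleton_Wm k w ε hw c hc hε
  exact idealDepth_eq_top_of_subsingleton _ _

/-- all weights equal `ε ≠ 0`: the irrelevant ideal of the weight-zero subring is zero -/
theorem mI_eq_bot (ε : ℤ) (hw : ∀ x, w x = ε) (hε : ε ≠ 0) : mI k w = ⊥ := by
  rw [eq_bot_iff]
  intro t ht
  rw [mem_mI] at ht
  rw [Ideal.mem_bot]
  apply Subtype.ext
  ext d
  change coeff d (t : MvPolynomial ν k) = coeff d 0
  rw [coeff_zero]
  by_contra hne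
  have h1 := t.2 hne
  rw [weight_const w ε hw] at h1
  have h2 : ((d.degree : ℕ) : ℤ) = 0 := by
    rcases mul_eq_zero.mp h1 with h | h
    · exact h
    · exact absurd h hε
  have h3 : d = 0 := by
    have : d.degree = 0 := by exact_mod_cast h2
    exact (Finsupp.degree_eq_zero_iff d).mp this
  rw [h3, ← constantCoeff_eq] at hne
  exact hne ht

theorem X_pow_mem (x : ν) (n : ℕ) : (X x : MvPolynomial ν k) ^ n ∈ W k w ((n : ℤ) * w x) := by
  have h := (isWeightedHomogeneous_X k w x).pow n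
  rw [nsmul_eq_mul] at h
  exact h

theorem nontrivial_Wm_of_mem {c : ℤ} {p : MvPolynomial ν k} (hp : p ∈ W k w c) (hp0 : p ≠ 0) :
    Nontrivial (Wm k w c) :=
  ⟨⟨⟨p, hp⟩, 0, fun h => hp0 (congrArg Subtype.val h)⟩⟩

/-- all weights equal `ε = ±1`, `c ε ≥ 0`, at least one variable: depth zero -/
theorem dp_eq_zero_of_const [Finite ν] (ε : ℤ) (hw : ∀ x, w x = ε) (c : ℤ) (hc : 0 ≤ c * ε)
    (hε : ε * ε = 1) (x : ν) : dp k w c = 0 := by
  have hε0 : ε ≠ 0 := by rintro rfl; simp at hε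
  have hbot := mI_eq_bot k w ε hw hε0
  obtain ⟨n, hn⟩ : ∃ n : ℕ, (n : ℤ) = c * ε := ⟨(c * ε).toNat, Int.toNat_of_nonneg hc⟩
  have hmem : (X x : MvPolynomial ν k) ^ n ∈ W k w c := by
    have h := X_pow_mem k w x n
    rw [hw x, hn, mul_assoc, hε, mul_one] at h
    exact h
  have := nontrivial_Wm_of_mem k w hmem (pow_ne_zero n (X_ne_zero x))
  unfold dp
  refine idealDepth_eq_zero_of_forall_not_isSMulRegular ?_ ?_
  · rw [hbot, Submodule.bot_smul]
    exact bot_ne_top
  · intro r hr hreg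
    rw [hbot, Ideal.mem_bot] at hr
    subst hr
    obtain ⟨a, b, hab⟩ := exists_pair_ne (Wm k w c)
    exact hab (hreg (by simp))

end Degenerate

section Count

variable {ν : Type} (w : ν → ℤ)

/-- the number of variables of weight `ε` -/
def cnt (ε : ℤ) : ℕ := {x : ν | w x = ε}.ncard

theorem cnt_rest (v : ν) (ε : ℤ) :
    cnt (wr w v) ε = ({x : ν | w x = ε} \ {v}).ncard := by
  unfold cnt
  rw [← Set.ncard_image_of_injective _ (Subtype.val_injective (p := fun x => x ≠ v))]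
  congr 1
  ext x
  simp only [Set.mem_image, Set.mem_ofPred_eq, Set.mem_sdiff, Set.mem_singleton_iff]
  constructor
  · rintro ⟨y, hy, rfl⟩
    exact ⟨hy, y.2⟩
  · rintro ⟨h1, h2⟩
    exact ⟨⟨x, h2⟩, h1, rfl⟩

theorem cnt_rest_of_eq [Finite ν] (v : ν) (ε : ℤ) (hv : w v = ε) :
    cnt (wr w v) ε + 1 = cnt w ε := by
  rw [cnt_rest]
  exact Set.ncard_sdiff_singleton_add_one (show v ∈ {x : ν | w x = ε} from hv) (Set.toFinite _)

theorem cnt_rest_of_ne (v : ν) (ε : ℤ) (hv : w v ≠ ε) : cnt (wr w v) ε = cnt w ε := by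
  rw [cnt_rest, Set.sdiff_singleton_eq_self]
  · rfl
  · exact hv

theorem exists_of_cnt_pos [Finite ν] (ε : ℤ) (h : 1 ≤ cnt w ε) : ∃ x, w x = ε := by
  unfold cnt at h
  have : {x : ν | w x = ε}.Nonempty := by
    rw [← Set.ncard_pos (Set.toFinite _)]
    omega
  exact this

theorem forall_of_cnt_eq_zero [Finite ν] (hw : ∀ x, w x = 1 ∨ w x = -1) (ε : ℤ)
    (hε : ε = 1 ∨ ε = -1) (h : cnt w ε = 0) : ∀ x, w x = -ε := by
  intro x
  unfold cnt at h
  rw [Set.ncard_eq_zero (Set.toFinite _)] at h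
  have hx : x ∉ {x : ν | w x = ε} := by rw [h]; exact Set.notMem_empty x
  have hx' : w x ≠ ε := hx
  rcases hw x with h1 | h1 <;> rcases hε with h2 | h2 <;> omega

end Count

section Main

variable (k : Type u) [Field k]

/-- the expected depth -/
def ee (r s : ℕ) (c : ℤ) : ℕ :=
  if (s : ℤ) ≤ c then s else if c ≤ -(r : ℤ) then r else r + s - 1

/-- the claims at a level with `r` variables of weight `1` and `s` of weight `-1` -/
def Claims {ν : Type} [Finite ν] (w : ν → ℤ) (r s : ℕ) : Prop :=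
  (∀ c : ℤ, ((ee r s c : ℕ) : ℕ∞) ≤ dp k w c) ∧
  (∀ c : ℤ, (s : ℤ) ≤ c → dp k w c ≤ (s : ℕ∞)) ∧
  (∀ c : ℤ, c ≤ -(r : ℤ) → dp k w c ≤ (r : ℕ∞))

theorem enat_le_of_min_add_one_le {a b d : ℕ∞} {n : ℕ} (h : min a b + 1 ≤ d)
    (ha : (n : ℕ∞) ≤ a) (hb : (n : ℕ∞) ≤ b) : ((n + 1 : ℕ) : ℕ∞) ≤ d := by
  refine le_trans ?_ h
  push_cast
  gcongr
  exact le_min ha hb

theorem enat_le_of_min_le {a b d : ℕ∞} {n : ℕ} (h : min a (b + 1) ≤ d)
    (ha : ((n + 1 : ℕ) : ℕ∞) ≤ a) (hb : (n : ℕ∞) ≤ b) : ((n + 1 : ℕ) : ℕ∞) ≤ d := by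
  refine le_trans (le_min ha ?_) h
  push_cast
  gcongr

theorem enat_le_of_min_sub_le {a b d : ℕ∞} {n : ℕ} (h : min a (b - 1) ≤ d)
    (ha : ((n + 1 : ℕ) : ℕ∞) ≤ a) (hd : d ≤ (n : ℕ∞)) : b ≤ ((n + 1 : ℕ) : ℕ∞) := by
  rcases min_le_iff.mp (h.trans hd) with h1 | h1
  · have := ha.trans h1
    have h2 : n + 1 ≤ n := by exact_mod_cast this
    omega
  · rw [tsub_le_iff_right] at h1
    exact_mod_cast h1

theorem claims : ∀ (n : ℕ) {ν : Type} [Finite ν] (w : ν → ℤ) (_ : ∀ x, w x = 1 ∨ w x = -1)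
    (r s : ℕ), r + s = n → cnt w 1 = r → cnt w (-1) = s → 1 ≤ r → 1 ≤ s → Claims k w r s := by
  intro n
  induction n using Nat.strong_induction_on with
  | _ n ih =>
  intro ν _ w hw r s hn hr hs h1r h1s
  obtain ⟨i, hi⟩ := exists_of_cnt_pos w 1 (by omega)
  obtain ⟨j, hj⟩ := exists_of_cnt_pos w (-1) (by omega)
  have hij : j ≠ i := by
    rintro rfl
    omega
  -- the two sublevels
  have hwI : ∀ x : Rest i, wr w i x = 1 ∨ wr w i x = -1 := fun x => hw x.1
  have hwJ : ∀ x : Rest j, wr w j x = 1 ∨ wr w j x = -1 := fun x => hw x.1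
  have hrI : cnt (wr w i) 1 + 1 = r := by rw [cnt_rest_of_eq w i 1 hi, hr]
  have hsI : cnt (wr w i) (-1) = s := by rw [cnt_rest_of_ne w i (-1) (by omega), hs]
  have hrJ : cnt (wr w j) 1 = r := by rw [cnt_rest_of_ne w j 1 (by omega), hr]
  have hsJ : cnt (wr w j) (-1) + 1 = s := by rw [cnt_rest_of_eq w j (-1) hj, hs]
  -- claims or degeneracy at the sublevels
  have CI : 2 ≤ r → Claims k (wr w i) (r - 1) s := fun h2 =>
    ih (r - 1 + s) (by omega) (wr w i) hwI (r - 1) s rfl (by omega) hsI (by omega) h1s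
  have CJ : 2 ≤ s → Claims k (wr w j) r (s - 1) := fun h2 =>
    ih (r + (s - 1)) (by omega) (wr w j) hwJ r (s - 1) rfl hrJ (by omega) h1r (by omega)
  have DI : r = 1 → ∀ x : Rest i, wr w i x = -1 := fun h1 =>
    forall_of_cnt_eq_zero (wr w i) hwI 1 (Or.inl rfl) (by omega)
  have DJ : s = 1 → ∀ x : Rest j, wr w j x = 1 := fun h1 => by
    have := forall_of_cnt_eq_zero (wr w j) hwJ (-1) (Or.inr rfl) (by omega)
    simpa using this
  -- bounds at the sublevel I
  have I1 : ∀ c : ℤ, -(r : ℤ) + 1 < c → c < s → ((r + s - 2 : ℕ) : ℕ∞) ≤ dp k (wr w i) c := by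
    intro c h1 h2
    rcases Nat.lt_or_ge r 2 with hlt | hge
    · rw [dp_eq_top_of_const k (wr w i) (-1) (DI (by omega)) c (by omega) (by norm_num)]
      exact le_top
    · have h := (CI hge).1 c
      have he : ee (r - 1) s c = r + s - 2 := by
        unfold ee
        rw [if_neg (by omega), if_neg (by omega)]
        omega
      rwa [he] at h
  have I2 : ∀ c : ℤ, c ≤ -(r : ℤ) + 1 → ((r - 1 : ℕ) : ℕ∞) ≤ dp k (wr w i) c := by
    intro c h1
    rcases Nat.lt_or_ge r 2 with hlt | hge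
    · have : r - 1 = 0 := by omega
      rw [this]
      exact zero_le
    · have h := (CI hge).1 c
      have he : ee (r - 1) s c = r - 1 := by
        unfold ee
        rw [if_neg (by omega), if_pos (by omega)]
      rwa [he] at h
  have I3 : ∀ c : ℤ, c ≤ -(r : ℤ) + 1 → dp k (wr w i) c ≤ ((r - 1 : ℕ) : ℕ∞) := by
    intro c h1
    rcases Nat.lt_or_ge r 2 with hlt | hge
    · rw [dp_eq_zero_of_const k (wr w i) (-1) (DI (by omega)) c (by omega) (by norm_num)
        ⟨j, hij⟩]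
      exact zero_le
    · exact (CI hge).2.2 c (by omega)
  -- bounds at the sublevel J
  have J1 : ∀ c : ℤ, -(r : ℤ) < c → c < (s : ℤ) - 1 →
      ((r + s - 2 : ℕ) : ℕ∞) ≤ dp k (wr w j) c := by
    intro c h1 h2
    rcases Nat.lt_or_ge s 2 with hlt | hge
    · rw [dp_eq_top_of_const k (wr w j) 1 (DJ (by omega)) c (by omega) (by norm_num)]
      exact le_top
    · have h := (CJ hge).1 c
      have he : ee r (s - 1) c = r + s - 2 := by
        unfold ee
        rw [if_neg (by omega), if_neg (by omega)]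
        omega
      rwa [he] at h
  have J2 : ∀ c : ℤ, (s : ℤ) - 1 ≤ c → ((s - 1 : ℕ) : ℕ∞) ≤ dp k (wr w j) c := by
    intro c h1
    rcases Nat.lt_or_ge s 2 with hlt | hge
    · have : s - 1 = 0 := by omega
      rw [this]
      exact zero_le
    · have h := (CJ hge).1 c
      have he : ee r (s - 1) c = s - 1 := by
        unfold ee
        rw [if_pos (by omega)]
      rwa [he] at h
  have J3 : ∀ c : ℤ, (s : ℤ) - 1 ≤ c → dp k (wr w j) c ≤ ((s - 1 : ℕ) : ℕ∞) := by
    intro c h1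
    rcases Nat.lt_or_ge s 2 with hlt | hge
    · rw [dp_eq_zero_of_const k (wr w j) 1 (DJ (by omega)) c (by omega) (by norm_num)
        ⟨i, hij.symm⟩]
      exact zero_le
    · exact (CJ hge).2.1 c (by omega)
  -- the Cohen–Macaulay range
  have CM : ∀ c : ℤ, -(r : ℤ) < c → c < s → ((r + s - 1 : ℕ) : ℕ∞) ≤ dp k w c := by
    intro c h1 h2
    by_cases h11 : r = 1 ∧ s = 1
    · have hZ := dp_Z k w i j (by omega) (c - 1) c (by omega)
      have : r + s - 1 = 0 + 1 := by omega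
      rw [this]
      exact enat_le_of_min_add_one_le hZ (by simp) (by simp)
    · have hrs : r + s - 1 = (r + s - 2) + 1 := by omega
      rw [hrs]
      by_cases h3 : -(r : ℤ) + 2 ≤ c
      · exact enat_le_of_min_add_one_le (dp_Z k w i j (by omega) (c - 1) c (by omega))
          (J1 (c - 1) (by omega) (by omega)) (I1 c (by omega) h2)
      · exact enat_le_of_min_add_one_le (dp_Z k w j i (by omega) (c + 1) c (by omega))
          (I1 (c + 1) (by omega) (by omega)) (J1 c h1 (by omega))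
  -- lower bounds outside the Cohen–Macaulay range
  have Lhi : ∀ m : ℕ, ((s : ℕ) : ℕ∞) ≤ dp k w ((s : ℤ) - 1 + m) := by
    intro m
    induction m with
    | zero =>
      refine le_trans ?_ (CM ((s : ℤ) - 1 + (0 : ℕ)) (by push_cast; omega) (by push_cast; omega))
      exact_mod_cast (by omega : s ≤ r + s - 1)
    | succ m ihm =>
      have h := dp_left k w j ((s : ℤ) - 1 + (m + 1 : ℕ)) ((s : ℤ) - 1 + m)
        (by push_cast; omega)
      have ihm' : ((s - 1 + 1 : ℕ) : ℕ∞) ≤ dp k w ((s : ℤ) - 1 + m) := by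
        rwa [Nat.sub_add_cancel h1s]
      have := enat_le_of_min_le h ihm' (J2 ((s : ℤ) - 1 + m) (by omega))
      rwa [Nat.sub_add_cancel h1s] at this
  have Llo : ∀ m : ℕ, ((r : ℕ) : ℕ∞) ≤ dp k w (-(r : ℤ) + 1 - m) := by
    intro m
    induction m with
    | zero =>
      refine le_trans ?_ (CM (-(r : ℤ) + 1 - (0 : ℕ)) (by push_cast; omega) (by push_cast; omega))
      exact_mod_cast (by omega : r ≤ r + s - 1)
    | succ m ihm =>
      have h := dp_left k w i (-(r : ℤ) + 1 - (m + 1 : ℕ)) (-(r : ℤ) + 1 - m)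
        (by push_cast; omega)
      have ihm' : ((r - 1 + 1 : ℕ) : ℕ∞) ≤ dp k w (-(r : ℤ) + 1 - m) := by
        rwa [Nat.sub_add_cancel h1r]
      have := enat_le_of_min_le h ihm' (I2 (-(r : ℤ) + 1 - m) (by omega))
      rwa [Nat.sub_add_cancel h1r] at this
  refine ⟨?_, ?_, ?_⟩
  · intro c
    unfold ee
    split_ifs with h1 h2
    · obtain ⟨m, hm⟩ : ∃ m : ℕ, (m : ℤ) = c - s + 1 := ⟨(c - s + 1).toNat,
        Int.toNat_of_nonneg (by omega)⟩
      have := Lhi m
      rwa [show (s : ℤ) - 1 + m = c by omega] at this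
    · obtain ⟨m, hm⟩ : ∃ m : ℕ, (m : ℤ) = -(r : ℤ) + 1 - c := ⟨(-(r : ℤ) + 1 - c).toNat,
        Int.toNat_of_nonneg (by omega)⟩
      have := Llo m
      rwa [show -(r : ℤ) + 1 - m = c by omega] at this
    · exact CM c (by omega) (by omega)
  · intro c hc
    obtain ⟨m, hm⟩ : ∃ m : ℕ, (m : ℤ) = c - s := ⟨(c - s).toNat,
      Int.toNat_of_nonneg (by omega)⟩
    have hlow := Lhi m
    rw [show (s : ℤ) - 1 + m = c - 1 by omega] at hlow
    have h := dp_right k w j c (c - 1) (by omega)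
    have hlow' : ((s - 1 + 1 : ℕ) : ℕ∞) ≤ dp k w (c - 1) := by
      rwa [Nat.sub_add_cancel h1s]
    have := enat_le_of_min_sub_le h hlow' (J3 (c - 1) (by omega))
    rwa [Nat.sub_add_cancel h1s] at this
  · intro c hc
    obtain ⟨m, hm⟩ : ∃ m : ℕ, (m : ℤ) = -(r : ℤ) - c := ⟨(-(r : ℤ) - c).toNat,
      Int.toNat_of_nonneg (by omega)⟩
    have hlow := Llo m
    rw [show -(r : ℤ) + 1 - m = c + 1 by omega] at hlow
    have h := dp_right k w i c (c + 1) (by omega)
    have hlow' : ((r - 1 + 1 : ℕ) : ℕ∞) ≤ dp k w (c + 1) := by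
      rwa [Nat.sub_add_cancel h1r]
    have := enat_le_of_min_sub_le h hlow' (I3 (c + 1) (by omega))
    rwa [Nat.sub_add_cancel h1r] at this

end Main

end

end Groth.Agent.Lib.Seat97.SegreDepth
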