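import Mathlib
import Groth.Prelude.Def_GrSeg
import Groth.Agent.Lib.Helper24GrDual

/-!
# Finiteness of Segre products of modules (seat 97)

The ring `B = R ⊗[k] S` acts on `E = M ⊗[k] N` through `GrSeg.act`; `E` is a finite `B`-module when
`M`, `N` are finite; the diagonal projection `rho` of `E` (and of `B`) is linear over the Segre
ring; hence submodules of the Segre module `P` are contracted from `B`-submodules of `E`, and `P`
is a Noetherian `T`-module.
-/

set_option autoImplicit false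
set_option linter.unusedSectionVars false
universe u
open scoped TensorProduct
open DirectSum

namespace Groth.Agent.Lib.Seat97.SegreFin

section Mod

variable {k : Type u} [CommRing k] {R S : Type u} [CommRing R] [CommRing S] [Algebra k R]
  [Algebra k S] {M N : Type u} [AddCommGroup M] [Module R M] [Module k M] [IsScalarTower k R M]
  [AddCommGroup N] [Module S N] [Module k N] [IsScalarTower k S N]

theorem act_one (e : M ⊗[k] N) : GrSeg.act k R S M N 1 e = e := by
  induction e using TensorProduct.induction_on with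
  | zero => simp
  | add x y hx hy => rw [map_add, hx, hy]
  | tmul m n => rw [Algebra.TensorProduct.one_def, GrSeg.act_tmul, one_smul, one_smul]

theorem act_mul (b b' : R ⊗[k] S) (e : M ⊗[k] N) :
    GrSeg.act k R S M N (b * b') e = GrSeg.act k R S M N b (GrSeg.act k R S M N b' e) := by
  induction e using TensorProduct.induction_on with
  | zero => simp
  | add x y hx hy => rw [map_add, hx, hy, map_add, map_add]
  | tmul m n =>
    induction b' using TensorProduct.induction_on with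
    | zero => simp
    | add x y hx hy =>
      rw [mul_add, map_add, LinearMap.add_apply, hx, hy, map_add, LinearMap.add_apply, map_add]
    | tmul r' s' =>
      induction b using TensorProduct.induction_on with
      | zero => simp
      | add x y hx hy =>
        rw [add_mul, map_add, LinearMap.add_apply, hx, hy, map_add, LinearMap.add_apply]
      | tmul r s =>
        rw [Algebra.TensorProduct.tmul_mul_tmul, GrSeg.act_tmul, GrSeg.act_tmul, GrSeg.act_tmul,
          mul_smul, mul_smul]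

variable (k R S M N) in
/-- The `R ⊗[k] S`-module structure on `M ⊗[k] N` given by `GrSeg.act`. -/
@[reducible] noncomputable def modBE : Module (R ⊗[k] S) (M ⊗[k] N) where
  smul b e := GrSeg.act k R S M N b e
  one_smul := act_one
  mul_smul := act_mul
  smul_zero b := map_zero _
  smul_add b := map_add _
  add_smul b b' e := by
    change GrSeg.act k R S M N (b + b') e = _
    rw [map_add, LinearMap.add_apply]
    rfl
  zero_smul e := by
    change GrSeg.act k R S M N 0 e = _
    rw [map_zero, LinearMap.zero_apply]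

theorem finiteBE [Module.Finite R M] [Module.Finite S N] :
    @Module.Finite (R ⊗[k] S) (M ⊗[k] N) _ _ (modBE k R S M N) := by
  let _ := modBE k R S M N
  obtain ⟨sM, hsM⟩ := (Module.Finite.fg_top : (⊤ : Submodule R M).FG)
  obtain ⟨sN, hsN⟩ := (Module.Finite.fg_top : (⊤ : Submodule S N).FG)
  have hsmul : ∀ (b : R ⊗[k] S) (e : M ⊗[k] N), b • e = GrSeg.act k R S M N b e := fun _ _ => rfl
  set G : Submodule (R ⊗[k] S) (M ⊗[k] N) :=
    Submodule.span (R ⊗[k] S) (Set.image2 (fun x y => x ⊗ₜ[k] y) (sM : Set M) (sN : Set N)) with hG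
  have h1 : ∀ x ∈ (sM : Set M), ∀ n : N, x ⊗ₜ[k] n ∈ G := by
    intro x hx n
    have hn : n ∈ Submodule.span S (sN : Set N) := by rw [hsN]; trivial
    induction hn using Submodule.span_induction with
    | mem y hy => exact Submodule.subset_span ⟨x, hx, y, hy, rfl⟩
    | zero => rw [TensorProduct.tmul_zero]; exact zero_mem _
    | add y y' _ _ hy hy' => rw [TensorProduct.tmul_add]; exact add_mem hy hy'
    | smul s y _ hy =>
      have : x ⊗ₜ[k] (s • y) = ((1 : R) ⊗ₜ[k] s) • (x ⊗ₜ[k] y) := by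
        rw [hsmul, GrSeg.act_tmul, one_smul]
      rw [this]
      exact G.smul_mem _ hy
  have h2 : ∀ (m : M) (n : N), m ⊗ₜ[k] n ∈ G := by
    intro m n
    have hm : m ∈ Submodule.span R (sM : Set M) := by rw [hsM]; trivial
    induction hm using Submodule.span_induction with
    | mem x hx => exact h1 x hx n
    | zero => rw [TensorProduct.zero_tmul]; exact zero_mem _
    | add y y' _ _ hy hy' => rw [TensorProduct.add_tmul]; exact add_mem hy hy'
    | smul r x _ hx =>
      have : (r • x) ⊗ₜ[k] n = (r ⊗ₜ[k] (1 : S)) • (x ⊗ₜ[k] n) := by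
        rw [hsmul, GrSeg.act_tmul, one_smul]
      rw [this]
      exact G.smul_mem _ hx
  have h3 : G = ⊤ := by
    have h4 : ∀ e : M ⊗[k] N, e ∈ G := by
      intro e
      induction e using TensorProduct.induction_on with
      | zero => exact zero_mem _
      | add x y hx hy => exact add_mem hx hy
      | tmul m n => exact h2 m n
    exact eq_top_iff.2 fun e _ => h4 e
  refine ⟨Submodule.fg_def.2 ⟨_, ?_, h3⟩⟩
  exact Set.Finite.image2 _ sM.finite_toSet sN.finite_toSet

end Mod

section Rho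

variable {k : Type u} [CommRing k] {M N : Type u} [AddCommGroup M] [Module k M]
  [AddCommGroup N] [Module k N]
  (ℳ : ℤ → Submodule k M) [DirectSum.Decomposition ℳ]
  (𝒩 : ℤ → Submodule k N) [DirectSum.Decomposition 𝒩]

/-- The degree-`i` projection as a `k`-linear endomorphism. -/
noncomputable def projL (i : ℤ) : N →ₗ[k] N :=
  (𝒩 i).subtype ∘ₗ DirectSum.component k ℤ (fun i => 𝒩 i) i ∘ₗ
    (DirectSum.decomposeLinearEquiv 𝒩).toLinearMap

theorem projL_apply (i : ℤ) (n : N) : projL 𝒩 i n = ((DirectSum.decompose 𝒩 n) i : N) := rfl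

theorem projL_mem (i : ℤ) (n : N) : projL 𝒩 i n ∈ 𝒩 i := by
  rw [projL_apply]; exact SetLike.coe_mem _

theorem projL_of_mem_same {i : ℤ} {n : N} (hn : n ∈ 𝒩 i) : projL 𝒩 i n = n := by
  rw [projL_apply, DirectSum.decompose_of_mem_same 𝒩 hn]

theorem projL_of_mem_ne {i j : ℤ} {n : N} (hn : n ∈ 𝒩 i) (h : i ≠ j) : projL 𝒩 j n = 0 := by
  rw [projL_apply, DirectSum.decompose_of_mem_ne 𝒩 hn h]

/-- The projection of `M ⊗ N` onto its diagonal part `⊕ M_n ⊗ N_n`. -/
noncomputable def rho : M ⊗[k] N →ₗ[k] M ⊗[k] N :=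
  (DirectSum.toModule k ℤ (M ⊗[k] N)
      (fun i => TensorProduct.map (ℳ i).subtype (projL 𝒩 i))) ∘ₗ
    (TensorProduct.directSumLeft k k (fun i => ℳ i) N).toLinearMap ∘ₗ
    (TensorProduct.map (DirectSum.decomposeLinearEquiv ℳ).toLinearMap LinearMap.id)

theorem rho_tmul_of_mem {i : ℤ} {m : M} (hm : m ∈ ℳ i) (n : N) :
    rho ℳ 𝒩 (m ⊗ₜ[k] n) = m ⊗ₜ[k] (projL 𝒩 i n) := by
  unfold rho
  simp only [LinearMap.coe_comp, LinearEquiv.coe_coe, Function.comp_apply, TensorProduct.map_tmul,
    LinearMap.id_coe, id_eq, DirectSum.decomposeLinearEquiv_apply]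
  rw [DirectSum.decompose_of_mem ℳ hm, ← DirectSum.lof_eq_of k,
    TensorProduct.directSumLeft_tmul_lof, DirectSum.toModule_lof]
  simp

theorem rho_tmul_of_mem_of_mem {i : ℤ} {m : M} (hm : m ∈ ℳ i) {n : N} (hn : n ∈ 𝒩 i) :
    rho ℳ 𝒩 (m ⊗ₜ[k] n) = m ⊗ₜ[k] n := by
  rw [rho_tmul_of_mem ℳ 𝒩 hm, projL_of_mem_same 𝒩 hn]

theorem rho_of_mem_segrePiece {i : ℤ} {y : M ⊗[k] N} (hy : y ∈ GrSeg.segrePiece k ℳ 𝒩 i) :
    rho ℳ 𝒩 y = y := by
  unfold GrSeg.segrePiece at hy
  induction hy using Submodule.span_induction with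
  | mem x hx =>
    obtain ⟨a, ha, b, hb, rfl⟩ := hx
    exact rho_tmul_of_mem_of_mem ℳ 𝒩 ha hb
  | zero => simp
  | add x y _ _ hx hy => rw [map_add, hx, hy]
  | smul c x _ hx => rw [map_smul, hx]

theorem rho_mem_iSup_segrePiece (x : M ⊗[k] N) :
    rho ℳ 𝒩 x ∈ ⨆ i, GrSeg.segrePiece k ℳ 𝒩 i := by
  induction x using TensorProduct.induction_on with
  | zero => simp
  | add x y hx hy => rw [map_add]; exact add_mem hx hy
  | tmul m n =>
    induction m using DirectSum.Decomposition.inductionOn ℳ with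
    | zero => simp
    | add r r' hr hr' => rw [TensorProduct.add_tmul, map_add]; exact add_mem hr hr'
    | homogeneous r =>
      rename_i i
      rw [rho_tmul_of_mem ℳ 𝒩 r.2]
      apply Submodule.mem_iSup_of_mem i
      apply Submodule.subset_span
      exact ⟨r, r.2, _, projL_mem 𝒩 i n, rfl⟩

end Rho

section Graded

variable {k : Type u} [CommRing k] {R S : Type u} [CommRing R] [CommRing S] [Algebra k R]
  [Algebra k S] {M N : Type u} [AddCommGroup M] [Module R M] [Module k M] [IsScalarTower k R M]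
  [AddCommGroup N] [Module S N] [Module k N] [IsScalarTower k S N]
  (𝒜 : ℤ → Submodule k R) [GradedAlgebra 𝒜] (ℬ : ℤ → Submodule k S) [GradedAlgebra ℬ]
  (ℳ : ℤ → Submodule k M) [DirectSum.Decomposition ℳ] [SetLike.GradedSMul 𝒜 ℳ]
  (𝒩 : ℤ → Submodule k N) [DirectSum.Decomposition 𝒩] [SetLike.GradedSMul ℬ 𝒩]

theorem smul_mem_add {j i : ℤ} {r : R} (hr : r ∈ 𝒜 j) {m : M} (hm : m ∈ ℳ i) :
    r • m ∈ ℳ (j + i) := by
  have h := SetLike.GradedSMul.smul_mem (A := 𝒜) (B := ℳ) hr hm
  rwa [vadd_eq_add] at h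

theorem projL_smul {i : ℤ} {n : N} (hn : n ∈ 𝒩 i) (j : ℤ) (s : S) :
    projL 𝒩 (j + i) (s • n) = (projL ℬ j s) • n := by
  induction s using DirectSum.Decomposition.inductionOn ℬ with
  | zero => simp
  | add s s' hs hs' => rw [add_smul, map_add, hs, hs', map_add, add_smul]
  | homogeneous s =>
    rename_i a
    have hsn : (s : S) • n ∈ 𝒩 (a + i) := smul_mem_add ℬ 𝒩 s.2 hn
    by_cases h : a = j
    · subst h
      rw [projL_of_mem_same 𝒩 hsn, projL_of_mem_same ℬ s.2]
    · rw [projL_of_mem_ne 𝒩 hsn (by omega), projL_of_mem_ne ℬ s.2 h, zero_smul]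

theorem rho_act_of_mem_segrePiece {i : ℤ} {y : M ⊗[k] N} (hy : y ∈ GrSeg.segrePiece k ℳ 𝒩 i)
    (b : R ⊗[k] S) :
    rho ℳ 𝒩 (GrSeg.act k R S M N b y) = GrSeg.act k R S M N (rho 𝒜 ℬ b) y := by
  unfold GrSeg.segrePiece at hy
  induction hy using Submodule.span_induction with
  | mem x hx =>
    obtain ⟨m, hm, n, hn, rfl⟩ := hx
    induction b using TensorProduct.induction_on with
    | zero => simp
    | add x y hx hy =>
      rw [map_add, LinearMap.add_apply, map_add, hx, hy, map_add, map_add, LinearMap.add_apply]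
    | tmul r s =>
      induction r using DirectSum.Decomposition.inductionOn 𝒜 with
      | zero => simp
      | add r r' hr hr' =>
        rw [TensorProduct.add_tmul, map_add, LinearMap.add_apply, map_add, hr, hr', map_add,
          map_add, LinearMap.add_apply]
      | homogeneous r =>
        rename_i j
        rw [GrSeg.act_tmul, rho_tmul_of_mem ℳ 𝒩 (smul_mem_add 𝒜 ℳ r.2 hm),
          rho_tmul_of_mem 𝒜 ℬ r.2, GrSeg.act_tmul, projL_smul ℬ 𝒩 hn]
  | zero => simp
  | add x y _ _ hx hy => rw [map_add, map_add, hx, hy, map_add]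
  | smul c x _ hx => rw [map_smul, map_smul, hx, map_smul]

theorem rho_act_of_mem_iSup {y : M ⊗[k] N} (hy : y ∈ ⨆ i, GrSeg.segrePiece k ℳ 𝒩 i)
    (b : R ⊗[k] S) :
    rho ℳ 𝒩 (GrSeg.act k R S M N b y) = GrSeg.act k R S M N (rho 𝒜 ℬ b) y := by
  induction hy using Submodule.iSup_induction' with
  | mem i x hx => exact rho_act_of_mem_segrePiece 𝒜 ℬ ℳ 𝒩 hx b
  | zero => simp
  | add x y _ _ hx hy => rw [map_add, map_add, hx, hy, map_add]

theorem rho_of_mem_iSup {y : M ⊗[k] N} (hy : y ∈ ⨆ i, GrSeg.segrePiece k ℳ 𝒩 i) :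
    rho ℳ 𝒩 y = y := by
  induction hy using Submodule.iSup_induction' with
  | mem i x hx => exact rho_of_mem_segrePiece ℳ 𝒩 hx
  | zero => simp
  | add x y _ _ hx hy => rw [map_add, hx, hy]

end Graded

section Main

variable {k : Type u} [CommRing k] [IsNoetherianRing k] {R S T : Type u} [CommRing R] [CommRing S]
  [CommRing T] [Algebra k R] [Algebra k S] [Algebra k T]
  [Algebra.FiniteType k R] [Algebra.FiniteType k S]
  {M N P : Type u} [AddCommGroup M] [Module R M] [Module k M] [IsScalarTower k R M]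
  [Module.Finite R M]
  [AddCommGroup N] [Module S N] [Module k N] [IsScalarTower k S N] [Module.Finite S N]
  [AddCommGroup P] [Module T P] [Module k P]
  (𝒜 : ℤ → Submodule k R) [GradedAlgebra 𝒜] (ℬ : ℤ → Submodule k S) [GradedAlgebra ℬ]
  (ℳ : ℤ → Submodule k M) [DirectSum.Decomposition ℳ] [SetLike.GradedSMul 𝒜 ℳ]
  (𝒩 : ℤ → Submodule k N) [DirectSum.Decomposition 𝒩] [SetLike.GradedSMul ℬ 𝒩]

/-- A `T`-module `P` embedded in `M ⊗ N` inside the diagonal part, compatibly with an algebra map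
`ψ : T → R ⊗ S` whose range contains the diagonal part of `R ⊗ S`, is Noetherian. -/
theorem isNoetherian_segre (ψ : T →ₐ[k] R ⊗[k] S)
    (hψ : ∀ i, GrSeg.segrePiece k 𝒜 ℬ i ≤ LinearMap.range ψ.toLinearMap)
    (φ : P →ₗ[k] M ⊗[k] N) (hφ : Function.Injective φ)
    (himg : ∀ p, φ p ∈ ⨆ i, GrSeg.segrePiece k ℳ 𝒩 i)
    (hsmul : ∀ (t : T) (p : P), φ (t • p) = GrSeg.act k R S M N (ψ t) (φ p)) :
    IsNoetherian T P := by
  classical
  let _ := modBE k R S M N
  have hsm : ∀ (b : R ⊗[k] S) (e : M ⊗[k] N), b • e = GrSeg.act k R S M N b e := fun _ _ => rfl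
  have hfin : Module.Finite (R ⊗[k] S) (M ⊗[k] N) := finiteBE
  have h1 : Algebra.FiniteType R (R ⊗[k] S) := inferInstance
  have h2 : Algebra.FiniteType k (R ⊗[k] S) := Algebra.FiniteType.trans (S := R) inferInstance h1
  have hN : IsNoetherianRing (R ⊗[k] S) := Algebra.FiniteType.isNoetherianRing k _
  have hNE : IsNoetherian (R ⊗[k] S) (M ⊗[k] N) := isNoetherian_of_isNoetherianRing_of_finite _ _
  have hW : WellFoundedGT (Submodule (R ⊗[k] S) (M ⊗[k] N)) := isNoetherian_iff'.mp hNE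
  have ha : ∀ b : R ⊗[k] S, ∃ t : T, ψ t = rho 𝒜 ℬ b := by
    intro b
    have h := rho_mem_iSup_segrePiece 𝒜 ℬ b
    have hle : (⨆ i, GrSeg.segrePiece k 𝒜 ℬ i) ≤ LinearMap.range ψ.toLinearMap := iSup_le hψ
    obtain ⟨t, ht⟩ := hle h
    exact ⟨t, ht⟩
  let ext : Submodule T P → Submodule (R ⊗[k] S) (M ⊗[k] N) :=
    fun Q => Submodule.span (R ⊗[k] S) (φ '' (Q : Set P))
  have key : ∀ (Q : Submodule T P) (y : M ⊗[k] N), y ∈ ext Q →
      ∀ a : R ⊗[k] S, ∃ q ∈ Q, rho ℳ 𝒩 (a • y) = φ q := by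
    intro Q y hy
    induction hy using Submodule.span_induction with
    | mem y hy =>
      obtain ⟨q₀, hq₀, rfl⟩ := hy
      intro a
      obtain ⟨t, ht⟩ := ha a
      refine ⟨t • q₀, Q.smul_mem _ hq₀, ?_⟩
      rw [hsm, rho_act_of_mem_iSup 𝒜 ℬ ℳ 𝒩 (himg q₀), hsmul, ht]
    | zero => intro a; exact ⟨0, Q.zero_mem, by simp⟩
    | add y y' _ _ hy hy' =>
      intro a
      obtain ⟨q, hq, e⟩ := hy a
      obtain ⟨q', hq', e'⟩ := hy' a
      exact ⟨q + q', Q.add_mem hq hq', by rw [smul_add, map_add, e, e', map_add]⟩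
    | smul b y _ hy =>
      intro a
      obtain ⟨q, hq, e⟩ := hy (a * b)
      exact ⟨q, hq, by rw [← mul_smul, e]⟩
  have hd : ∀ (Q : Submodule T P) (p : P), φ p ∈ ext Q → p ∈ Q := by
    intro Q p hp
    obtain ⟨q, hq, e⟩ := key Q _ hp 1
    rw [one_smul, rho_of_mem_iSup ℳ 𝒩 (himg p)] at e
    rw [hφ e]
    exact hq
  have hmono : StrictMono ext := by
    intro Q Q' hQ
    refine lt_of_le_of_ne (Submodule.span_mono (Set.image_mono hQ.le)) ?_
    intro e
    apply hQ.ne
    apply le_antisymm hQ.le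
    intro p hp
    apply hd Q
    rw [e]
    exact Submodule.subset_span ⟨p, hp, rfl⟩
  exact isNoetherian_iff'.mpr hmono.wellFoundedGT

end Main

section Convert

open Groth.Agent.Lib.Helper24GrDual

variable {k : Type u} [Field k] {R : Type u} [CommRing R] [Algebra k R]
  (𝒜 : ℤ → Submodule k R) [GradedAlgebra 𝒜]
  {M : Type u} [AddCommGroup M] [Module R M] [Module k M] [IsScalarTower k R M]
  (ℳ : ℤ → AddSubgroup M) [DirectSum.Decomposition ℳ] [SetLike.GradedSMul 𝒜 ℳ]

/-- The identity from the additive piece to the piece as a subspace. -/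
def toPiece (i : ℤ) : ℳ i →+ pieceSub 𝒜 ℳ i where
  toFun x := ⟨x.1, x.2⟩
  map_zero' := rfl
  map_add' _ _ := rfl

/-- The pieces as subspaces form a decomposition. -/
@[instance_reducible]
noncomputable def pieceDecomposition : DirectSum.Decomposition (pieceSub 𝒜 ℳ) :=
  DirectSum.Decomposition.ofAddHom (pieceSub 𝒜 ℳ)
    ((DFinsupp.mapRange.addMonoidHom (toPiece 𝒜 ℳ)).comp
      (DirectSum.decomposeAddEquiv ℳ).toAddMonoidHom)
    (by
      ext x
      simp only [AddMonoidHom.coe_comp, Function.comp_apply, AddMonoidHom.id_apply]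
      have h : ∀ d : ⨁ i, ℳ i, DirectSum.coeAddMonoidHom (pieceSub 𝒜 ℳ)
          (DFinsupp.mapRange.addMonoidHom (toPiece 𝒜 ℳ) d) = DirectSum.coeAddMonoidHom ℳ d := by
        intro d
        induction d using DirectSum.induction_on with
        | zero => simp
        | of i y =>
          rw [DirectSum.coeAddMonoidHom_of]
          change DirectSum.coeAddMonoidHom (pieceSub 𝒜 ℳ)
            (DFinsupp.mapRange.addMonoidHom (toPiece 𝒜 ℳ) (DFinsupp.single i y)) = _
          rw [DFinsupp.mapRange.addMonoidHom_apply, DFinsupp.mapRange_single]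
          exact DirectSum.coeAddMonoidHom_of (pieceSub 𝒜 ℳ) i _
        | add x y hx hy => rw [map_add, map_add, hx, hy, map_add]
      have h2 := h (DirectSum.decompose ℳ x)
      exact h2.trans (DirectSum.Decomposition.left_inv x))
    (by
      refine DirectSum.addHom_ext fun i z => ?_
      simp only [AddMonoidHom.coe_comp, Function.comp_apply, AddMonoidHom.id_apply]
      rw [DirectSum.coeAddMonoidHom_of]
      have hz : (z : M) ∈ ℳ i := z.2
      change DFinsupp.mapRange.addMonoidHom (toPiece 𝒜 ℳ) (DirectSum.decompose ℳ (z : M)) = _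
      rw [DirectSum.decompose_of_mem ℳ hz]
      change DFinsupp.mapRange.addMonoidHom (toPiece 𝒜 ℳ) (DFinsupp.single i _) = _
      rw [DFinsupp.mapRange.addMonoidHom_apply, DFinsupp.mapRange_single]
      rfl)

theorem gradedSMul_pieceSub : SetLike.GradedSMul 𝒜 (pieceSub 𝒜 ℳ) :=
  ⟨fun _ _ _ _ hr hm => SetLike.GradedSMul.smul_mem (A := 𝒜) (B := ℳ) hr hm⟩

theorem segrePiece_pieceSub {S : Type u} [CommRing S] [Algebra k S]
    (ℬ : ℤ → Submodule k S) [GradedAlgebra ℬ]
    {N : Type u} [AddCommGroup N] [Module S N] [Module k N] [IsScalarTower k S N]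
    (𝒩 : ℤ → AddSubgroup N) [DirectSum.Decomposition 𝒩] [SetLike.GradedSMul ℬ 𝒩] (i : ℤ) :
    GrSeg.segrePiece k (pieceSub 𝒜 ℳ) (pieceSub ℬ 𝒩) i = GrSeg.segrePiece k ℳ 𝒩 i := rfl

end Convert

section Final

open Groth.Agent.Lib.Helper24GrDual

/-- The Segre product of finite graded modules is a Noetherian module over the Segre product of
the rings. -/
theorem isNoetherian_of_isSegreMod (k : Type u) [Field k] (R : Type u) [CommRing R] [Algebra k R]
    (𝒜 : ℤ → Submodule k R) [GradedAlgebra 𝒜] [Algebra.FiniteType k R]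
    (S : Type u) [CommRing S] [Algebra k S] (ℬ : ℤ → Submodule k S) [GradedAlgebra ℬ]
    [Algebra.FiniteType k S] (T : Type u) [CommRing T] [Algebra k T] (𝒯 : ℤ → Submodule k T)
    [GradedAlgebra 𝒯] (ψ : T →ₐ[k] TensorProduct k R S) (hT : GrSeg.IsSegreRing 𝒜 ℬ 𝒯 ψ)
    (M : Type u) [AddCommGroup M] [Module R M] [Module k M] [IsScalarTower k R M]
    (ℳ : ℤ → AddSubgroup M) [DirectSum.Decomposition ℳ] [SetLike.GradedSMul 𝒜 ℳ]
    [Module.Finite R M] (N : Type u) [AddCommGroup N] [Module S N] [Module k N]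
    [IsScalarTower k S N] (𝒩 : ℤ → AddSubgroup N) [DirectSum.Decomposition 𝒩]
    [SetLike.GradedSMul ℬ 𝒩] [Module.Finite S N] (P : Type u) [AddCommGroup P] [Module T P]
    [Module k P] [IsScalarTower k T P] (𝒬 : ℤ → AddSubgroup P) [DirectSum.Decomposition 𝒬]
    (φ : P →ₗ[k] TensorProduct k M N) (hP : GrSeg.IsSegreMod ψ ℳ 𝒩 𝒬 φ) : IsNoetherian T P := by
  let _ := pieceDecomposition 𝒜 ℳ
  let _ := pieceDecomposition ℬ 𝒩
  have : SetLike.GradedSMul 𝒜 (pieceSub 𝒜 ℳ) := gradedSMul_pieceSub 𝒜 ℳ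
  have : SetLike.GradedSMul ℬ (pieceSub ℬ 𝒩) := gradedSMul_pieceSub ℬ 𝒩
  refine isNoetherian_segre 𝒜 ℬ (pieceSub 𝒜 ℳ) (pieceSub ℬ 𝒩) ψ ?_ φ hP.injective ?_ hP.map_smul
  · intro i
    rw [← hT.2 i]
    exact LinearMap.map_le_range
  · intro p
    induction p using DirectSum.Decomposition.inductionOn 𝒬 with
    | zero => simp
    | add p p' hp hp' => rw [map_add]; exact add_mem hp hp'
    | homogeneous q =>
      rename_i i
      apply Submodule.mem_iSup_of_mem i
      rw [segrePiece_pieceSub]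
      have h : φ q ∈ φ '' (𝒬 i : Set P) := ⟨q, q.2, rfl⟩
      rw [hP.image_piece i] at h
      exact h

end Final

end Groth.Agent.Lib.Seat97.SegreFin
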