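import Groth.Prelude.Def_KGr
import Mathlib

/-!
# Seat97: polynomial identities for the Todd class

* `X_pow_dvd_todd`: `β_{≤d}(t) (exp_{≤n}(t) - 1) ≡ t exp_{≤n}(t)` modulo `t^(d+2)` for `n ≥ d+1`;
* `X_sq_dvd_exp`: `exp_{≤n}(t) ≡ 1 + t` modulo `t^2`;
* `aeval_toddPoly_of_le`: evaluated at the elementary symmetric functions of `m ≤ d` elements
  `a_l`, the Todd polynomial `toddPoly d` is `∏ β_{≤d}(a_l)`.
-/

set_option autoImplicit false
set_option linter.unusedSectionVars false

namespace Groth.Agent.Lib.Seat97.ToddPoly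

open KGr Finset

section OneVar

open Polynomial

theorem coeff_expTrunc (n k : ℕ) :
    (expTrunc n).coeff k = if k ≤ n then 1 / (k.factorial : ℚ) else 0 := by
  rw [expTrunc, finsetSum_coeff]
  simp only [coeff_C_mul, coeff_X_pow]
  by_cases h : k ≤ n
  · rw [if_pos h, Finset.sum_eq_single_of_mem k (Finset.mem_range.2 (by omega))]
    · simp
    · intro j _ hj
      rw [if_neg (Ne.symm hj), mul_zero]
  · rw [if_neg h]
    refine Finset.sum_eq_zero fun j hj => ?_
    rw [Finset.mem_range] at hj
    rw [if_neg (by omega), mul_zero]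

theorem coeff_toddTrunc (d k : ℕ) :
    (toddTrunc d).coeff k = if k ≤ d then bernoulli' k / (k.factorial : ℚ) else 0 := by
  rw [toddTrunc, finsetSum_coeff]
  simp only [coeff_C_mul, coeff_X_pow]
  by_cases h : k ≤ d
  · rw [if_pos h, Finset.sum_eq_single_of_mem k (Finset.mem_range.2 (by omega))]
    · simp
    · intro j _ hj
      rw [if_neg (Ne.symm hj), mul_zero]
  · rw [if_neg h]
    refine Finset.sum_eq_zero fun j hj => ?_
    rw [Finset.mem_range] at hj
    rw [if_neg (by omega), mul_zero]

theorem X_sq_dvd_exp (n : ℕ) (hn : 1 ≤ n) : (X : ℚ[X]) ^ 2 ∣ expTrunc n - 1 - X := by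
  rw [X_pow_dvd_iff]
  intro k hk
  rw [coeff_sub, coeff_sub, coeff_expTrunc, if_pos (by omega), coeff_one, coeff_X]
  interval_cases k
  · simp
  · simp

theorem X_pow_dvd_todd (d n : ℕ) (hn : d + 1 ≤ n) :
    (X : ℚ[X]) ^ (d + 2) ∣ toddTrunc d * (expTrunc n - 1) - X * expTrunc n := by
  rw [X_pow_dvd_iff]
  intro k hk
  have hps := congrArg (PowerSeries.coeff k) (bernoulli'PowerSeries_mul_exp_sub_one ℚ)
  rw [PowerSeries.coeff_mul] at hps
  rw [coeff_sub, coeff_mul, sub_eq_zero]
  have hterm : ∀ p ∈ antidiagonal k,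
      (toddTrunc d).coeff p.1 * (expTrunc n - 1).coeff p.2 =
        PowerSeries.coeff p.1 (bernoulli'PowerSeries ℚ) *
          PowerSeries.coeff p.2 (PowerSeries.exp ℚ - 1) := by
    intro p hp
    rw [Finset.HasAntidiagonal.mem_antidiagonal] at hp
    by_cases h0 : p.2 = 0
    · rw [h0, coeff_sub, coeff_expTrunc, if_pos (Nat.zero_le _), coeff_one_zero, map_sub,
        PowerSeries.coeff_exp, PowerSeries.coeff_one, if_pos rfl]
      simp
    · rw [coeff_toddTrunc, if_pos (by omega), coeff_sub, coeff_expTrunc, if_pos (by omega),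
        coeff_one, if_neg h0, map_sub, PowerSeries.coeff_exp, PowerSeries.coeff_one,
        if_neg h0, bernoulli'PowerSeries, PowerSeries.coeff_mk]
      simp
  rw [Finset.sum_congr rfl hterm, hps]
  rcases Nat.eq_zero_or_pos k with h0 | h0
  · subst h0
    simp
  · obtain ⟨j, rfl⟩ : ∃ j, k = j + 1 := ⟨k - 1, by omega⟩
    rw [PowerSeries.coeff_succ_X_mul, coeff_X_mul, coeff_expTrunc, if_pos (by omega),
      PowerSeries.coeff_exp]
    simp

end OneVar

section Multi

open MvPolynomial

theorem aeval_esymm_toddPoly (d : ℕ) :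
    aeval (fun i : Fin d => esymm (Fin d) ℚ (i + 1)) (toddPoly d) =
      ∏ i : Fin d, Polynomial.aeval (X i : MvPolynomial (Fin d) ℚ) (toddTrunc d) := by
  rw [← esymmAlgHom_apply]
  change ((esymmAlgEquiv (Fin d) ℚ (Fintype.card_fin d)) (toddPoly d)).val = _
  rw [toddPoly, AlgEquiv.apply_symm_apply]

/-- setting the last `r` variables to zero. -/
noncomputable def pad (m r : ℕ) : MvPolynomial (Fin (m + r)) ℚ →ₐ[ℚ] MvPolynomial (Fin m) ℚ :=
  aeval (Fin.addCases (fun l => X l) (fun _ => 0))

theorem pad_X_castAdd (m r : ℕ) (l : Fin m) : pad m r (X (Fin.castAdd r l)) = X l := by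
  rw [pad, aeval_X, Fin.addCases_left]

theorem pad_X_natAdd (m r : ℕ) (l : Fin r) : pad m r (X (Fin.natAdd m l)) = 0 := by
  rw [pad, aeval_X, Fin.addCases_right]

theorem pad_esymm (m r j : ℕ) : pad m r (esymm (Fin (m + r)) ℚ j) = esymm (Fin m) ℚ j := by
  classical
  rw [esymm, esymm, map_sum]
  simp only [map_prod]
  -- the subsets inside the image of `castAdd`
  have hmap : (univ : Finset (Fin m)).powersetCard j =
      (((univ : Finset (Fin m)).powersetCard j).map
        (Finset.mapEmbedding (Fin.castAddEmb r)).toEmbedding).preimage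
        (Finset.map (Fin.castAddEmb r)) (Finset.map_injective _).injOn := by
    ext t
    simp
  rw [← Finset.sum_subset (s₁ := ((univ : Finset (Fin m)).powersetCard j).map
      (Finset.mapEmbedding (Fin.castAddEmb r)).toEmbedding)]
  · rw [Finset.sum_map]
    refine Finset.sum_congr rfl fun t _ => ?_
    change ∏ i ∈ t.map (Fin.castAddEmb r), pad m r (X i) = _
    rw [Finset.prod_map]
    refine Finset.prod_congr rfl fun l _ => ?_
    exact pad_X_castAdd m r l
  · intro t ht
    rw [Finset.mem_map] at ht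
    obtain ⟨t', ht', rfl⟩ := ht
    rw [Finset.mem_powersetCard] at ht' ⊢
    refine ⟨Finset.subset_univ _, ?_⟩
    change (t'.map (Fin.castAddEmb r)).card = j
    rw [Finset.card_map]
    exact ht'.2
  · intro t ht hnot
    -- some element of `t` is of the form `natAdd`
    have hex : ∃ i ∈ t, ∀ l : Fin m, i ≠ Fin.castAdd r l := by
      by_contra hcon
      push Not at hcon
      apply hnot
      rw [Finset.mem_map]
      refine ⟨t.preimage (Fin.castAddEmb r) (Fin.castAddEmb r).injective.injOn, ?_, ?_⟩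
      · rw [Finset.mem_powersetCard] at ht ⊢
        refine ⟨Finset.subset_univ _, ?_⟩
        rw [← ht.2]
        apply Finset.card_bij (fun l _ => Fin.castAdd r l)
        · intro l hl
          simpa using hl
        · intro a _ b _ hab
          exact (Fin.castAddEmb r).injective hab
        · intro i hi
          obtain ⟨l, hl⟩ := hcon i hi
          exact ⟨l, by simpa [hl] using hi, hl.symm⟩
      · ext i
        change i ∈ (t.preimage _ _).map (Fin.castAddEmb r) ↔ i ∈ t
        rw [Finset.mem_map]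
        constructor
        · rintro ⟨l, hl, rfl⟩
          simpa using hl
        · intro hi
          obtain ⟨l, hl⟩ := hcon i hi
          exact ⟨l, by simpa [hl] using hi, hl.symm⟩
    obtain ⟨i, hi, hne⟩ := hex
    refine Finset.prod_eq_zero hi ?_
    induction i using Fin.addCases with
    | left l => exact absurd rfl (hne l)
    | right l => exact pad_X_natAdd m r l

theorem todd_coeff_zero (d : ℕ) : (toddTrunc d).coeff 0 = 1 := by
  rw [coeff_toddTrunc, if_pos (Nat.zero_le _)]
  simp

theorem pad_aeval_toddPoly (m r : ℕ) :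
    aeval (fun i : Fin (m + r) => esymm (Fin m) ℚ (i + 1)) (toddPoly (m + r)) =
      ∏ l : Fin m, Polynomial.aeval (X l : MvPolynomial (Fin m) ℚ) (toddTrunc (m + r)) := by
  have h1 := congrArg (pad m r) (aeval_esymm_toddPoly (m + r))
  rw [comp_aeval_apply, map_prod, Fin.prod_univ_add] at h1
  have e1 : (fun i : Fin (m + r) => pad m r (esymm (Fin (m + r)) ℚ (i + 1))) =
      fun i : Fin (m + r) => esymm (Fin m) ℚ (i + 1) := by
    funext i
    exact pad_esymm m r _
  rw [e1] at h1
  rw [h1]
  have e2 : ∀ l : Fin r, pad m r (Polynomial.aeval (X (Fin.natAdd m l) :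
      MvPolynomial (Fin (m + r)) ℚ) (toddTrunc (m + r))) = 1 := by
    intro l
    rw [← Polynomial.aeval_algHom_apply, pad_X_natAdd, Polynomial.aeval_def,
      Polynomial.eval₂_at_zero, todd_coeff_zero, map_one]
  have e3 : ∀ l : Fin m, pad m r (Polynomial.aeval (X (Fin.castAdd r l) :
      MvPolynomial (Fin (m + r)) ℚ) (toddTrunc (m + r))) =
      Polynomial.aeval (X l : MvPolynomial (Fin m) ℚ) (toddTrunc (m + r)) := by
    intro l
    rw [← Polynomial.aeval_algHom_apply, pad_X_castAdd]
  rw [Finset.prod_congr rfl (fun l _ => e2 l), Finset.prod_const_one, mul_one,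
    Finset.prod_congr rfl (fun l _ => e3 l)]

/-- **Todd polynomial at `m ≤ d` Chern roots.** -/
theorem aeval_toddPoly_of_le {B : Type*} [CommRing B] [Algebra ℚ B] (m r : ℕ) (a : Fin m → B) :
    aeval (fun i : Fin (m + r) => aeval a (esymm (Fin m) ℚ (i + 1))) (toddPoly (m + r)) =
      ∏ l : Fin m, Polynomial.aeval (a l) (toddTrunc (m + r)) := by
  have h1 := congrArg (aeval a) (pad_aeval_toddPoly m r)
  rw [comp_aeval_apply, map_prod] at h1
  rw [h1]
  refine Finset.prod_congr rfl fun l _ => ?_
  rw [← Polynomial.aeval_algHom_apply, aeval_X]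

theorem aeval_esymm_eq_sum {B : Type*} [CommRing B] [Algebra ℚ B] {m : ℕ} (a : Fin m → B)
    (j : ℕ) :
    aeval a (esymm (Fin m) ℚ j) =
      ∑ t ∈ (univ : Finset (Fin m)).powersetCard j, ∏ k ∈ t, a k := by
  rw [esymm, map_sum]
  refine Finset.sum_congr rfl fun t _ => ?_
  rw [map_prod]
  simp

end Multi

end Groth.Agent.Lib.Seat97.ToddPoly
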