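import Mathlib

/-!
# Weight-graded polynomial rings: the weight-zero subring and its weight-`c` modules (seat 97)

`A = k[ν]` with an integer weight `w : ν → ℤ`.  `T0` is the subalgebra of weight-zero polynomials,
`Wm c` the `T0`-submodule of weight-`c` polynomials, `mI` the ideal of `T0` of polynomials without
constant term.  We prove that `T0` is Noetherian, `Wm c` is a finite `T0`-module, and the exact
sequences obtained by removing a variable.
-/

set_option autoImplicit false
universe u

namespace Groth.Agent.Lib.Seat97.WtPoly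

open MvPolynomial

noncomputable section

attribute [local instance] MvPolynomial.weightedGradedAlgebra

section Defs

variable (k : Type u) [Field k] {ν : Type} (w : ν → ℤ)

/-- the weight-`c` polynomials -/
abbrev W (c : ℤ) : Submodule k (MvPolynomial ν k) := weightedHomogeneousSubmodule k w c

/-- the subring of weight-zero polynomials -/
def T0 : Subring (MvPolynomial ν k) where
  carrier := W k w 0
  mul_mem' := by
    intro a b ha hb
    have h := IsWeightedHomogeneous.mul ha hb
    rw [add_zero] at h
    exact h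
  one_mem' := isWeightedHomogeneous_one k w
  add_mem' := fun ha hb => Submodule.add_mem _ ha hb
  zero_mem' := Submodule.zero_mem _
  neg_mem' := fun ha => Submodule.neg_mem _ ha

theorem mem_T0 {p : MvPolynomial ν k} : p ∈ T0 k w ↔ p ∈ W k w 0 := Iff.rfl

/-- the weight-`c` polynomials as a module over the weight-zero subring -/
def Wm (c : ℤ) : Submodule (T0 k w) (MvPolynomial ν k) where
  carrier := W k w c
  add_mem' := fun ha hb => Submodule.add_mem _ ha hb
  zero_mem' := Submodule.zero_mem _
  smul_mem' := by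
    intro t p hp
    have h := IsWeightedHomogeneous.mul t.2 hp
    rw [zero_add] at h
    exact h

theorem mem_Wm {c : ℤ} {p : MvPolynomial ν k} : p ∈ Wm k w c ↔ p ∈ W k w c := Iff.rfl

theorem smul_def (t : T0 k w) (p : MvPolynomial ν k) : t • p = (t : MvPolynomial ν k) * p := rfl

/-- the ideal of weight-zero polynomials without constant term -/
def mI : Ideal (T0 k w) :=
  RingHom.ker ((constantCoeff : MvPolynomial ν k →+* k).comp (T0 k w).subtype)

theorem mem_mI {t : T0 k w} : t ∈ mI k w ↔ constantCoeff (t : MvPolynomial ν k) = 0 := by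
  rw [mI, RingHom.mem_ker]
  rfl

end Defs

section Noeth

variable (k : Type u) [Field k] {ν : Type} (w : ν → ℤ)

/-- the weight-`c` component of a polynomial -/
def proj (c : ℤ) (a : MvPolynomial ν k) : MvPolynomial ν k :=
  (DirectSum.decompose (weightedHomogeneousSubmodule k w) a c : MvPolynomial ν k)

theorem proj_mem (c : ℤ) (a : MvPolynomial ν k) : proj k w c a ∈ W k w c :=
  SetLike.coe_mem _

theorem proj_add (c : ℤ) (a b : MvPolynomial ν k) :
    proj k w c (a + b) = proj k w c a + proj k w c b := by
  unfold proj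
  rw [DirectSum.decompose_add, DirectSum.add_apply, Submodule.coe_add]

theorem proj_zero (c : ℤ) : proj k w c (0 : MvPolynomial ν k) = 0 := by
  unfold proj
  rw [DirectSum.decompose_zero, DirectSum.zero_apply, Submodule.coe_zero]

theorem proj_of_mem {c : ℤ} {a : MvPolynomial ν k} (ha : a ∈ W k w c) : proj k w c a = a := by
  unfold proj
  rw [DirectSum.decompose_of_mem_same _ ha]

theorem proj_mul_of_mem (c : ℤ) (a : MvPolynomial ν k) {b : MvPolynomial ν k}
    (hb : b ∈ W k w c) : proj k w c (a * b) = proj k w 0 a * b := by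
  unfold proj
  have h := DirectSum.coe_decompose_mul_add_of_right_mem (weightedHomogeneousSubmodule k w)
    (i := 0) (a := a) hb
  rw [zero_add] at h
  exact h

theorem proj_sum {ι : Type*} (s : Finset ι) (f : ι → MvPolynomial ν k) (c : ℤ) :
    proj k w c (∑ i ∈ s, f i) = ∑ i ∈ s, proj k w c (f i) := by
  classical
  induction s using Finset.induction_on with
  | empty => simp [proj_zero]
  | insert a s ha ih => rw [Finset.sum_insert ha, Finset.sum_insert ha, proj_add, ih]

/-- projecting an element of the ideal generated by a `T0`-submodule of `Wm c` lands in it -/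
theorem proj_mem_of_mem_span {c : ℤ} (N : Submodule (T0 k w) (MvPolynomial ν k))
    (hN : N ≤ Wm k w c) {x : MvPolynomial ν k}
    (hx : x ∈ Ideal.span (N : Set (MvPolynomial ν k))) : proj k w c x ∈ N := by
  rw [Ideal.span, Submodule.mem_span_set] at hx
  obtain ⟨f, hf, rfl⟩ := hx
  rw [Finsupp.sum, proj_sum]
  refine Submodule.sum_mem _ fun m hm => ?_
  have hmN : m ∈ N := hf hm
  rw [smul_eq_mul, proj_mul_of_mem k w c (f m) (hN hmN)]
  exact N.smul_mem ⟨proj k w 0 (f m), proj_mem k w 0 (f m)⟩ hmN

instance isNoetherian_Wm [Finite ν] (c : ℤ) : IsNoetherian (T0 k w) (Wm k w c) := by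
  rw [isNoetherian_iff']
  let Φ : Submodule (T0 k w) (Wm k w c) → Ideal (MvPolynomial ν k) := fun N =>
    Ideal.span ((N.map (Wm k w c).subtype : Submodule (T0 k w) (MvPolynomial ν k)) :
      Set (MvPolynomial ν k))
  have hΦ : ∀ N₁ N₂ : Submodule (T0 k w) (Wm k w c), Φ N₁ ≤ Φ N₂ ↔ N₁ ≤ N₂ := by
    intro N₁ N₂
    constructor
    · intro h x hx
      have hx1 : (x : MvPolynomial ν k) ∈ Φ N₁ :=
        Ideal.subset_span (Submodule.mem_map_of_mem hx)
      have hx2 := proj_mem_of_mem_span k w (N₂.map (Wm k w c).subtype)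
        (by
          intro y hy
          obtain ⟨z, -, rfl⟩ := Submodule.mem_map.mp hy
          exact z.2) (h hx1)
      rw [proj_of_mem k w x.2] at hx2
      obtain ⟨z, hz, hzx⟩ := Submodule.mem_map.mp hx2
      have : z = x := Subtype.ext hzx
      rwa [this] at hz
    · intro h
      exact Ideal.span_mono (Submodule.map_mono h)
  let e : Submodule (T0 k w) (Wm k w c) ↪o Ideal (MvPolynomial ν k) :=
    OrderEmbedding.ofMapLEIff Φ hΦ
  exact e.wellFoundedGT

instance isNoetherianRing_T0 [Finite ν] : IsNoetherianRing (T0 k w) := by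
  have h : IsNoetherian (T0 k w) (Wm k w 0) := inferInstance
  let e : (Wm k w 0) ≃ₗ[T0 k w] (T0 k w) :=
    { toFun := fun x => ⟨x.1, x.2⟩
      invFun := fun t => ⟨t.1, t.2⟩
      map_add' := fun _ _ => rfl
      map_smul' := fun _ _ => rfl
      left_inv := fun _ => rfl
      right_inv := fun _ => rfl }
  exact isNoetherian_of_linearEquiv e

instance finite_Wm [Finite ν] (c : ℤ) : Module.Finite (T0 k w) (Wm k w c) :=
  Module.IsNoetherian.finite _ _

end Noeth

section Remove

variable (k : Type u) [Field k] {ν : Type} (w : ν → ℤ) (v : ν)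

/-- the remaining variables -/
abbrev Rest (v : ν) : Type := {x : ν // x ≠ v}

/-- the restricted weight -/
def wr : Rest v → ℤ := fun x => w x.1

/-- kill the variable `v` -/
def kill : MvPolynomial ν k →ₐ[k] MvPolynomial (Rest v) k :=
  killCompl (Subtype.val_injective (p := fun x => x ≠ v))

/-- include the polynomials in the remaining variables -/
def incl : MvPolynomial (Rest v) k →ₐ[k] MvPolynomial ν k :=
  rename (Subtype.val : Rest v → ν)

theorem kill_incl (q : MvPolynomial (Rest v) k) : kill k v (incl k v q) = q :=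
  killCompl_rename_app _ q

theorem weight_mapDomain (s : Rest v →₀ ℕ) :
    Finsupp.weight w (s.mapDomain Subtype.val) = Finsupp.weight (wr w v) s := by
  change Finsupp.linearCombination ℕ w (s.mapDomain Subtype.val) =
    Finsupp.linearCombination ℕ (wr w v) s
  rw [Finsupp.linearCombination_mapDomain]
  rfl

theorem kill_mem {c : ℤ} {p : MvPolynomial ν k} (hp : p ∈ W k w c) :
    kill k v p ∈ W k (wr w v) c := by
  intro s hs
  rw [kill, coeff_killCompl] at hs
  have h := hp hs
  rwa [weight_mapDomain] at h

theorem incl_mem {c : ℤ} {q : MvPolynomial (Rest v) k} (hq : q ∈ W k (wr w v) c) :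
    incl k v q ∈ W k w c := by
  intro d hd
  obtain ⟨u, rfl, hu⟩ := coeff_rename_ne_zero _ _ _ hd
  rw [weight_mapDomain]
  exact hq hu

theorem X_mul_mem {c' c : ℤ} (h : c' + w v = c) {p : MvPolynomial ν k} (hp : p ∈ W k w c') :
    X v * p ∈ W k w c := by
  have h1 := IsWeightedHomogeneous.mul (isWeightedHomogeneous_X k w v) hp
  rwa [add_comm, h] at h1

theorem mem_of_X_mul_mem {c' c : ℤ} (h : c' + w v = c) {a : MvPolynomial ν k}
    (ha : X v * a ∈ W k w c) : a ∈ W k w c' := by
  intro s hs
  rw [← coeff_X_mul s v a] at hs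
  have h1 := ha hs
  rw [map_add, Finsupp.weight_single, one_smul] at h1
  omega

/-- the weight-`c` polynomials divisible by `X v` -/
def XW (c : ℤ) : Submodule (T0 k w) (Wm k w c) where
  carrier := {p | X v ∣ p.1}
  add_mem' := fun ha hb => dvd_add ha hb
  zero_mem' := dvd_zero _
  smul_mem' := fun t _ hp => Dvd.dvd.mul_left hp (t : MvPolynomial ν k)

theorem mem_XW {c : ℤ} {p : Wm k w c} : p ∈ XW k w v c ↔ X v ∣ p.1 := Iff.rfl

/-- multiplication by the variable `v` -/
def mulX (c' c : ℤ) (h : c' + w v = c) : Wm k w c' →ₗ[T0 k w] Wm k w c where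
  toFun p := ⟨X v * p.1, X_mul_mem k w v h p.2⟩
  map_add' p q := Subtype.ext (mul_add _ _ _)
  map_smul' t p := Subtype.ext (by
    change X v * ((t : MvPolynomial ν k) * p.1) = (t : MvPolynomial ν k) * (X v * p.1)
    ring)

theorem mulX_apply (c' c : ℤ) (h : c' + w v = c) (p : Wm k w c') :
    (mulX k w v c' c h p : MvPolynomial ν k) = X v * p.1 := rfl

theorem mulX_injective (c' c : ℤ) (h : c' + w v = c) : Function.Injective (mulX k w v c' c h) := by
  intro p q hpq
  have h1 : X v * p.1 = X v * q.1 := congrArg Subtype.val hpq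
  exact Subtype.ext (mul_left_cancel₀ (X_ne_zero v) h1)

theorem range_mulX (c' c : ℤ) (h : c' + w v = c) :
    LinearMap.range (mulX k w v c' c h) = XW k w v c := by
  ext p
  rw [mem_XW]
  constructor
  · rintro ⟨q, rfl⟩
    exact ⟨q.1, rfl⟩
  · rintro ⟨a, ha⟩
    have hp := p.2
    rw [mem_Wm, ha] at hp
    exact ⟨⟨a, mem_of_X_mul_mem k w v h hp⟩, Subtype.ext ha.symm⟩

theorem kill_X_mul (p : MvPolynomial ν k) : kill k v (X v * p) = 0 := by
  rw [map_mul]
  have : kill k v (X v) = 0 := by
    rw [kill, killCompl, aeval_X, dif_neg]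
    rintro ⟨x, hx⟩
    exact x.2 hx
  rw [this, zero_mul]

theorem X_dvd_of_kill_eq_zero {p : MvPolynomial ν k} (h : kill k v p = 0) : X v ∣ p := by
  rw [X_dvd_iff_modMonomial_eq_zero]
  ext s
  rw [coeff_zero]
  by_cases hle : Finsupp.single v 1 ≤ s
  · exact coeff_modMonomial_of_le p hle
  · rw [coeff_modMonomial_of_not_le p hle]
    have hsv : s v = 0 := by
      by_contra hne
      apply hle
      intro x
      by_cases hx : x = v
      · subst hx
        rw [Finsupp.single_eq_same]
        omega
      · rw [Finsupp.single_eq_of_ne hx]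
        exact Nat.zero_le _
    have hsub : (s.support : Set ν) ⊆ Set.range (Subtype.val : Rest v → ν) := by
      intro x hx
      have hx' : s x ≠ 0 := Finsupp.mem_support_iff.mp hx
      refine ⟨⟨x, ?_⟩, rfl⟩
      rintro rfl
      exact hx' hsv
    have h3 : coeff (s.comapDomain Subtype.val Subtype.val_injective.injOn) (kill k v p) =
        coeff s p := by
      rw [kill, coeff_killCompl, Finsupp.mapDomain_comapDomain _ Subtype.val_injective _ hsub]
    rw [← h3, h, coeff_zero]

theorem kill_eq_zero_iff {p : MvPolynomial ν k} : kill k v p = 0 ↔ X v ∣ p := by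
  constructor
  · exact X_dvd_of_kill_eq_zero k v
  · rintro ⟨q, rfl⟩
    exact kill_X_mul k v q

/-- `kill` on the weight-zero subrings -/
def kill0 : T0 k w →+* T0 k (wr w v) where
  toFun t := ⟨kill k v t.1, kill_mem k w v t.2⟩
  map_one' := Subtype.ext (map_one _)
  map_mul' _ _ := Subtype.ext (map_mul _ _ _)
  map_zero' := Subtype.ext (map_zero _)
  map_add' _ _ := Subtype.ext (map_add _ _ _)

theorem kill0_surjective : Function.Surjective (kill0 k w v) := fun t =>
  ⟨⟨incl k v t.1, incl_mem k w v t.2⟩, Subtype.ext (kill_incl k v t.1)⟩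

theorem constantCoeff_kill (p : MvPolynomial ν k) :
    constantCoeff (kill k v p) = constantCoeff p := by
  rw [constantCoeff_eq, constantCoeff_eq, kill, coeff_killCompl, Finsupp.mapDomain_zero]

theorem constantCoeff_incl (q : MvPolynomial (Rest v) k) :
    constantCoeff (incl k v q) = constantCoeff q := by
  rw [← constantCoeff_kill k v (incl k v q), kill_incl]

theorem map_mI : (mI k w).map (kill0 k w v) = mI k (wr w v) := by
  ext t
  rw [Ideal.mem_map_iff_of_surjective _ (kill0_surjective k w v)]
  constructor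
  · rintro ⟨s, hs, rfl⟩
    rw [mem_mI] at hs ⊢
    change constantCoeff (kill k v s.1) = 0
    rw [constantCoeff_kill, hs]
  · intro ht
    refine ⟨⟨incl k v t.1, incl_mem k w v t.2⟩, ?_, Subtype.ext (kill_incl k v t.1)⟩
    rw [mem_mI] at ht ⊢
    change constantCoeff (incl k v t.1) = 0
    rw [constantCoeff_incl, ht]

/-- `kill` on the weight-`c` modules, semilinear over `kill0` -/
def killW (c : ℤ) : Wm k w c →ₛₗ[kill0 k w v] Wm k (wr w v) c where
  toFun p := ⟨kill k v p.1, kill_mem k w v p.2⟩
  map_add' _ _ := Subtype.ext (map_add _ _ _)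
  map_smul' _ _ := Subtype.ext (map_mul _ _ _)

theorem killW_surjective (c : ℤ) : Function.Surjective (killW k w v c) := fun q =>
  ⟨⟨incl k v q.1, incl_mem k w v q.2⟩, Subtype.ext (kill_incl k v q.1)⟩

theorem ker_killW (c : ℤ) : LinearMap.ker (killW k w v c) = XW k w v c := by
  ext p
  rw [LinearMap.mem_ker, mem_XW, ← kill_eq_zero_iff]
  constructor
  · intro h
    exact congrArg Subtype.val h
  · intro h
    exact Subtype.ext h

/-- the cokernel of multiplication by `X v` -/
abbrev Q (c : ℤ) : Type u := Wm k w c ⧸ XW k w v c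

/-- the cokernel of `X v` is the weight-`c` module in the remaining variables -/
def quotHom (c : ℤ) : Q k w v c →ₛₗ[kill0 k w v] Wm k (wr w v) c :=
  Submodule.liftQ _ (killW k w v c) (ker_killW k w v c).ge

theorem quotHom_bijective (c : ℤ) : Function.Bijective (quotHom k w v c) := by
  constructor
  · rw [← LinearMap.ker_eq_bot]
    exact Submodule.ker_liftQ_eq_bot' _ _ (ker_killW k w v c).symm
  · intro q
    obtain ⟨p, rfl⟩ := killW_surjective k w v c q
    exact ⟨Submodule.Quotient.mk p, rfl⟩

/-- the additive equivalence `Wm c / X_v Wm (c - w v) ≃ Wm' c` -/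
def quotEquiv (c : ℤ) : Q k w v c ≃+ Wm k (wr w v) c :=
  AddEquiv.ofBijective (quotHom k w v c).toAddMonoidHom (quotHom_bijective k w v c)

theorem quotEquiv_smul (c : ℤ) (t : T0 k w) (x : Q k w v c) :
    quotEquiv k w v c (t • x) = kill0 k w v t • quotEquiv k w v c x :=
  (quotHom k w v c).map_smulₛₗ t x

end Remove

end

end Groth.Agent.Lib.Seat97.WtPoly
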