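import Mathlib
import Groth.Prelude.Def_HMNum

/-!
# The affine line `HMNum.A1` over a field, uniqueness of limits under a one-parameter subgroup (seat 98)

* `isoSpec k M : Spec k[M] ≅ (Magnet.AMonS (Spec k) M).left`, `isoSpec_hom_map` (functoriality in `M`);
* `isReduced_A1`, `isDominant_incl` : over a field `𝔸¹` is reduced and `𝔾_m ⟶ 𝔸¹` is dominant;
* `incl_whisker_comp` : on `𝔾_m × T` a point of the attractor is the orbit map of its value at `1`;
* `attr_ext` : for `X` separated over the field, a point of the attractor over `𝟙_` is determined by its value at `1`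
  (limits `lim_{u → 0} l(u)·x` are unique);
* `isLimitPt_limitPt` : the limit point is its own limit;
* `s19787`.
-/

set_option autoImplicit false
universe u

namespace Groth.Agent.Lib.Seat98.A1

open CategoryTheory CategoryTheory.Limits MonoidalCategory CartesianMonoidalCategory MonObj AlgebraicGeometry Opposite
open scoped AlgebraMonoidAlgebra

attribute [local instance] ULift.algebra'

section affineLine

variable (k : Type u) [Field k] (M : Type) [AddCommMonoid M]

theorem terminal_from_eq :
    Limits.IsTerminal.from specULiftZIsTerminal (Spec (CommRingCat.of k)) =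
      Spec.map (CommRingCat.ofHom (algebraMap (ULift.{u} ℤ) k)) :=
  specULiftZIsTerminal.hom_ext _ _

theorem AMon_hom (R : Type u) [CommRing R] :
    (Magnet.AMon R M).hom = Spec.map (CommRingCat.ofHom (algebraMap R (MonoidAlgebra R (Multiplicative M)))) :=
  rfl

theorem isPushoutMA : Algebra.IsPushout (ULift.{u} ℤ) (MonoidAlgebra (ULift.{u} ℤ) (Multiplicative M)) k
    (MonoidAlgebra k (Multiplicative M)) := by
  have : Algebra.IsPushout (ULift.{u} ℤ) (ULift.{u} ℤ) k k := inferInstance
  exact MonoidAlgebra.instIsPushout' (R := ULift.{u} ℤ) (A := ULift.{u} ℤ) (S := k) (B := k)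
    (M := Multiplicative M)

/-- `Spec k[M]` is the base change of `Spec ℤ[M]`. -/
theorem isPullback_spec :
    IsPullback
      (Spec.map (CommRingCat.ofHom (algebraMap (MonoidAlgebra (ULift.{u} ℤ) (Multiplicative M))
        (MonoidAlgebra k (Multiplicative M)))))
      (Spec.map (CommRingCat.ofHom (algebraMap k (MonoidAlgebra k (Multiplicative M)))))
      (Magnet.AMon (ULift.{u} ℤ) M).hom
      (Limits.IsTerminal.from specULiftZIsTerminal (Spec (CommRingCat.of k))) := by
  rw [terminal_from_eq, AMon_hom]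
  have := isPushoutMA k M
  exact isPullback_SpecMap_of_isPushout _ _ _ _
    (CommRingCat.isPushout_of_isPushout (ULift.{u} ℤ) (MonoidAlgebra (ULift.{u} ℤ) (Multiplicative M)) k
      (MonoidAlgebra k (Multiplicative M)))

/-- `A(M)_k ≅ Spec k[M]`. -/
noncomputable def isoSpec :
    Spec (CommRingCat.of (MonoidAlgebra k (Multiplicative M))) ≅
      (Magnet.AMonS (Spec (CommRingCat.of k)) M).left :=
  (isPullback_spec k M).isoPullback

theorem isoSpec_hom_fst :
    (isoSpec k M).hom ≫ pullback.fst (Magnet.AMon (ULift.{u} ℤ) M).hom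
      (Limits.IsTerminal.from specULiftZIsTerminal (Spec (CommRingCat.of k))) =
    Spec.map (CommRingCat.ofHom (algebraMap (MonoidAlgebra (ULift.{u} ℤ) (Multiplicative M))
        (MonoidAlgebra k (Multiplicative M)))) :=
  (isPullback_spec k M).isoPullback_hom_fst

theorem isoSpec_hom_snd :
    (isoSpec k M).hom ≫ pullback.snd (Magnet.AMon (ULift.{u} ℤ) M).hom
      (Limits.IsTerminal.from specULiftZIsTerminal (Spec (CommRingCat.of k))) =
    Spec.map (CommRingCat.ofHom (algebraMap k (MonoidAlgebra k (Multiplicative M)))) :=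
  (isPullback_spec k M).isoPullback_hom_snd

/-- the affine line over a field is reduced. -/
theorem isReduced_A1 : IsReduced (HMNum.A1 (Spec (CommRingCat.of k))).left := by
  have : IsReduced (Spec (CommRingCat.of (MonoidAlgebra k (Multiplicative ↥HMNum.plus)))) := inferInstance
  exact isReduced_of_isOpenImmersion (isoSpec k ↥HMNum.plus).inv


variable {M} {N : Type} [AddCommMonoid N]

/-- `AMonS.map` over a field is `Spec` of `mapDomain`. -/
theorem isoSpec_hom_map (f : N →+ M) :
    (isoSpec k M).hom ≫ (Magnet.AMonS.map (Spec (CommRingCat.of k)) f).left =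
      Spec.map (CommRingCat.ofHom
        (MonoidAlgebra.mapDomainRingHom k (AddMonoidHom.toMultiplicative f))) ≫ (isoSpec k N).hom := by
  apply pullback.hom_ext
  · have h1 : (Magnet.AMonS.map (Spec (CommRingCat.of k)) f).left ≫ pullback.fst
        (Magnet.AMon (ULift.{u} ℤ) N).hom
        (Limits.IsTerminal.from specULiftZIsTerminal (Spec (CommRingCat.of k))) =
        pullback.fst _ _ ≫ (Magnet.AMon.map (ULift.{u} ℤ) f).left :=
      pullback.lift_fst _ _ _
    rw [Category.assoc, h1, ← Category.assoc, isoSpec_hom_fst, Category.assoc, isoSpec_hom_fst,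
      Magnet.AMon.map_left]
    change Spec.map (CommRingCat.ofHom (algebraMap (MonoidAlgebra (ULift.{u} ℤ) (Multiplicative M))
        (MonoidAlgebra k (Multiplicative M)))) ≫ Spec.map (CommRingCat.ofHom
          (MonoidAlgebra.mapDomainBialgHom (ULift.{u} ℤ)
            (AddMonoidHom.toMultiplicative f)).toAlgHom.toRingHom) =
      Spec.map (CommRingCat.ofHom (MonoidAlgebra.mapDomainRingHom k (AddMonoidHom.toMultiplicative f))) ≫
        Spec.map (CommRingCat.ofHom (algebraMap (MonoidAlgebra (ULift.{u} ℤ) (Multiplicative N))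
          (MonoidAlgebra k (Multiplicative N))))
    rw [← Spec.map_comp, ← Spec.map_comp, ← CommRingCat.ofHom_comp, ← CommRingCat.ofHom_comp]
    congr 2
    apply MonoidAlgebra.ringHom_ext
    · intro r; simp
    · intro m; simp
  · have h1 : (Magnet.AMonS.map (Spec (CommRingCat.of k)) f).left ≫ pullback.snd
        (Magnet.AMon (ULift.{u} ℤ) N).hom
        (Limits.IsTerminal.from specULiftZIsTerminal (Spec (CommRingCat.of k))) =
        pullback.snd _ _ :=
      pullback.lift_snd _ _ _
    rw [Category.assoc, h1, isoSpec_hom_snd, Category.assoc, isoSpec_hom_snd]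
    change _ = Spec.map (CommRingCat.ofHom (MonoidAlgebra.mapDomainRingHom k (AddMonoidHom.toMultiplicative f))) ≫
        Spec.map (CommRingCat.ofHom (algebraMap k (MonoidAlgebra k (Multiplicative N))))
    rw [← Spec.map_comp, ← CommRingCat.ofHom_comp]
    congr 2
    ext r
    simp


theorem isDominant_specMap_of_injective {A B : Type u} [CommRing A] [CommRing B] (ψ : A →+* B)
    (h : Function.Injective ψ) : IsDominant (Spec.map (CommRingCat.ofHom ψ)) := by
  refine ⟨?_⟩
  change DenseRange (PrimeSpectrum.comap ψ)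
  rw [PrimeSpectrum.denseRange_comap_iff_ker_le_nilRadical, (RingHom.injective_iff_ker_eq_bot ψ).1 h]
  exact bot_le

theorem isDominant_map_of_injective (f : N →+ M) (hf : Function.Injective f) :
    IsDominant (Magnet.AMonS.map (Spec (CommRingCat.of k)) f).left := by
  have h := isoSpec_hom_map k f
  have hψ : IsDominant (Spec.map (CommRingCat.ofHom
      (MonoidAlgebra.mapDomainRingHom k (AddMonoidHom.toMultiplicative f)))) := by
    apply isDominant_specMap_of_injective
    exact MonoidAlgebra.mapDomain_injective hf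
  have e : (Magnet.AMonS.map (Spec (CommRingCat.of k)) f).left =
      (isoSpec k M).inv ≫ Spec.map (CommRingCat.ofHom
        (MonoidAlgebra.mapDomainRingHom k (AddMonoidHom.toMultiplicative f))) ≫ (isoSpec k N).hom := by
    rw [← h, Iso.inv_hom_id_assoc]
  rw [e]
  infer_instance

theorem isDominant_incl : IsDominant (HMNum.incl (Spec (CommRingCat.of k))).left :=
  isDominant_map_of_injective k HMNum.plus.subtype Subtype.val_injective


end affineLine

section general

variable {S : Scheme.{u}} {G X : Over S} [GrpObj G]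

/-- on `G_m × T`, a point of the attractor is the orbit map of its value at `1`. -/
theorem incl_whisker_comp (a : AlgGrp.Action G X) (l : Red.Gm S ⟶ G) [IsMonHom l] {T : Over S}
    (φ : (HMNum.attrPlus a l).obj (op T)) :
    (HMNum.incl S ▷ T) ≫ φ.1 =
      (Red.Gm S ◁ ((Magnet.attrToX (HMNum.gmAct a l) HMNum.plus).app (op T) φ)) ≫ (HMNum.gmAct a l).act := by
  apply Magnet.hom_ext_lift₂
  intro T' g t
  have h := (Magnet.MonAct.mem_eqvHom_iff φ.1).1 φ.2 T' g (1 : T' ⟶ HMNum.A1 S) t
  have h1 : lift g (1 : T' ⟶ HMNum.A1 S) ≫ (Magnet.subAct S ℤ HMNum.plus).act = g ≫ HMNum.incl S := by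
    unfold Magnet.subAct
    rw [Magnet.MonAct.lift_restrict_act, Magnet.MonAct.lift_regular_act, _root_.mul_one]
  rw [h1] at h
  rw [lift_whiskerRight_assoc, h, lift_whiskerLeft_assoc]
  congr 2
  change _ = t ≫ lift (toUnit T ≫ η[HMNum.A1 S]) (𝟙 T) ≫ φ.1
  rw [← Category.assoc, comp_lift, Category.comp_id, ← Category.assoc, Hom.one_def]
  congr 3
  exact toUnit_unique _ _


/-- the constant extension at the limit point: the limit point is its own limit. -/
theorem isLimitPt_limitPt (a : AlgGrp.Action G X) (l : Red.Gm S ⟶ G) [IsMonHom l] {T : Over S}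
    (φ : (HMNum.attrPlus a l).obj (op T)) :
    HMNum.IsLimitPt a l (HMNum.limitPt φ) (HMNum.limitPt φ) := by
  let ψ : (HMNum.attrPlus a l).obj (op T) :=
    (Magnet.attrMap (HMNum.gmAct a l) (bot_le : (⊥ : AddSubmonoid ℤ) ≤ HMNum.plus)).app (op T)
      ((Magnet.attrFace (HMNum.gmAct a l) HMNum.isFace_bot).app (op T) φ)
  have hψ : ψ.1 = (Magnet.AMonS.map S (AddSubmonoid.inclusion (bot_le : (⊥ : AddSubmonoid ℤ) ≤ HMNum.plus)) ▷ T) ≫
      (Magnet.AMonS.faceMap S HMNum.isFace_bot ▷ T) ≫ φ.1 := rfl
  have key : ∀ p : 𝟙_ (Over S) ⟶ HMNum.A1 S,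
      p ≫ Magnet.AMonS.map S (AddSubmonoid.inclusion (bot_le : (⊥ : AddSubmonoid ℤ) ≤ HMNum.plus)) =
        η[Magnet.AMonS S ↥(⊥ : AddSubmonoid ℤ)] →
      lift (toUnit T ≫ p) (𝟙 T) ≫ ψ.1 = HMNum.limitPt φ := by
    intro p hp
    rw [hψ, lift_whiskerRight_assoc, lift_whiskerRight_assoc, HMNum.limitPt_eq]
    congr 2
    rw [Category.assoc (toUnit T) p, hp]
    unfold HMNum.origin
    rw [Category.assoc]
  refine ⟨ψ, ?_, ?_⟩
  · refine key η[HMNum.A1 S] ?_
    exact IsMonHom.one_hom _
  · rw [HMNum.limitPt_eq]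
    refine key (HMNum.origin S) ?_
    unfold HMNum.origin
    rw [Category.assoc, Magnet.AMonS.faceMap_comp_map, Category.comp_id]

end general

section field

variable (k : Type u) [Field k]

variable {G X : Over (Spec (CommRingCat.of k))} [GrpObj G]

theorem isReduced_A1_unit :
    IsReduced (HMNum.A1 (Spec (CommRingCat.of k)) ⊗ 𝟙_ (Over (Spec (CommRingCat.of k)))).left := by
  have := isReduced_A1 k
  let e : (HMNum.A1 (Spec (CommRingCat.of k)) ⊗ 𝟙_ (Over (Spec (CommRingCat.of k)))).left ≅
      (HMNum.A1 (Spec (CommRingCat.of k))).left :=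
    (Over.forget _).mapIso (ρ_ (HMNum.A1 (Spec (CommRingCat.of k))))
  exact isReduced_of_isOpenImmersion e.hom

theorem isDominant_incl_unit :
    IsDominant (HMNum.incl (Spec (CommRingCat.of k)) ▷ 𝟙_ (Over (Spec (CommRingCat.of k)))).left := by
  have := isDominant_incl k
  have h : (HMNum.incl (Spec (CommRingCat.of k)) ▷ 𝟙_ (Over (Spec (CommRingCat.of k)))) =
      (ρ_ (Red.Gm (Spec (CommRingCat.of k)))).hom ≫ HMNum.incl (Spec (CommRingCat.of k)) ≫
        (ρ_ (HMNum.A1 (Spec (CommRingCat.of k)))).inv := by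
    rw [← Category.assoc, ← rightUnitor_naturality, Category.assoc, Iso.hom_inv_id, Category.comp_id]
  rw [h, Over.comp_left, Over.comp_left]
  have h1 : IsIso (ρ_ (Red.Gm (Spec (CommRingCat.of k)))).hom.left :=
    (inferInstance : IsIso ((Over.forget _).map (ρ_ (Red.Gm (Spec (CommRingCat.of k)))).hom))
  have h2 : IsIso (ρ_ (HMNum.A1 (Spec (CommRingCat.of k)))).inv.left :=
    (inferInstance : IsIso ((Over.forget _).map (ρ_ (HMNum.A1 (Spec (CommRingCat.of k)))).inv))
  infer_instance

/-- uniqueness of the equivariant extension to the affine line (limits are unique). -/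
theorem attr_ext [IsSeparated X.hom] (a : AlgGrp.Action G X)
    (l : Red.Gm (Spec (CommRingCat.of k)) ⟶ G) [IsMonHom l]
    (φ φ' : (HMNum.attrPlus a l).obj (op (𝟙_ (Over (Spec (CommRingCat.of k))))))
    (h : (Magnet.attrToX (HMNum.gmAct a l) HMNum.plus).app _ φ =
      (Magnet.attrToX (HMNum.gmAct a l) HMNum.plus).app _ φ') : φ = φ' := by
  apply Subtype.ext
  have hG : (HMNum.incl (Spec (CommRingCat.of k)) ▷ 𝟙_ (Over (Spec (CommRingCat.of k)))) ≫ φ.1 =
      (HMNum.incl (Spec (CommRingCat.of k)) ▷ 𝟙_ (Over (Spec (CommRingCat.of k)))) ≫ φ'.1 := by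
    rw [incl_whisker_comp, incl_whisker_comp, h]
  apply Over.OverMorphism.ext
  have := isReduced_A1_unit k
  have := isDominant_incl_unit k
  refine ext_of_isDominant_of_isSeparated X.hom ?_
    (HMNum.incl (Spec (CommRingCat.of k)) ▷ 𝟙_ (Over (Spec (CommRingCat.of k)))).left ?_
  · rw [Over.w, Over.w]
  · rw [← Over.comp_left, hG, Over.comp_left]

end field


section main

variable (k : Type u) [Field k] {G X : Over (Spec (CommRingCat.of k))} [GrpObj G]

/-- S19787 -/
theorem s19787 [IsSeparated X.hom] (a : AlgGrp.Action G X) (B : GLinSh.LinBun G a)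
    (x : 𝟙_ (Over (Spec (CommRingCat.of k))) ⟶ X)
    (l : Red.Gm (Spec (CommRingCat.of k)) ⟶ G) [IsMonHom l]
    (y : 𝟙_ (Over (Spec (CommRingCat.of k))) ⟶ X) (hy : HMNum.IsLimitPt a l x y) (m : ℤ) :
    HMNum.IsMu B l x m ↔ HMNum.IsMu B l y m := by
  obtain ⟨φ, hφx, hφy⟩ := hy
  have hself : HMNum.IsLimitPt a l y y := hφy ▸ isLimitPt_limitPt a l φ
  constructor
  · rintro ⟨y', ⟨φ', hx', hy'⟩, hw⟩
    have e : φ' = φ := attr_ext k a l φ' φ (hx'.trans hφx.symm)
    have e' : y' = y := by rw [← hy', e, hφy]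
    subst e'
    exact ⟨y', hself, hw⟩
  · rintro ⟨y'', ⟨φ'', hx'', hy''⟩, hw⟩
    obtain ⟨ψ, hψx, hψy⟩ := hself
    have e : φ'' = ψ := attr_ext k a l φ'' ψ (hx''.trans hψx.symm)
    have e' : y'' = y := by rw [← hy'', e, hψy]
    subst e'
    exact ⟨y'', ⟨φ, hφx, hφy⟩, hw⟩

end main

end Groth.Agent.Lib.Seat98.A1
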