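import Mathlib
import Groth.Agent.Lib.Helper22IdealComap

/-!
# Contracting correspondences: the fixed-point locus near an invariant closed subscheme

Helper library of seat 98 for S19878.

* `comap_pow`: pullback of ideal sheaves commutes with powers.
* `isOpen_support_of_pow_le`: on a locally Noetherian scheme, `J ^ k ≤ J ^ (k+1)` forces
  the support of `J` to be open (Nakayama), hence clopen.
* `main`: the statement of S19878.
-/

set_option autoImplicit false
universe u

namespace Groth.Agent.Lib.Seat98.Contract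

open AlgebraicGeometry CategoryTheory CategoryTheory.Limits

open Scheme.IdealSheafData in
/-- pullback of ideal sheaves commutes with powers. -/
theorem comap_pow {S T : Scheme.{u}} (g : S ⟶ T) (I : T.IdealSheafData) (n : ℕ) :
    (I ^ n).comap g = (I.comap g) ^ n := by
  let ι : Type u := {p : S.affineOpens × T.affineOpens // p.1.1 ≤ g ⁻¹ᵁ p.2.1}
  let W : ι → S.affineOpens := fun p => p.1.1
  refine ext_of_iSup_eq_top W ?_ ?_
  · rw [eq_top_iff]
    intro x _
    obtain ⟨V, hV, hxV, -⟩ := exists_isAffineOpen_mem_and_subset (x := g x) (U := ⊤) trivial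
    obtain ⟨U, hU, hxU, hUV⟩ := exists_isAffineOpen_mem_and_subset (x := x) (U := g ⁻¹ᵁ V) hxV
    exact TopologicalSpace.Opens.mem_iSup.2 ⟨⟨(⟨U, hU⟩, ⟨V, hV⟩), hUV⟩, hxU⟩
  · rintro ⟨⟨U, V⟩, hUV⟩
    change ((I ^ n).comap g).ideal U = ((I.comap g) ^ n).ideal U
    rw [Groth.Agent.Lib.Helper22.IdealComap.ideal_comap_eq_map g (I ^ n) U V hUV]
    rw [ideal_pow, ideal_pow]
    change Ideal.map _ ((I.ideal V) ^ n) = ((I.comap g).ideal U) ^ n
    rw [Ideal.map_pow,
      Groth.Agent.Lib.Helper22.IdealComap.ideal_comap_eq_map g I U V hUV]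

open Scheme.IdealSheafData in
/-- On a locally Noetherian scheme, if `J ^ k ≤ J ^ (k + 1)` then the support of `J` is open. -/
theorem isOpen_support_of_pow_le {X : Scheme.{u}} [IsLocallyNoetherian X] (J : X.IdealSheafData)
    (k : ℕ) (h : J ^ k ≤ J ^ (k + 1)) : IsOpen (J.support : Set X) := by
  rw [isOpen_iff_mem_nhds]
  intro x hx
  obtain ⟨U, hU, hxU, -⟩ := exists_isAffineOpen_mem_and_subset (x := x) (U := ⊤) trivial
  let U' : X.affineOpens := ⟨U, hU⟩
  have : IsNoetherianRing Γ(X, U) := IsLocallyNoetherian.component_noetherian U'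
  set 𝔞 : Ideal Γ(X, U) := J.ideal U' with h𝔞
  have hle : 𝔞 ^ k ≤ 𝔞 • 𝔞 ^ k := by
    have := h U'
    rw [ideal_pow, ideal_pow] at this
    change 𝔞 ^ k ≤ 𝔞 ^ (k + 1) at this
    rwa [pow_succ', ← smul_eq_mul] at this
  obtain ⟨r, hr1, hr0⟩ := Submodule.exists_sub_one_mem_and_smul_eq_zero_of_fg_of_le_smul 𝔞
    (𝔞 ^ k) (IsNoetherian.noetherian _) hle
  have hx0 : x ∈ X.zeroLocus (U := U) 𝔞 := (mem_support_iff_of_mem (U := U') hxU).1 hx
  -- `x ∈ D(r)`
  have hxr : x ∈ X.basicOpen r := by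
    have h1 : x ∉ X.basicOpen (1 - r) := by
      rw [Scheme.mem_zeroLocus_iff] at hx0
      refine hx0 _ ?_
      have := 𝔞.neg_mem hr1
      rwa [neg_sub] at this
    rw [Scheme.mem_basicOpen _ _ _ hxU] at h1 ⊢
    have := IsLocalRing.isUnit_or_isUnit_of_add_one (a := X.presheaf.germ U x hxU r)
      (b := X.presheaf.germ U x hxU (1 - r)) (by rw [← map_add]; simp)
    rcases this with h3 | h3
    · exact h3
    · exact absurd h3 h1
  refine Filter.mem_of_superset ((X.basicOpen r).isOpen.mem_nhds hxr) ?_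
  intro y hy
  have hyU : y ∈ U := X.basicOpen_le r hy
  rw [SetLike.mem_coe, mem_support_iff_of_mem (U := U') hyU, Scheme.mem_zeroLocus_iff]
  intro f hf hyf
  have h0 : r * f ^ k = 0 := by
    have := hr0 (f ^ k) (Ideal.pow_mem_pow hf k)
    simpa [smul_eq_mul] using this
  rw [SetLike.mem_coe, Scheme.mem_basicOpen _ _ _ hyU] at hy
  rw [Scheme.mem_basicOpen _ _ _ hyU] at hyf
  have : IsUnit (X.presheaf.germ U y hyU (r * f ^ k)) := by
    rw [map_mul, map_pow]
    exact hy.mul (hyf.pow k)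
  rw [h0, map_zero] at this
  exact not_isUnit_zero this

theorem isLocallyNoetherian_fix {C X Fx : Scheme.{u}} (k : Type u) [Field k]
    (pC : C ⟶ Spec (CommRingCat.of k)) [LocallyOfFiniteType pC]
    (pX : X ⟶ Spec (CommRingCat.of k)) (c₁ c₂ : C ⟶ X) (hc : c₁ ≫ pX = c₂ ≫ pX)
    (i : Fx ⟶ C) (δ : Fx ⟶ X) (hF : IsPullback i δ (pullback.lift c₁ c₂ hc) (pullback.diagonal pX)) :
    IsLocallyNoetherian Fx := by
  have hC : IsLocallyNoetherian C := LocallyOfFiniteType.isLocallyNoetherian pC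
  have hi : LocallyOfFiniteType i :=
    MorphismProperty.of_isPullback (P := @LocallyOfFiniteType) hF.flip inferInstance
  exact LocallyOfFiniteType.isLocallyNoetherian i

theorem main {C X Fx : Scheme.{u}} (k : Type u) [Field k]
    (pC : C ⟶ Spec (CommRingCat.of k)) [LocallyOfFiniteType pC]
    (pX : X ⟶ Spec (CommRingCat.of k)) (c₁ c₂ : C ⟶ X) (hc : c₁ ≫ pX = c₂ ≫ pX)
    (i : Fx ⟶ C) (δ : Fx ⟶ X) (hF : IsPullback i δ (pullback.lift c₁ c₂ hc) (pullback.diagonal pX))
    (I : X.IdealSheafData) (W : C.Opens) (hW : Set.range i.base ⊆ (W : Set C))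
    (k₀ : ℕ) (hpow : I.comap (W.ι ≫ c₁) ^ k₀ ≤ I.comap (W.ι ≫ c₂) ^ (k₀ + 1))
    (β : Fx.Opens) (hβ : _root_.IsConnected (β : Set Fx))
    (hβZ : (δ.base '' (β : Set Fx) ∩ (I.support : Set X)).Nonempty) :
    (β : Set Fx) ⊆ δ.base ⁻¹' (I.support : Set X) := by
  have hN : IsLocallyNoetherian Fx := isLocallyNoetherian_fix k pC pX c₁ c₂ hc i δ hF
  have h1 : i ≫ c₁ = δ := by
    have := congrArg (· ≫ pullback.fst pX pX) hF.w
    simp only [Category.assoc, pullback.lift_fst, pullback.diagonal_fst, Category.comp_id] at this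
    exact this
  have h2 : i ≫ c₂ = δ := by
    have := congrArg (· ≫ pullback.snd pX pX) hF.w
    simp only [Category.assoc, pullback.lift_snd, pullback.diagonal_snd, Category.comp_id] at this
    exact this
  let i' : Fx ⟶ W.toScheme := IsOpenImmersion.lift W.ι i (by rwa [Scheme.Opens.range_ι])
  have hi' : i' ≫ W.ι = i := IsOpenImmersion.lift_fac _ _ _
  set J := I.comap δ with hJ
  have hJ1 : (I.comap (W.ι ≫ c₁)).comap i' = J := by
    rw [← Scheme.IdealSheafData.comap_comp, ← Category.assoc, hi', h1]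
  have hJ2 : (I.comap (W.ι ≫ c₂)).comap i' = J := by
    rw [← Scheme.IdealSheafData.comap_comp, ← Category.assoc, hi', h2]
  have hJpow : J ^ k₀ ≤ J ^ (k₀ + 1) := by
    have := Scheme.IdealSheafData.comap_mono i' hpow
    simp only [comap_pow, hJ1, hJ2] at this
    exact this
  have hopen : IsOpen (J.support : Set Fx) := isOpen_support_of_pow_le J k₀ hJpow
  have hclopen : IsClopen (J.support : Set Fx) := ⟨J.support.isClosed, hopen⟩
  have hsupp : (J.support : Set Fx) = δ.base ⁻¹' (I.support : Set X) := by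
    rw [hJ, Scheme.IdealSheafData.support_comap]
    rfl
  rw [← hsupp]
  refine hβ.isPreconnected.subset_isClopen hclopen ?_
  obtain ⟨_, ⟨y, hyβ, rfl⟩, hyZ⟩ := hβZ
  exact ⟨y, hyβ, by rw [hsupp]; exact hyZ⟩

end Groth.Agent.Lib.Seat98.Contract
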