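import Mathlib
import Groth.Prelude
import Groth.Agent.Lib.Seat54HHFinite2

/-!
# Additivity of the Euler characteristic `Curv2.euler` (seat 98)

For `X` quasi-compact quasi-separated over a field `k` and a short exact sequence of `O_X`-modules whose three terms
are quasi-coherent with finite-dimensional cohomology: `χ(X₂) = χ(X₁) + χ(X₃)` (`euler_additive`).
Also `euler_eq_sum` (the finitary sum is a finite sum up to the vanishing bound).
-/

set_option autoImplicit false
set_option backward.isDefEq.respectTransparency.types false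
set_option linter.style.haveILetI false
universe u
open CategoryTheory CategoryTheory.Limits AlgebraicGeometry Abelian Opposite

namespace Groth.Agent.Lib.Seat98.Euler

open Groth.Agent.Lib.Seat54.HHFinite

section LinAlg

variable {k : Type*} [Field k] {C' A B C A' : Type*} [AddCommGroup C'] [AddCommGroup A] [AddCommGroup B]
  [AddCommGroup C] [AddCommGroup A'] [Module k C'] [Module k A] [Module k B] [Module k C] [Module k A']

/-- the dimension count in a five-term exact piece `C' → A → B → C → A'` -/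
theorem les_dim_eq [Module.Finite k A] [Module.Finite k B] [Module.Finite k C]
    (δ' : C' →ₗ[k] A) (f : A →ₗ[k] B) (g : B →ₗ[k] C) (δ : C →ₗ[k] A')
    (h1 : LinearMap.range δ' = LinearMap.ker f) (h2 : LinearMap.range f = LinearMap.ker g)
    (h3 : LinearMap.range g = LinearMap.ker δ) :
    Module.finrank k B + Module.finrank k (LinearMap.range δ') + Module.finrank k (LinearMap.range δ) =
      Module.finrank k A + Module.finrank k C := by
  have e1 := LinearMap.finrank_range_add_finrank_ker f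
  have e2 := LinearMap.finrank_range_add_finrank_ker g
  have e3 := LinearMap.finrank_range_add_finrank_ker δ
  rw [← h1] at e1
  rw [← h2] at e2
  rw [← h3] at e3
  omega

end LinAlg

variable (k : Type u) [Field k] {X : Scheme.{u}} [X.Over (Spec (CommRingCat.of k))]

/-- the rank of the connecting homomorphism, shifted: `rp 0 = 0`, `rp (i+1) = rank δ_i` -/
noncomputable def rp (S : ShortComplex X.Modules) (hS : S.ShortExact) : ℕ → ℕ
  | 0 => 0
  | (i + 1) => Module.finrank k (LinearMap.range (δlin k S hS i))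

theorem dim_eq (S : ShortComplex X.Modules) (hS : S.ShortExact) (i : ℕ)
    [Module.Finite k (Coh.HH X S.X₁ i)] [Module.Finite k (Coh.HH X S.X₂ i)]
    [Module.Finite k (Coh.HH X S.X₃ i)] :
    Module.finrank k (Coh.HH X S.X₂ i) + rp k S hS i + rp k S hS (i + 1) =
      Module.finrank k (Coh.HH X S.X₁ i) + Module.finrank k (Coh.HH X S.X₃ i) := by
  cases i with
  | zero =>
    haveI := hS.mono_f
    have h1 : LinearMap.range (0 : Coh.HH X S.X₁ 0 →ₗ[k] Coh.HH X S.X₁ 0) =
        LinearMap.ker (Canon.HHlin k S.f 0) := by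
      rw [ker_zero_eq_bot k S.f, LinearMap.range_zero]
    have := les_dim_eq (0 : Coh.HH X S.X₁ 0 →ₗ[k] Coh.HH X S.X₁ 0) (Canon.HHlin k S.f 0)
      (Canon.HHlin k S.g 0) (δlin k S hS 0) h1 (range_eq_ker_mid k S hS 0) (range_eq_ker_right k S hS 0)
    rw [LinearMap.range_zero, finrank_bot] at this
    exact this
  | succ i =>
    exact les_dim_eq (δlin k S hS i) (Canon.HHlin k S.f (i + 1))
      (Canon.HHlin k S.g (i + 1)) (δlin k S hS (i + 1)) (range_eq_ker_left k S hS i)
      (range_eq_ker_mid k S hS (i + 1)) (range_eq_ker_right k S hS (i + 1))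

theorem telescope (r : ℕ → ℕ) (n : ℕ) :
    ∑ i ∈ Finset.range n, (-1 : ℤ) ^ i * ((r i : ℤ) + (r (i + 1) : ℤ)) =
      (r 0 : ℤ) + (-1 : ℤ) ^ (n + 1) * (r n : ℤ) := by
  induction n with
  | zero => simp
  | succ n ih =>
    rw [Finset.sum_range_succ, ih]
    ring

/-- the finitary sum is a finite sum once cohomology vanishes from degree `N` on -/
theorem euler_eq_sum (M : X.Modules) (N : ℕ) (hN : ∀ p, N ≤ p → Subsingleton (Coh.HH X M p)) :
    Curv2.euler k X M =
      ∑ i ∈ Finset.range N, (-1 : ℤ) ^ i * (Module.finrank k (Coh.HH X M i) : ℤ) := by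
  unfold Curv2.euler
  apply finsum_eq_sum_of_support_subset
  intro i hi
  simp only [Finset.coe_range, Set.mem_Iio]
  by_contra hlt
  haveI := hN i (not_lt.1 hlt)
  apply hi
  change (-1 : ℤ) ^ i * (Module.finrank k (Coh.HH X M i) : ℤ) = 0
  rw [Module.finrank_zero_of_subsingleton]
  simp

theorem euler_additive_of_bound (S : ShortComplex X.Modules) (hS : S.ShortExact) (N : ℕ)
    (hN₁ : ∀ p, N ≤ p → Subsingleton (Coh.HH X S.X₁ p))
    (hN₂ : ∀ p, N ≤ p → Subsingleton (Coh.HH X S.X₂ p))
    (hN₃ : ∀ p, N ≤ p → Subsingleton (Coh.HH X S.X₃ p))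
    (hf₁ : ∀ p, Module.Finite k (Coh.HH X S.X₁ p))
    (hf₂ : ∀ p, Module.Finite k (Coh.HH X S.X₂ p))
    (hf₃ : ∀ p, Module.Finite k (Coh.HH X S.X₃ p)) :
    Curv2.euler k X S.X₂ = Curv2.euler k X S.X₁ + Curv2.euler k X S.X₃ := by
  rw [euler_eq_sum k S.X₁ (N + 1) (fun p hp => hN₁ p (by omega)),
    euler_eq_sum k S.X₂ (N + 1) (fun p hp => hN₂ p (by omega)),
    euler_eq_sum k S.X₃ (N + 1) (fun p hp => hN₃ p (by omega))]
  have hdim : ∀ i, (Module.finrank k (Coh.HH X S.X₂ i) : ℤ) =
      (Module.finrank k (Coh.HH X S.X₁ i) : ℤ) + (Module.finrank k (Coh.HH X S.X₃ i) : ℤ) -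
        ((rp k S hS i : ℤ) + (rp k S hS (i + 1) : ℤ)) := by
    intro i
    haveI := hf₁ i
    haveI := hf₂ i
    haveI := hf₃ i
    have := dim_eq k S hS i
    omega
  have htel := telescope (rp k S hS) (N + 1)
  have h0 : rp k S hS 0 = 0 := rfl
  have hlast : rp k S hS (N + 1) = 0 := by
    change Module.finrank k (LinearMap.range (δlin k S hS N)) = 0
    haveI := hN₁ (N + 1) (by omega)
    exact Module.finrank_zero_of_subsingleton
  rw [h0, hlast] at htel
  simp only [Nat.cast_zero, mul_zero, add_zero] at htel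
  rw [← Finset.sum_add_distrib]
  have : ∑ i ∈ Finset.range (N + 1), (-1 : ℤ) ^ i * (Module.finrank k (Coh.HH X S.X₂ i) : ℤ) =
      ∑ i ∈ Finset.range (N + 1), ((-1 : ℤ) ^ i * (Module.finrank k (Coh.HH X S.X₁ i) : ℤ) +
        (-1 : ℤ) ^ i * (Module.finrank k (Coh.HH X S.X₃ i) : ℤ)) -
      ∑ i ∈ Finset.range (N + 1), (-1 : ℤ) ^ i * ((rp k S hS i : ℤ) + (rp k S hS (i + 1) : ℤ)) := by
    rw [← Finset.sum_sub_distrib]
    refine Finset.sum_congr rfl fun i _ => ?_
    rw [hdim i]
    ring
  rw [this, htel, sub_zero]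

end Groth.Agent.Lib.Seat98.Euler
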