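import Mathlib
import Groth.Prelude.Def_HMNum

/-!
# The numerical function `μ^L(x, λ)` under translation / conjugation by a rational point (seat 98)

For an action `a` of a group scheme `G` on `X` over `S`, a constant point `gm : 𝟙_ ⟶ G`:

* `pact a g p` : the action on `T`-points; `cst gm T` the constant `T`-point; `conj gm l = gm · l · gm⁻¹`;
* `isLimitPt_conj` : limits of `l(u)·x` are carried by `gm` to limits of `(gm l gm⁻¹)(u)·(gm x)`;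
* `hasFibreWt_conj` : the weight on the fibre of a linearised line bundle is preserved;
* `isMu_conj`, `s19786`, `s19791`.
-/

set_option autoImplicit false
universe u

namespace Groth.Agent.Lib.Seat98.HMConj

open CategoryTheory CategoryTheory.Limits MonoidalCategory CartesianMonoidalCategory MonObj AlgebraicGeometry Opposite

variable {S : Scheme.{u}} {G X V : Over S} [GrpObj G]

/-- the action on points: `g • p`. -/
noncomputable abbrev pact (a : AlgGrp.Action G X) {T : Over S} (g : T ⟶ G) (p : T ⟶ X) : T ⟶ X :=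
  lift g p ≫ a.act

theorem pact_one (a : AlgGrp.Action G X) {T : Over S} (p : T ⟶ X) : pact a 1 p = p :=
  (Magnet.MonAct.ofAction a).lift_one_act p

theorem pact_mul (a : AlgGrp.Action G X) {T : Over S} (g h : T ⟶ G) (p : T ⟶ X) :
    pact a (g * h) p = pact a g (pact a h p) :=
  (Magnet.MonAct.ofAction a).lift_mul_act g h p

theorem comp_pact (a : AlgGrp.Action G X) {T T' : Over S} (t : T' ⟶ T) (g : T ⟶ G) (p : T ⟶ X) :
    t ≫ pact a g p = pact a (t ≫ g) (t ≫ p) := by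
  unfold pact
  rw [comp_lift_assoc]

theorem pact_inv_pact (a : AlgGrp.Action G X) {T : Over S} (g : T ⟶ G) (p : T ⟶ X) :
    pact a g⁻¹ (pact a g p) = p := by
  rw [← pact_mul, inv_mul_cancel, pact_one]

theorem pact_pact_inv (a : AlgGrp.Action G X) {T : Over S} (g : T ⟶ G) (p : T ⟶ X) :
    pact a g (pact a g⁻¹ p) = p := by
  rw [← pact_mul, mul_inv_cancel, pact_one]

/-- the constant point of `G` over `T` attached to `gm`. -/
noncomputable abbrev cst (gm : 𝟙_ (Over S) ⟶ G) (T : Over S) : T ⟶ G := toUnit T ≫ gm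

omit [GrpObj G] in
theorem comp_cst (gm : 𝟙_ (Over S) ⟶ G) {T T' : Over S} (t : T' ⟶ T) : t ≫ cst gm T = cst gm T' := by
  unfold cst
  rw [← Category.assoc]
  congr 1
  exact toUnit_unique _ _

/-- conjugate of a morphism by a constant point. -/
noncomputable abbrev conj (gm : 𝟙_ (Over S) ⟶ G) {H : Over S} (l : H ⟶ G) : H ⟶ G :=
  cst gm H * l * (cst gm H)⁻¹

theorem comp_conj (gm : 𝟙_ (Over S) ⟶ G) {H T : Over S} (l : H ⟶ G) (g : T ⟶ H) :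
    g ≫ conj gm l = cst gm T * (g ≫ l) * (cst gm T)⁻¹ := by
  unfold conj
  rw [MonObj.comp_mul, MonObj.comp_mul, GrpObj.comp_inv, comp_cst]

/-- translation by a constant point, as an endomorphism of `X`. -/
noncomputable def trl (a : AlgGrp.Action G X) (gm : 𝟙_ (Over S) ⟶ G) : X ⟶ X := pact a (cst gm X) (𝟙 X)

theorem comp_trl (a : AlgGrp.Action G X) (gm : 𝟙_ (Over S) ⟶ G) {T : Over S} (p : T ⟶ X) :
    p ≫ trl a gm = pact a (cst gm T) p := by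
  unfold trl
  rw [comp_pact, comp_cst, Category.comp_id]

theorem isEquivariant_trl (a : AlgGrp.Action G X) (gm : 𝟙_ (Over S) ⟶ G) (l : Red.Gm S ⟶ G) [IsMonHom l]
    [IsMonHom (conj gm l)] :
    Magnet.MonAct.IsEquivariant (HMNum.gmAct a l) (HMNum.gmAct a (conj gm l)) (trl a gm) := by
  rw [Magnet.MonAct.isEquivariant_iff]
  intro T g p
  rw [← Category.assoc, Magnet.MonAct.lift_restrict_act, Magnet.MonAct.lift_restrict_act,
    Magnet.MonAct.ofAction_act, comp_trl, comp_trl, comp_conj]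
  change pact a (cst gm T) (pact a (g ≫ l) p) = pact a (cst gm T * (g ≫ l) * (cst gm T)⁻¹) (pact a (cst gm T) p)
  rw [pact_mul, pact_mul, pact_inv_pact]

theorem isLimitPt_conj (a : AlgGrp.Action G X) (gm : 𝟙_ (Over S) ⟶ G) (l : Red.Gm S ⟶ G) [IsMonHom l]
    [IsMonHom (conj gm l)] {T : Over S} (x y : T ⟶ X) (h : HMNum.IsLimitPt a l x y) :
    HMNum.IsLimitPt a (conj gm l) (pact a (cst gm T) x) (pact a (cst gm T) y) := by
  obtain ⟨φ, hx, hy⟩ := h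
  refine ⟨(Magnet.MonAct.eqvHom.postcomp _ (trl a gm) (isEquivariant_trl a gm l)).app (op T) φ, ?_, ?_⟩
  · rw [← comp_trl, ← hx]
    simp only [Magnet.MonAct.eqvHom.evalAt_app, Magnet.MonAct.eqvHom.postcomp_app_coe, Category.assoc]
  · rw [← comp_trl, ← hy, HMNum.limitPt_eq, HMNum.limitPt_eq]
    simp only [Magnet.MonAct.eqvHom.postcomp_app_coe, Category.assoc]

theorem pact_π (a : AlgGrp.Action G X) (π : V ⟶ X) (Φ : AlgGrp.Action G V)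
    (hπ : Φ.act ≫ π = (G ◁ π) ≫ a.act) {T : Over S} (g : T ⟶ G) (v : T ⟶ V) :
    pact Φ g v ≫ π = pact a g (v ≫ π) := by
  unfold pact
  rw [Category.assoc, hπ, lift_whiskerLeft_assoc]

theorem evalFn_congr (π : V ⟶ X) {U : X.left.Opens} (y : Γ(V.left, π.left ⁻¹ᵁ U)) {T' : Over S}
    {v v' : T' ⟶ V} (e : v = v') (h : ⊤ ≤ v.left ⁻¹ᵁ (π.left ⁻¹ᵁ U)) (h' : ⊤ ≤ v'.left ⁻¹ᵁ (π.left ⁻¹ᵁ U)) :
    HMNum.evalFn π y v h = HMNum.evalFn π y v' h' := by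
  subst e; rfl

/-- element form of `appLE_comp_appLE` -/
theorem appLE_appLE {A B C : Scheme.{u}} (f : A ⟶ B) (g : B ⟶ C) (U : C.Opens) (W : B.Opens) (Z : A.Opens)
    (e₁ : W ≤ g ⁻¹ᵁ U) (e₂ : Z ≤ f ⁻¹ᵁ W) (e₃ : Z ≤ (f ≫ g) ⁻¹ᵁ U) (s : Γ(C, U)) :
    f.appLE W Z e₂ (g.appLE U W e₁ s) = (f ≫ g).appLE U Z e₃ s := by
  have := Scheme.Hom.appLE_comp_appLE f g U W Z e₁ e₂
  exact congrArg (fun φ => φ.hom s) this

theorem appLE_congr_hom {A B : Scheme.{u}} {f g : A ⟶ B} (e : f = g) (U : B.Opens) (W : A.Opens)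
    (h : W ≤ f ⁻¹ᵁ U) (h' : W ≤ g ⁻¹ᵁ U) (s : Γ(B, U)) : f.appLE U W h s = g.appLE U W h' s := by
  subst e; rfl

/-- evaluation of the linearity relation at a point. -/
theorem evalFn_pact (a : AlgGrp.Action G X) (π : V ⟶ X) (Φ : AlgGrp.Action G V)
    (hπ : Φ.act ≫ π = (G ◁ π) ≫ a.act) (U U' : X.left.Opens)
    (y : Γ(V.left, π.left ⁻¹ᵁ U)) (y' : Γ(V.left, π.left ⁻¹ᵁ U'))
    (c : Γ((G ⊗ X).left, a.act.left ⁻¹ᵁ U' ⊓ (snd G X).left ⁻¹ᵁ U))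
    (E : Φ.act.left.appLE (π.left ⁻¹ᵁ U') (GLinSh.liftOpen a π U U') (GLinSh.liftOpen_le_act a π Φ hπ) y' =
          (G ◁ π).left.appLE _ (GLinSh.liftOpen a π U U') (GLinSh.liftOpen_le_base a π) c *
            (snd G V).left.appLE (π.left ⁻¹ᵁ U) (GLinSh.liftOpen a π U U') (GLinSh.liftOpen_le_snd a π) y)
    {T' : Over S} (g : T' ⟶ G) (w : T' ⟶ V)
    (hw : ⊤ ≤ w.left ⁻¹ᵁ (π.left ⁻¹ᵁ U)) (hgw : ⊤ ≤ (pact Φ g w).left ⁻¹ᵁ (π.left ⁻¹ᵁ U'))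
    (hc : ⊤ ≤ (lift g (w ≫ π)).left ⁻¹ᵁ (a.act.left ⁻¹ᵁ U' ⊓ (snd G X).left ⁻¹ᵁ U)) :
    HMNum.evalFn π y' (pact Φ g w) hgw =
      (lift g (w ≫ π)).left.appLE (a.act.left ⁻¹ᵁ U' ⊓ (snd G X).left ⁻¹ᵁ U) ⊤ hc c * HMNum.evalFn π y w hw := by
  have hpc : lift g w ≫ (G ◁ π) = lift g (w ≫ π) := lift_whiskerLeft _ _ _
  have hp : ⊤ ≤ (lift g w).left ⁻¹ᵁ (GLinSh.liftOpen a π U U') := by
    have : (lift g w).left ⁻¹ᵁ (GLinSh.liftOpen a π U U') =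
        (lift g w ≫ (G ◁ π)).left ⁻¹ᵁ (a.act.left ⁻¹ᵁ U' ⊓ (snd G X).left ⁻¹ᵁ U) := rfl
    rw [this, hpc]
    exact hc
  have h1 := congrArg ((lift g w).left.appLE (GLinSh.liftOpen a π U U') ⊤ hp) E
  rw [map_mul] at h1
  rw [appLE_appLE (lift g w).left Φ.act.left _ _ _ _ _ hgw,
    appLE_appLE (lift g w).left (G ◁ π).left _ _ _ _ _
      (by rw [← Over.comp_left, hpc]; exact hc),
    appLE_appLE (lift g w).left (snd G V).left _ _ _ _ _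
      (by rw [← Over.comp_left, lift_snd]; exact hw)] at h1
  refine h1.trans ?_
  congr 1
  · exact appLE_congr_hom (by rw [← Over.comp_left, hpc]) _ _ _ _ _
  · exact appLE_congr_hom (by rw [← Over.comp_left, lift_snd]) _ _ _ _ _

theorem isFixedBy_conj (a : AlgGrp.Action G X) (gm : 𝟙_ (Over S) ⟶ G) (l : Red.Gm S ⟶ G) {T : Over S}
    (x₀ : T ⟶ X) (h : HMNum.IsFixedBy a l x₀) :
    HMNum.IsFixedBy a (conj gm l) (pact a (cst gm T) x₀) := by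
  intro T' t g
  rw [comp_pact, comp_cst, comp_conj]
  change pact a (cst gm T' * (g ≫ l) * (cst gm T')⁻¹) (pact a (cst gm T') (t ≫ x₀)) = _
  rw [pact_mul, pact_mul, pact_inv_pact]
  congr 1
  exact h T' t g

theorem top_le_lift (a : AlgGrp.Action G X) {T' : Over S} (g : T' ⟶ G) (p : T' ⟶ X) (U U' : X.left.Opens)
    (h1 : ⊤ ≤ (pact a g p).left ⁻¹ᵁ U') (h2 : ⊤ ≤ p.left ⁻¹ᵁ U) :
    ⊤ ≤ (lift g p).left ⁻¹ᵁ (a.act.left ⁻¹ᵁ U' ⊓ (snd G X).left ⁻¹ᵁ U) := by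
  have e1 : (lift g p).left ⁻¹ᵁ (a.act.left ⁻¹ᵁ U') = (pact a g p).left ⁻¹ᵁ U' := rfl
  have e2 : (lift g p).left ⁻¹ᵁ ((snd G X).left ⁻¹ᵁ U) = (lift g p ≫ snd G X).left ⁻¹ᵁ U := rfl
  rw [lift_snd] at e2
  intro z hz
  have hz1 : z ∈ (lift g p).left ⁻¹ᵁ (a.act.left ⁻¹ᵁ U') := by rw [e1]; exact h1 hz
  have hz2 : z ∈ (lift g p).left ⁻¹ᵁ ((snd G X).left ⁻¹ᵁ U) := by rw [e2]; exact h2 hz
  exact ⟨hz1, hz2⟩

theorem top_le_of_eq {T T' : Over S} {U : X.left.Opens} {x₀ : T ⟶ X} (hU : x₀.left ⁻¹ᵁ U = ⊤)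
    {p : T' ⟶ X} {t : T' ⟶ T} (hp : p = t ≫ x₀) : ⊤ ≤ p.left ⁻¹ᵁ U := by
  have h2 : (t ≫ x₀).left ⁻¹ᵁ U = t.left ⁻¹ᵁ (x₀.left ⁻¹ᵁ U) := rfl
  rw [hp, h2, hU]
  exact le_of_eq rfl

/-- transfer of the fibre weight under conjugation by a constant point. -/
theorem hasFibreWt_conj (a : AlgGrp.Action G X) (π : V ⟶ X)
    (chart : ∀ U : X.left.Opens, Set (Γ(V.left, π.left ⁻¹ᵁ U))) (Φ : AlgGrp.Action G V)
    (hπ : Φ.act ≫ π = (G ◁ π) ≫ a.act) (hlin : GLinSh.IsLinearLift a π Φ chart hπ)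
    (gm : 𝟙_ (Over S) ⟶ G) (l : Red.Gm S ⟶ G) {T : Over S} (x₀ : T ⟶ X) (w : ℤ)
    (hcov : ∃ (U' : X.left.Opens) (y' : Γ(V.left, π.left ⁻¹ᵁ U')), y' ∈ chart U' ∧
      (pact a (cst gm T) x₀).left ⁻¹ᵁ U' = ⊤)
    (h : HMNum.HasFibreWt a π chart Φ l x₀ w) :
    HMNum.HasFibreWt a π chart Φ (conj gm l) (pact a (cst gm T) x₀) w := by
  obtain ⟨hfix, U, y, hy, hU, H⟩ := h
  obtain ⟨U', y', hy', hU'⟩ := hcov
  obtain ⟨c, E⟩ := hlin U U' y y' hy hy'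
  refine ⟨isFixedBy_conj a gm l x₀ hfix, U', y', hy', hU', ?_⟩
  intro T' t g v' hv' hgv'
  have hv : pact Φ (cst gm T')⁻¹ v' ≫ π = t ≫ x₀ := by
    rw [pact_π a π Φ hπ, hv', comp_pact, comp_cst, pact_inv_pact]
  have hgv : pact Φ (g ≫ l) (pact Φ (cst gm T')⁻¹ v') ≫ π = t ≫ x₀ := by
    rw [pact_π a π Φ hπ, hv]
    exact hfix T' t g
  have H1 := H T' t g (pact Φ (cst gm T')⁻¹ v') hv hgv
  have e1 : v' = pact Φ (cst gm T') (pact Φ (cst gm T')⁻¹ v') := (pact_pact_inv Φ _ v').symm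
  have e2 : lift (g ≫ conj gm l) v' ≫ Φ.act =
      pact Φ (cst gm T') (pact Φ (g ≫ l) (pact Φ (cst gm T')⁻¹ v')) := by
    rw [comp_conj]
    change pact Φ (cst gm T' * (g ≫ l) * (cst gm T')⁻¹) v' = _
    rw [pact_mul, pact_mul]
  -- the constant
  have hC : ⊤ ≤ (lift (cst gm T') (t ≫ x₀)).left ⁻¹ᵁ (a.act.left ⁻¹ᵁ U' ⊓ (snd G X).left ⁻¹ᵁ U) := by
    refine top_le_lift a _ _ U U' ?_ ?_
    · refine top_le_of_eq hU' (t := t) ?_
      rw [comp_pact, comp_cst]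
    · exact top_le_of_eq hU rfl
  have hv'1 : ⊤ ≤ (pact Φ (cst gm T') (pact Φ (cst gm T')⁻¹ v')).left ⁻¹ᵁ (π.left ⁻¹ᵁ U') := by
    rw [← e1]; exact HMNum.top_le_preimage π hU' hv'
  have hv'2 : ⊤ ≤ (pact Φ (cst gm T') (pact Φ (g ≫ l) (pact Φ (cst gm T')⁻¹ v'))).left ⁻¹ᵁ (π.left ⁻¹ᵁ U') := by
    rw [← e2]; exact HMNum.top_le_preimage π hU' hgv'
  have K1 := evalFn_pact a π Φ hπ U U' y y' c E (cst gm T') (pact Φ (cst gm T')⁻¹ v')
    (HMNum.top_le_preimage π hU hv) hv'1 (by rw [hv]; exact hC)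
  have K2 := evalFn_pact a π Φ hπ U U' y y' c E (cst gm T') (pact Φ (g ≫ l) (pact Φ (cst gm T')⁻¹ v'))
    (HMNum.top_le_preimage π hU hgv) hv'2 (by rw [hgv]; exact hC)
  have C1 : (lift (cst gm T') (pact Φ (cst gm T')⁻¹ v' ≫ π)).left.appLE _ ⊤ (by rw [hv]; exact hC) c =
      (lift (cst gm T') (t ≫ x₀)).left.appLE _ ⊤ hC c :=
    appLE_congr_hom (by rw [hv]) _ _ _ _ _
  have C2 : (lift (cst gm T') (pact Φ (g ≫ l) (pact Φ (cst gm T')⁻¹ v') ≫ π)).left.appLE _ ⊤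
      (by rw [hgv]; exact hC) c = (lift (cst gm T') (t ≫ x₀)).left.appLE _ ⊤ hC c :=
    appLE_congr_hom (by rw [hgv]) _ _ _ _ _
  rw [C1] at K1
  rw [C2] at K2
  rw [evalFn_congr π y' e2 _ hv'2, K2, H1, evalFn_congr π y' e1 _ hv'1, K1]
  ring

theorem isMonHom_conj (gm : 𝟙_ (Over S) ⟶ G) {H : Over S} [MonObj H] (l : H ⟶ G) [IsMonHom l] :
    IsMonHom (conj gm l) where
  one_hom := by
    rw [comp_conj, IsMonHom.one_hom, MonObj.one_eq_one, _root_.mul_one, mul_inv_cancel]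
  mul_hom := by
    rw [comp_conj, IsMonHom.mul_hom]
    have h : ∀ f : H ⟶ G, (f ⊗ₘ f) ≫ μ[G] = (fst H H ≫ f) * (snd H H ≫ f) := by
      intro f
      rw [MonObj.mul_eq_mul, MonObj.comp_mul, tensorHom_fst, tensorHom_snd]
    rw [h, h, comp_conj, comp_conj]
    group

theorem cst_inv (gm : 𝟙_ (Over S) ⟶ G) (T : Over S) : cst gm⁻¹ T = (cst gm T)⁻¹ := by
  unfold cst
  rw [GrpObj.comp_inv]

theorem conj_conj_inv (gm : 𝟙_ (Over S) ⟶ G) {H : Over S} (l : H ⟶ G) : conj gm (conj gm⁻¹ l) = l := by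
  unfold conj
  rw [cst_inv]
  group

theorem conj_inv_conj (gm : 𝟙_ (Over S) ⟶ G) {H : Over S} (l : H ⟶ G) : conj gm⁻¹ (conj gm l) = l := by
  unfold conj
  rw [cst_inv]
  group

theorem conj_one (gm : 𝟙_ (Over S) ⟶ G) {H : Over S} : conj gm (1 : H ⟶ G) = 1 := by
  unfold conj
  group


theorem isMu_congr {a : AlgGrp.Action G X} (B : GLinSh.LinBun G a) {l₁ l₂ : Red.Gm S ⟶ G} [IsMonHom l₁]
    [IsMonHom l₂] (e : l₁ = l₂) {T : Over S} (x : T ⟶ X) (m : ℤ) :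
    HMNum.IsMu B l₁ x m ↔ HMNum.IsMu B l₂ x m := by
  subst e
  rfl

section field

variable (k : Type u) [Field k] {G X : Over (Spec (CommRingCat.of k))} [GrpObj G]

/-- `μ(x, l) = m` implies `μ(gm·x, gm l gm⁻¹) = m`. -/
theorem isMu_conj (a : AlgGrp.Action G X) (B : GLinSh.LinBun G a)
    (gm : 𝟙_ (Over (Spec (CommRingCat.of k))) ⟶ G)
    (l : Red.Gm (Spec (CommRingCat.of k)) ⟶ G) [IsMonHom l] [IsMonHom (conj gm l)]
    (x : 𝟙_ (Over (Spec (CommRingCat.of k))) ⟶ X) (m : ℤ) (h : HMNum.IsMu B l x m) :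
    HMNum.IsMu B (conj gm l) (lift gm x ≫ a.act) m := by
  obtain ⟨y, hlim, hwt⟩ := h
  have hc : cst gm (𝟙_ (Over (Spec (CommRingCat.of k)))) = gm := by
    unfold cst
    rw [toUnit_unit, Category.id_comp]
  refine ⟨pact a gm y, ?_, ?_⟩
  · have := isLimitPt_conj a gm l x y hlim
    rwa [hc] at this
  · have hcov : ∃ (U' : X.left.Opens) (y' : Γ(B.V.left, B.π.left ⁻¹ᵁ U')), y' ∈ B.atlas.chart U' ∧
        (pact a (cst gm (𝟙_ (Over (Spec (CommRingCat.of k))))) y).left ⁻¹ᵁ U' = ⊤ := by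
      let pt : (Spec (CommRingCat.of k) : Scheme.{u}) := (default : PrimeSpectrum k)
      obtain ⟨U', hpt, y', hy'⟩ := B.atlas.cover
        ((pact a (cst gm (𝟙_ (Over (Spec (CommRingCat.of k))))) y).left.base pt)
      refine ⟨U', y', hy', ?_⟩
      rw [eq_top_iff]
      intro z _
      have hz : z = pt := Subsingleton.elim (α := PrimeSpectrum k) _ _
      rw [hz]
      exact hpt
    have := hasFibreWt_conj a B.π B.atlas.chart B.lift B.lift_π B.lift_linear gm l y (-m) hcov hwt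
    rwa [hc] at this

/-- S19786 -/
theorem s19786 (a : AlgGrp.Action G X) (B : GLinSh.LinBun G a)
    (x : 𝟙_ (Over (Spec (CommRingCat.of k))) ⟶ X)
    (l : Red.Gm (Spec (CommRingCat.of k)) ⟶ G) [IsMonHom l] (g₀ : 𝟙_ (Over (Spec (CommRingCat.of k))) ⟶ G)
    (l' : Red.Gm (Spec (CommRingCat.of k)) ⟶ G) [IsMonHom l']
    (hl' : l' = (toUnit _ ≫ g₀)⁻¹ * l * (toUnit _ ≫ g₀)) (m : ℤ) :
    HMNum.IsMu B l (lift g₀ x ≫ a.act) m ↔ HMNum.IsMu B l' x m := by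
  have e1 : l' = conj g₀⁻¹ l := by
    rw [hl']
    unfold conj
    rw [cst_inv, inv_inv]
  have e2 : l = conj g₀ l' := by rw [e1, conj_conj_inv]
  constructor
  · intro h
    haveI : IsMonHom (conj g₀⁻¹ l) := isMonHom_conj g₀⁻¹ l
    have h1 := isMu_conj k a B g₀⁻¹ l (lift g₀ x ≫ a.act) m h
    rw [show lift g₀⁻¹ (lift g₀ x ≫ a.act) ≫ a.act = x from pact_inv_pact a g₀ x] at h1
    exact (isMu_congr B e1 x m).2 h1
  · intro h
    haveI : IsMonHom (conj g₀ l') := isMonHom_conj g₀ l'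
    have h1 := isMu_conj k a B g₀ l' x m h
    exact (isMu_congr B e2 _ m).2 h1

/-- S19791 -/
theorem s19791 (a : AlgGrp.Action G X) (B : GLinSh.LinBun G a)
    (nrm : (Red.Gm (Spec (CommRingCat.of k)) ⟶ G) → ℝ)
    (hnrm : ∀ (l : Red.Gm (Spec (CommRingCat.of k)) ⟶ G) [IsMonHom l]
      (g : 𝟙_ (Over (Spec (CommRingCat.of k))) ⟶ G),
      nrm ((toUnit _ ≫ g) * l * (toUnit _ ≫ g)⁻¹) = nrm l)
    (x : 𝟙_ (Over (Spec (CommRingCat.of k))) ⟶ X) (g : 𝟙_ (Over (Spec (CommRingCat.of k))) ⟶ G) (q : ℝ) :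
    (∃ (l : Red.Gm (Spec (CommRingCat.of k)) ⟶ G) (_ : IsMonHom l) (m : ℤ),
        l ≠ 1 ∧ HMNum.IsMu B l (lift g x ≫ a.act) m ∧ q = (m : ℝ) / nrm l) ↔
      ∃ (l : Red.Gm (Spec (CommRingCat.of k)) ⟶ G) (_ : IsMonHom l) (m : ℤ),
        l ≠ 1 ∧ HMNum.IsMu B l x m ∧ q = (m : ℝ) / nrm l := by
  constructor
  · rintro ⟨l, hl, m, hne, hmu, hq⟩
    haveI := hl
    haveI : IsMonHom (conj g⁻¹ l) := isMonHom_conj g⁻¹ l
    refine ⟨conj g⁻¹ l, inferInstance, m, ?_, ?_, ?_⟩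
    · intro h
      apply hne
      rw [← conj_conj_inv g l, h, conj_one]
    · have h1 := isMu_conj k a B g⁻¹ l (lift g x ≫ a.act) m hmu
      rwa [show lift g⁻¹ (lift g x ≫ a.act) ≫ a.act = x from pact_inv_pact a g x] at h1
    · have h2 := hnrm (conj g⁻¹ l) g
      rw [show (toUnit _ ≫ g) * conj g⁻¹ l * (toUnit _ ≫ g)⁻¹ = l from conj_conj_inv g l] at h2
      rw [hq, h2]
  · rintro ⟨l, hl, m, hne, hmu, hq⟩
    haveI := hl
    haveI : IsMonHom (conj g l) := isMonHom_conj g l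
    refine ⟨conj g l, inferInstance, m, ?_, isMu_conj k a B g l x m hmu, ?_⟩
    · intro h
      apply hne
      rw [← conj_inv_conj g l, h, conj_one]
    · rw [hq]
      congr 1
      exact (hnrm l g).symm

end field

end Groth.Agent.Lib.Seat98.HMConj
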