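import Mathlib
import Groth.Prelude
set_option backward.isDefEq.respectTransparency.types false

/-!
# Kernels of homomorphisms of group schemes and the translation square (helper98)

Namespace `Groth.Agent.Lib.Seat98.Isog`.

For a homomorphism `f : X ⟶ Y` of group objects of `Over S` with kernel `i : N ⟶ X`
(`AlgGrp.IsKernel i f`), the square

```
X ⊗ N --(x,n) ↦ x·i(n)--> X
  | fst                    | f
  X ----------f----------> Y
```
is cartesian (`isPullback_transl`), in `Over S` and in `Scheme` (`isPullback_transl_left`), and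
`fst : X ⊗ N ⟶ X` is a base change of `N ⟶ S` (`isPullback_fst_left`).
-/

set_option autoImplicit false
universe u
open CategoryTheory CategoryTheory.Limits MonoidalCategory CartesianMonoidalCategory MonObj GrpObj
  AlgebraicGeometry

namespace Groth.Agent.Lib.Seat98.Isog

variable {S : Scheme.{u}} {X Y N : Over S} [GrpObj X] [GrpObj Y]

set_option linter.unusedSectionVars false
set_option linter.style.haveILetI false

/-- the translation map `(x, n) ↦ x · i(n)` -/
noncomputable def tr (i : N ⟶ X) : X ⊗ N ⟶ X := fst X N * (snd X N ≫ i)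

lemma kernel_comp {f : X ⟶ Y} {i : N ⟶ X} (hN : AlgGrp.IsKernel i f) : i ≫ f = 1 := by
  have := hN.w
  rw [this, Hom.one_def]

/-- the translation square is cartesian -/
theorem isPullback_transl (f : X ⟶ Y) [IsMonHom f] (i : N ⟶ X) (hN : AlgGrp.IsKernel i f) :
    IsPullback (fst X N) (tr i) f f := by
  have hif := kernel_comp hN
  have w : fst X N ≫ f = tr i ≫ f := by
    unfold tr
    rw [MonObj.mul_comp, Category.assoc, hif, MonObj.comp_one, _root_.mul_one]
  refine ⟨⟨w⟩, ⟨PullbackCone.IsLimit.mk _
    (fun s => lift s.fst (hN.lift (s.fst⁻¹ * s.snd) (toUnit _) ?_)) ?_ ?_ ?_⟩⟩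
  · have := s.condition
    rw [MonObj.mul_comp, GrpObj.inv_comp, this, inv_mul_cancel, Hom.one_def]
  · intro s
    simp
  · intro s
    unfold tr
    rw [MonObj.comp_mul]
    simp only [lift_fst, lift_snd_assoc, IsPullback.lift_fst]
    rw [mul_inv_cancel_left]
  · intro s m h1 h2
    apply CartesianMonoidalCategory.hom_ext
    · simpa using h1
    · rw [lift_snd]
      apply hN.hom_ext
      · rw [IsPullback.lift_fst, Category.assoc]
        unfold tr at h2
        rw [MonObj.comp_mul, h1, ← Category.assoc] at h2
        rw [← h2, inv_mul_cancel_left, Category.assoc]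
      · exact toUnit_unique _ _

/-- the translation square, on underlying schemes -/
theorem isPullback_transl_left (f : X ⟶ Y) [IsMonHom f] (i : N ⟶ X) (hN : AlgGrp.IsKernel i f) :
    IsPullback (fst X N).left (tr i).left f.left f.left :=
  (isPullback_transl f i hN).map (Over.forget S)

/-- the product square in `Over S` -/
theorem isPullback_prod (A B : Over S) :
    IsPullback (fst A B) (snd A B) (toUnit A) (toUnit B) :=
  IsPullback.of_is_product' (tensorProductIsBinaryProduct A B) isTerminalTensorUnit

/-- `fst : A ⊗ B ⟶ A` is a base change of `B ⟶ S` -/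
theorem isPullback_prod_left (A B : Over S) :
    IsPullback (fst A B).left (snd A B).left A.hom B.hom := by
  have := (isPullback_prod A B).map (Over.forget S)
  simpa [Over.toUnit_left] using this

/-- the kernel square on underlying schemes -/
theorem isPullback_kernel_left {f : X ⟶ Y} {i : N ⟶ X} (hN : AlgGrp.IsKernel i f) :
    IsPullback i.left N.hom f.left (η[Y] : 𝟙_ (Over S) ⟶ Y).left := by
  have := hN.map (Over.forget S)
  simpa [Over.toUnit_left] using this

/-- a morphism with a surjective section is universally injective -/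
theorem universallyInjective_of_surjective_section {A B : Scheme.{u}} (g : A ⟶ B) (e : B ⟶ A)
    (he : e ≫ g = 𝟙 B) [Surjective e] : UniversallyInjective g := by
  constructor
  intro A' B' i₁ i₂ g' hp
  let e' : B' ⟶ A' := hp.lift (𝟙 B') (i₂ ≫ e) (by rw [Category.id_comp, Category.assoc, he,
    Category.comp_id])
  have h1 : e' ≫ g' = 𝟙 B' := hp.lift_fst _ _ _
  have h2 : e' ≫ i₁ = i₂ ≫ e := hp.lift_snd _ _ _
  have hs : IsPullback (e' ≫ g') i₂ i₂ (e ≫ g) := by
    rw [h1, he]
    exact IsPullback.id_horiz i₂
  have hl : IsPullback e' i₂ i₁ e := IsPullback.of_right hs h2 hp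
  have : Surjective e' := MorphismProperty.of_isPullback (P := @Surjective) hl.flip inferInstance
  intro a b hab
  obtain ⟨a₀, rfl⟩ := e'.surjective a
  obtain ⟨b₀, rfl⟩ := e'.surjective b
  have ha : g' (e' a₀) = a₀ := by
    rw [← Scheme.Hom.comp_apply, h1]; rfl
  have hb : g' (e' b₀) = b₀ := by
    rw [← Scheme.Hom.comp_apply, h1]; rfl
  have hab' : g' (e' a₀) = g' (e' b₀) := hab
  rw [ha, hb] at hab'
  rw [hab']

/-- the unit section of the kernel -/
noncomputable def kerUnit {f : X ⟶ Y} [IsMonHom f] {i : N ⟶ X} (hN : AlgGrp.IsKernel i f) :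
    𝟙_ (Over S) ⟶ N :=
  hN.lift η[X] (𝟙 _) (by rw [IsMonHom.one_hom, Category.id_comp])

lemma kerUnit_left_hom {f : X ⟶ Y} [IsMonHom f] {i : N ⟶ X} (hN : AlgGrp.IsKernel i f) :
    (kerUnit hN).left ≫ N.hom = 𝟙 S := by
  exact Over.w (kerUnit hN)

section Field

variable (k : Type u) [Field k] {X Y N : Over (Spec (CommRingCat.of k))} [GrpObj X] [GrpObj Y]

instance : Subsingleton ↥(Spec (CommRingCat.of k)) :=
  inferInstanceAs (Subsingleton (PrimeSpectrum k))

instance : Nonempty ↥(Spec (CommRingCat.of k)) :=
  inferInstanceAs (Nonempty (PrimeSpectrum k))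

/-- an isogeny-like homomorphism is universally injective iff its kernel is connected -/
theorem univInj_iff_connected (f : X ⟶ Y) [IsMonHom f] [IsFinite f.left] [Flat f.left]
    [Surjective f.left] (i : N ⟶ X) (hN : AlgGrp.IsKernel i f) :
    UniversallyInjective f.left ↔ ConnectedSpace ↥N.left := by
  constructor
  · intro h
    have h1 : UniversallyInjective N.hom :=
      MorphismProperty.of_isPullback (P := @UniversallyInjective) (isPullback_kernel_left hN) h
    have h2 : Function.Injective N.hom := N.hom.injective
    haveI : Subsingleton ↥N.left := h2.subsingleton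
    haveI : Nonempty ↥N.left :=
      ⟨(kerUnit hN).left (Classical.arbitrary ↥(Spec (CommRingCat.of k)))⟩
    exact { toPreconnectedSpace := inferInstance, toNonempty := inferInstance }
  · intro h
    haveI : IsFinite N.hom :=
      MorphismProperty.of_isPullback (P := @IsFinite) (isPullback_kernel_left hN) inferInstance
    have hd : _root_.IsDiscrete (N.hom ⁻¹' {Classical.arbitrary ↥(Spec (CommRingCat.of k))}) :=
      N.hom.isDiscrete_preimage_singleton _
    have hu : (N.hom ⁻¹' {Classical.arbitrary ↥(Spec (CommRingCat.of k))}) = Set.univ := by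
      ext x
      simp only [Set.mem_preimage, Set.mem_singleton_iff, Set.mem_univ, iff_true]
      exact Subsingleton.elim _ _
    rw [hu, isDiscrete_univ_iff] at hd
    haveI := hd
    haveI : Subsingleton ↥N.left := PreconnectedSpace.trivial_of_discrete
    haveI : Surjective (kerUnit hN).left :=
      ⟨fun x => ⟨Classical.arbitrary ↥(Spec (CommRingCat.of k)), Subsingleton.elim _ _⟩⟩
    have h1 : UniversallyInjective N.hom :=
      universallyInjective_of_surjective_section N.hom (kerUnit hN).left (kerUnit_left_hom hN)
    have h2 : UniversallyInjective (fst X N).left :=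
      MorphismProperty.of_isPullback (P := @UniversallyInjective)
        (isPullback_prod_left X N).flip h1
    have hQ : (@Surjective ⊓ @Flat ⊓ @QuasiCompact : MorphismProperty Scheme.{u}) f.left :=
      ⟨⟨inferInstance, inferInstance⟩, inferInstance⟩
    exact MorphismProperty.DescendsAlong.of_isPullback (P := @UniversallyInjective)
      (Q := (@Surjective ⊓ @Flat ⊓ @QuasiCompact : MorphismProperty Scheme.{u}))
      (isPullback_transl_left f i hN) hQ h2

end Field

end Groth.Agent.Lib.Seat98.Isog
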