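import Mathlib
import Groth.Prelude.Def_PicGrp
import Groth.Prelude.Def_ThetaK
import Groth.Agent.Lib.Seat98PicCalc

/-!
# The subgroup scheme `K(L)`: formal properties (seat 98)

For a group scheme `X` over `S`, a module `L` on `X`, a `T`-point `x : T ⟶ X` and a module `M` on `T`:

* `mx X x : X ⊗ T ⟶ X` is `(a, t) ↦ a · x(t)`; it equals `(X ◁ x) ≫ μ` and `transl x ≫ fst`.
* `IsTransl X L x M` : `p₁^*L ⊗ p₂^*M ≅ m_x^*L` (translate form);
* `IsMum X L x M` : `(p₂^*M ⊗ p₁^*L) ⊗ (x p₂)^*L ≅ m_x^*L` (Mumford form, the prelude's `IsMumfordTriv`).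

Over a field: `IsTransl` forces `M ≅ x^*L` (`IsTransl.iso_pullback`, S19767), the two forms are equivalent
up to changing `M` (`IsMum.isTransl`, `IsTransl.isMum_O`), whence S19766, S19768, S19769, S19770.
-/

set_option autoImplicit false
universe u

namespace Groth.Agent.Lib.Seat98.KL

open CategoryTheory CategoryTheory.Limits MonoidalCategory CartesianMonoidalCategory MonObj AlgebraicGeometry
open Groth.Agent.Lib.Seat98.PicCalc

section grp

variable {S : Scheme.{u}} (X : Over S) [GrpObj X] {T : Over S}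

/-- the morphism `(a, t) ↦ a · x(t)` -/
noncomputable def mx (x : T ⟶ X) : X ⊗ T ⟶ X := fst X T * (snd X T ≫ x)

theorem whisker_mu (x : T ⟶ X) : (X ◁ x) ≫ μ[X] = mx X x := by
  unfold mx
  rw [Hom.mul_def]
  congr 1

theorem transl_fst' (x : T ⟶ X) : ThetaGrp.transl X x ≫ fst X T = mx X x := ThetaGrp.transl_fst X x

theorem lift_mx {T' : Over S} (a : T' ⟶ X) (b : T' ⟶ T) (x : T ⟶ X) :
    lift a b ≫ mx X x = a * (b ≫ x) := by
  unfold mx
  rw [MonObj.comp_mul, lift_fst, ← Category.assoc, lift_snd]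

theorem transl_mx (x₁ x₂ : T ⟶ X) : ThetaGrp.transl X x₁ ≫ mx X x₂ = mx X (x₁ * x₂) := by
  unfold ThetaGrp.transl
  rw [lift_mx]
  unfold mx
  rw [_root_.mul_assoc, MonObj.comp_mul]

theorem mx_one : mx X (1 : T ⟶ X) = fst X T := by
  unfold mx
  rw [MonObj.comp_one, _root_.mul_one]

/-- translate form: `p₁^*L ⊗ p₂^*M ≅ m_x^*L` -/
def IsTransl (L : X.left.Modules) (x : T ⟶ X) (M : T.left.Modules) : Prop :=
  Nonempty (CohB1.tensorMod (pb (fst X T).left L) (pb (snd X T).left M) ≅ pb (mx X x).left L)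

/-- Mumford form: `(p₂^*M ⊗ p₁^*L) ⊗ (x p₂)^*L ≅ m_x^*L` -/
def IsMum (L : X.left.Modules) (x : T ⟶ X) (M : T.left.Modules) : Prop :=
  Nonempty (CohB1.tensorMod (CohB1.tensorMod (pb (snd X T).left M) (pb (fst X T).left L))
    (pb (snd X T ≫ x).left L) ≅ pb (mx X x).left L)

theorem isMum_iff (L : X.left.Modules) (x : T ⟶ X) (M : T.left.Modules) :
    AgPol.IsLambdaSheaf ((X ◁ x) ≫ μ[X]).left (fst X T).left (snd X T ≫ x).left L
      ((Scheme.Modules.pullback (snd X T).left).obj M) ↔ IsMum X L x M := by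
  rw [whisker_mu]
  rfl

theorem isMumfordTriv_iff (L : X.left.Modules) (x : T ⟶ X) :
    ThetaGrp.IsMumfordTriv X L x ↔ ∃ M : T.left.Modules, PicF.IsInvertible M ∧ IsMum X L x M := by
  unfold ThetaGrp.IsMumfordTriv
  simp only [isMum_iff]

theorem isTransl_iff (L : X.left.Modules) (x : T ⟶ X) (M : T.left.Modules) :
    Nonempty (CohB1.tensorMod ((Scheme.Modules.pullback (fst X T).left).obj L)
          ((Scheme.Modules.pullback (snd X T).left).obj M) ≅
        (Scheme.Modules.pullback (ThetaGrp.transl X x ≫ fst X T).left).obj L) ↔ IsTransl X L x M := by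
  rw [transl_fst']
  rfl

theorem IsTransl.of_iso {L : X.left.Modules} {x : T ⟶ X} {M M' : T.left.Modules}
    (h : IsTransl X L x M) (e : M ≅ M') : IsTransl X L x M' := by
  obtain ⟨f⟩ := h
  exact ⟨tIso (Iso.refl _) (pbIso _ e.symm) ≪≫ f⟩

/-- Mumford form for `M` gives the translate form for `M ⊗ x^*L`. -/
theorem IsMum.isTransl {L : X.left.Modules} {x : T ⟶ X} {M : T.left.Modules} (h : IsMum X L x M) :
    IsTransl X L x (CohB1.tensorMod M (pb x.left L)) := by
  obtain ⟨e⟩ := h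
  refine ⟨?_ ≪≫ e⟩
  refine tIso (Iso.refl _) (pbT _ _ _) ≪≫ ?_
  refine tIso (Iso.refl _) (tIso (Iso.refl _) (pbComp (snd X T).left x.left L).symm) ≪≫ ?_
  refine (tAssoc _ _ _).symm ≪≫ ?_
  exact tIso (tComm _ _) (Iso.refl _)

/-- pulling back a translate-form isomorphism along a section `(a, 𝟙)`. -/
theorem IsTransl.pull_section {L : X.left.Modules} {x : T ⟶ X} {M : T.left.Modules}
    (h : IsTransl X L x M) (a : T ⟶ X) :
    Nonempty (CohB1.tensorMod (pb a.left L) M ≅ pb (a * x).left L) := by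
  obtain ⟨e⟩ := h
  let s : T ⟶ X ⊗ T := lift a (𝟙 T)
  have hs1 : s ≫ fst X T = a := lift_fst _ _
  have hs2 : s ≫ snd X T = 𝟙 T := lift_snd _ _
  have hs3 : s ≫ mx X x = a * x := by rw [lift_mx, Category.id_comp]
  have e1 : pb s.left (pb (fst X T).left L) ≅ pb a.left L :=
    pbComp' s.left (fst X T).left a.left (congrArg (·.left) hs1) L
  have e2 : pb s.left (pb (snd X T).left M) ≅ M :=
    pbComp' s.left (snd X T).left (𝟙 T.left) (congrArg (·.left) hs2) M ≪≫ pbId M
  have e3 : pb s.left (pb (mx X x).left L) ≅ pb (a * x).left L :=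
    pbComp' s.left (mx X x).left (a * x).left (congrArg (·.left) hs3) L
  exact ⟨tIso e1.symm e2.symm ≪≫ (pbT s.left _ _).symm ≪≫ pbIso s.left e ≪≫ e3⟩

/-- pulling back a translate-form isomorphism along the translation by `x'`. -/
theorem IsTransl.pull_transl {L : X.left.Modules} {x : T ⟶ X} {M : T.left.Modules}
    (h : IsTransl X L x M) (x' : T ⟶ X) :
    Nonempty (CohB1.tensorMod (pb (mx X x').left L) (pb (snd X T).left M) ≅ pb (mx X (x' * x)).left L) := by
  obtain ⟨e⟩ := h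
  let τ : X ⊗ T ⟶ X ⊗ T := ThetaGrp.transl X x'
  have h1 : τ ≫ fst X T = mx X x' := transl_fst' X x'
  have h2 : τ ≫ snd X T = snd X T := ThetaGrp.transl_snd X x'
  have h3 : τ ≫ mx X x = mx X (x' * x) := transl_mx X x' x
  have e1 : pb τ.left (pb (fst X T).left L) ≅ pb (mx X x').left L :=
    pbComp' τ.left (fst X T).left _ (congrArg (·.left) h1) L
  have e2 : pb τ.left (pb (snd X T).left M) ≅ pb (snd X T).left M :=
    pbComp' τ.left (snd X T).left _ (congrArg (·.left) h2) M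
  have e3 : pb τ.left (pb (mx X x).left L) ≅ pb (mx X (x' * x)).left L :=
    pbComp' τ.left (mx X x).left _ (congrArg (·.left) h3) L
  exact ⟨tIso e1.symm e2.symm ≪≫ (pbT τ.left _ _).symm ≪≫ pbIso τ.left e ≪≫ e3⟩

/-- the unit point: `IsTransl X L 1 O`. -/
theorem isTransl_one (L : X.left.Modules) : IsTransl X L (1 : T ⟶ X) (Coh.structureModule T.left) := by
  have h : (fst X T).left = (mx X (1 : T ⟶ X)).left := by rw [mx_one]
  have e1 : CohB1.tensorMod (pb (fst X T).left L) (pb (snd X T).left (Coh.structureModule T.left)) ≅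
      CohB1.tensorMod (pb (fst X T).left L) (Coh.structureModule (X ⊗ T).left) :=
    tIso (Iso.refl _) (pbO (snd X T).left)
  have e2 : CohB1.tensorMod (pb (fst X T).left L) (Coh.structureModule (X ⊗ T).left) ≅
      pb (fst X T).left L := tUnitR _
  have e3 : pb (fst X T).left L ≅ pb (mx X (1 : T ⟶ X)).left L := pbCongr h L
  exact ⟨e1 ≪≫ e2 ≪≫ e3⟩

/-- products: translate forms multiply. -/
theorem IsTransl.mul {L : X.left.Modules} {x₁ x₂ : T ⟶ X} {M₁ M₂ : T.left.Modules}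
    (h₁ : IsTransl X L x₁ M₁) (h₂ : IsTransl X L x₂ M₂) :
    IsTransl X L (x₁ * x₂) (CohB1.tensorMod M₁ M₂) := by
  obtain ⟨e⟩ := h₂.pull_transl X x₁
  obtain ⟨e₁⟩ := h₁
  refine ⟨?_ ≪≫ e⟩
  refine tIso (Iso.refl _) (pbT _ _ _) ≪≫ (tAssoc _ _ _).symm ≪≫ ?_
  exact tIso e₁ (Iso.refl _)

/-- S19768: the Mumford form with trivial `M`, in the form of the prelude. -/
theorem isLambdaSheaf_O_of_isMum {L : X.left.Modules} {x : T ⟶ X}
    (h : IsMum X L x (Coh.structureModule T.left)) :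
    AgPol.IsLambdaSheaf ((X ◁ x) ≫ μ[X]).left (fst X T).left (snd X T ≫ x).left L
      (Coh.structureModule (X ⊗ T).left) := by
  rw [whisker_mu]
  obtain ⟨e⟩ := h
  have e1 : CohB1.tensorMod (CohB1.tensorMod (Coh.structureModule (X ⊗ T).left) (pb (fst X T).left L))
        (pb (snd X T ≫ x).left L) ≅
      CohB1.tensorMod (CohB1.tensorMod (pb (snd X T).left (Coh.structureModule T.left))
        (pb (fst X T).left L)) (pb (snd X T ≫ x).left L) :=
    tIso (tIso (pbO (snd X T).left).symm (Iso.refl (pb (fst X T).left L)))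
      (Iso.refl (pb (snd X T ≫ x).left L))
  exact ⟨e1 ≪≫ e⟩

end grp

section field

variable (k : Type u) [Field k] (X : Over (Spec (CommRingCat.of k))) [GrpObj X]
  {T : Over (Spec (CommRingCat.of k))}

/-- the pullback of an invertible module along the unit point is trivial -/
theorem one_pullback_trivial (L : X.left.Modules) (hL : PicF.IsInvertible L) :
    Nonempty (pb (1 : T ⟶ X).left L ≅ Coh.structureModule T.left) := by
  have h1 : (1 : T ⟶ X) = toUnit T ≫ η[X] := Hom.one_def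
  have hN : PicF.IsInvertible (pb (η[X] : 𝟙_ _ ⟶ X).left L) := inv_pb _ L hL
  obtain ⟨e⟩ := trivial_of_point (pb (η[X] : 𝟙_ _ ⟶ X).left L) hN
    (show (Spec (CommRingCat.of k) : Scheme.{u}) from (default : PrimeSpectrum k))
    (fun y' => Subsingleton.elim (α := PrimeSpectrum k) _ _)
  rw [h1]
  exact ⟨pbComp (toUnit T).left (η[X] : 𝟙_ _ ⟶ X).left L ≪≫ pbIso _ e ≪≫ pbO _⟩

variable {k X}

/-- S19767: the translate form pins `M` as `x^*L`. -/
theorem IsTransl.iso_pullback {L : X.left.Modules} (hL : PicF.IsInvertible L) {x : T ⟶ X}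
    {M : T.left.Modules} (h : IsTransl X L x M) : Nonempty (M ≅ pb x.left L) := by
  obtain ⟨e⟩ := h.pull_section X 1
  obtain ⟨e0⟩ := one_pullback_trivial k X (T := T) L hL
  rw [_root_.one_mul] at e
  exact ⟨(tUnitL M).symm ≪≫ tIso e0.symm (Iso.refl M) ≪≫ e⟩

/-- the translate form gives the Mumford form with trivial `M`. -/
theorem IsTransl.isMum_O {L : X.left.Modules} (hL : PicF.IsInvertible L) {x : T ⟶ X}
    {M : T.left.Modules} (h : IsTransl X L x M) : IsMum X L x (Coh.structureModule T.left) := by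
  obtain ⟨e'⟩ := h.iso_pullback hL
  obtain ⟨e⟩ := h
  exact ⟨tIso (tIso (pbO _) (Iso.refl _) ≪≫ tUnitL _)
    (pbComp (snd X T).left x.left L ≪≫ pbIso _ e'.symm) ≪≫ e⟩

/-- the translate form with `M = x^*L`. -/
theorem IsTransl.self {L : X.left.Modules} (hL : PicF.IsInvertible L) {x : T ⟶ X}
    {M : T.left.Modules} (h : IsTransl X L x M) : IsTransl X L x (pb x.left L) := by
  obtain ⟨e'⟩ := h.iso_pullback hL
  exact h.of_iso X e'

/-- for `x` in `K(L)`: `(x⁻¹)^*L ⊗ x^*L ≅ O`. -/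
theorem IsTransl.inv_tensor_iso {L : X.left.Modules} (hL : PicF.IsInvertible L) {x : T ⟶ X}
    {M : T.left.Modules} (h : IsTransl X L x M) :
    Nonempty (CohB1.tensorMod (pb (x⁻¹).left L) (pb x.left L) ≅ Coh.structureModule T.left) := by
  obtain ⟨e⟩ := (h.self hL).pull_section X x⁻¹
  obtain ⟨e0⟩ := one_pullback_trivial k X (T := T) L hL
  rw [inv_mul_cancel] at e
  exact ⟨e ≪≫ e0⟩

/-- inverses: the translate form for `x⁻¹`. -/
theorem IsTransl.inv {L : X.left.Modules} (hL : PicF.IsInvertible L) {x : T ⟶ X}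
    {M : T.left.Modules} (h : IsTransl X L x M) : IsTransl X L x⁻¹ (pb (x⁻¹).left L) := by
  obtain ⟨e⟩ := (h.self hL).pull_transl X x⁻¹
  obtain ⟨e0⟩ := h.inv_tensor_iso hL
  rw [inv_mul_cancel] at e
  have hm : (mx X (1 : T ⟶ X)).left = (fst X T).left := by rw [mx_one]
  have e' : CohB1.tensorMod (pb (mx X x⁻¹).left L) (pb (snd X T).left (pb x.left L)) ≅
      pb (fst X T).left L := e ≪≫ pbCongr hm L
  -- `p₂^*(x^*L) ⊗ p₂^*((x⁻¹)^*L) ≅ O`
  have e1 : CohB1.tensorMod (pb (snd X T).left (pb x.left L)) (pb (snd X T).left (pb (x⁻¹).left L)) ≅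
      pb (snd X T).left (CohB1.tensorMod (pb x.left L) (pb (x⁻¹).left L)) :=
    (pbT (snd X T).left (pb x.left L) (pb (x⁻¹).left L)).symm
  have e2 : CohB1.tensorMod (pb x.left L) (pb (x⁻¹).left L) ≅ Coh.structureModule T.left :=
    tComm (pb x.left L) (pb (x⁻¹).left L) ≪≫ e0
  have e3 : pb (snd X T).left (CohB1.tensorMod (pb x.left L) (pb (x⁻¹).left L)) ≅
      Coh.structureModule (X ⊗ T).left := pbIso (snd X T).left e2 ≪≫ pbO (snd X T).left
  have e4 : CohB1.tensorMod (pb (fst X T).left L) (pb (snd X T).left (pb (x⁻¹).left L)) ≅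
      CohB1.tensorMod (CohB1.tensorMod (pb (mx X x⁻¹).left L) (pb (snd X T).left (pb x.left L)))
        (pb (snd X T).left (pb (x⁻¹).left L)) :=
    tIso e'.symm (Iso.refl (pb (snd X T).left (pb (x⁻¹).left L)))
  have e5 : CohB1.tensorMod (CohB1.tensorMod (pb (mx X x⁻¹).left L) (pb (snd X T).left (pb x.left L)))
        (pb (snd X T).left (pb (x⁻¹).left L)) ≅
      CohB1.tensorMod (pb (mx X x⁻¹).left L)
        (CohB1.tensorMod (pb (snd X T).left (pb x.left L)) (pb (snd X T).left (pb (x⁻¹).left L))) :=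
    tAssoc _ _ _
  have e6 : CohB1.tensorMod (pb (mx X x⁻¹).left L)
        (CohB1.tensorMod (pb (snd X T).left (pb x.left L)) (pb (snd X T).left (pb (x⁻¹).left L))) ≅
      CohB1.tensorMod (pb (mx X x⁻¹).left L) (Coh.structureModule (X ⊗ T).left) :=
    tIso (Iso.refl (pb (mx X x⁻¹).left L)) (e1 ≪≫ e3)
  have e7 : CohB1.tensorMod (pb (mx X x⁻¹).left L) (Coh.structureModule (X ⊗ T).left) ≅
      pb (mx X x⁻¹).left L := tUnitR _
  exact ⟨e4 ≪≫ e5 ≪≫ e6 ≪≫ e7⟩

/-- S19766 in internal form -/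
theorem mumfordTriv_iff_transl {L : X.left.Modules} (hL : PicF.IsInvertible L) (x : T ⟶ X) :
    ThetaGrp.IsMumfordTriv X L x ↔ ∃ M : T.left.Modules, PicF.IsInvertible M ∧ IsTransl X L x M := by
  rw [isMumfordTriv_iff]
  constructor
  · rintro ⟨M, hM, h⟩
    exact ⟨_, inv_tensor hM (inv_pb _ L hL), h.isTransl⟩
  · rintro ⟨M, _, h⟩
    exact ⟨_, inv_O _, h.isMum_O hL⟩

/-- S19770: for a homomorphism `j : B ⟶ X` in `K(L)`: `j^*L ⊗ [-1]^*j^*L ≅ O`. -/
theorem tensor_neg_iso_of_isTransl {B : Over (Spec (CommRingCat.of k))} [GrpObj B]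
    {L : X.left.Modules} (hL : PicF.IsInvertible L) (j : B ⟶ X) [IsMonHom j]
    {M : B.left.Modules} (h : IsTransl X L j M) :
    Nonempty (CohB1.tensorMod (pb j.left L) (pb ((𝟙 B)⁻¹ ≫ j).left L) ≅ Coh.structureModule B.left) := by
  have hj : (𝟙 B)⁻¹ ≫ j = j⁻¹ := by rw [GrpObj.inv_comp, Category.id_comp]
  obtain ⟨e⟩ := h.inv_tensor_iso hL
  rw [hj]
  exact ⟨tComm (pb j.left L) (pb (j⁻¹).left L) ≪≫ e⟩

end field

end Groth.Agent.Lib.Seat98.KL
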