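import Mathlib
import Groth.Prelude
import Groth.Agent.Lib.Seat54HHFinite2
import Groth.Agent.Lib.Seat21DevGraph
import Groth.Agent.Lib.Seat35EulerIso

/-!
# Dimension bounds from the long exact cohomology sequence (seat 98)

For `X` over a field `k` and a class of modules with finite-dimensional cohomology: the three elementary inequalities
of the long exact sequence (`finrank_left_le`, `finrank_mid_le`), and the bound
`|h^i(C_0) - h^i(C_1)| ≤ Σ ...` for a left-exact resolution `0 → C_0 → C_1 → C_2 → ⋯` (`abs_sub_le`), under the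
hypothesis `hfin` that all coherent modules have finite-dimensional cohomology.
-/

set_option autoImplicit false
set_option backward.isDefEq.respectTransparency.types false
universe u
set_option linter.style.haveILetI false
open CategoryTheory CategoryTheory.Limits AlgebraicGeometry Abelian Opposite

namespace Groth.Agent.Lib.Seat98.LESBound

open Groth.Agent.Lib.Seat54.HHFinite

section LinAlg

variable {k : Type*} [Field k] {U V W : Type*} [AddCommGroup U] [AddCommGroup V] [AddCommGroup W]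
  [Module k U] [Module k V] [Module k W]

theorem finrank_le_of_exact [Module.Finite k U] [Module.Finite k V] [Module.Finite k W]
    (f : U →ₗ[k] V) (g : V →ₗ[k] W) (h : LinearMap.range f = LinearMap.ker g) :
    Module.finrank k V ≤ Module.finrank k U + Module.finrank k W := by
  have h1 := LinearMap.finrank_range_add_finrank_ker g
  have h2 : Module.finrank k (LinearMap.ker g) ≤ Module.finrank k U := by
    rw [← h]; exact LinearMap.finrank_range_le f
  have h3 : Module.finrank k (LinearMap.range g) ≤ Module.finrank k W := Submodule.finrank_le _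
  omega

end LinAlg

theorem Icc_one_eq_map (n : ℕ) :
    Finset.Icc 1 n = (Finset.range n).map ⟨(· + 1), add_left_injective 1⟩ := by
  ext x
  simp only [Finset.mem_Icc, Finset.mem_map, Finset.mem_range, Function.Embedding.coeFn_mk]
  constructor
  · rintro ⟨h1, h2⟩
    exact ⟨x - 1, by omega, by omega⟩
  · rintro ⟨t, ht, rfl⟩
    omega

theorem sum_Icc_eq₁ (h : ℕ → ℕ → ℕ) (i : ℕ) :
    (Finset.Icc 1 (i + 1)).sum (fun j => ((h (j + 1) (i + 1 - j) : ℕ) : ℤ)) =
      ((∑ t ∈ Finset.range (i + 1), h (2 + t) (i - t) : ℕ) : ℤ) := by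
  rw [Icc_one_eq_map, Finset.sum_map, Nat.cast_sum]
  refine Finset.sum_congr rfl fun t _ => ?_
  simp only [Function.Embedding.coeFn_mk]
  rw [Nat.add_sub_add_right, show t + 1 + 1 = 2 + t by ring]

theorem sum_Icc_eq₂ (h : ℕ → ℕ → ℕ) (i : ℕ) :
    (Finset.Icc 1 i).sum (fun j => ((h (j + 1) (i - j) : ℕ) : ℤ)) =
      ((∑ t ∈ Finset.range i, h (2 + t) (i - 1 - t) : ℕ) : ℤ) := by
  rw [Icc_one_eq_map, Finset.sum_map, Nat.cast_sum]
  refine Finset.sum_congr rfl fun t _ => ?_
  simp only [Function.Embedding.coeFn_mk]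
  rw [show i - (t + 1) = i - 1 - t by omega, show t + 1 + 1 = 2 + t by ring]

variable (k : Type u) [Field k] {X : Scheme.{u}} [X.Over (Spec (CommRingCat.of k))]

/-- `h^{m+1}(X₁) ≤ h^{m+1}(X₂) + h^m(X₃)` -/
theorem finrank_left_le (S : ShortComplex X.Modules) (hS : S.ShortExact) (m : ℕ)
    [Module.Finite k (Coh.HH X S.X₃ m)] [Module.Finite k (Coh.HH X S.X₁ (m + 1))]
    [Module.Finite k (Coh.HH X S.X₂ (m + 1))] :
    Module.finrank k (Coh.HH X S.X₁ (m + 1)) ≤
      Module.finrank k (Coh.HH X S.X₂ (m + 1)) + Module.finrank k (Coh.HH X S.X₃ m) := by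
  have := finrank_le_of_exact (δlin k S hS m) (Canon.HHlin k S.f (m + 1)) (range_eq_ker_left k S hS m)
  omega

/-- `h^0(X₁) ≤ h^0(X₂)` -/
theorem finrank_left_zero_le (S : ShortComplex X.Modules) (hS : S.ShortExact)
    [Module.Finite k (Coh.HH X S.X₂ 0)] :
    Module.finrank k (Coh.HH X S.X₁ 0) ≤ Module.finrank k (Coh.HH X S.X₂ 0) := by
  haveI := hS.mono_f
  exact LinearMap.finrank_le_finrank_of_injective
    (LinearMap.ker_eq_bot.1 (ker_zero_eq_bot k S.f))

/-- `h^m(X₂) ≤ h^m(X₁) + h^m(X₃)` -/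
theorem finrank_mid_le (S : ShortComplex X.Modules) (hS : S.ShortExact) (m : ℕ)
    [Module.Finite k (Coh.HH X S.X₁ m)] [Module.Finite k (Coh.HH X S.X₂ m)]
    [Module.Finite k (Coh.HH X S.X₃ m)] :
    Module.finrank k (Coh.HH X S.X₂ m) ≤
      Module.finrank k (Coh.HH X S.X₁ m) + Module.finrank k (Coh.HH X S.X₃ m) :=
  finrank_le_of_exact (Canon.HHlin k S.f m) (Canon.HHlin k S.g m) (range_eq_ker_mid k S hS m)

section Main

variable {k}
variable (C : ℕ → X.Modules) (d : ∀ j, C j ⟶ C (j + 1)) (hd : ∀ j, d j ≫ d (j + 1) = 0)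

/-- the cycles `Z_j = ker (C_j → C_{j+1})` -/
noncomputable abbrev Z (j : ℕ) : X.Modules := kernel (d j)

/-- the map `C_j → Z_{j+1}` -/
noncomputable def toZ (j : ℕ) : C j ⟶ Z C d (j + 1) := kernel.lift (d (j + 1)) (d j) (hd j)

@[reassoc (attr := simp)]
theorem toZ_ι (j : ℕ) : toZ C d hd j ≫ kernel.ι (d (j + 1)) = d j := kernel.lift_ι _ _ _

/-- the short complex `0 → Z_j → C_j → Z_{j+1} → 0` -/
noncomputable def sc (j : ℕ) : ShortComplex X.Modules :=
  ShortComplex.mk (kernel.ι (d j)) (toZ C d hd j) (by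
    apply (cancel_mono (kernel.ι (d (j + 1)))).1
    rw [Category.assoc, toZ_ι, kernel.condition, zero_comp])

theorem sc_shortExact (hex : ∀ j, (ShortComplex.mk (d j) (d (j + 1)) (hd j)).Exact) (j : ℕ) :
    (sc C d hd j).ShortExact := by
  haveI : Mono (sc C d hd j).f := inferInstanceAs (Mono (kernel.ι (d j)))
  haveI : Epi (sc C d hd j).g := (ShortComplex.exact_iff_epi_kernel_lift _).1 (hex j)
  refine ShortComplex.ShortExact.mk (ShortComplex.exact_of_f_is_kernel _ ?_)
  exact isKernelOfComp (kernel.ι (d (j + 1))) (d j) (kernelIsKernel (d j)) (sc C d hd j).zero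
    (toZ_ι C d hd j)

variable (k)

theorem finrank_Z_le [IsNoetherian X] (hC : ∀ j, Coh.IsCoh (C j))
    (hex : ∀ j, (ShortComplex.mk (d j) (d (j + 1)) (hd j)).Exact)
    (hfin : ∀ (M : X.Modules), Coh.IsCoh M → ∀ n, Module.Finite k (Coh.HH X M n)) (m : ℕ) :
    ∀ j, Module.finrank k (Coh.HH X (Z C d j) m) ≤
      ∑ t ∈ Finset.range (m + 1), Module.finrank k (Coh.HH X (C (j + t)) (m - t)) := by
  have hZ : ∀ j, Coh.IsCoh (Z C d j) := fun j =>
    Groth.Agent.Lib.Seat21.Dev.isCoh_kernel (hC j) (hC (j + 1)) (d j)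
  induction m with
  | zero =>
    intro j
    haveI : Module.Finite k (Coh.HH X (sc C d hd j).X₂ 0) := hfin _ (hC j) 0
    simp only [zero_add, Finset.range_one, Finset.sum_singleton, Nat.add_zero, Nat.sub_zero]
    exact finrank_left_zero_le k (sc C d hd j) (sc_shortExact C d hd hex j)
  | succ m ih =>
    intro j
    haveI : Module.Finite k (Coh.HH X (sc C d hd j).X₃ m) := hfin _ (hZ (j + 1)) m
    haveI : Module.Finite k (Coh.HH X (sc C d hd j).X₁ (m + 1)) := hfin _ (hZ j) (m + 1)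
    haveI : Module.Finite k (Coh.HH X (sc C d hd j).X₂ (m + 1)) := hfin _ (hC j) (m + 1)
    have h1 := finrank_left_le k (sc C d hd j) (sc_shortExact C d hd hex j) m
    have h2 := ih (j + 1)
    rw [Finset.sum_range_succ']
    have h3 : ∑ t ∈ Finset.range (m + 1), Module.finrank k (Coh.HH X (C (j + (t + 1))) (m + 1 - (t + 1))) =
        ∑ t ∈ Finset.range (m + 1), Module.finrank k (Coh.HH X (C (j + 1 + t)) (m - t)) := by
      refine Finset.sum_congr rfl fun t _ => ?_
      rw [Nat.add_sub_add_right, show j + (t + 1) = j + 1 + t by ring]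
    rw [h3]
    change Module.finrank k (Coh.HH X (Z C d j) (m + 1)) ≤
      Module.finrank k (Coh.HH X (C j) (m + 1)) + Module.finrank k (Coh.HH X (Z C d (j + 1)) m) at h1
    simp only [Nat.add_zero, Nat.sub_zero]
    omega

theorem abs_sub_le [IsNoetherian X] (hC : ∀ j, Coh.IsCoh (C j)) [Mono (d 0)]
    (hex : ∀ j, (ShortComplex.mk (d j) (d (j + 1)) (hd j)).Exact)
    (hfin : ∀ (M : X.Modules), Coh.IsCoh M → ∀ n, Module.Finite k (Coh.HH X M n)) (i : ℕ) :
    |(Module.finrank k (Coh.HH X (C 0) i) : ℤ) - (Module.finrank k (Coh.HH X (C 1) i) : ℤ)| ≤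
      (Finset.Icc 1 (i + 1)).sum (fun j => ((Module.finrank k (Coh.HH X (C (j + 1)) (i + 1 - j))) : ℤ)) +
        (Finset.Icc 1 i).sum (fun j => ((Module.finrank k (Coh.HH X (C (j + 1)) (i - j))) : ℤ)) := by
  have hZ : ∀ j, Coh.IsCoh (Z C d j) := fun j =>
    Groth.Agent.Lib.Seat21.Dev.isCoh_kernel (hC j) (hC (j + 1)) (d j)
  -- `C 0 ≅ Z 1`
  haveI : Mono (toZ C d hd 0) := mono_of_mono_fac (toZ_ι C d hd 0)
  haveI : Epi (toZ C d hd 0) := (sc_shortExact C d hd hex 0).epi_g
  haveI : IsIso (toZ C d hd 0) := isIso_of_mono_of_epi _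
  have e0 : Module.finrank k (Coh.HH X (C 0) i) = Module.finrank k (Coh.HH X (Z C d 1) i) :=
    Groth.Agent.Lib.Seat35.EulerIso.finrank_HH_eq k X (asIso (toZ C d hd 0)) i
  -- the short exact sequence `0 → Z 1 → C 1 → Z 2 → 0`
  have hSE := sc_shortExact C d hd hex 1
  haveI : Module.Finite k (Coh.HH X (sc C d hd 1).X₁ i) := hfin _ (hZ 1) i
  haveI : Module.Finite k (Coh.HH X (sc C d hd 1).X₂ i) := hfin _ (hC 1) i
  haveI : Module.Finite k (Coh.HH X (sc C d hd 1).X₃ i) := hfin _ (hZ 2) i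
  have hb := finrank_mid_le k (sc C d hd 1) hSE i
  change Module.finrank k (Coh.HH X (C 1) i) ≤
    Module.finrank k (Coh.HH X (Z C d 1) i) + Module.finrank k (Coh.HH X (Z C d 2) i) at hb
  have hZ2 := finrank_Z_le k C d hd hC hex hfin i 2
  rw [e0, abs_le]
  cases i with
  | zero =>
    have ha := finrank_left_zero_le k (sc C d hd 1) hSE
    change Module.finrank k (Coh.HH X (Z C d 1) 0) ≤ Module.finrank k (Coh.HH X (C 1) 0) at ha
    have hs1 := sum_Icc_eq₁ (fun a b => Module.finrank k (Coh.HH X (C a) b)) 0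
    have hs2 : (Finset.Icc 1 0).sum (fun j => ((Module.finrank k (Coh.HH X (C (j + 1)) (0 - j))) : ℤ)) = 0 := by
      rw [Finset.Icc_eq_empty (by omega), Finset.sum_empty]
    rw [hs1, hs2]
    generalize (∑ t ∈ Finset.range (0 + 1), Module.finrank k (Coh.HH X (C (2 + t)) (0 - t))) = S1 at hZ2 ⊢
    constructor <;> omega
  | succ i =>
    haveI : Module.Finite k (Coh.HH X (sc C d hd 1).X₃ i) := hfin _ (hZ 2) i
    have ha := finrank_left_le k (sc C d hd 1) hSE i
    change Module.finrank k (Coh.HH X (Z C d 1) (i + 1)) ≤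
      Module.finrank k (Coh.HH X (C 1) (i + 1)) + Module.finrank k (Coh.HH X (Z C d 2) i) at ha
    have hZ2' := finrank_Z_le k C d hd hC hex hfin i 2
    have hs1 := sum_Icc_eq₁ (fun a b => Module.finrank k (Coh.HH X (C a) b)) (i + 1)
    have hs2 := sum_Icc_eq₁ (fun a b => Module.finrank k (Coh.HH X (C a) b)) i
    rw [hs1, hs2]
    generalize (∑ t ∈ Finset.range (i + 1 + 1), Module.finrank k (Coh.HH X (C (2 + t)) (i + 1 - t))) = S1
      at hZ2 ⊢
    generalize (∑ t ∈ Finset.range (i + 1), Module.finrank k (Coh.HH X (C (2 + t)) (i - t))) = S2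
      at hZ2' ⊢
    constructor <;> omega

end Main

end Groth.Agent.Lib.Seat98.LESBound
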