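import Mathlib
import Groth.Prelude
set_option backward.isDefEq.respectTransparency.types false

/-!
# Descent of morphisms along locally surjective maps (helper98)

Namespace `Groth.Agent.Lib.Seat98.ShDesc`.

* `exact_locally_lifts` : in an exact sequence of abelian sheaves (on a site `C : Type (u+1)`,
  `Category.{u} C`), a section of the middle term killed by the second map lifts locally;
* `LocSurj J p` : the morphism `p : A ⟶ B` of `C` is locally surjective on points for `J`;
* `LocSurj.hom_ext`, `LocSurj.exists_desc` : for a subcanonical `J`, a locally surjective `p` is an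
  (effective) epimorphism: maps out of `A` which are constant on the fibres of `p` descend uniquely;
* `LocSurj.tensorHom`, `LocSurj.whiskerLeft`, `LocSurj.whiskerRight` : products;
* `locSurj_of_epi_ptsMap` : an epimorphism of sheaves of points gives `LocSurj`;
* `exists_cover_lift_of_exact` : local lifting through the kernel for an exact `CGrpSh.seq`.
-/

set_option autoImplicit false
universe u
open CategoryTheory CategoryTheory.Limits MonoidalCategory CartesianMonoidalCategory MonObj
  AlgebraicGeometry Opposite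

namespace Groth.Agent.Lib.Seat98.ShDesc

set_option linter.style.haveILetI false
set_option linter.unusedSectionVars false

section A
variable {C : Type (u+1)} [Category.{u} C] (J : GrothendieckTopology C)

/-- In an exact sequence of abelian sheaves, a section of the middle term killed by the second map
lifts locally to the first term. -/
theorem exact_locally_lifts (S : ShortComplex (Sheaf J AddCommGrpCat.{u+1})) (hS : S.Exact)
    (T : C) (y : S.X₂.obj.obj (op T)) (hy : S.g.hom.app (op T) y = 0) :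
    ∃ R : Sieve T, R ∈ J T ∧ ∀ ⦃T' : C⦄ (h : T' ⟶ T), R h →
      ∃ x : S.X₁.obj.obj (op T'), S.f.hom.app (op T') x = S.X₂.obj.map h.op y := by
  let Φ : Sheaf J AddCommGrpCat.{u+1} ⥤ AddCommGrpCat.{u+1} :=
    sheafToPresheaf J _ ⋙ (evaluation Cᵒᵖ _).obj (op T)
  let S' : ShortComplex (Sheaf J AddCommGrpCat.{u+1}) := ShortComplex.mk S.iCycles S.g S.iCycles_g
  have hS' : S'.Exact := ShortComplex.exact_of_f_is_kernel _ S.cyclesIsKernel
  haveI : Mono S'.f := by dsimp [S']; infer_instance
  haveI : Φ.PreservesZeroMorphisms := by dsimp [Φ]; infer_instance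
  haveI : PreservesLimit (parallelPair S'.g 0) Φ := by dsimp [Φ]; infer_instance
  have hΦ : (S'.map Φ).Exact := hS'.map_of_mono_of_preservesKernel Φ inferInstance inferInstance
  rw [ShortComplex.ab_exact_iff] at hΦ
  obtain ⟨z, hz⟩ := hΦ y hy
  haveI : Epi S.toCycles := S.exact_iff_epi_toCycles.1 hS
  have hLS : Sheaf.IsLocallySurjective S.toCycles :=
    (Sheaf.isLocallySurjective_iff_epi' _ _).2 inferInstance
  refine ⟨Presheaf.imageSieve S.toCycles.hom z, Presheaf.imageSieve_mem J _ _, ?_⟩
  intro T' h ⟨x, hx⟩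
  refine ⟨x, ?_⟩
  have hz' : S.iCycles.hom.app (op T) z = y := hz
  have h1 : S.f.hom.app (op T') x = S.iCycles.hom.app (op T') (S.toCycles.hom.app (op T') x) := by
    rw [← S.toCycles_i]
    rfl
  rw [h1, hx, ← hz']
  exact ConcreteCategory.congr_hom (S.iCycles.hom.naturality h.op) z

end A

section B
variable {C : Type*} [Category C] (J : GrothendieckTopology C)

/-- the sieve of those `g : T' ⟶ T` along which the point `b : T ⟶ B` lifts through `p : A ⟶ B` -/
def liftSieve {A B T : C} (p : A ⟶ B) (b : T ⟶ B) : Sieve T where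
  arrows T' g := ∃ a : T' ⟶ A, a ≫ p = g ≫ b
  downward_closed := by
    rintro T' T'' g ⟨a, ha⟩ h
    exact ⟨h ≫ a, by rw [Category.assoc, ha, Category.assoc]⟩

lemma liftSieve_apply {A B T T' : C} (p : A ⟶ B) (b : T ⟶ B) (g : T' ⟶ T) :
    liftSieve p b g ↔ ∃ a : T' ⟶ A, a ≫ p = g ≫ b := Iff.rfl

/-- `p : A ⟶ B` is locally surjective on points for the topology `J` -/
def LocSurj {A B : C} (p : A ⟶ B) : Prop :=
  ∀ ⦃T : C⦄ (b : T ⟶ B), liftSieve p b ∈ J T

variable {J}

/-- two morphisms which agree on a covering sieve are equal (subcanonical topology) -/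
lemma eq_of_locally [J.Subcanonical] {T N : C} (a b : T ⟶ N) (R : Sieve T) (hR : R ∈ J T)
    (h : ∀ ⦃T' : C⦄ (g : T' ⟶ T), R g → g ≫ a = g ≫ b) : a = b := by
  have hsep := (GrothendieckTopology.Subcanonical.isSheaf_of_isRepresentable
    (J := J) (yoneda.obj N)).isSeparated
  exact (hsep _ hR).ext (fun T' g hg => h g hg)

lemma finset_inf_mem {X : C} {α : Type*} (s : Finset α) (R : α → Sieve X)
    (h : ∀ l ∈ s, R l ∈ J X) : s.inf R ∈ J X := by
  classical
  induction s using Finset.induction_on with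
  | empty =>
    rw [Finset.inf_empty]
    exact J.top_mem X
  | insert a s ha ih =>
    rw [Finset.inf_insert]
    exact J.intersection_covering (h a (Finset.mem_insert_self a s))
      (ih fun l hl => h l (Finset.mem_insert_of_mem hl))

lemma finset_inf_apply {X Y : C} {α : Type*} (s : Finset α) (R : α → Sieve X) (g : Y ⟶ X) :
    (s.inf R) g ↔ ∀ l ∈ s, R l g := by
  classical
  induction s using Finset.induction_on with
  | empty =>
    rw [Finset.inf_empty]
    simp
  | insert a s ha ih =>
    rw [Finset.inf_insert, Sieve.inter_apply, ih]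
    simp

namespace LocSurj

lemma id (A : C) : LocSurj J (𝟙 A) := by
  intro T b
  convert J.top_mem T
  ext T' g
  simp only [liftSieve_apply, Sieve.top_apply, iff_true]
  exact ⟨g ≫ b, by rw [Category.comp_id]⟩

/-- a locally surjective morphism is an epimorphism (subcanonical topology) -/
lemma hom_ext [J.Subcanonical] {A B N : C} {p : A ⟶ B} (hp : LocSurj J p) (a b : B ⟶ N)
    (h : p ≫ a = p ≫ b) : a = b := by
  refine eq_of_locally a b _ (hp (𝟙 B)) ?_
  rintro T' g ⟨c, hc⟩
  rw [Category.comp_id] at hc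
  rw [← hc, Category.assoc, Category.assoc, h]

/-- descent of morphisms along a locally surjective morphism -/
theorem exists_desc [J.Subcanonical] {A B N : C} {p : A ⟶ B} (hp : LocSurj J p) (ψ : A ⟶ N)
    (h : ∀ ⦃T : C⦄ (a a' : T ⟶ A), a ≫ p = a' ≫ p → a ≫ ψ = a' ≫ ψ) :
    ∃ ψ' : B ⟶ N, p ≫ ψ' = ψ := by
  classical
  have hsh := GrothendieckTopology.Subcanonical.isSheaf_of_isRepresentable
    (J := J) (yoneda.obj N)
  let R : Sieve B := liftSieve p (𝟙 B)
  have hR : R ∈ J B := hp (𝟙 B)
  have hlift : ∀ ⦃T : C⦄ (g : T ⟶ B), R g → ∃ a : T ⟶ A, a ≫ p = g := by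
    rintro T g ⟨a, ha⟩
    exact ⟨a, by rw [ha, Category.comp_id]⟩
  let x : Presieve.FamilyOfElements (yoneda.obj N) R.arrows :=
    fun T g hg => (hlift g hg).choose ≫ ψ
  have hx : x.Compatible := by
    intro T₁ T₂ Z g₁ g₂ f₁ f₂ h₁ h₂ hcomm
    change g₁ ≫ ((hlift f₁ h₁).choose ≫ ψ) = g₂ ≫ ((hlift f₂ h₂).choose ≫ ψ)
    rw [← Category.assoc, ← Category.assoc]
    apply h
    rw [Category.assoc, Category.assoc, (hlift f₁ h₁).choose_spec, (hlift f₂ h₂).choose_spec, hcomm]
  obtain ⟨ψ', hψ', -⟩ := hsh R hR x hx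
  refine ⟨ψ', ?_⟩
  have hpR : R p := ⟨𝟙 A, by rw [Category.id_comp, Category.comp_id]⟩
  have := hψ' p hpR
  change p ≫ ψ' = (hlift p hpR).choose ≫ ψ at this
  rw [this]
  have h2 := h (hlift p hpR).choose (𝟙 A) (by rw [(hlift p hpR).choose_spec, Category.id_comp])
  rw [h2, Category.id_comp]

end LocSurj

end B

section Prod
variable {C : Type*} [Category C] [CartesianMonoidalCategory C] {J : GrothendieckTopology C}

namespace LocSurj

lemma tensorHom {A B A' B' : C} {f : A ⟶ B} {g : A' ⟶ B'} (hf : LocSurj J f) (hg : LocSurj J g) :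
    LocSurj J (f ⊗ₘ g) := by
  intro T b
  refine J.superset_covering ?_ (J.intersection_covering (hf (b ≫ fst _ _)) (hg (b ≫ snd _ _)))
  rintro T' k ⟨⟨a, ha⟩, ⟨a', ha'⟩⟩
  refine ⟨lift a a', ?_⟩
  apply CartesianMonoidalCategory.hom_ext
  · rw [Category.assoc, tensorHom_fst, lift_fst_assoc, ha, Category.assoc]
  · rw [Category.assoc, tensorHom_snd, lift_snd_assoc, ha', Category.assoc]

lemma whiskerLeft (P : C) {A B : C} {f : A ⟶ B} (hf : LocSurj J f) : LocSurj J (P ◁ f) := by
  rw [← id_tensorHom]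
  exact tensorHom (LocSurj.id P) hf

lemma whiskerRight {A B : C} {f : A ⟶ B} (hf : LocSurj J f) (Q : C) : LocSurj J (f ▷ Q) := by
  rw [← tensorHom_id]
  exact tensorHom hf (LocSurj.id Q)

end LocSurj

end Prod

section Pts
variable {S : Scheme.{u}} (K : Precoverage Scheme.{u}) [(QuotSh.J K S).Subcanonical]
  {F G H : Over S} [GrpObj F] [IsCommMonObj F] [GrpObj G] [IsCommMonObj G]
  [GrpObj H] [IsCommMonObj H]

/-- an epimorphism of sheaves of points is locally surjective on points -/
theorem locSurj_of_epi_ptsMap (π : G ⟶ H) [IsMonHom π] (hπ : Epi (CGrpSh.ptsMap K π)) :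
    LocSurj (QuotSh.J K S) π := by
  have hLS : Sheaf.IsLocallySurjective (CGrpSh.ptsMap K π) :=
    (Sheaf.isLocallySurjective_iff_epi' _ _).2 hπ
  intro T b
  have hcov : Presheaf.imageSieve (CGrpSh.ptsMap K π).hom
      (U := T) (ULift.up (Additive.ofMul b) : (CGrpSh.pts K H).obj.obj (op T)) ∈
        QuotSh.J K S T :=
    Presheaf.imageSieve_mem (QuotSh.J K S) _ _
  refine (QuotSh.J K S).superset_covering ?_ hcov
  rintro T' g ⟨x, hx⟩
  refine ⟨x.down.toMul, ?_⟩
  have := congrArg (fun z => z.down.toMul) hx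
  exact this

/-- local lifting through the first map of an exact sequence of sheaves of points -/
theorem exists_cover_lift_of_exact (j : F ⟶ G) (π : G ⟶ H) [IsMonHom j] [IsMonHom π]
    (w : j ≫ π = 1) (hex : (CGrpSh.seq K j π w).Exact) {T : Over S} (y : T ⟶ G)
    (hy : y ≫ π = 1) :
    ∃ R : Sieve T, R ∈ QuotSh.J K S T ∧ ∀ ⦃T' : Over S⦄ (g : T' ⟶ T), R g →
      ∃ t : T' ⟶ F, t ≫ j = g ≫ y := by
  obtain ⟨R, hR, h⟩ := exact_locally_lifts (QuotSh.J K S) (CGrpSh.seq K j π w) hex T
    (ULift.up (Additive.ofMul y)) (by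
      apply ULift.ext
      change Additive.ofMul (y ≫ π) = 0
      rw [hy]
      rfl)
  refine ⟨R, hR, ?_⟩
  intro T' g hg
  obtain ⟨x, hx⟩ := h g hg
  refine ⟨x.down.toMul, ?_⟩
  have := congrArg (fun z => z.down.toMul) hx
  exact this

end Pts

end Groth.Agent.Lib.Seat98.ShDesc
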