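import Mathlib
import Groth.Prelude
import Groth.Agent.Lib.Seat98ShDesc
set_option backward.isDefEq.respectTransparency.types false

/-!
# Powers of objects, tuples and multilinear maps (helper98)

Namespace `Groth.Agent.Lib.Seat98.MultSchLib`.  General facts on `MultSch.pow`, `MultSch.tuple`:
`comp_tuple`, `powMap`, `tuple_powMap`, `proj`, `tuple_proj`, `eq_tuple`, `tuple_injective`,
`locSurj_powMap`, and for a multilinear alternating map the antisymmetry `swap_eq_inv`.
-/

set_option autoImplicit false
set_option linter.unusedSectionVars false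
universe u v
open CategoryTheory CategoryTheory.Limits MonoidalCategory CartesianMonoidalCategory MonObj
open MultSch

namespace Groth.Agent.Lib.Seat98.MultSchLib

open Groth.Agent.Lib.Seat98.ShDesc

variable {C : Type u} [Category.{v} C] [CartesianMonoidalCategory C]

lemma comp_tuple {M T T' : C} (g : T' ⟶ T) :
    ∀ {n : ℕ} (x : Fin n → (T ⟶ M)), g ≫ tuple x = tuple (fun l => g ≫ x l)
  | 0, _ => toUnit_unique _ _
  | n + 1, x => by
    change g ≫ lift (x 0) (tuple fun i => x i.succ) =
      lift (g ≫ x 0) (tuple fun i => g ≫ x i.succ)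
    rw [comp_lift, comp_tuple g]

/-- the map induced on powers -/
def powMap {M M' : C} (f : M ⟶ M') : ∀ n : ℕ, pow M n ⟶ pow M' n
  | 0 => 𝟙 _
  | n + 1 => f ⊗ₘ powMap f n

lemma tuple_powMap {M M' T : C} (f : M ⟶ M') :
    ∀ {n : ℕ} (x : Fin n → (T ⟶ M)), tuple x ≫ powMap f n = tuple (fun l => x l ≫ f)
  | 0, _ => toUnit_unique _ _
  | n + 1, x => by
    change lift (x 0) (tuple fun i => x i.succ) ≫ (f ⊗ₘ powMap f n) =
      lift (x 0 ≫ f) (tuple fun i => x i.succ ≫ f)
    rw [lift_map, tuple_powMap f]

/-- the coordinate projections of a power -/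
def proj {M : C} : ∀ {n : ℕ}, Fin n → (pow M n ⟶ M)
  | 0, i => i.elim0
  | n + 1, i => Fin.cases (fst M (pow M n)) (fun i' => snd M (pow M n) ≫ proj i') i

lemma tuple_proj {M T : C} :
    ∀ {n : ℕ} (x : Fin n → (T ⟶ M)) (l : Fin n), tuple x ≫ proj l = x l
  | 0, _, l => l.elim0
  | n + 1, x, l => by
    refine Fin.cases ?_ (fun l' => ?_) l
    · change lift (x 0) (tuple fun i => x i.succ) ≫ fst M (pow M n) = x 0
      rw [lift_fst]
    · change lift (x 0) (tuple fun i => x i.succ) ≫ (snd M (pow M n) ≫ proj l') = x l'.succ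
      rw [lift_snd_assoc, tuple_proj]

lemma eq_tuple_succ_aux {M T : C} {n : ℕ} (a : T ⟶ M ⊗ pow M n)
    (ih : a ≫ snd M (pow M n) = tuple (fun l => (a ≫ snd M (pow M n)) ≫ proj l)) :
    a = lift (a ≫ fst M (pow M n)) (tuple fun i => a ≫ (snd M (pow M n) ≫ proj i)) := by
  apply CartesianMonoidalCategory.hom_ext
  · rw [lift_fst]
  · rw [lift_snd]
    refine ih.trans ?_
    congr 1
    funext i
    rw [Category.assoc]

lemma eq_tuple {M T : C} :
    ∀ {n : ℕ} (a : T ⟶ pow M n), a = tuple (fun l => a ≫ proj l)
  | 0, _ => toUnit_unique _ _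
  | n + 1, a => eq_tuple_succ_aux (n := n) a (eq_tuple (n := n) _)

lemma tuple_injective {M T : C} {n : ℕ} {x y : Fin n → (T ⟶ M)} (h : tuple x = tuple y) :
    x = y := by
  funext l
  rw [← tuple_proj x l, ← tuple_proj y l, h]

lemma locSurj_powMap {J : GrothendieckTopology C} {M M' : C} {f : M ⟶ M'} (hf : LocSurj J f) :
    ∀ n : ℕ, LocSurj J (powMap f n)
  | 0 => LocSurj.id _
  | n + 1 => LocSurj.tensorHom hf (locSurj_powMap hf n)

/-- all the coordinates of a tuple lift locally through a locally surjective morphism -/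
lemma exists_cover_lift_tuple {J : GrothendieckTopology C} {M M' : C} {f : M ⟶ M'}
    (hf : LocSurj J f) {T : C} {α : Type*} [Fintype α] (x : α → (T ⟶ M')) :
    ∃ R : Sieve T, R ∈ J T ∧ ∀ ⦃T' : C⦄ (g : T' ⟶ T), R g →
      ∃ x' : α → (T' ⟶ M), ∀ l, x' l ≫ f = g ≫ x l := by
  refine ⟨Finset.univ.inf (fun l => liftSieve f (x l)),
    finset_inf_mem _ _ (fun l _ => hf (x l)), ?_⟩
  intro T' g hg
  rw [finset_inf_apply] at hg
  choose x' hx' using fun l => hg l (Finset.mem_univ l)
  exact ⟨x', hx'⟩

lemma comp_update {T T' M : C} {n : ℕ} (g : T' ⟶ T) (x : Fin n → (T ⟶ M)) (i : Fin n) (y : T ⟶ M) :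
    (fun l => g ≫ Function.update x i y l) = Function.update (fun l => g ≫ x l) i (g ≫ y) := by
  funext l
  by_cases hl : l = i
  · subst hl
    rw [Function.update_self, Function.update_self]
  · rw [Function.update_of_ne hl, Function.update_of_ne hl]

lemma update_comp {T M M' : C} {n : ℕ} (f : M ⟶ M') (x : Fin n → (T ⟶ M)) (i : Fin n) (y : T ⟶ M) :
    (fun l => Function.update x i y l ≫ f) = Function.update (fun l => x l ≫ f) i (y ≫ f) := by
  funext l
  by_cases hl : l = i
  · subst hl
    rw [Function.update_self, Function.update_self]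
  · rw [Function.update_of_ne hl, Function.update_of_ne hl]

section Alt
variable [BraidedCategory C] {M N : C} [GrpObj M] [GrpObj N] [IsCommMonObj N] {n : ℕ}

/-- a multilinear alternating map is antisymmetric -/
lemma swap_eq_inv (φ : pow M n ⟶ N) (hmult : IsMultilinear φ) (halt : IsAlternating φ)
    {T : C} (x : Fin n → (T ⟶ M)) (i j : Fin n) (hij : i ≠ j) :
    tuple (Function.update (Function.update x i (x j)) j (x i)) ≫ φ = (tuple x ≫ φ)⁻¹ := by
  set u := x i with hu
  set v := x j with hv
  -- the tuple with `u * v` in both slots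
  have h0 : tuple (Function.update (Function.update x i (u * v)) j (u * v)) ≫ φ = 1 := by
    apply halt T _ i j hij
    rw [Function.update_self, Function.update_of_ne hij, Function.update_self]
  rw [hmult T (Function.update x i (u * v)) j u v] at h0
  have c1 : ∀ w w' : T ⟶ M, Function.update (Function.update x i w) j w' =
      Function.update (Function.update x j w') i w := fun w w' =>
    Function.update_comm hij w w' x
  rw [c1, c1, hmult T (Function.update x j u) i u v, hmult T (Function.update x j v) i u v] at h0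
  have e1 : tuple (Function.update (Function.update x j u) i u) ≫ φ = 1 := by
    apply halt T _ i j hij
    rw [Function.update_self, Function.update_of_ne hij.symm, Function.update_self]
  have e2 : tuple (Function.update (Function.update x j v) i v) ≫ φ = 1 := by
    apply halt T _ i j hij
    rw [Function.update_self, Function.update_of_ne hij.symm, Function.update_self]
  have e3 : Function.update (Function.update x j v) i u = x := by
    rw [hv, Function.update_eq_self, hu, Function.update_eq_self]
  rw [e1, e2, e3, _root_.one_mul, _root_.mul_one] at h0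
  rw [c1]
  exact eq_inv_of_mul_eq_one_left h0

end Alt

end Groth.Agent.Lib.Seat98.MultSchLib
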