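import Mathlib
import Groth.Prelude.Def_HMNum
import Groth.Agent.Lib.Seat98A1
import Groth.Agent.Lib.Seat98HMConj

/-!
# Invariance of the numerical function `μ^L(x, λ)` under conjugation by a point of the parabolic `P(λ)` (seat 98)

* `tensIso k M N : Spec (k[M] ⊗[k] k[N]) ≅ (A(M)_k ⊗ A(N)_k).left`, `tensIso_hom_whiskerLeft`;
* `isReduced_Gm_A1`, `isDominant_Gm_incl`, `hom_ext_Gm_A1` : morphisms from `𝔾_m × 𝔸¹` to a separated `k`-scheme are
  determined on `𝔾_m × 𝔾_m`;
* `AMonS_pt_ext` : `A(M)_S` is terminal over `S` for `M` trivial; `act_origin` : the origin of `𝔸¹` is fixed;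
* `conj_equivariant` : if `u ↦ l(u) g₀ l(u)⁻¹` extends to `f : 𝔸¹ ⟶ G` then `f(g·b) = l(g) f(b) l(g)⁻¹`;
* `isMu_of_parabolic`, `s19785`.
-/

set_option autoImplicit false
universe u

namespace Groth.Agent.Lib.Seat98.Parab

open CategoryTheory CategoryTheory.Limits MonoidalCategory CartesianMonoidalCategory MonObj AlgebraicGeometry Opposite
open scoped AlgebraMonoidAlgebra TensorProduct
open Groth.Agent.Lib.Seat98.A1 Groth.Agent.Lib.Seat98.HMConj

attribute [local instance] ULift.algebra'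

section tensor
variable (k : Type u) [Field k] (M N : Type) [AddCommMonoid M] [AddCommMonoid N]

theorem isoSpec_hom_hom : (isoSpec k M).hom ≫ (Magnet.AMonS (Spec (CommRingCat.of k)) M).hom =
    Spec.map (CommRingCat.ofHom (algebraMap k (MonoidAlgebra k (Multiplicative M)))) :=
  isoSpec_hom_snd k M

theorem isPullback_tensor : IsPullback
    (Spec.map (CommRingCat.ofHom (Algebra.TensorProduct.includeLeftRingHom :
        MonoidAlgebra k (Multiplicative M) →+*
          MonoidAlgebra k (Multiplicative M) ⊗[k] MonoidAlgebra k (Multiplicative N))) ≫ (isoSpec k M).hom)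
    (Spec.map (CommRingCat.ofHom (Algebra.TensorProduct.includeRight :
        MonoidAlgebra k (Multiplicative N) →ₐ[k]
          MonoidAlgebra k (Multiplicative M) ⊗[k] MonoidAlgebra k (Multiplicative N)).toRingHom) ≫ (isoSpec k N).hom)
    (Magnet.AMonS (Spec (CommRingCat.of k)) M).hom (Magnet.AMonS (Spec (CommRingCat.of k)) N).hom := by
  have h := isPullback_SpecMap_of_isPushout _ _ _ _
    (CommRingCat.isPushout_tensorProduct k (MonoidAlgebra k (Multiplicative M)) (MonoidAlgebra k (Multiplicative N)))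
  refine h.of_iso (Iso.refl _) (isoSpec k M) (isoSpec k N) (Iso.refl _) ?_ ?_ ?_ ?_
  · rw [Iso.refl_hom, Category.id_comp]
  · rw [Iso.refl_hom, Category.id_comp]
  · rw [Iso.refl_hom, Category.comp_id, isoSpec_hom_hom]
  · rw [Iso.refl_hom, Category.comp_id, isoSpec_hom_hom]

noncomputable def tensIso :
    Spec (CommRingCat.of (MonoidAlgebra k (Multiplicative M) ⊗[k] MonoidAlgebra k (Multiplicative N))) ≅
      (Magnet.AMonS (Spec (CommRingCat.of k)) M ⊗ Magnet.AMonS (Spec (CommRingCat.of k)) N).left :=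
  (isPullback_tensor k M N).isoPullback

theorem tensIso_hom_fst : (tensIso k M N).hom ≫
    (fst (Magnet.AMonS (Spec (CommRingCat.of k)) M) (Magnet.AMonS (Spec (CommRingCat.of k)) N)).left =
    Spec.map (CommRingCat.ofHom (Algebra.TensorProduct.includeLeftRingHom :
        MonoidAlgebra k (Multiplicative M) →+*
          MonoidAlgebra k (Multiplicative M) ⊗[k] MonoidAlgebra k (Multiplicative N))) ≫ (isoSpec k M).hom :=
  (isPullback_tensor k M N).isoPullback_hom_fst

theorem tensIso_hom_snd : (tensIso k M N).hom ≫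
    (snd (Magnet.AMonS (Spec (CommRingCat.of k)) M) (Magnet.AMonS (Spec (CommRingCat.of k)) N)).left =
    Spec.map (CommRingCat.ofHom (Algebra.TensorProduct.includeRight :
        MonoidAlgebra k (Multiplicative N) →ₐ[k]
          MonoidAlgebra k (Multiplicative M) ⊗[k] MonoidAlgebra k (Multiplicative N)).toRingHom) ≫ (isoSpec k N).hom :=
  (isPullback_tensor k M N).isoPullback_hom_snd

variable {N} {N' : Type} [AddCommMonoid N']

/-- the ring map underlying `A(M) ◁ A(f)`. -/
noncomputable abbrev tmap (f : N' →+ N) :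
    MonoidAlgebra k (Multiplicative M) ⊗[k] MonoidAlgebra k (Multiplicative N') →ₐ[k]
      MonoidAlgebra k (Multiplicative M) ⊗[k] MonoidAlgebra k (Multiplicative N) :=
  Algebra.TensorProduct.map (AlgHom.id k _) (MonoidAlgebra.mapDomainAlgHom k k (AddMonoidHom.toMultiplicative f))

theorem tensIso_hom_whiskerLeft (f : N' →+ N) :
    (tensIso k M N).hom ≫ (Magnet.AMonS (Spec (CommRingCat.of k)) M ◁
        Magnet.AMonS.map (Spec (CommRingCat.of k)) f).left =
      Spec.map (CommRingCat.ofHom (tmap k M f).toRingHom) ≫ (tensIso k M N').hom := by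
  have e : (Magnet.AMonS (Spec (CommRingCat.of k)) M ⊗ Magnet.AMonS (Spec (CommRingCat.of k)) N').left =
      pullback (Magnet.AMonS (Spec (CommRingCat.of k)) M).hom (Magnet.AMonS (Spec (CommRingCat.of k)) N').hom := rfl
  apply pullback.hom_ext
  · have h1 : (Magnet.AMonS (Spec (CommRingCat.of k)) M ◁
        Magnet.AMonS.map (Spec (CommRingCat.of k)) f).left ≫ pullback.fst _ _ =
        (fst (Magnet.AMonS (Spec (CommRingCat.of k)) M) (Magnet.AMonS (Spec (CommRingCat.of k)) N)).left := by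
      rw [← Over.fst_left, ← Over.comp_left, whiskerLeft_fst]
    have h2 := tensIso_hom_fst k M N'
    rw [Over.fst_left] at h2
    rw [Category.assoc, h1, tensIso_hom_fst, Category.assoc, h2, ← Category.assoc, ← Spec.map_comp,
      ← CommRingCat.ofHom_comp]
    congr 3
    refine RingHom.ext fun x => ?_
    simp
  · have h1 : (Magnet.AMonS (Spec (CommRingCat.of k)) M ◁
        Magnet.AMonS.map (Spec (CommRingCat.of k)) f).left ≫ pullback.snd _ _ =
        (snd (Magnet.AMonS (Spec (CommRingCat.of k)) M) (Magnet.AMonS (Spec (CommRingCat.of k)) N)).left ≫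
          (Magnet.AMonS.map (Spec (CommRingCat.of k)) f).left := by
      rw [← Over.snd_left, ← Over.comp_left, whiskerLeft_snd, Over.comp_left]
    have h2 := tensIso_hom_snd k M N'
    rw [Over.snd_left] at h2
    rw [Category.assoc, h1, ← Category.assoc, tensIso_hom_snd, Category.assoc, isoSpec_hom_map, Category.assoc, h2,
      ← Category.assoc, ← Category.assoc, ← Spec.map_comp, ← Spec.map_comp,
      ← CommRingCat.ofHom_comp, ← CommRingCat.ofHom_comp]
    congr 3



theorem injective_tmap (f : N' →+ N) (hf : Function.Injective f) : Function.Injective (tmap k M f) := by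
  have hψ : Function.Injective (MonoidAlgebra.mapDomainAlgHom k k (AddMonoidHom.toMultiplicative f)) :=
    MonoidAlgebra.mapDomain_injective hf
  have h := Module.Flat.lTensor_preserves_injective_linearMap (M := MonoidAlgebra k (Multiplicative M))
    (MonoidAlgebra.mapDomainAlgHom k k (AddMonoidHom.toMultiplicative f)).toLinearMap hψ
  intro x y hxy
  apply h
  exact hxy

theorem isDominant_whiskerLeft (f : N' →+ N) (hf : Function.Injective f) :
    IsDominant (Magnet.AMonS (Spec (CommRingCat.of k)) M ◁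
        Magnet.AMonS.map (Spec (CommRingCat.of k)) f).left := by
  have h := tensIso_hom_whiskerLeft k M f
  have hψ : IsDominant (Spec.map (CommRingCat.ofHom (tmap k M f).toRingHom)) :=
    isDominant_specMap_of_injective _ (injective_tmap k M f hf)
  have e : (Magnet.AMonS (Spec (CommRingCat.of k)) M ◁
        Magnet.AMonS.map (Spec (CommRingCat.of k)) f).left =
      (tensIso k M N).inv ≫ Spec.map (CommRingCat.ofHom (tmap k M f).toRingHom) ≫ (tensIso k M N').hom := by
    rw [← h, Iso.inv_hom_id_assoc]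
  rw [e]
  infer_instance

end tensor

section field
variable (k : Type u) [Field k]

theorem isReduced_tensor :
    IsReduced (MonoidAlgebra k (Multiplicative ℤ) ⊗[k] MonoidAlgebra k (Multiplicative ↥HMNum.plus)) := by
  have h : IsReduced (MonoidAlgebra (MonoidAlgebra k (Multiplicative ℤ)) (Multiplicative ↥HMNum.plus)) := inferInstance
  let e := MonoidAlgebra.scalarTensorEquiv (M := Multiplicative ↥HMNum.plus) k (MonoidAlgebra k (Multiplicative ℤ))
  exact isReduced_of_injective e.toRingEquiv.toRingHom e.injective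

theorem isReduced_Gm_A1 :
    IsReduced (Red.Gm (Spec (CommRingCat.of k)) ⊗ HMNum.A1 (Spec (CommRingCat.of k))).left := by
  have := isReduced_tensor k
  have : IsReduced (Spec (CommRingCat.of
      (MonoidAlgebra k (Multiplicative ℤ) ⊗[k] MonoidAlgebra k (Multiplicative ↥HMNum.plus)))) := inferInstance
  exact isReduced_of_isOpenImmersion (tensIso k ℤ ↥HMNum.plus).inv

theorem isDominant_Gm_incl :
    IsDominant (Red.Gm (Spec (CommRingCat.of k)) ◁ HMNum.incl (Spec (CommRingCat.of k))).left :=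
  isDominant_whiskerLeft k ℤ HMNum.plus.subtype Subtype.val_injective

/-- morphisms from `𝔾_m × 𝔸¹` to a separated `k`-scheme are determined on `𝔾_m × 𝔾_m`. -/
theorem hom_ext_Gm_A1 {G : Over (Spec (CommRingCat.of k))} [IsSeparated G.hom]
    (p q : Red.Gm (Spec (CommRingCat.of k)) ⊗ HMNum.A1 (Spec (CommRingCat.of k)) ⟶ G)
    (h : (Red.Gm (Spec (CommRingCat.of k)) ◁ HMNum.incl (Spec (CommRingCat.of k))) ≫ p =
      (Red.Gm (Spec (CommRingCat.of k)) ◁ HMNum.incl (Spec (CommRingCat.of k))) ≫ q) : p = q := by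
  apply Over.OverMorphism.ext
  have := isReduced_Gm_A1 k
  have := isDominant_Gm_incl k
  refine ext_of_isDominant_of_isSeparated G.hom ?_
    (Red.Gm (Spec (CommRingCat.of k)) ◁ HMNum.incl (Spec (CommRingCat.of k))).left ?_
  · rw [Over.w, Over.w]
  · rw [← Over.comp_left, h, Over.comp_left]

end field

section terminal

theorem bijective_algebraMap_of_unique (R : Type u) [CommRing R] (M : Type) [Monoid M] [Subsingleton M] :
    Function.Bijective (algebraMap R (MonoidAlgebra R M)) := by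
  have h : ⇑(algebraMap R (MonoidAlgebra R M)) = ⇑(MonoidAlgebra.uniqueRingEquiv (R := R) M).symm := by
    funext r
    rw [MonoidAlgebra.uniqueRingEquiv_symm_apply, MonoidAlgebra.coe_algebraMap]
    simp
  rw [h]
  exact (MonoidAlgebra.uniqueRingEquiv (R := R) M).symm.bijective

theorem isIso_AMon_hom (R : Type u) [CommRing R] (M : Type) [AddCommMonoid M] [Subsingleton M] :
    IsIso (Magnet.AMon R M).hom := by
  rw [AMon_hom]
  let e : R ≃+* MonoidAlgebra R (Multiplicative M) :=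
    RingEquiv.ofBijective (algebraMap R (MonoidAlgebra R (Multiplicative M)))
      (bijective_algebraMap_of_unique R (Multiplicative M))
  have h : IsIso (CommRingCat.ofHom (algebraMap R (MonoidAlgebra R (Multiplicative M)))) :=
    (inferInstance : IsIso e.toCommRingCatIso.hom)
  exact (inferInstance : IsIso (Scheme.Spec.map (CommRingCat.ofHom (algebraMap R (MonoidAlgebra R (Multiplicative M)))).op))

theorem isIso_AMonS_hom (S : Scheme.{u}) (M : Type) [AddCommMonoid M] [Subsingleton M] :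
    IsIso (Magnet.AMonS S M).hom := by
  have := isIso_AMon_hom (ULift.{u} ℤ) M
  change IsIso (pullback.snd (Magnet.AMon (ULift.{u} ℤ) M).hom (Limits.IsTerminal.from specULiftZIsTerminal S))
  infer_instance

theorem AMonS_pt_ext (S : Scheme.{u}) (M : Type) [AddCommMonoid M] [Subsingleton M] {T : Over S}
    (p q : T ⟶ Magnet.AMonS S M) : p = q := by
  have := isIso_AMonS_hom S M
  apply Over.OverMorphism.ext
  rw [← cancel_mono (Magnet.AMonS S M).hom, Over.w, Over.w]

end terminal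

section origin

variable {S : Scheme.{u}}

theorem subAct_act {T' : Over S} (g : T' ⟶ Red.Gm S) (b : T' ⟶ HMNum.A1 S) :
    lift g b ≫ (Magnet.subAct S ℤ HMNum.plus).act = (g ≫ HMNum.incl S) * b := by
  unfold Magnet.subAct
  rw [Magnet.MonAct.lift_restrict_act, Magnet.MonAct.lift_regular_act]

/-- the origin of the affine line is fixed by the multiplicative group. -/
theorem act_origin {T' : Over S} (g : T' ⟶ Red.Gm S) :
    (g ≫ HMNum.incl S) * (toUnit T' ≫ HMNum.origin S) = toUnit T' ≫ HMNum.origin S := by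
  rw [← subAct_act]
  have h := (Magnet.MonAct.isEquivariant_iff _ _ _).1 (Magnet.isEquivariant_faceMapS S HMNum.isFace_bot) T' g
    (toUnit T' ≫ η[Magnet.AMonS S ↥(⊥ : AddSubmonoid ℤ)])
  unfold HMNum.origin
  rw [← Category.assoc (toUnit T'), ← h, ← Category.assoc]
  congr 1
  have : Subsingleton ↥(⊥ : AddSubmonoid ℤ) :=
    ⟨fun a b => Subtype.ext (by rw [AddSubmonoid.mem_bot.1 a.2, AddSubmonoid.mem_bot.1 b.2])⟩
  exact AMonS_pt_ext S _ _ _

end origin

section main

variable (k : Type u) [Field k] {G X : Over (Spec (CommRingCat.of k))} [GrpObj G]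

/-- if `u ↦ l(u) g₀ l(u)⁻¹` extends to `f : 𝔸¹ ⟶ G`, then `f(g·b) = l(g) f(b) l(g)⁻¹`. -/
theorem conj_equivariant [IsSeparated G.hom] (l : Red.Gm (Spec (CommRingCat.of k)) ⟶ G) [IsMonHom l]
    (g₀ : 𝟙_ (Over (Spec (CommRingCat.of k))) ⟶ G) (f : HMNum.A1 (Spec (CommRingCat.of k)) ⟶ G)
    (hf : HMNum.incl (Spec (CommRingCat.of k)) ≫ f = l * cst g₀ _ * l⁻¹)
    {T' : Over (Spec (CommRingCat.of k))} (g : T' ⟶ Red.Gm (Spec (CommRingCat.of k)))
    (b : T' ⟶ HMNum.A1 (Spec (CommRingCat.of k))) :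
    ((g ≫ HMNum.incl (Spec (CommRingCat.of k))) * b) ≫ f = (g ≫ l) * (b ≫ f) * (g ≫ l)⁻¹ := by
  have hpt : ∀ (T : Over (Spec (CommRingCat.of k))) (h : T ⟶ Red.Gm (Spec (CommRingCat.of k))),
      (h ≫ HMNum.incl (Spec (CommRingCat.of k))) ≫ f = (h ≫ l) * cst g₀ T * (h ≫ l)⁻¹ := by
    intro T h
    rw [Category.assoc, hf, MonObj.comp_mul, MonObj.comp_mul, GrpObj.comp_inv, comp_cst]
  have key : (Magnet.subAct (Spec (CommRingCat.of k)) ℤ HMNum.plus).act ≫ f =
      (fst _ _ ≫ l) * (snd _ _ ≫ f) * (fst _ _ ≫ l)⁻¹ := by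
    apply hom_ext_Gm_A1
    apply Magnet.hom_ext_lift₂
    intro T g h
    rw [lift_whiskerLeft_assoc, lift_whiskerLeft_assoc, ← Category.assoc, subAct_act, ← MonObj.mul_comp, hpt,
      MonObj.mul_comp, MonObj.comp_mul, MonObj.comp_mul, GrpObj.comp_inv, lift_fst_assoc, lift_snd_assoc, hpt]
    group
  have h1 : lift g b ≫ (Magnet.subAct (Spec (CommRingCat.of k)) ℤ HMNum.plus).act ≫ f =
      lift g b ≫ ((fst _ _ ≫ l) * (snd _ _ ≫ f) * (fst _ _ ≫ l)⁻¹) := by rw [key]
  rw [← Category.assoc, subAct_act, MonObj.comp_mul, MonObj.comp_mul, GrpObj.comp_inv, lift_fst_assoc,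
    lift_snd_assoc] at h1
  exact h1

/-- `μ(x, l) = m` implies `μ(g₀·x, l) = m` for `g₀` in the parabolic `P(l)`. -/
theorem isMu_of_parabolic [IsSeparated G.hom] (a : AlgGrp.Action G X) (B : GLinSh.LinBun G a)
    (x : 𝟙_ (Over (Spec (CommRingCat.of k))) ⟶ X)
    (l : Red.Gm (Spec (CommRingCat.of k)) ⟶ G) [IsMonHom l]
    (g₀ : 𝟙_ (Over (Spec (CommRingCat.of k))) ⟶ G) (f : HMNum.A1 (Spec (CommRingCat.of k)) ⟶ G)
    (hf : HMNum.incl (Spec (CommRingCat.of k)) ≫ f = l * cst g₀ _ * l⁻¹) (m : ℤ)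
    (h : HMNum.IsMu B l x m) : HMNum.IsMu B l (lift g₀ x ≫ a.act) m := by
  obtain ⟨y, ⟨φ, hφx, hφy⟩, hwt⟩ := h
  -- the new extension
  have hφ₁ : Magnet.MonAct.IsEquivariant
      ((Magnet.subAct (Spec (CommRingCat.of k)) ℤ HMNum.plus).prod
        (Magnet.MonAct.trivial _ (𝟙_ (Over (Spec (CommRingCat.of k))))))
      (HMNum.gmAct a l) (pact a (fst _ _ ≫ f) φ.1) := by
    rw [Magnet.MonAct.mem_eqvHom_iff]
    intro T' g b t
    have h2 := (Magnet.MonAct.mem_eqvHom_iff φ.1).1 φ.2 T' g b t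
    rw [comp_pact, lift_fst_assoc, h2, subAct_act, conj_equivariant k l g₀ f hf, comp_pact, lift_fst_assoc,
      Magnet.MonAct.lift_restrict_act, Magnet.MonAct.lift_restrict_act, Magnet.MonAct.ofAction_act]
    change pact a ((g ≫ l) * (b ≫ f) * (g ≫ l)⁻¹) (pact a (g ≫ l) (lift b t ≫ φ.1)) =
      pact a (g ≫ l) (pact a (b ≫ f) (lift b t ≫ φ.1))
    rw [pact_mul, pact_mul, pact_inv_pact]
  let Φ₁ : (HMNum.attrPlus a l).obj (op (𝟙_ (Over (Spec (CommRingCat.of k))))) :=
    ⟨pact a (fst _ _ ≫ f) φ.1, hφ₁⟩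
  have hΦ₁ : Φ₁.1 = pact a (fst _ _ ≫ f) φ.1 := rfl
  -- constants
  have hc : cst g₀ (𝟙_ (Over (Spec (CommRingCat.of k)))) = g₀ := by
    unfold cst
    rw [toUnit_unit, Category.id_comp]
  have hγ : cst (HMNum.origin (Spec (CommRingCat.of k)) ≫ f) (𝟙_ (Over (Spec (CommRingCat.of k)))) =
      HMNum.origin (Spec (CommRingCat.of k)) ≫ f := by
    unfold cst
    rw [toUnit_unit, Category.id_comp]
  -- value at `1`
  have hx₁ : (Magnet.attrToX (HMNum.gmAct a l) HMNum.plus).app _ Φ₁ = pact a g₀ x := by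
    have hx0 : lift (toUnit (𝟙_ (Over (Spec (CommRingCat.of k)))) ≫ η[HMNum.A1 (Spec (CommRingCat.of k))])
        (𝟙 (𝟙_ (Over (Spec (CommRingCat.of k))))) ≫ φ.1 = x := hφx
    change lift (toUnit (𝟙_ (Over (Spec (CommRingCat.of k)))) ≫ η[HMNum.A1 (Spec (CommRingCat.of k))])
        (𝟙 (𝟙_ (Over (Spec (CommRingCat.of k))))) ≫ Φ₁.1 = _
    rw [hΦ₁, comp_pact, lift_fst_assoc, hx0]
    congr 1
    have h1 : η[HMNum.A1 (Spec (CommRingCat.of k))] =
        η[Red.Gm (Spec (CommRingCat.of k))] ≫ HMNum.incl (Spec (CommRingCat.of k)) :=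
      (IsMonHom.one_hom (HMNum.incl (Spec (CommRingCat.of k)))).symm
    rw [h1, Category.assoc, Category.assoc, hf, ← Category.assoc, ← Hom.one_def, MonObj.comp_mul, MonObj.comp_mul,
      GrpObj.comp_inv, MonObj.one_comp, comp_cst, hc]
    group
  -- value at `0`
  have hy₁ : HMNum.limitPt Φ₁ = pact a (HMNum.origin (Spec (CommRingCat.of k)) ≫ f) y := by
    have hy0 := hφy
    rw [HMNum.limitPt_eq] at hy0
    rw [HMNum.limitPt_eq, hΦ₁, comp_pact, lift_fst_assoc, hy0, Category.assoc, toUnit_unit, Category.id_comp]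
  -- the limit point commutes with `l`
  have hcomm : conj (HMNum.origin (Spec (CommRingCat.of k)) ≫ f) l = l := by
    have h1 := conj_equivariant k l g₀ f hf (𝟙 (Red.Gm (Spec (CommRingCat.of k))))
      (toUnit _ ≫ HMNum.origin (Spec (CommRingCat.of k)))
    rw [act_origin, Category.id_comp, Category.assoc] at h1
    unfold conj cst
    have h2 : (toUnit (Red.Gm (Spec (CommRingCat.of k))) ≫ HMNum.origin (Spec (CommRingCat.of k)) ≫ f) * l =
        l * (toUnit (Red.Gm (Spec (CommRingCat.of k))) ≫ HMNum.origin (Spec (CommRingCat.of k)) ≫ f) := by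
      conv_lhs => rw [h1]
      group
    rw [h2]
    group
  refine ⟨pact a (HMNum.origin (Spec (CommRingCat.of k)) ≫ f) y, ⟨Φ₁, hx₁, hy₁⟩, ?_⟩
  have hcov : ∃ (U' : X.left.Opens) (y' : Γ(B.V.left, B.π.left ⁻¹ᵁ U')), y' ∈ B.atlas.chart U' ∧
      (pact a (cst (HMNum.origin (Spec (CommRingCat.of k)) ≫ f) (𝟙_ (Over (Spec (CommRingCat.of k))))) y).left ⁻¹ᵁ U' =
        ⊤ := by
    let pt : (Spec (CommRingCat.of k) : Scheme.{u}) := (default : PrimeSpectrum k)
    obtain ⟨U', hpt, y', hy'⟩ := B.atlas.cover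
      ((pact a (cst (HMNum.origin (Spec (CommRingCat.of k)) ≫ f) (𝟙_ (Over (Spec (CommRingCat.of k))))) y).left.base pt)
    refine ⟨U', y', hy', ?_⟩
    rw [eq_top_iff]
    intro z _
    have hz : z = pt := Subsingleton.elim (α := PrimeSpectrum k) _ _
    rw [hz]
    exact hpt
  have := hasFibreWt_conj a B.π B.atlas.chart B.lift B.lift_π B.lift_linear
    (HMNum.origin (Spec (CommRingCat.of k)) ≫ f) l y (-m) hcov hwt
  rwa [hγ, hcomm] at this

/-- S19785 -/
theorem s19785 [IsSeparated G.hom] (a : AlgGrp.Action G X) (B : GLinSh.LinBun G a)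
    (x : 𝟙_ (Over (Spec (CommRingCat.of k))) ⟶ X)
    (l : Red.Gm (Spec (CommRingCat.of k)) ⟶ G) [IsMonHom l] (g₀ : 𝟙_ (Over (Spec (CommRingCat.of k))) ⟶ G)
    (hg₀ : ∃ f : HMNum.A1 (Spec (CommRingCat.of k)) ⟶ G,
      HMNum.incl (Spec (CommRingCat.of k)) ≫ f = l * (toUnit _ ≫ g₀) * l⁻¹)
    (l' : Red.Gm (Spec (CommRingCat.of k)) ⟶ G) [IsMonHom l']
    (hl' : l' = (toUnit _ ≫ g₀)⁻¹ * l * (toUnit _ ≫ g₀)) (m : ℤ) :
    HMNum.IsMu B l x m ↔ HMNum.IsMu B l' x m := by
  obtain ⟨f, hf⟩ := hg₀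
  rw [← s19786 k a B x l g₀ l' hl' m]
  constructor
  · exact isMu_of_parabolic k a B x l g₀ f hf m
  · intro h
    have hf' : HMNum.incl (Spec (CommRingCat.of k)) ≫ f⁻¹ = l * cst g₀⁻¹ _ * l⁻¹ := by
      rw [GrpObj.comp_inv, hf, cst_inv]
      group
    have h1 := isMu_of_parabolic k a B (lift g₀ x ≫ a.act) l g₀⁻¹ f⁻¹ hf' m h
    rwa [show lift g₀⁻¹ (lift g₀ x ≫ a.act) ≫ a.act = x from pact_inv_pact a g₀ x] at h1

end main

end Groth.Agent.Lib.Seat98.Parab
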