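import Mathlib.RingTheory.MvPolynomial.Homogeneous
import Mathlib.LinearAlgebra.Dimension.Finrank
import Mathlib.FieldTheory.IsAlgClosed.Basic
import Mathlib.Data.Finset.Basic
import Mathlib.Algebra.Polynomial.Homogenize
import Mathlib.RingTheory.Polynomial.Basic
import Mathlib.LinearAlgebra.FiniteDimensional.Lemmas
import Mathlib.LinearAlgebra.Dual.Lemmas

/-!
# Binary forms and trisecant lines of a rational quintic (seat 98)

* `H n`: binary forms of degree `n`; `finrank_H`: their dimension is `n + 1` (via `Polynomial.homogenize`).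
* `exists_factor`: a binary cubic over an algebraically closed field has a linear factor.
* `main`: infinitely many cubics `g` with `dim (V ∩ g · K[s,t]₂) ≥ 2` (statement S19809).
-/

set_option autoImplicit false
universe u

namespace Groth.Agent.Lib.Seat98.Quintic

open MvPolynomial

variable {K : Type u} [Field K]

/-- binary forms of degree `n` -/
abbrev H (n : ℕ) : Submodule K (MvPolynomial (Fin 2) K) := homogeneousSubmodule (Fin 2) K n

/-- dehomogenization `X₀ ↦ X`, `X₁ ↦ 1` -/
noncomputable abbrev deh : MvPolynomial (Fin 2) K →ₐ[K] Polynomial K :=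
  aeval ![Polynomial.X, 1]

theorem natDegree_deh_le {n : ℕ} {q : MvPolynomial (Fin 2) K} (hq : q.IsHomogeneous n) :
    (deh q).natDegree ≤ n := by
  rw [q.as_sum, map_sum]
  refine Polynomial.natDegree_sum_le_of_forall_le _ _ ?_
  intro d hd
  have hdn : d.degree = n := by
    have := hq (by simpa using hd : coeff d q ≠ 0)
    simpa [Finsupp.weight_apply, Finsupp.degree_eq_weight_one] using this
  rw [aeval_monomial, Finsupp.prod_fintype _ _ (by simp), Fin.prod_univ_two]
  simp only [Matrix.cons_val_zero, Matrix.cons_val_one, one_pow, mul_one]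
  rw [← Polynomial.C_eq_algebraMap]
  refine (Polynomial.natDegree_C_mul_le _ _).trans ?_
  refine (Polynomial.natDegree_X_pow_le _).trans ?_
  rw [← hdn, Finsupp.degree_eq_sum, Fin.sum_univ_two]
  omega

theorem homogenize_deh {n : ℕ} {q : MvPolynomial (Fin 2) K} (hq : q.IsHomogeneous n) :
    (deh q).homogenize n = q :=
  Polynomial.homogenize_eq_of_isHomogeneous hq rfl

/-- binary forms of degree `n` are the same as polynomials of degree `≤ n` -/
noncomputable def homEquiv (n : ℕ) : Polynomial.degreeLT K (n + 1) ≃ₗ[K] ↥(H (K := K) n) where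
  toFun p := ⟨(p : Polynomial K).homogenize n, by
    rw [mem_homogeneousSubmodule]; exact Polynomial.isHomogeneous_homogenize _⟩
  map_add' p q := by ext1; simp
  map_smul' c p := by ext1; simp
  invFun q := ⟨deh (q : MvPolynomial (Fin 2) K), by
    rw [Polynomial.mem_degreeLT]
    refine lt_of_le_of_lt Polynomial.degree_le_natDegree ?_
    have := natDegree_deh_le ((mem_homogeneousSubmodule _ _).1 q.2)
    exact_mod_cast Nat.lt_succ_of_le this⟩
  left_inv p := by
    ext1
    have hp : (p : Polynomial K).natDegree ≤ n := by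
      have := p.2
      rw [Polynomial.mem_degreeLT] at this
      by_cases h0 : (p : Polynomial K) = 0
      · simp [h0]
      · rw [Polynomial.degree_eq_natDegree h0] at this
        exact Nat.lt_succ_iff.1 (by exact_mod_cast this)
    exact Polynomial.aeval_homogenize_X_one _ hp
  right_inv q := by
    ext1
    exact homogenize_deh ((mem_homogeneousSubmodule _ _).1 q.2)

theorem finrank_H (n : ℕ) : Module.finrank K ↥(H (K := K) n) = n + 1 := by
  rw [← (homEquiv (K := K) n).finrank_eq, (Polynomial.degreeLTEquiv K (n + 1)).finrank_eq]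
  simp

instance finite_H (n : ℕ) : Module.Finite K ↥(H (K := K) n) :=
  Module.finite_of_finrank_pos (by rw [finrank_H]; omega)

/-- every binary cubic over an algebraically closed field has a linear factor -/
theorem exists_factor [IsAlgClosed K] {g : MvPolynomial (Fin 2) K} (hg : g ∈ H (K := K) 3) :
    ∃ l ∈ H (K := K) 1, ∃ e ∈ H (K := K) 2, g = l * e := by
  rw [mem_homogeneousSubmodule] at hg
  have hdeg := natDegree_deh_le hg
  have hhom := homogenize_deh hg
  set p := deh g with hp
  by_cases h0 : p.natDegree = 0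
  · obtain ⟨c, hc⟩ : ∃ c, p = Polynomial.C c := ⟨_, Polynomial.eq_C_of_natDegree_eq_zero h0⟩
    refine ⟨(1 : Polynomial K).homogenize 1, ?_, (Polynomial.C c).homogenize 2, ?_, ?_⟩
    · rw [mem_homogeneousSubmodule]; exact Polynomial.isHomogeneous_homogenize _
    · rw [mem_homogeneousSubmodule]; exact Polynomial.isHomogeneous_homogenize _
    · rw [← Polynomial.homogenize_mul _ _ (by simp) (by simp), one_mul, ← hc]
      exact hhom.symm
  · have hd : p.degree ≠ 0 := by
      intro h
      exact h0 (Polynomial.natDegree_eq_of_degree_eq_some h)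
    obtain ⟨r, hr⟩ := IsAlgClosed.exists_root p hd
    have hfac : (Polynomial.X - Polynomial.C r) * (p /ₘ (Polynomial.X - Polynomial.C r)) = p :=
      Polynomial.mul_divByMonic_eq_iff_isRoot.2 hr
    refine ⟨(Polynomial.X - Polynomial.C r).homogenize 1, ?_,
      (p /ₘ (Polynomial.X - Polynomial.C r)).homogenize 2, ?_, ?_⟩
    · rw [mem_homogeneousSubmodule]; exact Polynomial.isHomogeneous_homogenize _
    · rw [mem_homogeneousSubmodule]; exact Polynomial.isHomogeneous_homogenize _
    · rw [← Polynomial.homogenize_mul _ _ (by simp) ?_, hfac]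
      · exact hhom.symm
      · rw [Polynomial.natDegree_divByMonic _ (Polynomial.monic_X_sub_C r)]
        simp only [Polynomial.natDegree_X_sub_C]
        omega

end Groth.Agent.Lib.Seat98.Quintic

namespace Groth.Agent.Lib.Seat98.Quintic

open MvPolynomial Module

variable {K : Type u} [Field K]

/-- multiplication of binary forms as a bilinear map -/
noncomputable def mulForm (a b c : ℕ) (h : a + b = c) :
    ↥(H (K := K) a) →ₗ[K] ↥(H (K := K) b) →ₗ[K] ↥(H (K := K) c) :=
  LinearMap.mk₂ K (fun g e => ⟨g.1 * e.1, by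
      rw [mem_homogeneousSubmodule, ← h]
      exact ((mem_homogeneousSubmodule _ _).1 g.2).mul ((mem_homogeneousSubmodule _ _).1 e.2)⟩)
    (by intros; ext1; simp [add_mul]) (by intros; ext1; simp)
    (by intros; ext1; simp [mul_add]) (by intros; ext1; simp)

@[simp]
theorem mulForm_coe (a b c : ℕ) (h : a + b = c) (g : ↥(H (K := K) a)) (e : ↥(H (K := K) b)) :
    ((mulForm a b c h g e : ↥(H (K := K) c)) : MvPolynomial (Fin 2) K) = g.1 * e.1 := rfl

theorem finrank_mulImage {g : MvPolynomial (Fin 2) K} (hg : g ≠ 0) (n : ℕ) :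
    finrank K ↥((H (K := K) n).map (LinearMap.mulLeft K g)) = n + 1 := by
  have hinj : Function.Injective (LinearMap.mulLeft K g) := fun a b h => mul_left_cancel₀ hg h
  rw [← (Submodule.equivMapOfInjective _ hinj (H n)).finrank_eq, finrank_H]

instance finite_mulImage (g : MvPolynomial (Fin 2) K) (n : ℕ) :
    Module.Finite K ↥((H (K := K) n).map (LinearMap.mulLeft K g)) :=
  Module.Finite.map _ _

variable (V : Submodule K (MvPolynomial (Fin 2) K))

/-- Step A -/
theorem two_le_of_ker (hV : V ≤ H 5) (hdim : finrank K ↥V = 4)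
    (lam : ↥(H (K := K) 5) →ₗ[K] K) (hlam : Function.Surjective lam)
    (hlamV : ∀ x : ↥(H (K := K) 5), (x : MvPolynomial (Fin 2) K) ∈ V → lam x = 0)
    (g : ↥(H (K := K) 3)) (hg : g ≠ 0)
    (hgl : ∀ e : ↥(H (K := K) 2), lam (mulForm 3 2 5 rfl g e) = 0) :
    2 ≤ finrank K ↥(V ⊓ (H 2).map (LinearMap.mulLeft K g.1)) := by
  have : Module.Finite K ↥V := Module.finite_of_finrank_pos (by omega)
  set N := (H (K := K) 2).map (LinearMap.mulLeft K g.1) with hN
  have hg' : g.1 ≠ 0 := fun h => hg (Subtype.ext h)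
  have hNrank : finrank K ↥N = 3 := finrank_mulImage hg' 2
  -- the hyperplane
  set Z : Submodule K (MvPolynomial (Fin 2) K) := (LinearMap.ker lam).map (H 5).subtype with hZ
  have hZrank : finrank K ↥Z = 5 := by
    have h1 := lam.finrank_range_add_finrank_ker
    rw [LinearMap.range_eq_top.2 hlam, finrank_top, finrank_self, finrank_H] at h1
    rw [hZ, ← (Submodule.equivMapOfInjective _ (Submodule.injective_subtype _) _).finrank_eq]
    omega
  have hVZ : V ≤ Z := by
    intro v hv
    exact ⟨⟨v, hV hv⟩, hlamV _ hv, rfl⟩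
  have hNZ : N ≤ Z := by
    rintro _ ⟨e, he, rfl⟩
    exact ⟨mulForm 3 2 5 rfl g ⟨e, he⟩, hgl _, rfl⟩
  have hsup : finrank K ↥(V ⊔ N) ≤ 5 := by
    rw [← hZrank]
    exact Submodule.finrank_mono (sup_le hVZ hNZ)
  have := Submodule.finrank_sup_add_finrank_inf_eq V N
  omega

/-- Step B: the forms `g · K[s,t]₂` are never all in `V` -/
theorem not_mulImage_le [IsAlgClosed K] (hdim : finrank K ↥V = 4)
    (hsep : ∀ e ∈ homogeneousSubmodule (Fin 2) K 2, e ≠ 0 →
      ∀ F ∈ homogeneousSubmodule (Fin 2) K 5, ∃ v ∈ V,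
        ∃ h ∈ homogeneousSubmodule (Fin 2) K 3, F = v + e * h)
    {g : MvPolynomial (Fin 2) K} (hg : g ∈ H (K := K) 3) (hg0 : g ≠ 0) :
    ¬ (H (K := K) 2).map (LinearMap.mulLeft K g) ≤ V := by
  intro hle
  have : Module.Finite K ↥V := Module.finite_of_finrank_pos (by omega)
  obtain ⟨l, hl, e, he, rfl⟩ := exists_factor hg
  have he0 : e ≠ 0 := fun h => hg0 (by rw [h, mul_zero])
  set N := (H (K := K) 2).map (LinearMap.mulLeft K (l * e)) with hN
  set M := (H (K := K) 3).map (LinearMap.mulLeft K e) with hM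
  have hNrank : finrank K ↥N = 3 := finrank_mulImage hg0 2
  have hMrank : finrank K ↥M = 4 := finrank_mulImage he0 3
  have hNM : N ≤ M := by
    rintro _ ⟨a, ha, rfl⟩
    refine ⟨l * a, ?_, ?_⟩
    · have h1 := ((mem_homogeneousSubmodule _ _).1 hl).mul ((mem_homogeneousSubmodule _ _).1 ha)
      exact (mem_homogeneousSubmodule _ _).2 h1
    · simp only [LinearMap.mulLeft_apply]; ring
  have hH5 : H (K := K) 5 ≤ V ⊔ M := by
    intro F hF
    obtain ⟨v, hv, h, hh, rfl⟩ := hsep e he he0 F hF
    exact Submodule.add_mem_sup hv ⟨h, hh, rfl⟩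
  have h6 : 6 ≤ finrank K ↥(V ⊔ M) := by
    have := Submodule.finrank_mono hH5
    rwa [finrank_H] at this
  have h3 : 3 ≤ finrank K ↥(V ⊓ M) := by
    rw [← hNrank]
    exact Submodule.finrank_mono (le_inf hle hNM)
  have := Submodule.finrank_sup_add_finrank_inf_eq V M
  omega

/-- infinitely many trisecant lines of a rational quintic in `P³`, through binary forms -/
theorem main [IsAlgClosed K] (hV : V ≤ homogeneousSubmodule (Fin 2) K 5)
    (hdim : finrank K ↥V = 4)
    (hsep : ∀ e ∈ homogeneousSubmodule (Fin 2) K 2, e ≠ 0 →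
      ∀ F ∈ homogeneousSubmodule (Fin 2) K 5, ∃ v ∈ V,
        ∃ h ∈ homogeneousSubmodule (Fin 2) K 3, F = v + e * h)
    (F : Finset (MvPolynomial (Fin 2) K)) :
    ∃ g ∈ homogeneousSubmodule (Fin 2) K 3, g ≠ 0 ∧
      2 ≤ finrank K ↥(V ⊓ (homogeneousSubmodule (Fin 2) K 2).map (LinearMap.mulLeft K g)) ∧
      ∀ g' ∈ F, ∀ c : K, g ≠ c • g' := by
  classical
  have : Module.Finite K ↥V := Module.finite_of_finrank_pos (by omega)
  -- the quotient of quintics by `V`, identified with `K²`
  set V' : Submodule K ↥(H (K := K) 5) := V.comap (H 5).subtype with hV'def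
  have hV'rank : finrank K ↥V' = 4 := by
    rw [(Submodule.comapSubtypeEquivOfLe hV).finrank_eq, hdim]
  have hW : finrank K (↥(H (K := K) 5) ⧸ V') = 2 := by
    have := Submodule.finrank_quotient_add_finrank V'
    rw [finrank_H, hV'rank] at this; omega
  let eW : (↥(H (K := K) 5) ⧸ V') ≃ₗ[K] (Fin 2 → K) :=
    LinearEquiv.ofFinrankEq _ _ (by rw [hW]; simp)
  set π : ↥(H (K := K) 5) →ₗ[K] (Fin 2 → K) := eW.toLinearMap ∘ₗ V'.mkQ with hπ
  have hπsurj : Function.Surjective π := eW.surjective.comp (Submodule.mkQ_surjective _)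
  have hπker : ∀ x : ↥(H (K := K) 5), π x = 0 ↔ (x : MvPolynomial (Fin 2) K) ∈ V := by
    intro x
    simp [hπ, V']
  -- the pencil of functionals vanishing on `V`
  set lam : K → (↥(H (K := K) 5) →ₗ[K] K) :=
    fun t => (LinearMap.proj 0 + t • LinearMap.proj 1) ∘ₗ π with hlam
  have hlam_apply : ∀ t x, lam t x = π x 0 + t * π x 1 := by intro t x; simp [hlam]
  have hlam_surj : ∀ t, Function.Surjective (lam t) := by
    intro t c
    obtain ⟨x, hx⟩ := hπsurj ![c, 0]
    exact ⟨x, by rw [hlam_apply, hx]; simp⟩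
  have hlamV : ∀ t (x : ↥(H (K := K) 5)), (x : MvPolynomial (Fin 2) K) ∈ V → lam t x = 0 := by
    intro t x hx
    rw [hlam_apply, (hπker x).2 hx]; simp
  -- kernel vectors
  have hker : ∀ t, ∃ g : ↥(H (K := K) 3), g ≠ 0 ∧
      ∀ e : ↥(H (K := K) 2), lam t (mulForm 3 2 5 rfl g e) = 0 := by
    intro t
    let T : ↥(H (K := K) 3) →ₗ[K] Module.Dual K ↥(H (K := K) 2) :=
      (mulForm 3 2 5 rfl).compr₂ (lam t)
    have hT : LinearMap.ker T ≠ ⊥ := by
      apply LinearMap.ker_ne_bot_of_finrank_lt
      rw [Subspace.dual_finrank_eq, finrank_H, finrank_H]; omega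
    obtain ⟨g, hgker, hg0⟩ := Submodule.exists_mem_ne_zero_of_ne_bot hT
    refine ⟨g, hg0, fun e => ?_⟩
    have := LinearMap.congr_fun (LinearMap.mem_ker.1 hgker) e
    simpa [T] using this
  choose G hG0 hGl using hker
  -- injectivity up to scalars
  have hinj : ∀ t s (c : K), G t = c • G s → t = s := by
    intro t s c hc
    by_contra hts
    have hkill : ∀ e : ↥(H (K := K) 2), π (mulForm 3 2 5 rfl (G t) e) = 0 := by
      intro e
      have h1 := hGl t e
      have h2 : lam s (mulForm 3 2 5 rfl (G t) e) = 0 := by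
        rw [hc, map_smul, LinearMap.smul_apply, map_smul, hGl s e, smul_zero]
      rw [hlam_apply] at h1 h2
      have h3 : (t - s) * π (mulForm 3 2 5 rfl (G t) e) 1 = 0 := by linear_combination h1 - h2
      have h4 : π (mulForm 3 2 5 rfl (G t) e) 1 = 0 := by
        rcases mul_eq_zero.1 h3 with h | h
        · exact absurd (sub_eq_zero.1 h) hts
        · exact h
      have h5 : π (mulForm 3 2 5 rfl (G t) e) 0 = 0 := by rw [h4] at h1; simpa using h1
      ext i; fin_cases i <;> simp [h4, h5]
    have hGt0 : (G t).1 ≠ 0 := fun h => hG0 t (Subtype.ext h)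
    apply not_mulImage_le V hdim hsep (G t).2 hGt0
    rintro _ ⟨e, he, rfl⟩
    have := (hπker _).1 (hkill ⟨e, he⟩)
    simpa using this
  -- conclusion by pigeonhole
  by_contra hcon
  push Not at hcon
  have hall : ∀ t : K, ∃ g' ∈ F, ∃ c : K, (G t).1 = c • g' := by
    intro t
    have hGt0 : (G t).1 ≠ 0 := fun h => hG0 t (Subtype.ext h)
    exact hcon (G t).1 (G t).2 hGt0
      (two_le_of_ker V hV hdim (lam t) (hlam_surj t) (hlamV t) (G t) (hG0 t) (hGl t))
  choose φ hφF c hc using hall
  have hφinj : Function.Injective (fun t => (⟨φ t, hφF t⟩ : {x // x ∈ F})) := by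
    intro t s hts
    have hφ : φ t = φ s := congrArg Subtype.val hts
    have hcs : c s ≠ 0 := by
      intro h
      apply hG0 s; apply Subtype.ext; rw [hc s, h, zero_smul]; rfl
    apply hinj t s (c t / c s)
    apply Subtype.ext
    show (G t).1 = (c t / c s) • (G s).1
    rw [hc t, hc s, hφ, smul_smul, div_mul_cancel₀ _ hcs]
  have : Infinite K := IsAlgClosed.instInfinite
  have : Finite K := Finite.of_injective _ hφinj
  exact not_finite K

end Groth.Agent.Lib.Seat98.Quintic
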