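import Groth.Prelude.Def_FibClv
import Mathlib.CategoryTheory.Bicategory.Grothendieck
import Mathlib.CategoryTheory.Bicategory.Functor.LocallyDiscrete
import Mathlib.CategoryTheory.Category.Cat

/-!
# Split cleavages (seat 98)

* `isSplitting_ofCoGrothendieck`: the canonical cleavage of the CoGrothendieck construction of a
  strict functor `F : 𝒮ᵒᵖ ⥤ Cat` is a splitting.
* `transportCleavage`, `isSplitting_transport`: transport of a (split) cleavage along an isomorphism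
  of categories `Φ : 𝒳 ⥤ 𝒴`, `Ψ : 𝒴 ⥤ 𝒳` (inverse on the nose).
-/

set_option autoImplicit false
set_option backward.isDefEq.respectTransparency false
set_option backward.isDefEq.respectTransparency.types false
universe v₁ v₂ v₃ u₁ u₂ u₃
open CategoryTheory CategoryTheory.Functor Opposite

namespace Groth.Agent.Lib.Seat98.Split

open Pseudofunctor Pseudofunctor.CoGrothendieck FibCat

variable {𝒮 : Type u₁} [Category.{v₁} 𝒮] (F : 𝒮ᵒᵖ ⥤ Cat.{v₂, u₂})

theorem dcl_id (x : CoGrothendieck F.toPseudofunctor') :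
    domainCartesianLift x.fiber (𝟙 x.base) = x := by
  ext
  · rfl
  · change HEq ((F.map (𝟙 (op x.base))).toFunctor.obj x.fiber) x.fiber
    rw [F.map_id]
    rfl

theorem dcl_comp (x : CoGrothendieck F.toPseudofunctor') {T U : 𝒮} (f : T ⟶ x.base) (g : U ⟶ T) :
    domainCartesianLift (domainCartesianLift x.fiber f).fiber g =
      domainCartesianLift x.fiber (g ≫ f) := by
  ext
  · rfl
  · change HEq ((F.map g.op).toFunctor.obj ((F.map f.op).toFunctor.obj x.fiber))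
      ((F.map (f.op ≫ g.op)).toFunctor.obj x.fiber)
    rw [F.map_comp]
    rfl

theorem eqToHom_base {x y : CoGrothendieck F.toPseudofunctor'} (h : x = y) :
    (eqToHom h).base = eqToHom (congrArg CoGrothendieck.base h) := by
  subst h; rfl

theorem fiber_eq_aux (x : CoGrothendieck F.toPseudofunctor') :
    x.fiber = (F.toPseudofunctor'.map (𝟙 x.base).op.toLoc).toFunctor.obj x.fiber := by
  change x.fiber = (F.map (𝟙 (op x.base))).toFunctor.obj x.fiber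
  rw [F.map_id]; rfl

theorem eqToHom_fiber_aux {x y : CoGrothendieck F.toPseudofunctor'} (h : x = y) :
    x.fiber = (F.toPseudofunctor'.map (eqToHom h).base.op.toLoc).toFunctor.obj y.fiber := by
  subst h; exact fiber_eq_aux F x

theorem eqToHom_fiber {x y : CoGrothendieck F.toPseudofunctor'} (h : x = y) :
    (eqToHom h).fiber = eqToHom (eqToHom_fiber_aux F h) := by
  subst h
  simp only [eqToHom_refl, categoryStruct_id_fiber]
  rw [Functor.toPseudofunctor'_mapId, eqToIso.inv, Cat.eqToHom_app]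

theorem lift_id (x : CoGrothendieck F.toPseudofunctor') (f : x.base ⟶ x.base) (hf : f = 𝟙 x.base) :
    ∃ h : domainCartesianLift x.fiber f = x, cartesianLift x.fiber f = eqToHom h := by
  subst hf
  refine ⟨dcl_id F x, ?_⟩
  refine Hom.ext _ _ ?_ ?_
  · rw [eqToHom_base]; simp
  · rw [eqToHom_fiber]; simp

theorem lift_comp (x : CoGrothendieck F.toPseudofunctor') {T U : 𝒮} (f : T ⟶ x.base) (g : U ⟶ T) :
    ∃ h : domainCartesianLift (domainCartesianLift x.fiber f).fiber g =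
        domainCartesianLift x.fiber (g ≫ f),
      cartesianLift (domainCartesianLift x.fiber f).fiber g ≫ cartesianLift x.fiber f =
        eqToHom h ≫ cartesianLift x.fiber (g ≫ f) := by
  refine ⟨dcl_comp F x f g, ?_⟩
  refine Hom.ext _ _ ?_ ?_
  · simp [eqToHom_base]
  · simp [eqToHom_fiber]

theorem lift_comp' (x : CoGrothendieck F.toPseudofunctor') {T U : 𝒮} (f f' : T ⟶ x.base)
    (g g' : U ⟶ T) (c : U ⟶ x.base) (hf : f' = f) (hg : g' = g) (hc : c = g ≫ f) :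
    ∃ h : domainCartesianLift (domainCartesianLift x.fiber f').fiber g' =
        domainCartesianLift x.fiber c,
      cartesianLift (domainCartesianLift x.fiber f').fiber g' ≫ cartesianLift x.fiber f' =
        eqToHom h ≫ cartesianLift x.fiber c := by
  subst hf hg hc
  exact lift_comp F x _ _

/-- the canonical cleavage of the CoGrothendieck construction of a strict functor is a splitting -/
theorem isSplitting_ofCoGrothendieck :
    (Cleavage.ofCoGrothendieck F.toPseudofunctor').IsSplitting := by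
  refine ⟨?_, ?_⟩
  · intro S a ha
    subst ha
    exact lift_id F a _ (by simp; rfl)
  · intro S T U f g a ha
    subst ha
    exact lift_comp' F a f _ g _ _ (by simp) (by simp) (by simp)

end Groth.Agent.Lib.Seat98.Split

namespace Groth.Agent.Lib.Seat98.Split

open FibCat

variable {𝒮 : Type u₁} [Category.{v₁} 𝒮] {𝒳 : Type u₂} [Category.{v₂} 𝒳]
  {𝒴 : Type u₃} [Category.{v₃} 𝒴]
  (Φ : 𝒳 ⥤ 𝒴) (Ψ : 𝒴 ⥤ 𝒳) (h₁ : Φ ⋙ Ψ = 𝟭 𝒳) (h₂ : Ψ ⋙ Φ = 𝟭 𝒴) (q : 𝒴 ⥤ 𝒮)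

include h₁ in
theorem obj₁ (a : 𝒳) : Ψ.obj (Φ.obj a) = a := Functor.congr_obj h₁ a

include h₂ in
theorem obj₂ (y : 𝒴) : Φ.obj (Ψ.obj y) = y := Functor.congr_obj h₂ y

theorem map₁ {u v : 𝒳} (ψ : u ⟶ v) : Ψ.map (Φ.map ψ) =
    eqToHom (obj₁ Φ Ψ h₁ u) ≫ ψ ≫ eqToHom (obj₁ Φ Ψ h₁ v).symm :=
  Functor.congr_hom h₁ ψ

theorem map₂ {u v : 𝒴} (ψ : u ⟶ v) : Φ.map (Ψ.map ψ) =
    eqToHom (obj₂ Φ Ψ h₂ u) ≫ ψ ≫ eqToHom (obj₂ Φ Ψ h₂ v).symm :=
  Functor.congr_hom h₂ ψ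

theorem isHomLift_of_comp {R S : 𝒮} (f : R ⟶ S) {a b : 𝒳} (φ : a ⟶ b)
    [h : (Φ ⋙ q).IsHomLift f φ] : q.IsHomLift f (Φ.map φ) := by
  cases h
  exact .map _

include h₂ in
theorem isHomLift_map {R S : 𝒮} (f : R ⟶ S) {y' y : 𝒴} (φ : y' ⟶ y) [q.IsHomLift f φ] :
    (Φ ⋙ q).IsHomLift f (Ψ.map φ) := by
  have e1 : q.obj y' = R := IsHomLift.domain_eq q f φ
  have e2 : q.obj y = S := IsHomLift.codomain_eq q f φ
  apply IsHomLift.of_fac' (Φ ⋙ q) f (Ψ.map φ)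
    (by rw [Functor.comp_obj, obj₂ Φ Ψ h₂ y']; exact e1)
    (by rw [Functor.comp_obj, obj₂ Φ Ψ h₂ y]; exact e2)
  rw [Functor.comp_map, map₂ Φ Ψ h₂, IsHomLift.fac q f φ]
  simp [eqToHom_map]

include h₁ h₂ in
/-- an isomorphism of categories over the base carries cartesian morphisms to cartesian morphisms -/
theorem isCartesian_map {R S : 𝒮} (f : R ⟶ S) {y' y : 𝒴} (φ : y' ⟶ y) [q.IsCartesian f φ] :
    (Φ ⋙ q).IsCartesian f (Ψ.map φ) := by
  have hlift : (Φ ⋙ q).IsHomLift f (Ψ.map φ) := isHomLift_map Φ Ψ h₂ q f φ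
  refine { toIsHomLift := hlift, universal_property := ?_ }
  intro a' φ' hφ'
  -- the lift on the `𝒴` side
  have hφ'' : q.IsHomLift f (Φ.map φ' ≫ eqToHom (obj₂ Φ Ψ h₂ y)) := by
    have := isHomLift_of_comp Φ q f φ'
    infer_instance
  obtain ⟨χ₀, ⟨hχ₀l, hχ₀⟩, huniq⟩ :=
    IsCartesian.universal_property (p := q) (f := f) (φ := φ)
      (Φ.map φ' ≫ eqToHom (obj₂ Φ Ψ h₂ y))
  refine ⟨eqToHom (obj₁ Φ Ψ h₁ a').symm ≫ Ψ.map χ₀, ⟨?_, ?_⟩, ?_⟩
  · have := isHomLift_map Φ Ψ h₂ q (𝟙 R) χ₀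
    infer_instance
  · rw [Category.assoc, ← Functor.map_comp, hχ₀, Functor.map_comp, map₁ Φ Ψ h₁]
    simp [eqToHom_map]
  · rintro χ' ⟨hχ'l, hχ'⟩
    have hl : q.IsHomLift (𝟙 R) (Φ.map χ' ≫ eqToHom (obj₂ Φ Ψ h₂ y')) := by
      have := isHomLift_of_comp Φ q (𝟙 R) χ'
      infer_instance
    have key := huniq (Φ.map χ' ≫ eqToHom (obj₂ Φ Ψ h₂ y')) ⟨hl, by
      rw [← hχ', Functor.map_comp, map₂ Φ Ψ h₂]
      simp⟩
    rw [← key, Functor.map_comp, map₁ Φ Ψ h₁]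
    simp [eqToHom_map]

/-- the cleavage of `Φ ⋙ q` transported from a cleavage of `q` along an isomorphism of categories -/
noncomputable def transportCleavage (L : Cleavage q) : Cleavage (Φ ⋙ q) where
  obj {_ _ a} ha f := Ψ.obj (L.obj (a := Φ.obj a) ha f)
  lift {_ _ a} ha f := Ψ.map (L.lift (a := Φ.obj a) ha f) ≫ eqToHom (obj₁ Φ Ψ h₁ a)
  isCartesian {_ _ a} ha f := by
    have := isCartesian_map Φ Ψ h₁ h₂ q f (L.lift (a := Φ.obj a) ha f)
    have : (Φ ⋙ q).IsHomLift (𝟙 _) (eqToIso (obj₁ Φ Ψ h₁ a)).hom :=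
      IsHomLift.eqToHom_codomain_lift_id (obj₁ Φ Ψ h₁ a) ha
    exact IsCartesian.of_comp_iso (Φ ⋙ q) f (Ψ.map (L.lift (a := Φ.obj a) ha f))
      (eqToIso (obj₁ Φ Ψ h₁ a))

theorem cleavage_congr (L : Cleavage q) {R T : 𝒮} (g : R ⟶ T) {y y' : 𝒴} (e : y' = y)
    (hy : q.obj y = T) (hy' : q.obj y' = T) :
    ∃ h : L.obj hy' g = L.obj hy g, L.lift hy' g = eqToHom h ≫ L.lift hy g ≫ eqToHom e.symm := by
  subst e
  exact ⟨rfl, by simp⟩

theorem isSplitting_transport (L : Cleavage q) (hL : L.IsSplitting) :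
    (transportCleavage Φ Ψ h₁ h₂ q L).IsSplitting := by
  refine ⟨?_, ?_⟩
  · intro S a ha
    obtain ⟨h₀, hh₀⟩ := @hL.1 S (Φ.obj a) ha
    refine ⟨?_, ?_⟩
    · change Ψ.obj (L.obj (a := Φ.obj a) ha (𝟙 S)) = a
      rw [h₀]; exact obj₁ Φ Ψ h₁ a
    · change Ψ.map (L.lift (a := Φ.obj a) ha (𝟙 S)) ≫ eqToHom (obj₁ Φ Ψ h₁ a) = _
      rw [hh₀]
      simp [eqToHom_map]
  · intro S T U f g a ha
    obtain ⟨h₀, hh₀⟩ := @hL.2 S T U f g (Φ.obj a) ha
    obtain ⟨h₃, hh₃⟩ := cleavage_congr q L g (obj₂ Φ Ψ h₂ (L.obj (a := Φ.obj a) ha f))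
      (L.obj_proj ha f) ((transportCleavage Φ Ψ h₁ h₂ q L).obj_proj ha f)
    refine ⟨?_, ?_⟩
    · change Ψ.obj (L.obj (a := Φ.obj (Ψ.obj (L.obj (a := Φ.obj a) ha f))) _ g) =
        Ψ.obj (L.obj (a := Φ.obj a) ha (g ≫ f))
      rw [h₃, h₀]
    · change (Ψ.map (L.lift (a := Φ.obj (Ψ.obj (L.obj (a := Φ.obj a) ha f))) _ g) ≫ eqToHom _) ≫
        (Ψ.map (L.lift (a := Φ.obj a) ha f) ≫ eqToHom _) =
        eqToHom _ ≫ Ψ.map (L.lift (a := Φ.obj a) ha (g ≫ f)) ≫ eqToHom _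
      rw [hh₃]
      simp only [Functor.map_comp, eqToHom_map, Category.assoc, eqToHom_trans_assoc, eqToHom_refl,
        Category.id_comp]
      rw [← Functor.map_comp_assoc, hh₀]
      simp [eqToHom_map]

end Groth.Agent.Lib.Seat98.Split
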