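import Mathlib
import Groth.Prelude.Def_ThetaGrp
import Groth.Agent.Lib.Seat98PicCalc
import Groth.Agent.Lib.Seat98KL

/-!
# Points of the theta group lying over a point of `K(L)` (seat 98)

* `Cog.isIso_fiber_of_isIso`, `Cog.exists_iso_of_fiber_iso` : isomorphisms of the contravariant Grothendieck construction
  of a pseudofunctor have invertible fibre components, and conversely;
* `thetaPt_iso` / `exists_thetaPt` : a point of `G(L)(T)` over `x` is the same as an isomorphism `L_T ≅ t_x^*L_T`;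
* `isTransl_O_iff_thetaPt` : this happens iff `p₁^*L ≅ m_x^*L` (the translate form with trivial `M`);
* `isTransl_baseChange` : base change of the translate form along `T' ⟶ T`;
* `s19945`.
-/

set_option autoImplicit false
universe u v₁ u₁ v₂ u₂

namespace Groth.Agent.Lib.Seat98.ThetaPt

open CategoryTheory CategoryTheory.Limits MonoidalCategory CartesianMonoidalCategory MonObj AlgebraicGeometry
open Pseudofunctor Opposite Bicategory
open CategoryTheory.Pseudofunctor.CoGrothendieck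

namespace Cog

variable {𝒮 : Type u₁} [Category.{v₁} 𝒮] {F : LocallyDiscrete 𝒮ᵒᵖ ⥤ᵖ Cat.{v₂, u₂}}

theorem isIso_mapId_inv_app (X : LocallyDiscrete 𝒮ᵒᵖ) (Y : F.obj X) :
    IsIso ((F.mapId X).inv.toNatTrans.app Y) :=
  ((Cat.Hom.toNatIso (F.mapId X)).app Y).isIso_inv

theorem isIso_mapComp_inv_app {X Y Z : LocallyDiscrete 𝒮ᵒᵖ} (f : X ⟶ Y) (g : Y ⟶ Z) (W : F.obj X) :
    IsIso ((F.mapComp f g).inv.toNatTrans.app W) :=
  ((Cat.Hom.toNatIso (F.mapComp f g)).app W).isIso_inv

theorem fiber_comp_eq {a b : ∫ᶜ F} (f : a ⟶ b) (g : b ⟶ a) (h : f ≫ g = 𝟙 a) :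
    ∃ (I : a.fiber ⟶ (F.map (f.base ≫ g.base).op.toLoc).toFunctor.obj a.fiber), IsIso I ∧
      f.fiber ≫ (F.map f.base.op.toLoc).toFunctor.map g.fiber ≫
        (F.mapComp g.base.op.toLoc f.base.op.toLoc).inv.toNatTrans.app a.fiber = I := by
  have h1 := Hom.congr h
  rw [categoryStruct_comp_fiber] at h1
  refine ⟨_, ?_, h1⟩
  rw [categoryStruct_id_fiber]
  have h2 := isIso_mapId_inv_app (F := F) ⟨op a.base⟩ a.fiber
  exact @IsIso.comp_isIso _ _ _ _ _ _ _ h2 inferInstance

/-- the fibre component of an isomorphism of the Grothendieck construction is an isomorphism. -/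
theorem isIso_fiber_of_isIso {a b : ∫ᶜ F} (f : a ⟶ b) [IsIso f] : IsIso f.fiber := by
  obtain ⟨I₁, ⟨J₁, hIJ₁, hJI₁⟩, h1⟩ := fiber_comp_eq f (inv f) (IsIso.hom_inv_id f)
  obtain ⟨I₂, ⟨J₂, hIJ₂, hJI₂⟩, h2⟩ := fiber_comp_eq (inv f) f (IsIso.inv_hom_id f)
  have hsm : IsSplitMono (inv f).fiber := by
    refine ⟨⟨⟨((F.map (inv f).base.op.toLoc).toFunctor.map f.fiber ≫
        (F.mapComp f.base.op.toLoc (inv f).base.op.toLoc).inv.toNatTrans.app b.fiber) ≫ J₂, ?_⟩⟩⟩
    rw [← Category.assoc, ← Category.assoc, Category.assoc (inv f).fiber, h2]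
    exact hIJ₂
  have hc := isIso_mapComp_inv_app (F := F) (inv f).base.op.toLoc f.base.op.toLoc a.fiber
  have hmono : Mono ((F.map f.base.op.toLoc).toFunctor.map (inv f).fiber ≫
        (F.mapComp (inv f).base.op.toLoc f.base.op.toLoc).inv.toNatTrans.app a.fiber) := by
    have : Mono ((F.map f.base.op.toLoc).toFunctor.map (inv f).fiber) := inferInstance
    exact mono_comp _ _
  have hse : IsSplitEpi ((F.map f.base.op.toLoc).toFunctor.map (inv f).fiber ≫
        (F.mapComp (inv f).base.op.toLoc f.base.op.toLoc).inv.toNatTrans.app a.fiber) := by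
    refine ⟨⟨⟨J₁ ≫ f.fiber, ?_⟩⟩⟩
    rw [Category.assoc, h1]
    exact hJI₁
  have hYiso := isIso_of_mono_of_isSplitEpi ((F.map f.base.op.toLoc).toFunctor.map (inv f).fiber ≫
        (F.mapComp (inv f).base.op.toLoc f.base.op.toLoc).inv.toNatTrans.app a.fiber)
  obtain ⟨Y', hYY', hY'Y⟩ := hYiso
  have hf : f.fiber = I₁ ≫ Y' := by
    rw [← h1]
    erw [Category.assoc, hYY', Category.comp_id]
  refine ⟨((F.map f.base.op.toLoc).toFunctor.map (inv f).fiber ≫
        (F.mapComp (inv f).base.op.toLoc f.base.op.toLoc).inv.toNatTrans.app a.fiber) ≫ J₁, ?_, ?_⟩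
  · rw [← Category.assoc, ← Category.assoc, Category.assoc f.fiber, h1]
    exact hIJ₁
  · rw [hf]
    erw [Category.assoc, reassoc_of% hJI₁]
    exact hYY'

/-- an isomorphism in the fibre over the source of an isomorphism of the base gives an isomorphism of the
Grothendieck construction. -/
theorem exists_iso_of_fiber_iso {R S : 𝒮} (τ : R ⟶ S) [IsIso τ] (M : F.obj ⟨op R⟩) (N : F.obj ⟨op S⟩)
    (φ : M ≅ (F.map τ.op.toLoc).toFunctor.obj N) :
    ∃ g : (⟨R, M⟩ : ∫ᶜ F) ⟶ ⟨S, N⟩, IsIso g ∧ g.base = τ := by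
  have h1 : IsIso (cartesianLift N τ) := by
    have := isStronglyCartesian_homCartesianLift N τ
    exact Functor.IsStronglyCartesian.isIso_of_base_isIso (forget F) τ (cartesianLift N τ)
  have h2 : IsIso ((CategoryTheory.Pseudofunctor.CoGrothendieck.ι F R).map φ.hom) := inferInstance
  refine ⟨(CategoryTheory.Pseudofunctor.CoGrothendieck.ι F R).map φ.hom ≫ cartesianLift N τ, @IsIso.comp_isIso _ _ _ _ _ _ _ h2 h1, ?_⟩
  rw [categoryStruct_comp_base]
  exact Category.id_comp τ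

end Cog

open Groth.Agent.Lib.Seat98.PicCalc Groth.Agent.Lib.Seat98.KL

section theta

variable {S : Scheme.{u}} (A : Over S) [GrpObj A] (L : A.left.Modules) {T : Over S}

theorem transl_transl_inv (x : T ⟶ A) : ThetaGrp.transl A x ≫ ThetaGrp.transl A x⁻¹ = 𝟙 _ := by
  rw [← ThetaGrp.transl_mul, mul_inv_cancel, ThetaGrp.transl_one]

theorem transl_inv_transl (x : T ⟶ A) : ThetaGrp.transl A x⁻¹ ≫ ThetaGrp.transl A x = 𝟙 _ := by
  rw [← ThetaGrp.transl_mul, inv_mul_cancel, ThetaGrp.transl_one]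

theorem isIso_transl_left (x : T ⟶ A) : IsIso (ThetaGrp.transl A x).left := by
  refine ⟨(ThetaGrp.transl A x⁻¹).left, ?_, ?_⟩
  · rw [← Over.comp_left, transl_transl_inv]; rfl
  · rw [← Over.comp_left, transl_inv_transl]; rfl

/-- a point of the theta group over `x` gives an isomorphism `L_T ≅ t_x^*L_T`. -/
theorem thetaPt_iso (β : ThetaGrp.thetaPts A L T) (x : T ⟶ A) (hx : ThetaGrp.IsOverPt β x) :
    Nonempty (pb (fst A T).left L ≅ pb (ThetaGrp.transl A x).left (pb (fst A T).left L)) := by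
  have key : ∀ (τ : (A ⊗ T).left ⟶ (A ⊗ T).left) (_ : β.1.hom.base = τ),
      Nonempty (pb (fst A T).left L ≅ pb τ (pb (fst A T).left L)) := by
    intro τ h
    subst h
    have h1 := Cog.isIso_fiber_of_isIso β.1.hom
    exact ⟨@asIso _ _ _ _ _ h1⟩
  exact key _ hx

/-- an isomorphism `L_T ≅ t_x^*L_T` gives a point of the theta group over `x`. -/
theorem exists_thetaPt (x : T ⟶ A)
    (e : pb (fst A T).left L ≅ pb (ThetaGrp.transl A x).left (pb (fst A T).left L)) :
    ∃ β : ThetaGrp.thetaPts A L T, ThetaGrp.IsOverPt β x := by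
  have := isIso_transl_left A x
  obtain ⟨g, hg, hbase⟩ := Cog.exists_iso_of_fiber_iso (F := ThetaGrp.modPF.{u}) (ThetaGrp.transl A x).left
    (pb (fst A T).left L) (pb (fst A T).left L) e
  let α : Aut (ThetaGrp.thetaObj A L T) := asIso g
  exact ⟨⟨α, x, hbase⟩, hbase⟩

/-- an isomorphism `L_T ≅ t_x^*L_T` gives the translate form with trivial twist. -/
theorem isTransl_O_of_iso (x : T ⟶ A)
    (e : pb (fst A T).left L ≅ pb (ThetaGrp.transl A x).left (pb (fst A T).left L)) :
    IsTransl A L x (Coh.structureModule T.left) := by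
  have h1 : (ThetaGrp.transl A x).left ≫ (fst A T).left = (mx A x).left :=
    congrArg (·.left) (transl_fst' A x)
  exact ⟨tIso (Iso.refl _) (pbO _) ≪≫ tUnitR _ ≪≫ e ≪≫
    pbComp' (ThetaGrp.transl A x).left (fst A T).left (mx A x).left h1 L⟩

/-- the translate form with trivial twist gives an isomorphism `L_T ≅ t_x^*L_T`. -/
theorem iso_of_isTransl_O (x : T ⟶ A) (h : IsTransl A L x (Coh.structureModule T.left)) :
    Nonempty (pb (fst A T).left L ≅ pb (ThetaGrp.transl A x).left (pb (fst A T).left L)) := by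
  obtain ⟨e⟩ := h
  have h1 : (ThetaGrp.transl A x).left ≫ (fst A T).left = (mx A x).left :=
    congrArg (·.left) (transl_fst' A x)
  exact ⟨(tUnitR _).symm ≪≫ tIso (Iso.refl _) (pbO _).symm ≪≫ e ≪≫
    (pbComp' (ThetaGrp.transl A x).left (fst A T).left (mx A x).left h1 L).symm⟩

variable {A L}

/-- base change of the translate form along `u : T' ⟶ T`. -/
theorem isTransl_baseChange {x : T ⟶ A} {M : T.left.Modules} (h : IsTransl A L x M) {T' : Over S} (u : T' ⟶ T) :
    IsTransl A L (u ≫ x) (pb u.left M) := by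
  obtain ⟨e⟩ := h
  let w : A ⊗ T' ⟶ A ⊗ T := A ◁ u
  have h1 : w ≫ fst A T = fst A T' := whiskerLeft_fst _ _
  have h2 : w ≫ snd A T = snd A T' ≫ u := whiskerLeft_snd _ _
  have h3 : w ≫ mx A x = mx A (u ≫ x) := by
    unfold mx
    rw [MonObj.comp_mul, h1, ← Category.assoc, h2, Category.assoc]
  have e1 : pb w.left (pb (fst A T).left L) ≅ pb (fst A T').left L :=
    pbComp' w.left (fst A T).left _ (congrArg (·.left) h1) L
  have e2 : pb w.left (pb (snd A T).left M) ≅ pb (snd A T').left (pb u.left M) :=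
    pbComp' w.left (snd A T).left (snd A T' ≫ u).left (congrArg (·.left) h2) M ≪≫
      pbComp (snd A T').left u.left M
  have e3 : pb w.left (pb (mx A x).left L) ≅ pb (mx A (u ≫ x)).left L :=
    pbComp' w.left (mx A x).left _ (congrArg (·.left) h3) L
  exact ⟨tIso e1.symm e2.symm ≪≫ (pbT w.left _ _).symm ≪≫ pbIso w.left e ≪≫ e3⟩

end theta

section glue

variable {S : Scheme.{u}}

/-- a morphism to `A` which locally on the source factors through a monomorphism `K ⟶ A` factors through it. -/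
theorem factor_of_locally {T K A : Over S} (iK : K ⟶ A) [Mono iK.left] (x : T ⟶ A)
    (h : ∀ t : T.left, ∃ U : T.left.Opens, t ∈ U ∧ ∃ y : Over.mk (U.ι ≫ T.hom) ⟶ K,
      y ≫ iK = (Over.homMk U.ι rfl : Over.mk (U.ι ≫ T.hom) ⟶ T) ≫ x) :
    ∃ y : T ⟶ K, y ≫ iK = x := by
  choose U hU y hy using h
  have hcov : TopologicalSpace.IsOpenCover U := by
    refine TopologicalSpace.IsOpenCover.mk (eq_top_iff.2 ?_)
    intro t _
    exact TopologicalSpace.Opens.mem_iSup.2 ⟨t, hU t⟩
  let 𝒰 : T.left.OpenCover := T.left.openCoverOfIsOpenCover U hcov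
  have hy' : ∀ t, (y t).left ≫ iK.left = (U t).ι ≫ x.left := by
    intro t
    have := congrArg (·.left) (hy t)
    exact this
  have hcompat : ∀ t t' : T.left, pullback.fst (U t).ι (U t').ι ≫ (y t).left =
      pullback.snd (U t).ι (U t').ι ≫ (y t').left := by
    intro t t'
    rw [← cancel_mono iK.left, Category.assoc, Category.assoc, hy', hy']
    exact pullback.condition_assoc _
  let g : T.left ⟶ K.left := 𝒰.glueMorphisms (fun t => (y t).left) hcompat
  have hg : ∀ t, (U t).ι ≫ g = (y t).left := fun t => 𝒰.ι_glueMorphisms _ _ t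
  have hgK : g ≫ K.hom = T.hom := by
    refine Scheme.Cover.hom_ext 𝒰 _ _ fun t => ?_
    change (U t).ι ≫ g ≫ K.hom = (U t).ι ≫ T.hom
    rw [← Category.assoc, hg]
    exact Over.w (y t)
  refine ⟨Over.homMk g hgK, ?_⟩
  apply Over.OverMorphism.ext
  refine Scheme.Cover.hom_ext 𝒰 _ _ fun t => ?_
  change (U t).ι ≫ g ≫ iK.left = (U t).ι ≫ x.left
  rw [← Category.assoc, hg, hy']

end glue

section main

variable (k : Type u) [Field k] (A : Over (Spec (CommRingCat.of k))) [GrpObj A]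

/-- S19945 -/
theorem s19945 (L : A.left.Modules) (hL : PicF.IsInvertible L)
    (K : Over (Spec (CommRingCat.of k))) (iK : K ⟶ A) (hK : ThetaGrp.IsKL A L iK)
    (T : Over (Spec (CommRingCat.of k))) (x : T ⟶ A) :
    (∃ y : T ⟶ K, y ≫ iK = x) ↔
      ∀ t : ↥T.left, ∃ U : T.left.Opens, t ∈ U ∧
        ∃ β : ThetaGrp.thetaPts A L (Over.mk (U.ι ≫ T.hom)),
          ThetaGrp.IsOverPt β ((Over.homMk U.ι rfl : Over.mk (U.ι ≫ T.hom) ⟶ T) ≫ x) := by
  constructor
  · rintro ⟨y, hy⟩ t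
    have hmt : ThetaGrp.IsMumfordTriv A L x := (hK.univ T x).2 ⟨y, hy⟩
    obtain ⟨M, hM, hTr⟩ := (mumfordTriv_iff_transl hL x).1 hmt
    obtain ⟨U, htU, ⟨e⟩⟩ := hM t
    refine ⟨U, htU, ?_⟩
    have h1 : IsTransl A L ((Over.homMk U.ι rfl : Over.mk (U.ι ≫ T.hom) ⟶ T) ≫ x) (pb U.ι M) :=
      isTransl_baseChange hTr (Over.homMk U.ι rfl : Over.mk (U.ι ≫ T.hom) ⟶ T)
    have e' : pb U.ι M ≅ Coh.structureModule (Over.mk (U.ι ≫ T.hom)).left :=
      (Scheme.Modules.restrictFunctorIsoPullback U.ι).symm.app M ≪≫ e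
    have h2 := h1.of_iso A e'
    obtain ⟨e2⟩ := iso_of_isTransl_O A L _ h2
    exact exists_thetaPt A L _ e2
  · intro h
    have hci : IsClosedImmersion iK.left := hK.closed
    have : Mono iK.left := inferInstance
    apply factor_of_locally iK x
    intro t
    obtain ⟨U, htU, β, hβ⟩ := h t
    refine ⟨U, htU, ?_⟩
    obtain ⟨e⟩ := thetaPt_iso A L β _ hβ
    have h1 := isTransl_O_of_iso A L _ e
    have h2 : ThetaGrp.IsMumfordTriv A L ((Over.homMk U.ι rfl : Over.mk (U.ι ≫ T.hom) ⟶ T) ≫ x) :=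
      (mumfordTriv_iff_transl hL _).2 ⟨_, inv_O _, h1⟩
    exact (hK.univ _ _).1 h2

end main

end Groth.Agent.Lib.Seat98.ThetaPt
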