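import Mathlib
import Groth.Prelude
import Groth.Agent.Lib.Seat98ThetaPt

/-!
# The level subgroup attached to a descent of `L` along a homomorphism (seat 98)

Setting: `f : A ⟶ B` a homomorphism of group schemes over `S`, `M` a module on `B`, `L` a module on `A` with an
isomorphism `L ≅ f^*M`.  For a `T`-point `x` of `A` with `x ≫ f = 1` the translation `t_x` of `A ×_S T` lifts
canonically to an automorphism `alpha x` of `(A ×_S T, L_T)` in the Grothendieck construction: the unique morphism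
over `t_x` compatible with the cartesian morphism `(A ×_S T, L_T) ⟶ (B, M)`.  Uniqueness of cartesian lifts gives
multiplicativity (`alpha_mul`), compatibility with base change (`alpha_bcLift`) and `bcLift_comp`.

Main results: `thetaPt x hx : thetaPts A L T` over `x`, `thetaPt_mul`, `isBaseChange_thetaPt`,
`isBaseChange_trans`, and `exists_level` (the statement S19953).
-/

set_option backward.isDefEq.respectTransparency.types false
set_option autoImplicit false
universe u

namespace Groth.Agent.Lib.Seat98.ThetaLevel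

open CategoryTheory CategoryTheory.Limits MonoidalCategory CartesianMonoidalCategory MonObj AlgebraicGeometry
open Pseudofunctor Opposite Bicategory
open CategoryTheory.Pseudofunctor.CoGrothendieck
open CategoryTheory.Functor

noncomputable section

abbrev F := ThetaGrp.modPF.{u}

theorem isHomLift_of_base {a b : ∫ᶜ F.{u}} (φ : a ⟶ b) (f : a.base ⟶ b.base) (h : φ.base = f) :
    IsHomLift (forget F.{u}) f φ := by
  subst h
  exact IsHomLift.map (forget F) φ

theorem base_eq_of_isHomLift {a b : ∫ᶜ F.{u}} (φ : a ⟶ b) (f : a.base ⟶ b.base)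
    (h : IsHomLift (forget F.{u}) f φ) : φ.base = f :=
  (@IsHomLift.eq_of_isHomLift _ _ _ _ (forget F.{u}) a b f φ h).symm

section proj

variable {S : Scheme.{u}} (A : Over S) [GrpObj A] (L : A.left.Modules)

/-- the projection `(A ×_S T, L_T) ⟶ (A, L)`. -/
abbrev proj (T : Over S) : ThetaGrp.thetaObj A L T ⟶ (⟨A.left, L⟩ : ∫ᶜ F.{u}) :=
  cartesianLift (F := F.{u}) L (fst A T).left

instance isStronglyCartesian_proj (T : Over S) :
    IsStronglyCartesian (forget F.{u}) (fst A T).left (proj A L T) :=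
  isStronglyCartesian_homCartesianLift (F := F.{u}) L (fst A T).left

omit [GrpObj A] in
theorem bcLift_proj {T G : Over S} (g : T ⟶ G) :
    ThetaGrp.bcLift A L g ≫ proj A L G = proj A L T := by
  refine CoGrothendieck.Hom.ext _ _ ?_ ?_
  · simp [ThetaGrp.bcLift]
  · simp [ThetaGrp.bcLift, Scheme.Modules.pullbackCongr, eqToHom_app]
    erw [CategoryTheory.Functor.map_id, Category.id_comp, Category.id_comp, Iso.inv_hom_id_app]
    erw [Category.comp_id]

instance isHomLift_bcLift {T G : Over S} (g : T ⟶ G) :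
    IsHomLift (forget F.{u}) (A ◁ g).left (ThetaGrp.bcLift A L g) :=
  isHomLift_of_base _ _ rfl

omit [GrpObj A] in
/-- uniqueness of morphisms into `(A ×_S T, L_T)` : determined by the base and the composite with `proj`. -/
theorem hom_ext_proj {T : Over S} {a : ∫ᶜ F.{u}} (ψ ψ' : a ⟶ ThetaGrp.thetaObj A L T)
    (hb : ψ.base = ψ'.base) (h : ψ ≫ proj A L T = ψ' ≫ proj A L T) : ψ = ψ' := by
  have h1 : IsHomLift (forget F.{u}) ψ.base ψ := isHomLift_of_base _ _ rfl
  have h2 : IsHomLift (forget F.{u}) ψ.base ψ' := isHomLift_of_base _ _ hb.symm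
  exact IsStronglyCartesian.ext (forget F.{u}) (fst A T).left (proj A L T) ψ.base h

omit [GrpObj A] in
theorem bcLift_comp {T T' G : Over S} (t : T' ⟶ T) (g : T ⟶ G) :
    ThetaGrp.bcLift A L (t ≫ g) = ThetaGrp.bcLift A L t ≫ ThetaGrp.bcLift A L g := by
  apply hom_ext_proj
  · change (A ◁ (t ≫ g)).left = (A ◁ t).left ≫ (A ◁ g).left
    rw [← Over.comp_left, MonoidalCategory.whiskerLeft_comp]
  · rw [Category.assoc, bcLift_proj, bcLift_proj, bcLift_proj]

theorem isBaseChange_trans {T T' G : Over S} (t : T' ⟶ T) (g : T ⟶ G)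
    (β : ThetaGrp.thetaPts A L T') (β' : ThetaGrp.thetaPts A L T) (u : ThetaGrp.thetaPts A L G)
    (h1 : ThetaGrp.IsBaseChange β t β') (h2 : ThetaGrp.IsBaseChange β' g u) :
    ThetaGrp.IsBaseChange β (t ≫ g) u := by
  unfold ThetaGrp.IsBaseChange at *
  rw [bcLift_comp, ← Category.assoc, h1, Category.assoc, h2, Category.assoc]

end proj

section alpha

variable {S : Scheme.{u}} {A B : Over S} [GrpObj A] [GrpObj B] (f : A ⟶ B) [IsMonHom f]
  {L : A.left.Modules} {M : B.left.Modules} (e : L ≅ (Scheme.Modules.pullback f.left).obj M)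

/-- the cartesian morphism `(A, L) ⟶ (B, M)` over `f` given by `L ≅ f^*M`. -/
def phi0 : (⟨A.left, L⟩ : ∫ᶜ F.{u}) ⟶ ⟨B.left, M⟩ :=
  (CoGrothendieck.ι F.{u} A.left).map e.hom ≫ cartesianLift (F := F.{u}) M f.left

instance isStronglyCartesian_phi0 : IsStronglyCartesian (forget F.{u}) f.left (phi0 f e) := by
  have h0 : IsHomLift (forget F.{u}) (𝟙 A.left) ((CoGrothendieck.ι F.{u} A.left).map e.hom) :=
    isHomLift_of_base _ _ rfl
  have h1 : IsStronglyCartesian (forget F.{u}) (𝟙 A.left) ((CoGrothendieck.ι F.{u} A.left).map e.hom) :=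
    IsStronglyCartesian.of_isIso (forget F.{u}) (𝟙 A.left) _
  have h2 := isStronglyCartesian_homCartesianLift (F := F.{u}) M f.left
  have h3 : IsStronglyCartesian (forget F.{u}) (𝟙 A.left ≫ f.left) (phi0 f e) :=
    @IsStronglyCartesian.comp _ _ _ _ (forget F.{u}) _ _ _ _ _ _ _ _ _ _ h1 h2
  rwa [Category.id_comp] at h3

/-- the cartesian morphism `(A ×_S T, L_T) ⟶ (B, M)`. -/
def Phi (T : Over S) : ThetaGrp.thetaObj A L T ⟶ (⟨B.left, M⟩ : ∫ᶜ F.{u}) :=
  proj A L T ≫ phi0 f e

instance isStronglyCartesian_Phi (T : Over S) :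
    IsStronglyCartesian (forget F.{u}) ((fst A T).left ≫ f.left) (Phi f e T) :=
  IsStronglyCartesian.comp (forget F.{u})

theorem bcLift_Phi {T G : Over S} (g : T ⟶ G) : ThetaGrp.bcLift A L g ≫ Phi f e G = Phi f e T := by
  unfold Phi
  rw [← Category.assoc, bcLift_proj]

theorem Phi_base (T : Over S) : (Phi f e T).base = (fst A T).left ≫ f.left :=
  base_eq_of_isHomLift _ _ inferInstance

/-- uniqueness of morphisms into `(A ×_S T, L_T)` : determined by the base and the composite with `Phi`. -/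
theorem hom_ext_Phi {T : Over S} {a : ∫ᶜ F.{u}} (ψ ψ' : a ⟶ ThetaGrp.thetaObj A L T)
    (hb : ψ.base = ψ'.base) (h : ψ ≫ Phi f e T = ψ' ≫ Phi f e T) : ψ = ψ' := by
  have h1 : IsHomLift (forget F.{u}) ψ.base ψ := isHomLift_of_base _ _ rfl
  have h2 : IsHomLift (forget F.{u}) ψ.base ψ' := isHomLift_of_base _ _ hb.symm
  exact IsStronglyCartesian.ext (forget F.{u}) ((fst A T).left ≫ f.left) (Phi f e T) ψ.base h

theorem transl_comp_eq {T : Over S} (x : T ⟶ A) (hx : x ≫ f = 1) :
    (ThetaGrp.transl A x).left ≫ (fst A T).left ≫ f.left = (fst A T).left ≫ f.left := by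
  have h : ThetaGrp.transl A x ≫ fst A T ≫ f = fst A T ≫ f := by
    rw [← Category.assoc, ThetaGrp.transl_fst, MonObj.mul_comp, Category.assoc, hx, MonObj.comp_one,
      _root_.mul_one]
  have h2 := congrArg (fun k => k.left) h
  simpa using h2

/-- the canonical lift of the translation by a point of the kernel. -/
def alpha {T : Over S} (x : T ⟶ A) (hx : x ≫ f = 1) : ThetaGrp.thetaObj A L T ⟶ ThetaGrp.thetaObj A L T :=
  IsStronglyCartesian.map (forget F.{u}) ((fst A T).left ≫ f.left) (Phi f e T)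
    (g := (ThetaGrp.transl A x).left) (transl_comp_eq f x hx).symm (Phi f e T)

theorem alpha_base {T : Over S} (x : T ⟶ A) (hx : x ≫ f = 1) :
    (alpha f e x hx).base = (ThetaGrp.transl A x).left :=
  base_eq_of_isHomLift _ _ (IsStronglyCartesian.map_isHomLift (forget F.{u}) _ _ _ _)

theorem alpha_Phi {T : Over S} (x : T ⟶ A) (hx : x ≫ f = 1) :
    alpha f e x hx ≫ Phi f e T = Phi f e T :=
  IsStronglyCartesian.fac (forget F.{u}) _ _ _ _

theorem alpha_unique {T : Over S} (x : T ⟶ A) (hx : x ≫ f = 1)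
    (ψ : ThetaGrp.thetaObj A L T ⟶ ThetaGrp.thetaObj A L T) (hb : ψ.base = (ThetaGrp.transl A x).left)
    (h : ψ ≫ Phi f e T = Phi f e T) : ψ = alpha f e x hx :=
  hom_ext_Phi f e _ _ (hb.trans (alpha_base f e x hx).symm) (h.trans (alpha_Phi f e x hx).symm)

theorem alpha_one {T : Over S} : alpha f e (1 : T ⟶ A) (MonObj.one_comp f) = 𝟙 _ := by
  symm
  apply alpha_unique
  · rw [ThetaGrp.transl_one]; rfl
  · exact Category.id_comp _

theorem alpha_mul {T : Over S} (x y : T ⟶ A) (hx : x ≫ f = 1) (hy : y ≫ f = 1) (hxy : (x * y) ≫ f = 1) :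
    alpha f e x hx ≫ alpha f e y hy = alpha f e (x * y) hxy := by
  apply alpha_unique
  · rw [CoGrothendieck.categoryStruct_comp_base, alpha_base, alpha_base, ThetaGrp.transl_mul, Over.comp_left]
  · rw [Category.assoc, alpha_Phi, alpha_Phi]

theorem mul_comp_eq_one {T : Over S} (x y : T ⟶ A) (hx : x ≫ f = 1) (hy : y ≫ f = 1) : (x * y) ≫ f = 1 := by
  rw [MonObj.mul_comp, hx, hy, _root_.mul_one]

theorem inv_comp_eq_one {T : Over S} (x : T ⟶ A) (hx : x ≫ f = 1) : x⁻¹ ≫ f = 1 := by
  have h := mul_comp_eq_one f x x⁻¹ hx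
  have : (x * x⁻¹) ≫ f = 1 := by rw [mul_inv_cancel]; exact MonObj.one_comp f
  rw [MonObj.mul_comp, hx, _root_.one_mul] at this
  exact this

theorem alpha_congr {T : Over S} (x y : T ⟶ A) (hxy : x = y) (hx : x ≫ f = 1) (hy : y ≫ f = 1) :
    alpha f e x hx = alpha f e y hy := by
  subst hxy
  rfl

/-- the canonical lift, as an automorphism. -/
def alphaAut {T : Over S} (x : T ⟶ A) (hx : x ≫ f = 1) : Aut (ThetaGrp.thetaObj A L T) where
  hom := alpha f e x hx
  inv := alpha f e x⁻¹ (inv_comp_eq_one f x hx)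
  hom_inv_id := by
    rw [alpha_mul f e x x⁻¹ hx _ (mul_comp_eq_one f _ _ hx (inv_comp_eq_one f x hx)),
      alpha_congr f e (x * x⁻¹) 1 (mul_inv_cancel x) _ (MonObj.one_comp f), alpha_one]
  inv_hom_id := by
    rw [alpha_mul f e x⁻¹ x _ hx (mul_comp_eq_one f _ _ (inv_comp_eq_one f x hx) hx),
      alpha_congr f e (x⁻¹ * x) 1 (inv_mul_cancel x) _ (MonObj.one_comp f), alpha_one]

/-- the canonical point of the theta group over a point of the kernel. -/
def thetaPt {T : Over S} (x : T ⟶ A) (hx : x ≫ f = 1) : ThetaGrp.thetaPts A L T :=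
  ⟨alphaAut f e x hx, x, alpha_base f e x hx⟩

theorem thetaPt_isOverPt {T : Over S} (x : T ⟶ A) (hx : x ≫ f = 1) :
    ThetaGrp.IsOverPt (thetaPt f e x hx) x :=
  alpha_base f e x hx

theorem thetaPt_mul {T : Over S} (x y : T ⟶ A) (hx : x ≫ f = 1) (hy : y ≫ f = 1) :
    thetaPt f e x hx * thetaPt f e y hy = thetaPt f e (y * x) (mul_comp_eq_one f y x hy hx) := by
  apply Subtype.ext
  apply Aut.ext
  exact alpha_mul f e y x hy hx (mul_comp_eq_one f y x hy hx)

theorem transl_whiskerLeft {T T' : Over S} (t : T' ⟶ T) (x : T ⟶ A) :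
    ThetaGrp.transl A (t ≫ x) ≫ A ◁ t = A ◁ t ≫ ThetaGrp.transl A x := by
  apply CartesianMonoidalCategory.hom_ext
  · simp [MonObj.comp_mul]
  · rw [Category.assoc, whiskerLeft_snd, ← Category.assoc, ThetaGrp.transl_snd, Category.assoc,
      ThetaGrp.transl_snd, whiskerLeft_snd]

theorem isBaseChange_thetaPt {T T' : Over S} (t : T' ⟶ T) (x : T ⟶ A) (hx : x ≫ f = 1)
    (hx' : (t ≫ x) ≫ f = 1) :
    ThetaGrp.IsBaseChange (thetaPt f e (t ≫ x) hx') t (thetaPt f e x hx) := by
  change alpha f e (t ≫ x) hx' ≫ ThetaGrp.bcLift A L t = ThetaGrp.bcLift A L t ≫ alpha f e x hx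
  apply hom_ext_Phi f e
  · rw [CoGrothendieck.categoryStruct_comp_base, CoGrothendieck.categoryStruct_comp_base, alpha_base, alpha_base]
    change (ThetaGrp.transl A (t ≫ x)).left ≫ (A ◁ t).left = (A ◁ t).left ≫ (ThetaGrp.transl A x).left
    rw [← Over.comp_left, ← Over.comp_left, transl_whiskerLeft]
  · rw [Category.assoc, Category.assoc, bcLift_Phi, alpha_Phi, alpha_Phi, bcLift_Phi]

theorem thetaPt_congr {T : Over S} (x y : T ⟶ A) (hxy : x = y) (hx : x ≫ f = 1) (hy : y ≫ f = 1) :
    thetaPt f e x hx = thetaPt f e y hy := by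
  subst hxy
  rfl

end alpha

section main

theorem lift_one_transl_fst {S : Scheme.{u}} {A : Over S} [GrpObj A] {T : Over S} (x : T ⟶ A) :
    lift (1 : T ⟶ A) (𝟙 T) ≫ ThetaGrp.transl A x ≫ fst A T = x := by
  rw [ThetaGrp.transl_fst, MonObj.comp_mul, lift_fst, ← Category.assoc, lift_snd, Category.id_comp,
    _root_.one_mul]

theorem transl_injective {S : Scheme.{u}} {A : Over S} [GrpObj A] {T : Over S} (x y : T ⟶ A)
    (h : (ThetaGrp.transl A x).left = (ThetaGrp.transl A y).left) : x = y := by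
  have h' : ThetaGrp.transl A x = ThetaGrp.transl A y := Over.OverMorphism.ext h
  rw [← lift_one_transl_fst x, h', lift_one_transl_fst]

variable {S : Scheme.{u}} {A B : Over S} [GrpObj A] [IsCommMonObj A] [GrpObj B] [IsSeparated B.hom]
  (f : A ⟶ B) [IsMonHom f]
  {N : Over S} [GrpObj N] (i : N ⟶ A) [IsMonHom i] (hN : AlgGrp.IsKernel i f)
  {L : A.left.Modules} {M : B.left.Modules} (e : L ≅ (Scheme.Modules.pullback f.left).obj M)
  {G : Over S} [GrpObj G] (u : ThetaGrp.thetaPts A L G) (hG : ThetaGrp.IsThetaGrpSch A L G u)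

include hN in
omit [IsCommMonObj A] [IsMonHom f] [IsMonHom i] [GrpObj A] [GrpObj N] in
theorem isClosedImmersion_kernel : IsClosedImmersion i.left := by
  have h1 : IsClosedImmersion (η[B] : 𝟙_ (Over S) ⟶ B).left := by
    have h2 : (η[B] : 𝟙_ (Over S) ⟶ B).left ≫ B.hom = 𝟙 S := Over.w (η[B] : 𝟙_ (Over S) ⟶ B)
    have h3 : IsClosedImmersion ((η[B] : 𝟙_ (Over S) ⟶ B).left ≫ B.hom) := by
      rw [h2]; exact inferInstanceAs (IsClosedImmersion (𝟙 S))
    exact IsClosedImmersion.of_comp _ B.hom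
  have hp : IsPullback i.left (toUnit N).left f.left (η[B] : 𝟙_ (Over S) ⟶ B).left :=
    IsPullback.map (Over.forget S) hN
  exact MorphismProperty.of_isPullback (P := @IsClosedImmersion) hp.flip h1

include hN in
omit [IsCommMonObj A] [IsMonHom f] [IsMonHom i] [IsSeparated B.hom] [GrpObj A] [GrpObj N] in
theorem kernel_comp : i ≫ f = 1 := by
  rw [hN.w, ← Hom.one_def]

include hN hG e in
theorem exists_level : ∃ j : N ⟶ G, IsMonHom j ∧ ThetaGrp.IsLevelSubgrp u j ∧
    ∀ (T : Over S) (n : T ⟶ N) (β : ThetaGrp.thetaPts A L T),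
      ThetaGrp.IsBaseChange β (n ≫ j) u → ThetaGrp.IsOverPt β (n ≫ i) := by
  have hif : i ≫ f = 1 := kernel_comp f i hN
  have hn : ∀ {T : Over S} (n : T ⟶ N), (n ≫ i) ≫ f = 1 := by
    intro T n
    rw [Category.assoc, hif, MonObj.comp_one]
  have hci := isClosedImmersion_kernel f i hN
  have hmono : Mono i := by
    have : Mono ((Over.forget S).map i) := by
      change Mono i.left
      infer_instance
    exact (Over.forget S).mono_of_mono_map this
  obtain ⟨j, hj, -⟩ := hG.univ N (thetaPt f e i hif)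
  -- C1
  have C1 : ∀ (T : Over S) (n : T ⟶ N), ThetaGrp.IsBaseChange (thetaPt f e (n ≫ i) (hn n)) (n ≫ j) u :=
    fun T n => isBaseChange_trans A L n j _ _ u (isBaseChange_thetaPt f e n i hif (hn n)) hj
  -- C3
  have C3 : ∀ (T : Over S) (n : T ⟶ N) (β : ThetaGrp.thetaPts A L T),
      ThetaGrp.IsBaseChange β (n ≫ j) u → ThetaGrp.IsOverPt β (n ≫ i) := by
    intro T n β hβ
    obtain ⟨β', -, huniq⟩ := hG.exists_bc T (n ≫ j)
    rw [huniq β hβ, ← huniq _ (C1 T n)]
    exact thetaPt_isOverPt f e _ _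
  -- multiplicativity
  have hmul : ∀ (T : Over S) (n m : T ⟶ N), (n * m) ≫ j = (n ≫ j) * (m ≫ j) := by
    intro T n m
    have h3 := hG.mul T (n ≫ j) (m ≫ j) _ _ (C1 T n) (C1 T m)
    rw [thetaPt_mul] at h3
    have hcomm : (n * m) ≫ i = (m ≫ i) * (n ≫ i) := by
      rw [MonObj.mul_comp]
      have := (isCommMonObj_iff_isMulCommutative A).1 inferInstance T
      exact mul_comm' _ _
    have h4 := C1 T (n * m)
    rw [thetaPt_congr f e _ _ hcomm (hn _) (mul_comp_eq_one f _ _ (hn m) (hn n))] at h4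
    exact (hG.univ T _).unique h4 h3
  have hjmon : IsMonHom j := by
    constructor
    · have h1 := hmul (𝟙_ (Over S)) 1 1
      rw [_root_.one_mul] at h1
      rw [MonObj.one_eq_one, MonObj.one_eq_one]
      exact (mul_eq_left.1 h1.symm)
    · rw [MonObj.mul_eq_mul, hmul, Hom.mul_def, lift_fst_comp_snd_comp]
  refine ⟨j, hjmon, ⟨?_, hjmon, ?_⟩, C3⟩
  · obtain ⟨xu, hxu⟩ := u.2
    have hjx : j ≫ xu = i := by
      have hb := congrArg CoGrothendieck.Hom.base hj
      rw [CoGrothendieck.categoryStruct_comp_base, CoGrothendieck.categoryStruct_comp_base, hxu] at hb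
      have hb' : ThetaGrp.transl A i ≫ A ◁ j = A ◁ j ≫ ThetaGrp.transl A xu := by
        apply Over.OverMorphism.ext
        rw [Over.comp_left, Over.comp_left]
        exact ((congrArg (fun k => k ≫ (A ◁ j).left) (alpha_base f e i hif)).symm.trans hb)
      have h5 := congrArg (fun k => lift (1 : N ⟶ A) (𝟙 N) ≫ k ≫ fst A G) hb'
      simp only [Category.assoc, whiskerLeft_fst] at h5
      rw [lift_one_transl_fst] at h5
      rw [h5, ThetaGrp.transl_fst, MonObj.comp_mul, MonObj.comp_mul, whiskerLeft_fst, lift_fst]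
      rw [← Category.assoc (A ◁ j), whiskerLeft_snd, Category.assoc, ← Category.assoc, lift_snd,
        Category.id_comp, _root_.one_mul]
    have : IsImmersion (j.left ≫ xu.left) := by
      rw [← Over.comp_left, hjx]
      infer_instance
    exact IsImmersion.of_comp j.left xu.left
  · intro T h β hβ h1
    have h2 := C3 T h β hβ
    have h3 : h ≫ i = 1 := transl_injective _ _ (h2.symm.trans h1)
    rw [← cancel_mono i, h3, MonObj.one_comp]

end main

end

end Groth.Agent.Lib.Seat98.ThetaLevel
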