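import Mathlib.LinearAlgebra.Vandermonde
import Mathlib.RingTheory.Adjoin.Polynomial.Basic
import Mathlib.Algebra.Polynomial.Div
import Mathlib.Algebra.Polynomial.AlgebraMap
import Mathlib.RingTheory.Adjoin.Basic

/-!
# Invariants of an Artin–Schreier type automorphism after inverting the shift (seat 99)
-/

set_option autoImplicit false

open Polynomial

namespace Groth.Agent.Lib.Seat99.ASInv

variable {R A : Type*} [CommRing R] [CommRing A] [Algebra R A]

/-- A product of elements of the form `unit * c ^ m` is of that form. -/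
theorem exists_unit_mul_pow_of_prod {α : Type*} (c : A) (s : Finset α) (f : α → A)
    (h : ∀ x ∈ s, ∃ (ε : A) (m : ℕ), IsUnit ε ∧ f x = ε * c ^ m) :
    ∃ (ε : A) (m : ℕ), IsUnit ε ∧ ∏ x ∈ s, f x = ε * c ^ m := by
  classical
  induction s using Finset.induction_on with
  | empty => exact ⟨1, 0, isUnit_one, by simp⟩
  | insert a s ha ih =>
    obtain ⟨ε₁, m₁, hε₁, h₁⟩ := h a (Finset.mem_insert_self a s)
    obtain ⟨ε₂, m₂, hε₂, h₂⟩ := ih (fun x hx => h x (Finset.mem_insert_of_mem hx))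
    refine ⟨ε₁ * ε₂, m₁ + m₂, hε₁.mul hε₂, ?_⟩
    rw [Finset.prod_insert ha, h₁, h₂, pow_add]
    ring

/-- If a polynomial expression of degree `< p` in `w` with coefficients `g` takes the same value
`t'` at the `p` points `w + i c`, and the integers `1, …, p - 1` are units, then a power of `c`
kills `g 0 - t'`. -/
theorem exists_pow_mul_eq_of_vandermonde (p : ℕ)
    (hunit : ∀ i : ℕ, 0 < i → i < p → IsUnit ((i : ℕ) : A)) (w c t' : A) (g : Fin p → A)
    (hp : 0 < p)
    (h : ∀ i : Fin p, ∑ e : Fin p, g e * (w + ((i : ℕ) : A) * c) ^ (e : ℕ) = t') :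
    ∃ M : ℕ, c ^ M * (g ⟨0, hp⟩ - t') = 0 := by
  classical
  set v : Fin p → A := fun i => w + ((i : ℕ) : A) * c with hv
  set g' : Fin p → A := fun e => if e = ⟨0, hp⟩ then g e - t' else g e with hg'
  have hVg : (Matrix.vandermonde v).mulVec g' = 0 := by
    ext i
    simp only [Matrix.mulVec, dotProduct, Matrix.vandermonde_apply, Pi.zero_apply]
    have h1 : ∑ e : Fin p, v i ^ (e : ℕ) * g' e = ∑ e : Fin p, g e * v i ^ (e : ℕ) - t' := by
      rw [← Finset.add_sum_erase _ _ (Finset.mem_univ (⟨0, hp⟩ : Fin p)),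
        ← Finset.add_sum_erase (f := fun e : Fin p => g e * v i ^ (e : ℕ)) _
          (Finset.mem_univ (⟨0, hp⟩ : Fin p))]
      have h2 : ∀ e ∈ Finset.univ.erase (⟨0, hp⟩ : Fin p), v i ^ (e : ℕ) * g' e =
          g e * v i ^ (e : ℕ) := by
        intro e he
        rw [hg']
        simp only [if_neg (Finset.ne_of_mem_erase he)]
        ring
      rw [Finset.sum_congr rfl h2, hg']
      simp only [if_true, pow_zero]
      ring
    rw [h1, h i, sub_self]
  have hdet : (Matrix.vandermonde v).det • g' = 0 := by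
    have := congrArg (fun x => (Matrix.adjugate (Matrix.vandermonde v)).mulVec x) hVg
    simp only [Matrix.mulVec_mulVec, Matrix.adjugate_mul, Matrix.mulVec_zero] at this
    rwa [Matrix.smul_mulVec, Matrix.one_mulVec] at this
  obtain ⟨ε, M, hε, hεM⟩ : ∃ (ε : A) (M : ℕ), IsUnit ε ∧ (Matrix.vandermonde v).det = ε * c ^ M := by
    rw [Matrix.det_vandermonde]
    apply exists_unit_mul_pow_of_prod
    intro i _
    apply exists_unit_mul_pow_of_prod
    intro j hj
    have hij : i < j := Finset.mem_Ioi.mp hj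
    have hij' : (i : ℕ) < (j : ℕ) := hij
    refine ⟨(((j : ℕ) - (i : ℕ) : ℕ) : A), 1, hunit _ (by omega) (by omega), ?_⟩
    rw [hv, pow_one, Nat.cast_sub hij'.le]
    ring
  refine ⟨M, ?_⟩
  have h0 := congrFun hdet ⟨0, hp⟩
  simp only [Pi.smul_apply, Pi.zero_apply, smul_eq_mul, hg', if_true] at h0
  rw [hεM, mul_assoc] at h0
  exact (hε.mul_right_eq_zero).mp h0

section Main

variable {ι : Type*} (p : ℕ) (u : ι → A) (a : ι → R) (μ : R) (i₀ : ι)

/-- The minor elements `z_j = a_{i₀} u_j - a_j u_{i₀}`. -/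
def minor (j : {j : ι // j ≠ i₀}) : A :=
  algebraMap R A (a i₀) * u j.1 - algebraMap R A (a j.1) * u i₀

variable {p u a μ i₀}

theorem sigma_minor (σ : A ≃ₐ[R] A) (hσ : ∀ i, σ (u i) = u i + algebraMap R A (μ * a i))
    (j : {j : ι // j ≠ i₀}) : σ (minor u a i₀ j) = minor u a i₀ j := by
  simp only [minor, map_sub, map_mul, AlgEquiv.commutes, hσ]
  ring

theorem sigma_fix_adjoin (σ : A ≃ₐ[R] A) (hσ : ∀ i, σ (u i) = u i + algebraMap R A (μ * a i))
    {b : A} (hb : b ∈ Algebra.adjoin R (Set.range (minor u a i₀))) : σ b = b := by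
  have : Algebra.adjoin R (Set.range (minor u a i₀)) ≤
      AlgHom.equalizer (σ : A →ₐ[R] A) (AlgHom.id R A) := by
    apply Algebra.adjoin_le
    rintro _ ⟨j, rfl⟩
    exact sigma_minor σ hσ j
  exact this hb

theorem sigma_pow_w (σ : A ≃ₐ[R] A) (hσ : ∀ i, σ (u i) = u i + algebraMap R A (μ * a i))
    (i : ℕ) : (σ ^ i) (u i₀) = u i₀ + (i : A) * algebraMap R A (μ * a i₀) := by
  induction i with
  | zero => simp
  | succ i ih =>
    rw [pow_succ', AlgEquiv.mul_apply, ih, map_add, map_mul, map_natCast, AlgEquiv.commutes, hσ]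
    push_cast
    ring

/-- Clearing denominators: a power of `c = μ a_{i₀}` moves every element into the subalgebra
generated by the minors and `u_{i₀}`. -/
theorem exists_pow_mul_mem_adjoin_union (hgen : Algebra.adjoin R (Set.range u) = ⊤) (t : A) :
    ∃ D : ℕ, algebraMap R A (μ * a i₀) ^ D * t ∈
      Algebra.adjoin R (Set.range (minor u a i₀) ∪ {u i₀}) := by
  classical
  set S := Algebra.adjoin R (Set.range (minor u a i₀) ∪ {u i₀}) with hS
  set c := algebraMap R A (μ * a i₀) with hc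
  have hcS : ∀ D : ℕ, c ^ D ∈ S := fun D => S.pow_mem (S.algebraMap_mem _) D
  have ht : t ∈ Algebra.adjoin R (Set.range u) := by rw [hgen]; trivial
  induction ht using Algebra.adjoin_induction with
  | mem x hx =>
    obtain ⟨j, rfl⟩ := hx
    by_cases hj : j = i₀
    · subst hj
      exact ⟨0, by
        rw [pow_zero, one_mul]
        exact Algebra.subset_adjoin (Or.inr rfl)⟩
    · refine ⟨1, ?_⟩
      have : c ^ 1 * u j = algebraMap R A μ *
          (minor u a i₀ ⟨j, hj⟩ + algebraMap R A (a j) * u i₀) := by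
        rw [hc, minor, map_mul]
        ring
      rw [this]
      refine S.mul_mem (S.algebraMap_mem _) (S.add_mem ?_ (S.mul_mem (S.algebraMap_mem _) ?_))
      · exact Algebra.subset_adjoin (Or.inl ⟨⟨j, hj⟩, rfl⟩)
      · exact Algebra.subset_adjoin (Or.inr rfl)
  | algebraMap r => exact ⟨0, by rw [pow_zero, one_mul]; exact S.algebraMap_mem r⟩
  | add x y _ _ hx hy =>
    obtain ⟨D₁, h₁⟩ := hx
    obtain ⟨D₂, h₂⟩ := hy
    refine ⟨D₁ + D₂, ?_⟩
    have : c ^ (D₁ + D₂) * (x + y) = c ^ D₂ * (c ^ D₁ * x) + c ^ D₁ * (c ^ D₂ * y) := by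
      rw [pow_add]; ring
    rw [this]
    exact S.add_mem (S.mul_mem (hcS _) h₁) (S.mul_mem (hcS _) h₂)
  | mul x y _ _ hx hy =>
    obtain ⟨D₁, h₁⟩ := hx
    obtain ⟨D₂, h₂⟩ := hy
    refine ⟨D₁ + D₂, ?_⟩
    have : c ^ (D₁ + D₂) * (x * y) = (c ^ D₁ * x) * (c ^ D₂ * y) := by
      rw [pow_add]; ring
    rw [this]
    exact S.mul_mem h₁ h₂

/-- Elements of the subalgebra generated by the minors and `w = u_{i₀}` are polynomials of degree
`< p` in `w` with coefficients in the subalgebra generated by the minors. -/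
theorem exists_coeffs (hp : 1 < p) (x₀ : R)
    (hrel : u i₀ ^ p = algebraMap R A ((μ * a i₀) ^ (p - 1)) * u i₀ + algebraMap R A x₀)
    {s : A} (hs : s ∈ Algebra.adjoin R (Set.range (minor u a i₀) ∪ {u i₀})) :
    ∃ g : Fin p → A, (∀ e, g e ∈ Algebra.adjoin R (Set.range (minor u a i₀))) ∧
      s = ∑ e : Fin p, g e * u i₀ ^ (e : ℕ) := by
  rcases subsingleton_or_nontrivial A with hA | hA
  · exact ⟨fun _ => 0, fun _ => Subalgebra.zero_mem _, Subsingleton.elim _ _⟩
  set B₀ := Algebra.adjoin R (Set.range (minor u a i₀)) with hB₀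
  set w := u i₀ with hw
  have hF : ∃ F : Polynomial B₀, Polynomial.aeval w F = s := by
    induction hs using Algebra.adjoin_induction with
    | mem x hx =>
      rcases hx with ⟨j, rfl⟩ | hx
      · exact ⟨Polynomial.C ⟨minor u a i₀ j, Algebra.subset_adjoin ⟨j, rfl⟩⟩, by
          rw [Polynomial.aeval_C]; rfl⟩
      · rw [Set.mem_singleton_iff] at hx
        exact ⟨Polynomial.X, by rw [Polynomial.aeval_X, hx]⟩
    | algebraMap r =>
      exact ⟨Polynomial.C (algebraMap R B₀ r), by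
        rw [Polynomial.aeval_C, ← IsScalarTower.algebraMap_apply]⟩
    | add x y _ _ hx hy =>
      obtain ⟨F₁, rfl⟩ := hx
      obtain ⟨F₂, rfl⟩ := hy
      exact ⟨F₁ + F₂, map_add _ _ _⟩
    | mul x y _ _ hx hy =>
      obtain ⟨F₁, rfl⟩ := hx
      obtain ⟨F₂, rfl⟩ := hy
      exact ⟨F₁ * F₂, map_mul _ _ _⟩
  obtain ⟨F, rfl⟩ := hF
  set q : Polynomial B₀ := Polynomial.C (algebraMap R B₀ ((μ * a i₀) ^ (p - 1))) * Polynomial.X +
    Polynomial.C (algebraMap R B₀ x₀) with hq
  have hqdeg : q.degree < (p : WithBot ℕ) :=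
    lt_of_le_of_lt (Polynomial.degree_linear_le) (by exact_mod_cast hp)
  have hm : (Polynomial.X ^ p - q).Monic := Polynomial.monic_X_pow_sub hqdeg
  have hmw : Polynomial.aeval w (Polynomial.X ^ p - q) = 0 := by
    rw [map_sub, map_pow, Polynomial.aeval_X, hq, map_add, map_mul, Polynomial.aeval_C,
      Polynomial.aeval_C, Polynomial.aeval_X, ← IsScalarTower.algebraMap_apply,
      ← IsScalarTower.algebraMap_apply, hrel, sub_self]
  have hmod : Polynomial.aeval w (F %ₘ (Polynomial.X ^ p - q)) = Polynomial.aeval w F := by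
    conv_rhs => rw [← Polynomial.modByMonic_add_div F (Polynomial.X ^ p - q)]
    rw [map_add, map_mul, hmw, zero_mul, add_zero]
  have hdeg : (F %ₘ (Polynomial.X ^ p - q)).natDegree < p := by
    have h1 : (Polynomial.X ^ p - q).natDegree = p := by
      have hq1 : q.natDegree < (Polynomial.X ^ p : Polynomial B₀).natDegree := by
        rw [Polynomial.natDegree_X_pow]
        exact lt_of_le_of_lt Polynomial.natDegree_linear_le hp
      rw [Polynomial.natDegree_sub_eq_left_of_natDegree_lt hq1, Polynomial.natDegree_X_pow]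
    have hne : (Polynomial.X ^ p - q) ≠ 1 := by
      intro h
      rw [h, Polynomial.natDegree_one] at h1
      omega
    have := Polynomial.natDegree_modByMonic_lt F hm hne
    rwa [h1] at this
  refine ⟨fun e => ((F %ₘ (Polynomial.X ^ p - q)).coeff e : A), fun e => Subtype.mem _, ?_⟩
  rw [← hmod, Polynomial.aeval_eq_sum_range' hdeg, Finset.sum_range]
  exact Finset.sum_congr rfl fun e _ => Subalgebra.smul_def _ _

/-- **Invariants after inverting the shift.** -/
theorem exists_pow_mul_mem_adjoin (hp : p.Prime)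
    (hunit : ∀ i : ℕ, 0 < i → i < p → IsUnit ((i : ℕ) : A))
    (hgen : Algebra.adjoin R (Set.range u) = ⊤) (x₀ : R)
    (hrel : u i₀ ^ p = algebraMap R A ((μ * a i₀) ^ (p - 1)) * u i₀ + algebraMap R A x₀)
    (σ : A ≃ₐ[R] A) (hσ : ∀ i, σ (u i) = u i + algebraMap R A (μ * a i))
    (t : A) (ht : σ t = t) :
    ∃ N : ℕ, algebraMap R A (μ * a i₀) ^ N * t ∈
      Algebra.adjoin R (Set.range (minor u a i₀)) := by
  set c := algebraMap R A (μ * a i₀) with hc
  set B₀ := Algebra.adjoin R (Set.range (minor u a i₀)) with hB₀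
  obtain ⟨D, hD⟩ := exists_pow_mul_mem_adjoin_union (μ := μ) (a := a) (i₀ := i₀) hgen t
  obtain ⟨g, hg, hsum⟩ := exists_coeffs hp.one_lt x₀ hrel hD
  have hfix : ∀ (i : ℕ) (b : A), σ b = b → (σ ^ i) b = b := by
    intro i b hb
    induction i with
    | zero => simp
    | succ i ih => rw [pow_succ, AlgEquiv.mul_apply, hb, ih]
  have ht' : σ (c ^ D * t) = c ^ D * t := by
    rw [map_mul, map_pow, hc, AlgEquiv.commutes, ht]
  have hval : ∀ i : Fin p,
      ∑ e : Fin p, g e * (u i₀ + ((i : ℕ) : A) * c) ^ (e : ℕ) = c ^ D * t := by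
    intro i
    have h1 := hfix i _ ht'
    rw [← hc] at hsum
    conv_lhs at h1 => rw [hsum]
    rw [map_sum] at h1
    rw [← h1]
    refine Finset.sum_congr rfl fun e _ => ?_
    rw [map_mul, map_pow, sigma_pow_w σ hσ, hfix i _ (sigma_fix_adjoin σ hσ (hg e))]
  obtain ⟨M, hM⟩ := exists_pow_mul_eq_of_vandermonde p hunit (u i₀) c (c ^ D * t) g hp.pos hval
  refine ⟨M + D, ?_⟩
  have : c ^ (M + D) * t = c ^ M * g ⟨0, hp.pos⟩ := by
    rw [mul_sub, sub_eq_zero] at hM
    rw [hM, pow_add, mul_assoc]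
  rw [this]
  exact B₀.mul_mem (B₀.pow_mem (B₀.algebraMap_mem _) M) (hg _)

end Main

end Groth.Agent.Lib.Seat99.ASInv
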