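import Groth.Agent.Lib.Seat99ApproxMod
import Mathlib.RingTheory.AdicCompletion.Completeness
import Mathlib.RingTheory.Localization.Away.Basic
import Mathlib.RingTheory.Jacobson.Ideal

/-!
# The approximation setup for `A[1/t] → Â[1/t]` (seat 99)

For `t` in the Jacobson radical of `A` and `Â` the `t`-adic completion, the pair
`A[1/t] → Â[1/t]` together with `Â` is an instance of the abstract approximation `Setup`.
-/

set_option linter.unusedSectionVars false

namespace Groth.Agent.Lib.Seat99.Approx

universe u

open AdicCompletion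

section

variable (A : Type u) [CommRing A] (t : A)


theorem adic_unit_P (w' : (AdicCompletion (Ideal.span {t}) A)) : IsUnit (1 + algebraMap A (AdicCompletion (Ideal.span {t}) A) t * w') := by
  have hfg : (Ideal.span {t} : Ideal A).FG := ⟨{t}, by simp⟩
  have h1 : IsAdicComplete (Ideal.span {t}) (AdicCompletion (Ideal.span {t}) A) := AdicCompletion.isAdicComplete (M := A) hfg
  have h2 : IsAdicComplete ((Ideal.span {t}).map (algebraMap A (AdicCompletion (Ideal.span {t}) A))) (AdicCompletion (Ideal.span {t}) A) :=
    (IsAdicComplete.map_algebraMap_iff _ _).2 h1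
  have h3 := IsAdicComplete.le_jacobson_bot ((Ideal.span {t}).map (algebraMap A (AdicCompletion (Ideal.span {t}) A)))
  have h4 : algebraMap A (AdicCompletion (Ideal.span {t}) A) t ∈ (⊥ : Ideal (AdicCompletion (Ideal.span {t}) A)).jacobson :=
    h3 (Ideal.mem_map_of_mem _ (Ideal.subset_span rfl))
  have := Ideal.mem_jacobson_bot.1 h4 w'
  rwa [add_comm] at this

theorem adic_approx (w : (AdicCompletion (Ideal.span {t}) A)) (K : ℕ) :
    ∃ (a : A) (w' : (AdicCompletion (Ideal.span {t}) A)), w = algebraMap A (AdicCompletion (Ideal.span {t}) A) a + algebraMap A (AdicCompletion (Ideal.span {t}) A) t ^ K * w' := by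
  have hfg : (Ideal.span {t} : Ideal A).FG := ⟨{t}, by simp⟩
  obtain ⟨a, ha⟩ := Ideal.Quotient.mk_surjective (evalₐ (Ideal.span {t}) K w)
  have h0 : evalₐ (Ideal.span {t}) K (w - algebraMap A (AdicCompletion (Ideal.span {t}) A) a) = 0 := by
    rw [map_sub, AlgHom.commutes, ← ha]
    exact sub_self _
  have h1 : eval (Ideal.span {t}) A K (w - algebraMap A (AdicCompletion (Ideal.span {t}) A) a) = 0 := by
    rw [← factor_evalₐ_eq_eval (I := Ideal.span {t}) (w - algebraMap A (AdicCompletion (Ideal.span {t}) A) a)
      (by simp), h0, _root_.map_zero]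
  have h2 : w - algebraMap A (AdicCompletion (Ideal.span {t}) A) a ∈ ((Ideal.span {t}) ^ K • ⊤ : Submodule A (AdicCompletion (Ideal.span {t}) A)) := by
    rw [pow_smul_top_eq_ker_eval hfg]
    exact h1
  rw [Ideal.span_singleton_pow, Submodule.ideal_span_singleton_smul,
    Submodule.mem_smul_pointwise_iff_exists] at h2
  obtain ⟨w', -, hw'⟩ := h2
  refine ⟨a, w', ?_⟩
  rw [← map_pow, ← Algebra.smul_def, hw']
  ring

end

section Main

variable (A : Type u) [CommRing A] (t : A) (ht : t ∈ (⊥ : Ideal A).jacobson)


variable (L : Type*) [CommRing L] [Algebra A L] [IsLocalization.Away t L]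
  (L' : Type*) [CommRing L'] [Algebra (AdicCompletion (Ideal.span {t}) A) L'] [IsLocalization.Away (algebraMap A (AdicCompletion (Ideal.span {t}) A) t) L']
  [Algebra L L']
  (hcomp : ∀ a : A, algebraMap L L' (algebraMap A L a) = algebraMap (AdicCompletion (Ideal.span {t}) A) L' (algebraMap A (AdicCompletion (Ideal.span {t}) A) a))

include ht hcomp in
theorem adic_unit_L (y : L) (w' : (AdicCompletion (Ideal.span {t}) A))
    (h : algebraMap L L' y = algebraMap (AdicCompletion (Ideal.span {t}) A) L' (1 + algebraMap A (AdicCompletion (Ideal.span {t}) A) t * w')) : IsUnit y := by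
  obtain ⟨c, a, hya⟩ := IsLocalization.Away.surj t y
  have htu : IsUnit (algebraMap A L t) := IsLocalization.Away.algebraMap_isUnit t
  -- push to L'
  have h1 : algebraMap (AdicCompletion (Ideal.span {t}) A) L' (algebraMap A (AdicCompletion (Ideal.span {t}) A) a) =
      algebraMap (AdicCompletion (Ideal.span {t}) A) L' ((1 + algebraMap A (AdicCompletion (Ideal.span {t}) A) t * w') * algebraMap A (AdicCompletion (Ideal.span {t}) A) t ^ c) := by
    rw [← hcomp, ← hya, map_mul, map_pow, hcomp, h, map_mul, map_pow]
  obtain ⟨⟨s, e, rfl⟩, hs⟩ :=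
    (IsLocalization.eq_iff_exists (Submonoid.powers (algebraMap A (AdicCompletion (Ideal.span {t}) A) t)) L').1 h1
  simp only at hs
  -- evaluate at level n = e + c + 1
  set n := e + c + 1 with hn
  obtain ⟨w0, hw0⟩ := Ideal.Quotient.mk_surjective (evalₐ (Ideal.span {t}) n w')
  have h2 : Ideal.Quotient.mk (Ideal.span {t} ^ n) (t ^ e * a) =
      Ideal.Quotient.mk (Ideal.span {t} ^ n) (t ^ e * ((1 + t * w0) * t ^ c)) := by
    have h := congrArg (evalₐ (Ideal.span {t}) n) hs
    simp only [map_mul, map_pow, map_add, map_one, AlgHom.commutes,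
      Ideal.Quotient.algebraMap_eq] at h
    rw [← hw0] at h
    simp only [map_mul, map_pow, map_add, map_one]
    exact h
  rw [Ideal.Quotient.eq, Ideal.span_singleton_pow, Ideal.mem_span_singleton'] at h2
  obtain ⟨b, hb⟩ := h2
  -- u = 1 + t (w0 + b)
  have hu : IsUnit (1 + t * (w0 + b)) := by
    have := Ideal.mem_jacobson_bot.1 ht (w0 + b)
    rwa [add_comm] at this
  have h3 : t ^ e * (a - t ^ c * (1 + t * (w0 + b))) = 0 := by
    have : t ^ e * a - t ^ e * ((1 + t * w0) * t ^ c) = b * t ^ n := hb.symm
    rw [hn] at this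
    linear_combination this
  have h4 : algebraMap A L a = algebraMap A L t ^ c * algebraMap A L (1 + t * (w0 + b)) := by
    have := congrArg (algebraMap A L) h3
    rw [map_mul, map_pow, _root_.map_zero, map_sub, map_mul (algebraMap A L) (t ^ c), map_pow] at this
    have hte : IsUnit (algebraMap A L t ^ e) := htu.pow e
    exact sub_eq_zero.1 (hte.mul_right_eq_zero.1 this)
  have h5 : y = algebraMap A L (1 + t * (w0 + b)) := by
    have hc : IsUnit (algebraMap A L t ^ c) := htu.pow c
    apply hc.mul_left_injective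
    simp only
    rw [hya, h4, mul_comm]
  rw [h5]
  exact hu.map _

/-- The approximation setup for `A[1/t] → Â[1/t]`, `t` in the Jacobson radical of `A`. -/
noncomputable def adicSetup : Setup L L' (AdicCompletion (Ideal.span {t}) A) where
  ι := algebraMap L L'
  j := algebraMap (AdicCompletion (Ideal.span {t}) A) L'
  T := algebraMap A (AdicCompletion (Ideal.span {t}) A) t
  t := (IsLocalization.Away.algebraMap_isUnit (S := L) t).unit
  ht := by
    rw [IsUnit.unit_spec]
    exact hcomp t
  exh := fun x => by
    obtain ⟨c, w, h⟩ := IsLocalization.Away.surj (algebraMap A (AdicCompletion (Ideal.span {t}) A) t) x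
    exact ⟨c, w, by rw [← h, mul_comm]⟩
  approx := fun w K => by
    obtain ⟨a, w', h⟩ := adic_approx A t w K
    refine ⟨algebraMap A L a, w', ?_⟩
    rw [h, map_add, map_mul, map_pow, hcomp]
  unit_L := fun y w' h => adic_unit_L A t ht L L' hcomp y w' h
  unit_P := fun w' => adic_unit_P A t w'

theorem adicSetup_ι : (adicSetup A t ht L L' hcomp).ι = algebraMap L L' := rfl

end Main

end Groth.Agent.Lib.Seat99.Approx
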