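import Mathlib.LinearAlgebra.Matrix.NonsingularInverse
import Mathlib.LinearAlgebra.Matrix.ToLin
import Mathlib.RingTheory.Ideal.Quotient.Operations
import Mathlib.RingTheory.Ideal.Span

/-!
# t-adic approximation: abstract setup (seat 99)

An abstract setting for approximating matrices over a "Laurent-series-like" ring `L'` by matrices
over a subring-like `L` (`ι : L →+* L'`), where `L'` is obtained from a ring `P` ("power series")
by inverting an element `T`, elements of `P` can be approximated `T`-adically by elements of `L`,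
and an element of `L` which is `≡ 1 mod T` in `P` is a unit of `L`.
-/

set_option linter.unusedSectionVars false

open Matrix

namespace Groth.Agent.Lib.Seat99.Approx

universe u v w

/-- The abstract approximation setup. -/
structure Setup (L : Type u) (L' : Type v) (P : Type w) [CommRing L] [CommRing L'] [CommRing P] where
  /-- the map from the small ring to the big ring -/
  ι : L →+* L'
  /-- the map from the "integral part" to the big ring -/
  j : P →+* L'
  /-- the uniformizer -/
  T : P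
  /-- the uniformizer is a unit of `L` -/
  t : Lˣ
  ht : ι t = j T
  exh : ∀ x : L', ∃ (c : ℕ) (w : P), j T ^ c * x = j w
  approx : ∀ (w : P) (K : ℕ), ∃ (y : L) (w' : P), j w = ι y + j T ^ K * j w'
  unit_L : ∀ (y : L) (w' : P), ι y = j (1 + T * w') → IsUnit y
  unit_P : ∀ w' : P, IsUnit (1 + T * w')

variable {L : Type u} {L' : Type v} {P : Type w} [CommRing L] [CommRing L'] [CommRing P]
variable (S : Setup L L' P)

namespace Setup

/-- The uniformizer as a unit of `L'`. -/
noncomputable def u : L'ˣ := Units.map S.ι.toMonoidHom S.t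

theorem u_val : (S.u : L') = S.j S.T := S.ht

/-- The elements of `L'` of "order at least `k`". -/
def O (k : ℤ) : AddSubgroup L' where
  carrier := {x | ∃ w : P, x = ((S.u ^ k : L'ˣ) : L') * S.j w}
  zero_mem' := ⟨0, by simp⟩
  add_mem' := by
    rintro _ _ ⟨w, rfl⟩ ⟨w', rfl⟩
    exact ⟨w + w', by rw [map_add, mul_add]⟩
  neg_mem' := by
    rintro _ ⟨w, rfl⟩
    exact ⟨-w, by rw [map_neg, mul_neg]⟩

theorem mem_O {k : ℤ} {x : L'} : x ∈ S.O k ↔ ∃ w : P, x = ((S.u ^ k : L'ˣ) : L') * S.j w :=
  Iff.rfl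

theorem O_succ_le (k : ℤ) : S.O (k + 1) ≤ S.O k := by
  rintro _ ⟨w, rfl⟩
  refine ⟨S.T * w, ?_⟩
  rw [zpow_add_one, Units.val_mul, map_mul, ← S.u_val, mul_assoc]

theorem O_anti {j k : ℤ} (h : j ≤ k) : S.O k ≤ S.O j := by
  induction k, h using Int.leInduction with
  | base => exact le_rfl
  | succ k _ ih => exact (S.O_succ_le k).trans ih

theorem one_mem_O : (1 : L') ∈ S.O 0 := ⟨1, by simp⟩

theorem mul_mem_O {a b : ℤ} {x y : L'} (hx : x ∈ S.O a) (hy : y ∈ S.O b) : x * y ∈ S.O (a + b) := by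
  obtain ⟨w, rfl⟩ := hx
  obtain ⟨w', rfl⟩ := hy
  refine ⟨w * w', ?_⟩
  rw [zpow_add, Units.val_mul, map_mul]
  ring

theorem exists_mem_O (x : L') : ∃ c : ℕ, x ∈ S.O (-(c : ℤ)) := by
  obtain ⟨c, w, h⟩ := S.exh x
  refine ⟨c, w, ?_⟩
  rw [← h, ← S.u_val, ← Units.val_pow_eq_pow_val, ← mul_assoc, ← Units.val_mul, zpow_neg,
    zpow_natCast, inv_mul_cancel, Units.val_one, one_mul]

theorem exists_approx (x : L') (K : ℤ) : ∃ y : L, x - S.ι y ∈ S.O K := by
  obtain ⟨c, w, rfl⟩ := S.exists_mem_O x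
  obtain ⟨y₀, w', h⟩ := S.approx w (K + c).toNat
  refine ⟨((S.t ^ (-(c : ℤ)) : Lˣ) : L) * y₀, ?_⟩
  have hι : S.ι (((S.t ^ (-(c : ℤ)) : Lˣ) : L)) = ((S.u ^ (-(c : ℤ)) : L'ˣ) : L') := by
    have : Units.map S.ι.toMonoidHom (S.t ^ (-(c : ℤ))) = S.u ^ (-(c : ℤ)) := map_zpow _ _ _
    exact congrArg Units.val this
  rw [h, map_mul, hι, mul_add, add_sub_cancel_left]
  apply S.O_anti (show K ≤ -(c : ℤ) + ((K + c).toNat : ℤ) by
    have := Int.self_le_toNat (K + c); omega)
  refine ⟨w', ?_⟩
  rw [zpow_add, Units.val_mul, zpow_natCast, Units.val_pow_eq_pow_val, S.u_val, mul_assoc]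

theorem isUnit_of_sub_one_mem_O {y : L} (h : S.ι y - 1 ∈ S.O 1) : IsUnit y := by
  obtain ⟨w', hw'⟩ := h
  apply S.unit_L y w'
  rw [map_add, map_one, map_mul, ← S.u_val, ← zpow_one S.u, ← hw']
  ring

theorem isUnit_of_sub_one_mem_O' {x : L'} (h : x - 1 ∈ S.O 1) : IsUnit x := by
  obtain ⟨w', hw'⟩ := h
  have : x = S.j (1 + S.T * w') := by
    rw [map_add, map_one, map_mul, ← S.u_val, ← zpow_one S.u, ← hw']
    ring
  rw [this]
  exact (S.unit_P w').map S.j

/-! ### Small matrices -/

section Matrices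

variable {m n o : Type*} [Fintype m] [Fintype n] [Fintype o]

/-- All entries of the matrix have order at least `K`. -/
def Small (K : ℤ) (A : Matrix m n L') : Prop := ∀ i j, A i j ∈ S.O K

variable {S}

theorem Small.mono {K K' : ℤ} (h : K' ≤ K) {A : Matrix m n L'} (hA : S.Small K A) :
    S.Small K' A := fun i j => S.O_anti h (hA i j)

theorem Small.add {K : ℤ} {A B : Matrix m n L'} (hA : S.Small K A) (hB : S.Small K B) :
    S.Small K (A + B) := fun i j => (S.O K).add_mem (hA i j) (hB i j)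

theorem Small.sub {K : ℤ} {A B : Matrix m n L'} (hA : S.Small K A) (hB : S.Small K B) :
    S.Small K (A - B) := fun i j => (S.O K).sub_mem (hA i j) (hB i j)

theorem Small.neg {K : ℤ} {A : Matrix m n L'} (hA : S.Small K A) :
    S.Small K (-A) := fun i j => (S.O K).neg_mem (hA i j)

theorem Small.mul {K K' : ℤ} {A : Matrix m n L'} {B : Matrix n o L'} (hA : S.Small K A)
    (hB : S.Small K' B) : S.Small (K + K') (A * B) := by
  intro i j
  rw [Matrix.mul_apply]
  exact (S.O (K + K')).sum_mem fun k _ => S.mul_mem_O (hA i k) (hB k j)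

variable (S)

theorem small_one [DecidableEq n] : S.Small 0 (1 : Matrix n n L') := by
  intro i j
  by_cases h : i = j
  · subst h; rw [Matrix.one_apply_eq]; exact S.one_mem_O
  · rw [Matrix.one_apply_ne h]; exact (S.O 0).zero_mem

theorem exists_small [Finite m] [Finite n] (A : Matrix m n L') : ∃ c : ℕ, S.Small (-(c : ℤ)) A := by
  classical
  choose c hc using fun i j => S.exists_mem_O (A i j)
  refine ⟨Finset.univ.sup fun i => Finset.univ.sup fun j => c i j, fun i j => ?_⟩
  refine S.O_anti ?_ (hc i j)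
  have h1 : c i j ≤ Finset.univ.sup fun j => c i j :=
    Finset.le_sup (f := fun j => c i j) (Finset.mem_univ j)
  have h2 : (Finset.univ.sup fun j => c i j) ≤ Finset.univ.sup fun i => Finset.univ.sup fun j => c i j :=
    Finset.le_sup (f := fun i => Finset.univ.sup fun j => c i j) (Finset.mem_univ i)
  omega

theorem exists_approx_matrix (A : Matrix m n L') (K : ℤ) :
    ∃ A₀ : Matrix m n L, S.Small K (A - A₀.map S.ι) := by
  choose y hy using fun i j => S.exists_approx (A i j) K
  exact ⟨Matrix.of y, fun i j => by simpa using hy i j⟩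

/-- The determinant of a matrix congruent to `1` modulo `T` is congruent to `1` modulo `T`. -/
theorem det_sub_one_mem [DecidableEq n] {U : Matrix n n L'} (hU : S.Small 1 (U - 1)) :
    U.det - 1 ∈ S.O 1 := by
  choose W hW using hU
  have hU' : U = (1 + S.T • Matrix.of W).map S.j := by
    ext i j
    have := hW i j
    rw [Matrix.sub_apply, sub_eq_iff_eq_add, zpow_one, S.u_val] at this
    rw [this, Matrix.map_apply, Matrix.add_apply, Matrix.smul_apply, Matrix.of_apply, map_add,
      smul_eq_mul, map_mul, add_comm]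
    congr 1
    by_cases h : i = j
    · subst h; simp
    · simp [h]
  have hdet : ∃ w : P, (1 + S.T • Matrix.of W).det = 1 + S.T * w := by
    have h1 : (Ideal.Quotient.mk (Ideal.span {S.T})) (1 + S.T • Matrix.of W).det = 1 := by
      rw [RingHom.map_det]
      have : (Ideal.Quotient.mk (Ideal.span {S.T})).mapMatrix (1 + S.T • Matrix.of W) = 1 := by
        ext i j
        simp only [RingHom.mapMatrix_apply, Matrix.map_apply, Matrix.add_apply, Matrix.smul_apply,
          smul_eq_mul, map_add, map_mul]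
        have hT : (Ideal.Quotient.mk (Ideal.span {S.T})) S.T = 0 :=
          Ideal.Quotient.eq_zero_iff_mem.mpr (Ideal.subset_span rfl)
        rw [hT, zero_mul, add_zero]
        by_cases h : i = j
        · subst h; simp
        · simp [h]
      rw [this, Matrix.det_one]
    have h2 : (1 + S.T • Matrix.of W).det - 1 ∈ Ideal.span {S.T} := by
      rw [← Ideal.Quotient.eq_zero_iff_mem, map_sub, h1, map_one, sub_self]
    obtain ⟨w, hw⟩ := Ideal.mem_span_singleton'.mp h2
    exact ⟨w, by rw [mul_comm, hw]; ring⟩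
  obtain ⟨w, hw⟩ := hdet
  refine ⟨w, ?_⟩
  rw [hU', ← RingHom.mapMatrix_apply, ← RingHom.map_det, hw, map_add, map_one, map_mul, zpow_one,
    S.u_val]
  ring

theorem isUnit_of_small' [DecidableEq n] {U : Matrix n n L'} (hU : S.Small 1 (U - 1)) :
    IsUnit U :=
  (Matrix.isUnit_iff_isUnit_det U).mpr (S.isUnit_of_sub_one_mem_O' (S.det_sub_one_mem hU))

theorem isUnit_of_small [DecidableEq n] {U : Matrix n n L} (hU : S.Small 1 (U.map S.ι - 1)) :
    IsUnit U := by
  rw [Matrix.isUnit_iff_isUnit_det]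
  apply S.isUnit_of_sub_one_mem_O
  have := S.det_sub_one_mem hU
  rwa [← RingHom.mapMatrix_apply, ← RingHom.map_det] at this

end Matrices

/-! ### The two matrix statements -/

section Cores

variable {a b : Type*} [Fintype a] [Fintype b] [DecidableEq a] [DecidableEq b]

/-- **Matrix form of "stably free modules descend".** A right-invertible matrix over `L'` can be
moved, by an automorphism of the source, to a right-invertible matrix defined over `L`. -/
theorem exists_descent_of_mul_eq_one (B : Matrix b a L') (C : Matrix a b L') (hBC : B * C = 1) :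
    ∃ (B₀ : Matrix b a L) (C₁ : Matrix a b L) (g : Matrix a a L'),
      B₀ * C₁ = 1 ∧ IsUnit g ∧ B₀.map S.ι = B * g := by
  obtain ⟨c₁, hc₁⟩ := S.exists_small B
  obtain ⟨c₂, hc₂⟩ := S.exists_small C
  set c : ℕ := max c₁ c₂ with hc
  have hB : S.Small (-(c : ℤ)) B := hc₁.mono (by have := le_max_left c₁ c₂; omega)
  have hC : S.Small (-(c : ℤ)) C := hc₂.mono (by have := le_max_right c₁ c₂; omega)
  obtain ⟨B₀, hB₀⟩ := S.exists_approx_matrix B ((c : ℤ) + 1)
  obtain ⟨C₀, hC₀⟩ := S.exists_approx_matrix C ((c : ℤ) + 1)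
  -- the differences
  set D : Matrix b a L' := B₀.map S.ι - B with hD
  set D' : Matrix a b L' := C₀.map S.ι - C with hD'
  have hDs : S.Small ((c : ℤ) + 1) D := by
    have := hB₀.neg; rwa [neg_sub] at this
  have hD's : S.Small ((c : ℤ) + 1) D' := by
    have := hC₀.neg; rwa [neg_sub] at this
  have hB₀' : B₀.map S.ι = B + D := by rw [hD]; abel
  have hC₀' : C₀.map S.ι = C + D' := by rw [hD']; abel
  -- `B₀ * C₀` is invertible
  have hU : IsUnit (B₀ * C₀) := by
    apply S.isUnit_of_small
    have h1 : (B₀ * C₀).map S.ι - 1 = D * C + B * D' + D * D' := by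
      rw [Matrix.map_mul, hB₀', hC₀', Matrix.add_mul, Matrix.mul_add, Matrix.mul_add, hBC]
      abel
    rw [h1]
    refine ((hDs.mul hC).mono (by omega)).add ((hB.mul hD's).mono (by omega)) |>.add
      ((hDs.mul hD's).mono (by omega))
  have hdet : IsUnit (B₀ * C₀).det := (Matrix.isUnit_iff_isUnit_det _).mp hU
  refine ⟨B₀, C₀ * (B₀ * C₀)⁻¹, 1 + C * D, ?_, ?_, ?_⟩
  · rw [← Matrix.mul_assoc, Matrix.mul_nonsing_inv _ hdet]
  · apply S.isUnit_of_small'
    rw [add_sub_cancel_left]
    exact (hC.mul hDs).mono (by omega)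
  · rw [Matrix.mul_add, Matrix.mul_one, ← Matrix.mul_assoc, hBC, Matrix.one_mul, hB₀']

/-- **Matrix form of "isomorphisms descend".** If two idempotent matrices over `L` have images
that become isomorphic over `L'`, the images are isomorphic over `L`. -/
theorem exists_descent_of_idempotents (E : Matrix a a L) (E' : Matrix b b L) (hE : E * E = E)
    (hE' : E' * E' = E') (X : Matrix b a L') (Y : Matrix a b L')
    (hYX : Y * X = E.map S.ι) (hXY : X * Y = E'.map S.ι) :
    ∃ (X₁ : Matrix b a L) (Y₁ : Matrix a b L), Y₁ * X₁ = E ∧ X₁ * Y₁ = E' := by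
  have hιE : E.map S.ι * E.map S.ι = E.map S.ι := by rw [← Matrix.map_mul, hE]
  have hιE' : E'.map S.ι * E'.map S.ι = E'.map S.ι := by rw [← Matrix.map_mul, hE']
  obtain ⟨c₁, hc₁⟩ := S.exists_small X
  obtain ⟨c₂, hc₂⟩ := S.exists_small Y
  obtain ⟨c₃, hc₃⟩ := S.exists_small (E.map S.ι)
  obtain ⟨c₄, hc₄⟩ := S.exists_small (E'.map S.ι)
  set c : ℕ := max (max c₁ c₂) (max c₃ c₄) with hc
  have hX : S.Small (-(c : ℤ)) X := hc₁.mono (by
    have := le_max_left c₁ c₂; have := le_max_left (max c₁ c₂) (max c₃ c₄); omega)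
  have hY : S.Small (-(c : ℤ)) Y := hc₂.mono (by
    have := le_max_right c₁ c₂; have := le_max_left (max c₁ c₂) (max c₃ c₄); omega)
  have hEs : S.Small (-(c : ℤ)) (E.map S.ι) := hc₃.mono (by
    have := le_max_left c₃ c₄; have := le_max_right (max c₁ c₂) (max c₃ c₄); omega)
  have hE's : S.Small (-(c : ℤ)) (E'.map S.ι) := hc₄.mono (by
    have := le_max_right c₃ c₄; have := le_max_right (max c₁ c₂) (max c₃ c₄); omega)
  obtain ⟨X₀, hX₀⟩ := S.exists_approx_matrix X (4 * (c : ℤ) + 1)
  obtain ⟨Y₀, hY₀⟩ := S.exists_approx_matrix Y (4 * (c : ℤ) + 1)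
  set D : Matrix b a L' := X₀.map S.ι - X with hD
  set D' : Matrix a b L' := Y₀.map S.ι - Y with hD'
  have hDs : S.Small (4 * (c : ℤ) + 1) D := by
    have := hX₀.neg; rwa [neg_sub] at this
  have hD's : S.Small (4 * (c : ℤ) + 1) D' := by
    have := hY₀.neg; rwa [neg_sub] at this
  have hX₀' : X₀.map S.ι = X + D := by rw [hD]; abel
  have hY₀' : Y₀.map S.ι = Y + D' := by rw [hD']; abel
  have hX₀s : S.Small (-(c : ℤ)) (X₀.map S.ι) := by
    rw [hX₀']; exact hX.add (hDs.mono (by omega))
  -- key identities over `L'`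
  have key1 : E.map S.ι * Y * E'.map S.ι * X * E.map S.ι = E.map S.ι := by
    rw [← hYX, ← hXY]
    calc Y * X * Y * (X * Y) * X * (Y * X) = (Y * X) * (Y * X) * (Y * X) * (Y * X) := by
          simp only [Matrix.mul_assoc]
      _ = Y * X := by rw [hYX, hιE, hιE, hιE]
  have key2 : E'.map S.ι * X * E.map S.ι * Y * E'.map S.ι = E'.map S.ι := by
    rw [← hYX, ← hXY]
    calc X * Y * X * (Y * X) * Y * (X * Y) = (X * Y) * (X * Y) * (X * Y) * (X * Y) := by
          simp only [Matrix.mul_assoc]
      _ = X * Y := by rw [hXY, hιE', hιE', hιE']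
  -- the two units
  set A : Matrix a b L := E * Y₀ * E' with hA
  set Bm : Matrix b a L := E' * X₀ * E with hBm
  set U : Matrix a a L := 1 - E + A * Bm with hUdef
  set U' : Matrix b b L := 1 - E' + Bm * A with hU'def
  have hABm : A * Bm = E * Y₀ * E' * X₀ * E := by
    rw [hA, hBm]
    calc E * Y₀ * E' * (E' * X₀ * E) = E * Y₀ * (E' * E') * X₀ * E := by
          simp only [Matrix.mul_assoc]
      _ = _ := by rw [hE']
  have hBmA : Bm * A = E' * X₀ * E * Y₀ * E' := by
    rw [hA, hBm]
    calc E' * X₀ * E * (E * Y₀ * E') = E' * X₀ * (E * E) * Y₀ * E' := by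
          simp only [Matrix.mul_assoc]
      _ = _ := by rw [hE]
  have hUunit : IsUnit U := by
    apply S.isUnit_of_small
    have h1 : U.map S.ι - 1 = E.map S.ι * (D' * E'.map S.ι * X₀.map S.ι + Y * E'.map S.ι * D) *
        E.map S.ι := by
      have h2 : U.map S.ι = 1 - E.map S.ι +
          E.map S.ι * Y₀.map S.ι * E'.map S.ι * X₀.map S.ι * E.map S.ι := by
        rw [hUdef, hABm]
        simp [Matrix.map_add, Matrix.map_sub, Matrix.map_mul, Matrix.map_one]
      rw [h2]
      have h3 : E.map S.ι * Y₀.map S.ι * E'.map S.ι * X₀.map S.ι * E.map S.ι =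
          E.map S.ι + E.map S.ι * (D' * E'.map S.ι * X₀.map S.ι + Y * E'.map S.ι * D) *
            E.map S.ι := by
        have e1 : E.map S.ι * Y₀.map S.ι * E'.map S.ι * X₀.map S.ι * E.map S.ι =
            E.map S.ι * Y * E'.map S.ι * X₀.map S.ι * E.map S.ι +
              E.map S.ι * D' * E'.map S.ι * X₀.map S.ι * E.map S.ι := by
          rw [hY₀']; simp only [Matrix.mul_add, Matrix.add_mul]
        have e2 : E.map S.ι * Y * E'.map S.ι * X₀.map S.ι * E.map S.ι =
            E.map S.ι * Y * E'.map S.ι * X * E.map S.ι +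
              E.map S.ι * Y * E'.map S.ι * D * E.map S.ι := by
          rw [hX₀']; simp only [Matrix.mul_add, Matrix.add_mul]
        rw [e1, e2, key1]
        simp only [Matrix.mul_add, Matrix.add_mul, Matrix.mul_assoc]
        abel
      rw [h3]; abel
    rw [h1]
    refine ((hEs.mul (((hD's.mul hE's).mul hX₀s).add ((hY.mul hE's).mul hDs |>.mono ?_))).mul
      hEs).mono ?_
    · omega
    · omega
  have hU'unit : IsUnit U' := by
    apply S.isUnit_of_small
    have hY₀s : S.Small (-(c : ℤ)) (Y₀.map S.ι) := by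
      rw [hY₀']; exact hY.add (hD's.mono (by omega))
    have h1 : U'.map S.ι - 1 = E'.map S.ι * (D * E.map S.ι * Y₀.map S.ι + X * E.map S.ι * D') *
        E'.map S.ι := by
      have h2 : U'.map S.ι = 1 - E'.map S.ι +
          E'.map S.ι * X₀.map S.ι * E.map S.ι * Y₀.map S.ι * E'.map S.ι := by
        rw [hU'def, hBmA]
        simp [Matrix.map_add, Matrix.map_sub, Matrix.map_mul, Matrix.map_one]
      rw [h2]
      have h3 : E'.map S.ι * X₀.map S.ι * E.map S.ι * Y₀.map S.ι * E'.map S.ι =
          E'.map S.ι + E'.map S.ι * (D * E.map S.ι * Y₀.map S.ι + X * E.map S.ι * D') *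
            E'.map S.ι := by
        have e1 : E'.map S.ι * X₀.map S.ι * E.map S.ι * Y₀.map S.ι * E'.map S.ι =
            E'.map S.ι * X * E.map S.ι * Y₀.map S.ι * E'.map S.ι +
              E'.map S.ι * D * E.map S.ι * Y₀.map S.ι * E'.map S.ι := by
          rw [hX₀']; simp only [Matrix.mul_add, Matrix.add_mul]
        have e2 : E'.map S.ι * X * E.map S.ι * Y₀.map S.ι * E'.map S.ι =
            E'.map S.ι * X * E.map S.ι * Y * E'.map S.ι +
              E'.map S.ι * X * E.map S.ι * D' * E'.map S.ι := by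
          rw [hY₀']; simp only [Matrix.mul_add, Matrix.add_mul]
        rw [e1, e2, key2]
        simp only [Matrix.mul_add, Matrix.add_mul, Matrix.mul_assoc]
        abel
      rw [h3]; abel
    rw [h1]
    refine ((hE's.mul (((hDs.mul hEs).mul hY₀s).add ((hX.mul hEs).mul hD's |>.mono ?_))).mul
      hE's).mono ?_
    · omega
    · omega
  have hdetU : IsUnit U.det := (Matrix.isUnit_iff_isUnit_det _).mp hUunit
  have hdetU' : IsUnit U'.det := (Matrix.isUnit_iff_isUnit_det _).mp hU'unit
  -- relations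
  have hEA : E * A = A := by rw [hA, ← Matrix.mul_assoc, ← Matrix.mul_assoc, hE]
  have hAE' : A * E' = A := by rw [hA, Matrix.mul_assoc, hE']
  have hE'Bm : E' * Bm = Bm := by rw [hBm, ← Matrix.mul_assoc, ← Matrix.mul_assoc, hE']
  have hBmE : Bm * E = Bm := by rw [hBm, Matrix.mul_assoc, hE]
  have hUE : U * E = A * Bm := by
    rw [hUdef, Matrix.add_mul, Matrix.sub_mul, Matrix.one_mul, hE, sub_self, zero_add,
      Matrix.mul_assoc, hBmE]
  have hE'U' : E' * U' = Bm * A := by
    rw [hU'def, Matrix.mul_add, Matrix.mul_sub, Matrix.mul_one, hE', sub_self, zero_add,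
      ← Matrix.mul_assoc, hE'Bm]
  refine ⟨Bm, U⁻¹ * A, ?_, ?_⟩
  · rw [Matrix.mul_assoc, ← hUE, ← Matrix.mul_assoc, Matrix.nonsing_inv_mul _ hdetU,
      Matrix.one_mul]
  · -- the right inverse `Y₂ = A * U'⁻¹` coincides with the left inverse
    have hleft : U⁻¹ * A * Bm = E := by
      rw [Matrix.mul_assoc, ← hUE, ← Matrix.mul_assoc, Matrix.nonsing_inv_mul _ hdetU,
        Matrix.one_mul]
    have hright : Bm * (A * U'⁻¹) = E' := by
      rw [← Matrix.mul_assoc, ← hE'U', Matrix.mul_assoc, Matrix.mul_nonsing_inv _ hdetU',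
        Matrix.mul_one]
    have heq : U⁻¹ * A = A * U'⁻¹ := by
      calc U⁻¹ * A = U⁻¹ * A * E' := by rw [Matrix.mul_assoc, hAE']
        _ = U⁻¹ * A * (Bm * (A * U'⁻¹)) := by rw [hright]
        _ = (U⁻¹ * A * Bm) * (A * U'⁻¹) := by simp only [Matrix.mul_assoc]
        _ = E * (A * U'⁻¹) := by rw [hleft]
        _ = A * U'⁻¹ := by rw [← Matrix.mul_assoc, hEA]
    rw [heq, hright]

end Cores

end Setup

end Groth.Agent.Lib.Seat99.Approx
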