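import Groth.Agent.Lib.Seat99ApproxMod
import Mathlib.RingTheory.LaurentSeries
import Mathlib.RingTheory.PowerSeries.Trunc
import Mathlib.RingTheory.PowerSeries.Inverse
import Mathlib.RingTheory.Localization.Basic
import Mathlib.Algebra.Polynomial.Div

/-!
# t-adic approximation: the Laurent series instance (seat 99)

`L = R[t]_{(1 + tR[t]) ∪ {t}}`, `L' ≃ R((t))`.
-/

set_option linter.unusedSectionVars false

open Polynomial

namespace Groth.Agent.Lib.Seat99.Approx

universe u

section Laurent

variable (R : Type u) [CommRing R]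

/-- The multiplicative set generated by `t` and the polynomials with constant term `1`. -/
noncomputable abbrev monoidT : Submonoid R[X] := Submonoid.closure ({f : R[X] | f.coeff 0 = 1} ∪ {X})

variable {R}

theorem X_mem_monoidT : (X : R[X]) ∈ monoidT R :=
  Submonoid.subset_closure (Or.inr rfl)

theorem mem_monoidT_of_coeff_zero {f : R[X]} (hf : f.coeff 0 = 1) : f ∈ monoidT R :=
  Submonoid.subset_closure (Or.inl hf)

theorem exists_eq_X_pow_mul_of_mem_monoidT {s : R[X]} (hs : s ∈ monoidT R) :
    ∃ (k : ℕ) (q : R[X]), s = X ^ k * q ∧ q.coeff 0 = 1 := by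
  induction hs using Submonoid.closure_induction with
  | mem x hx =>
    rcases hx with hx | hx
    · exact ⟨0, x, by simp, hx⟩
    · rw [Set.mem_singleton_iff] at hx
      exact ⟨1, 1, by simp [hx], by simp⟩
  | one => exact ⟨0, 1, by simp, by simp⟩
  | mul x y _ _ hx hy =>
    obtain ⟨k, q, rfl, hq⟩ := hx
    obtain ⟨k', q', rfl, hq'⟩ := hy
    refine ⟨k + k', q * q', by ring, ?_⟩
    rw [Polynomial.mul_coeff_zero, hq, hq', one_mul]

variable (L : Type u) [CommRing L] [Algebra R[X] L] [IsLocalization (monoidT R) L]
  (L' : Type u) [CommRing L'] [Algebra L L'] (e : L' ≃+* LaurentSeries R)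
  (he : ∀ p : R[X], e (algebraMap L L' (algebraMap R[X] L p)) =
    HahnSeries.ofPowerSeries ℤ R (Polynomial.coeToPowerSeries.ringHom p))

/-- The map from power series to `L'`. -/
noncomputable def jMap : PowerSeries R →+* L' :=
  e.symm.toRingHom.comp (HahnSeries.ofPowerSeries ℤ R)

theorem e_jMap (w : PowerSeries R) : e (jMap L' e w) = HahnSeries.ofPowerSeries ℤ R w := by
  simp [jMap]

theorem jMap_injective : Function.Injective (jMap L' e) := by
  intro w w' h
  have := congrArg e h
  rw [e_jMap, e_jMap] at this
  exact HahnSeries.ofPowerSeries_injective this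

include he in
theorem algebraMap_eq_jMap (p : R[X]) :
    algebraMap L L' (algebraMap R[X] L p) = jMap L' e (p : PowerSeries R) := by
  apply e.injective
  rw [he, e_jMap, Polynomial.coeToPowerSeries.ringHom_apply]

/-- The approximation setup attached to Laurent series. -/
noncomputable def laurentSetup : Setup L L' (PowerSeries R) where
  ι := algebraMap L L'
  j := jMap L' e
  T := PowerSeries.X
  t := (IsLocalization.map_units L (⟨X, X_mem_monoidT⟩ : monoidT R)).unit
  ht := by
    rw [IsUnit.unit_spec, algebraMap_eq_jMap L L' e he, Polynomial.coe_X]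
  exh := by
    intro x
    obtain ⟨⟨w, ⟨_, c, rfl⟩⟩, h⟩ :=
      IsLocalization.surj (Submonoid.powers (PowerSeries.X : PowerSeries R)) (e x)
    refine ⟨c, w, ?_⟩
    apply e.injective
    rw [map_mul, map_pow, e_jMap, e_jMap, mul_comm, ← map_pow]
    exact h
  approx := by
    intro w K
    have hdvd : (PowerSeries.X : PowerSeries R) ^ K ∣ w - (PowerSeries.trunc K w : R[X]) := by
      rw [PowerSeries.X_pow_dvd_iff]
      intro m hm
      rw [map_sub, Polynomial.coeff_coe, PowerSeries.coeff_trunc, if_pos hm, sub_self]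
    obtain ⟨w', hw'⟩ := hdvd
    refine ⟨algebraMap R[X] L (PowerSeries.trunc K w), w', ?_⟩
    rw [algebraMap_eq_jMap L L' e he, ← map_pow, ← map_mul, ← map_add, ← hw']
    congr 1
    ring
  unit_L := by
    intro y w' hy
    obtain ⟨⟨p, s⟩, hps⟩ := IsLocalization.surj (monoidT R) y
    obtain ⟨k, q, hs, hq⟩ := exists_eq_X_pow_mul_of_mem_monoidT s.2
    -- transport the relation to power series
    have h1 : (1 + PowerSeries.X * w') * ((s : R[X]) : PowerSeries R) = (p : PowerSeries R) := by
      apply jMap_injective L' e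
      rw [map_mul, ← hy, ← algebraMap_eq_jMap L L' e he, ← algebraMap_eq_jMap L L' e he, ← map_mul]
      exact congrArg _ hps
    have h2 : (p : PowerSeries R) =
        PowerSeries.X ^ k * ((1 + PowerSeries.X * w') * (q : PowerSeries R)) := by
      rw [← h1, hs, Polynomial.coe_mul, Polynomial.coe_pow, Polynomial.coe_X]
      ring
    have hlow : ∀ d < k, p.coeff d = 0 := by
      intro d hd
      rw [← Polynomial.coeff_coe, h2, PowerSeries.coeff_X_pow_mul', if_neg (not_le.mpr hd)]
    have hk : p.coeff k = 1 := by
      rw [← Polynomial.coeff_coe, h2, PowerSeries.coeff_X_pow_mul', if_pos le_rfl, Nat.sub_self,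
        PowerSeries.coeff_zero_eq_constantCoeff_apply, map_mul, map_add, map_one, map_mul,
        PowerSeries.constantCoeff_X, zero_mul, add_zero, one_mul,
        ← PowerSeries.coeff_zero_eq_constantCoeff_apply, Polynomial.coeff_coe, hq]
    obtain ⟨p₁, hp₁⟩ := Polynomial.X_pow_dvd_iff.mpr hlow
    have hp₁0 : p₁.coeff 0 = 1 := by
      have := Polynomial.coeff_X_pow_mul p₁ k 0
      rw [zero_add, ← hp₁, hk] at this
      exact this.symm
    have hpM : p ∈ monoidT R := by
      rw [hp₁]
      exact (monoidT R).mul_mem ((monoidT R).pow_mem X_mem_monoidT k)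
        (mem_monoidT_of_coeff_zero hp₁0)
    have hu : IsUnit (y * algebraMap R[X] L s) := by
      rw [hps]
      exact IsLocalization.map_units L (⟨p, hpM⟩ : monoidT R)
    exact isUnit_of_mul_isUnit_left hu
  unit_P := by
    intro w'
    rw [PowerSeries.isUnit_iff_constantCoeff]
    simp

theorem laurentSetup_ι : (laurentSetup L L' e he).ι = algebraMap L L' := rfl

end Laurent

end Groth.Agent.Lib.Seat99.Approx
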