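import Groth.Agent.Lib.Seat99ApproxCore
import Mathlib.LinearAlgebra.TensorProduct.Pi
import Mathlib.LinearAlgebra.TensorProduct.Tower
import Mathlib.RingTheory.TensorProduct.Basic
import Mathlib.Algebra.Module.Projective
import Mathlib.RingTheory.Finiteness.Basic
import Mathlib.RingTheory.Finiteness.Cardinality

/-!
# t-adic approximation: module-level consequences (seat 99)
-/

set_option linter.unusedSectionVars false

open Matrix TensorProduct

namespace Groth.Agent.Lib.Seat99.Approx

universe u v w

variable {L : Type u} {L' : Type v} [CommRing L] [CommRing L'] [Algebra L L']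

section BaseChange

variable {a b : Type*} [Fintype a] [Fintype b] [DecidableEq a] [DecidableEq b]

variable (L L') in
/-- The identification `L' ⊗ (a → L) ≃ (a → L')`. -/
noncomputable abbrev τ (a : Type*) [Fintype a] [DecidableEq a] : L' ⊗[L] (a → L) ≃ₗ[L'] (a → L') :=
  TensorProduct.piScalarRight L L' L' a

/-- Base change of a linear map between finite free modules, in coordinates. -/
noncomputable def bc (f : (a → L) →ₗ[L] (b → L)) : (a → L') →ₗ[L'] (b → L') :=
  (τ L L' b).toLinearMap ∘ₗ f.baseChange L' ∘ₗ (τ L L' a).symm.toLinearMap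

theorem toMatrix'_bc (f : (a → L) →ₗ[L] (b → L)) :
    LinearMap.toMatrix' (bc (L' := L') f) = (LinearMap.toMatrix' f).map (algebraMap L L') := by
  ext i j
  rw [LinearMap.toMatrix'_apply, Matrix.map_apply, LinearMap.toMatrix'_apply]
  simp only [bc, LinearMap.coe_comp, LinearEquiv.coe_coe, Function.comp_apply]
  rw [TensorProduct.piScalarRight_symm_single, LinearMap.baseChange_tmul,
    TensorProduct.piScalarRight_apply, TensorProduct.piScalarRightHom_tmul,
    Algebra.algebraMap_eq_smul_one]

theorem bc_toLin' (A : Matrix b a L) :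
    bc (L' := L') (Matrix.toLin' A) = Matrix.toLin' (A.map (algebraMap L L')) := by
  apply LinearMap.toMatrix'.injective
  rw [toMatrix'_bc, LinearMap.toMatrix'_toLin', LinearMap.toMatrix'_toLin']

end BaseChange

section Descent

variable {P : Type w} [CommRing P] (S : Setup L L' P) (hS : S.ι = algebraMap L L')

include hS in
/-- **Isomorphisms of finite projective modules descend from `L'` to `L`.** -/
theorem nonempty_linearEquiv_of_baseChange
    (M N : Type*) [AddCommGroup M] [Module L M] [Module.Finite L M] [Module.Projective L M]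
    [AddCommGroup N] [Module L N] [Module.Finite L N] [Module.Projective L N]
    (h : Nonempty (L' ⊗[L] M ≃ₗ[L'] L' ⊗[L] N)) : Nonempty (M ≃ₗ[L] N) := by
  obtain ⟨Φ⟩ := h
  obtain ⟨a, r, hr⟩ := Module.Finite.exists_fin' L M
  obtain ⟨i, hi⟩ := Module.projective_lifting_property r LinearMap.id hr
  obtain ⟨b, r', hr'⟩ := Module.Finite.exists_fin' L N
  obtain ⟨i', hi'⟩ := Module.projective_lifting_property r' LinearMap.id hr'
  have hri : ∀ z, r.baseChange L' (i.baseChange L' z) = z := fun z => by
    rw [← LinearMap.comp_apply, ← LinearMap.baseChange_comp, hi, LinearMap.baseChange_id,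
      LinearMap.id_apply]
  have hri' : ∀ z, r'.baseChange L' (i'.baseChange L' z) = z := fun z => by
    rw [← LinearMap.comp_apply, ← LinearMap.baseChange_comp, hi', LinearMap.baseChange_id,
      LinearMap.id_apply]
  let x : (Fin a → L') →ₗ[L'] (Fin b → L') :=
    (τ L L' (Fin b)).toLinearMap ∘ₗ i'.baseChange L' ∘ₗ Φ.toLinearMap ∘ₗ r.baseChange L' ∘ₗ
      (τ L L' (Fin a)).symm.toLinearMap
  let y : (Fin b → L') →ₗ[L'] (Fin a → L') :=
    (τ L L' (Fin a)).toLinearMap ∘ₗ i.baseChange L' ∘ₗ Φ.symm.toLinearMap ∘ₗ r'.baseChange L' ∘ₗ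
      (τ L L' (Fin b)).symm.toLinearMap
  have hyx : y ∘ₗ x = bc (L' := L') (i ∘ₗ r) := by
    apply LinearMap.ext
    intro v
    simp only [x, y, bc, LinearMap.coe_comp, LinearEquiv.coe_coe, Function.comp_apply,
      LinearEquiv.symm_apply_apply, hri', LinearMap.baseChange_comp]
  have hxy : x ∘ₗ y = bc (L' := L') (i' ∘ₗ r') := by
    apply LinearMap.ext
    intro v
    simp only [x, y, bc, LinearMap.coe_comp, LinearEquiv.coe_coe, Function.comp_apply,
      LinearEquiv.symm_apply_apply, LinearEquiv.apply_symm_apply, hri, LinearMap.baseChange_comp]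
  set E : Matrix (Fin a) (Fin a) L := LinearMap.toMatrix' (i ∘ₗ r) with hEdef
  set E' : Matrix (Fin b) (Fin b) L := LinearMap.toMatrix' (i' ∘ₗ r') with hE'def
  have hE : E * E = E := by
    rw [hEdef, ← LinearMap.toMatrix'_comp]
    congr 1
    apply LinearMap.ext
    intro v
    have := congrArg (fun f => f (r v)) hi
    simp only [LinearMap.comp_apply, LinearMap.id_apply] at this ⊢
    rw [this]
  have hE' : E' * E' = E' := by
    rw [hE'def, ← LinearMap.toMatrix'_comp]
    congr 1
    apply LinearMap.ext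
    intro v
    have := congrArg (fun f => f (r' v)) hi'
    simp only [LinearMap.comp_apply, LinearMap.id_apply] at this ⊢
    rw [this]
  have hYX : LinearMap.toMatrix' y * LinearMap.toMatrix' x = E.map S.ι := by
    rw [← LinearMap.toMatrix'_comp, hyx, toMatrix'_bc, hS]
  have hXY : LinearMap.toMatrix' x * LinearMap.toMatrix' y = E'.map S.ι := by
    rw [← LinearMap.toMatrix'_comp, hxy, toMatrix'_bc, hS]
  obtain ⟨X₁, Y₁, h1, h2⟩ := S.exists_descent_of_idempotents E E' hE hE' _ _ hYX hXY
  have hrE : ∀ v, r (Matrix.toLin' E v) = r v := by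
    intro v
    rw [hEdef, Matrix.toLin'_toMatrix']
    have := congrArg (fun f => f (r v)) hi
    simpa using this
  have hrE' : ∀ v, r' (Matrix.toLin' E' v) = r' v := by
    intro v
    rw [hE'def, Matrix.toLin'_toMatrix']
    have := congrArg (fun f => f (r' v)) hi'
    simpa using this
  have hiE : ∀ m, Matrix.toLin' E (i m) = i m := by
    intro m
    rw [hEdef, Matrix.toLin'_toMatrix']
    have := congrArg (fun f => f m) hi
    simp only [LinearMap.comp_apply, LinearMap.id_apply] at this ⊢
    rw [this]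
  have hiE' : ∀ m, Matrix.toLin' E' (i' m) = i' m := by
    intro m
    rw [hE'def, Matrix.toLin'_toMatrix']
    have := congrArg (fun f => f m) hi'
    simp only [LinearMap.comp_apply, LinearMap.id_apply] at this ⊢
    rw [this]
  have hir : ∀ v, i (r v) = Matrix.toLin' E v := fun v => by
    rw [hEdef, Matrix.toLin'_toMatrix']; rfl
  have hir' : ∀ v, i' (r' v) = Matrix.toLin' E' v := fun v => by
    rw [hE'def, Matrix.toLin'_toMatrix']; rfl
  have hXEY : X₁ * E * Y₁ = E' := by
    rw [← h1]
    calc X₁ * (Y₁ * X₁) * Y₁ = (X₁ * Y₁) * (X₁ * Y₁) := by simp only [Matrix.mul_assoc]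
      _ = E' := by rw [h2, hE']
  have hYEX : Y₁ * E' * X₁ = E := by
    rw [← h2]
    calc Y₁ * (X₁ * Y₁) * X₁ = (Y₁ * X₁) * (Y₁ * X₁) := by simp only [Matrix.mul_assoc]
      _ = E := by rw [h1, hE]
  refine ⟨LinearEquiv.ofLinearMap (r' ∘ₗ Matrix.toLin' X₁ ∘ₗ i) (r ∘ₗ Matrix.toLin' Y₁ ∘ₗ i')
    ?_ ?_⟩
  · apply LinearMap.ext
    intro n
    simp only [LinearMap.comp_apply, LinearMap.id_apply]
    rw [hir, ← Matrix.toLin'_mul_apply, ← Matrix.toLin'_mul_apply, hXEY, hiE']
    exact congrArg (fun f => f n) hi'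
  · apply LinearMap.ext
    intro m
    simp only [LinearMap.comp_apply, LinearMap.id_apply]
    rw [hir', ← Matrix.toLin'_mul_apply, ← Matrix.toLin'_mul_apply, hYEX, hiE]
    exact congrArg (fun f => f m) hi

include hS in
/-- **Stably free modules descend from `L'` to `L`.** -/
theorem exists_stablyFree_descent (M' : Type*) [AddCommGroup M'] [Module L' M']
    (n m : ℕ) (φ : (M' × (Fin n → L')) ≃ₗ[L'] (Fin m → L')) :
    ∃ M : Submodule L (Fin m → L), Module.Finite L M ∧
      Nonempty ((M × (Fin n → L)) ≃ₗ[L] (Fin m → L)) ∧ Nonempty (L' ⊗[L] M ≃ₗ[L'] M') := by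
  set π : (Fin m → L') →ₗ[L'] (Fin n → L') := LinearMap.snd L' M' (Fin n → L') ∘ₗ φ.symm.toLinearMap
    with hπ
  set σ : (Fin n → L') →ₗ[L'] (Fin m → L') := φ.toLinearMap ∘ₗ LinearMap.inr L' M' (Fin n → L')
    with hσ
  have hπσ : π ∘ₗ σ = LinearMap.id := by
    apply LinearMap.ext
    intro w
    simp [hπ, hσ]
  have hBC : LinearMap.toMatrix' π * LinearMap.toMatrix' σ = 1 := by
    rw [← LinearMap.toMatrix'_comp, hπσ, LinearMap.toMatrix'_id]
  obtain ⟨B₀, C₁, g, h01, hg, hBg⟩ := S.exists_descent_of_mul_eq_one _ _ hBC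
  rw [hS] at hBg
  have hgdet : IsUnit g.det := (Matrix.isUnit_iff_isUnit_det _).mp hg
  let M : Submodule L (Fin m → L) := LinearMap.ker (Matrix.toLin' B₀)
  have hB₀C₁ : ∀ w, Matrix.toLin' B₀ (Matrix.toLin' C₁ w) = w := fun w => by
    rw [← Matrix.toLin'_mul_apply, h01, Matrix.toLin'_one, LinearMap.id_apply]
  -- the projection onto `M`
  let p : (Fin m → L) →ₗ[L] M :=
    LinearMap.codRestrict M (LinearMap.id - Matrix.toLin' (C₁ * B₀)) (fun v => by
      change Matrix.toLin' B₀ _ = 0
      rw [LinearMap.sub_apply, LinearMap.id_apply, map_sub, Matrix.toLin'_mul_apply, hB₀C₁,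
        sub_self])
  have hp_sub : p ∘ₗ M.subtype = LinearMap.id := by
    apply LinearMap.ext
    rintro ⟨x, hx⟩
    apply Subtype.ext
    have hx' : Matrix.toLin' B₀ x = 0 := hx
    simp only [p, LinearMap.comp_apply, Submodule.subtype_apply, LinearMap.codRestrict_apply,
      LinearMap.sub_apply, LinearMap.id_apply, Matrix.toLin'_mul_apply, hx', map_zero, sub_zero]
  have hsub_p : M.subtype ∘ₗ p = Matrix.toLin' (1 - C₁ * B₀) := by
    apply LinearMap.ext
    intro v
    simp only [p, LinearMap.comp_apply, Submodule.subtype_apply, LinearMap.codRestrict_apply,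
      LinearMap.sub_apply, LinearMap.id_apply, Matrix.toLin'_apply, Matrix.sub_mulVec,
      Matrix.one_mulVec]
  refine ⟨M, ?_, ?_, ?_⟩
  · refine Module.Finite.of_surjective p (fun x => ⟨x.1, ?_⟩)
    exact congrArg (fun f => f x) hp_sub
  · refine ⟨LinearEquiv.ofLinearMap (M.subtype.coprod (Matrix.toLin' C₁))
      (p.prod (Matrix.toLin' B₀)) ?_ ?_⟩
    · apply LinearMap.ext
      intro v
      change M.subtype (p v) + Matrix.toLin' C₁ (Matrix.toLin' B₀ v) = v
      have := congrArg (fun f => f v) hsub_p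
      simp only [LinearMap.comp_apply] at this
      rw [this, Matrix.toLin'_apply, Matrix.sub_mulVec, Matrix.one_mulVec, ← Matrix.toLin'_apply,
        Matrix.toLin'_mul_apply]
      abel
    · apply LinearMap.ext
      rintro ⟨x, w⟩
      have hx' : Matrix.toLin' B₀ x.1 = 0 := x.2
      change (p (M.subtype x + Matrix.toLin' C₁ w),
        Matrix.toLin' B₀ (M.subtype x + Matrix.toLin' C₁ w)) = (x, w)
      refine Prod.ext (Subtype.ext ?_) ?_
      · change ((LinearMap.id : (Fin m → L) →ₗ[L] (Fin m → L)) - Matrix.toLin' (C₁ * B₀))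
          (x.1 + Matrix.toLin' C₁ w) = x.1
        rw [LinearMap.sub_apply, LinearMap.id_apply, Matrix.toLin'_mul_apply, map_add, hx',
          hB₀C₁, zero_add]
        abel
      · change Matrix.toLin' B₀ (x.1 + Matrix.toLin' C₁ w) = w
        rw [map_add, hx', hB₀C₁, zero_add]
  · -- the isomorphism `L' ⊗ M ≃ M'`
    let incl' : L' ⊗[L] M →ₗ[L'] (Fin m → L') :=
      (τ L L' (Fin m)).toLinearMap ∘ₗ M.subtype.baseChange L'
    let proj' : (Fin m → L') →ₗ[L'] L' ⊗[L] M :=
      p.baseChange L' ∘ₗ (τ L L' (Fin m)).symm.toLinearMap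
    have h2 : ∀ z, proj' (incl' z) = z := by
      intro z
      simp only [incl', proj', LinearMap.comp_apply, LinearEquiv.coe_coe,
        LinearEquiv.symm_apply_apply]
      rw [← LinearMap.comp_apply, ← LinearMap.baseChange_comp, hp_sub, LinearMap.baseChange_id,
        LinearMap.id_apply]
    have h1 : ∀ v, incl' (proj' v) =
        Matrix.toLin' ((1 - C₁ * B₀).map (algebraMap L L')) v := by
      intro v
      rw [← bc_toLin', ← hsub_p]
      simp only [incl', proj', bc, LinearMap.comp_apply, LinearEquiv.coe_coe,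
        LinearMap.baseChange_comp]
    have h3 : ∀ z, Matrix.toLin' (B₀.map (algebraMap L L')) (incl' z) = 0 := by
      intro z
      rw [← bc_toLin']
      simp only [incl', bc, LinearMap.comp_apply, LinearEquiv.coe_coe,
        LinearEquiv.symm_apply_apply]
      rw [← LinearMap.comp_apply, ← LinearMap.baseChange_comp]
      have : Matrix.toLin' B₀ ∘ₗ M.subtype = 0 := by
        apply LinearMap.ext
        intro x
        exact x.2
      rw [this, LinearMap.baseChange_zero, LinearMap.zero_apply, map_zero]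
    have hπB : ∀ v, π v = Matrix.toLin' (LinearMap.toMatrix' π) v := fun v => by
      rw [Matrix.toLin'_toMatrix']
    have hginv : ∀ v, Matrix.toLin' g (Matrix.toLin' g⁻¹ v) = v := fun v => by
      rw [← Matrix.toLin'_mul_apply, Matrix.mul_nonsing_inv _ hgdet, Matrix.toLin'_one,
        LinearMap.id_apply]
    have hginv' : ∀ v, Matrix.toLin' g⁻¹ (Matrix.toLin' g v) = v := fun v => by
      rw [← Matrix.toLin'_mul_apply, Matrix.nonsing_inv_mul _ hgdet, Matrix.toLin'_one,
        LinearMap.id_apply]
    have hBg' : ∀ v, Matrix.toLin' (B₀.map (algebraMap L L')) v = π (Matrix.toLin' g v) := by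
      intro v
      rw [hBg, Matrix.toLin'_mul_apply, ← hπB]
    refine ⟨LinearEquiv.ofLinearMap
      (LinearMap.fst L' M' (Fin n → L') ∘ₗ φ.symm.toLinearMap ∘ₗ Matrix.toLin' g ∘ₗ incl')
      (proj' ∘ₗ Matrix.toLin' g⁻¹ ∘ₗ φ.toLinearMap ∘ₗ LinearMap.inl L' M' (Fin n → L')) ?_ ?_⟩
    · apply LinearMap.ext
      intro m'
      simp only [LinearMap.comp_apply, LinearEquiv.coe_coe, LinearMap.inl_apply,
        LinearMap.id_apply, LinearMap.fst_apply]
      set v := φ (m', 0) with hv
      have hπv : π v = 0 := by simp [hπ, hv]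
      have hw : Matrix.toLin' (B₀.map (algebraMap L L')) (Matrix.toLin' g⁻¹ v) = 0 := by
        rw [hBg', hginv, hπv]
      have hmap : (1 - C₁ * B₀).map (algebraMap L L') =
          1 - C₁.map (algebraMap L L') * B₀.map (algebraMap L L') := by
        rw [Matrix.map_sub _ (map_sub _), Matrix.map_one _ (map_zero _) (map_one _),
          Matrix.map_mul]
      rw [h1, hmap, map_sub, Matrix.toLin'_one, LinearMap.sub_apply, LinearMap.id_apply,
        Matrix.toLin'_mul_apply, hw, map_zero, sub_zero, hginv, hv, LinearEquiv.symm_apply_apply]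
    · apply LinearMap.ext
      intro z
      simp only [LinearMap.comp_apply, LinearEquiv.coe_coe, LinearMap.inl_apply,
        LinearMap.id_apply, LinearMap.fst_apply]
      set v := Matrix.toLin' g (incl' z) with hv
      have hπv : π v = 0 := by rw [hv, ← hBg', h3]
      have hsnd : (φ.symm v).2 = 0 := hπv
      have : φ ((φ.symm v).1, 0) = v := by
        rw [← hsnd, Prod.mk.eta, LinearEquiv.apply_symm_apply]
      rw [this, hv, hginv', h2]

end Descent

end Groth.Agent.Lib.Seat99.Approx
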