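import Groth.Agent.Lib.Seat99BEMinors
import Mathlib.LinearAlgebra.Matrix.ToLin

/-!
# Casting matrices along equalities of sizes (seat 99)
-/

set_option autoImplicit false
set_option linter.unusedSectionVars false
set_option linter.unusedVariables false
set_option linter.unusedSimpArgs false

universe u

namespace Groth.Agent.Lib.Seat99.BE

open Matrix CAlgX

variable {R : Type u} [CommRing R]

/-- transport a matrix along equalities of its sizes. -/
def castMat {a a' b b' : ℕ} (ha : a = a') (hb : b = b') (M : Matrix (Fin a) (Fin b) R) :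
    Matrix (Fin a') (Fin b') R :=
  M.submatrix (Fin.cast ha.symm) (Fin.cast hb.symm)

@[simp] theorem castMat_rfl {a b : ℕ} (M : Matrix (Fin a) (Fin b) R) : castMat rfl rfl M = M := by
  ext i j; rfl

theorem castMat_mul {a a' b b' c c' : ℕ} (ha : a = a') (hb : b = b') (hc : c = c')
    (M : Matrix (Fin a) (Fin b) R) (N : Matrix (Fin b) (Fin c) R) :
    castMat ha hb M * castMat hb hc N = castMat ha hc (M * N) := by
  subst ha hb hc; simp

theorem castMat_zero {a a' b b' : ℕ} (ha : a = a') (hb : b = b') :
    castMat ha hb (0 : Matrix (Fin a) (Fin b) R) = 0 := by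
  subst ha hb; simp

theorem castMat_eq_zero_iff {a a' b b' : ℕ} (ha : a = a') (hb : b = b')
    (M : Matrix (Fin a) (Fin b) R) : castMat ha hb M = 0 ↔ M = 0 := by
  subst ha hb; simp

theorem castMat_map {S : Type*} [CommRing S] (φ : R →+* S) {a a' b b' : ℕ} (ha : a = a')
    (hb : b = b') (M : Matrix (Fin a) (Fin b) R) :
    (castMat ha hb M).map φ = castMat ha hb (M.map φ) := by
  subst ha hb; simp

theorem minorIdeal_castMat {a a' b b' : ℕ} (ha : a = a') (hb : b = b')
    (M : Matrix (Fin a) (Fin b) R) (r : ℕ) : minorIdeal (castMat ha hb M) r = minorIdeal M r := by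
  subst ha hb; simp

theorem matrixRank_castMat {a a' b b' : ℕ} (ha : a = a') (hb : b = b')
    (M : Matrix (Fin a) (Fin b) R) : matrixRank (castMat ha hb M) = matrixRank M := by
  subst ha hb; simp

theorem detIdeal_castMat {a a' b b' : ℕ} (ha : a = a') (hb : b = b')
    (M : Matrix (Fin a) (Fin b) R) : detIdeal (castMat ha hb M) = detIdeal M := by
  subst ha hb; simp

theorem ker_castMat_eq_bot_iff {a a' b b' : ℕ} (ha : a = a') (hb : b = b')
    (M : Matrix (Fin a) (Fin b) R) :
    LinearMap.ker (castMat ha hb M).mulVecLin = ⊥ ↔ LinearMap.ker M.mulVecLin = ⊥ := by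
  subst ha hb; simp

theorem ker_castMat_eq_range_iff {a a' b b' c c' : ℕ} (ha : a = a') (hb : b = b') (hc : c = c')
    (M : Matrix (Fin a) (Fin b) R) (N : Matrix (Fin b) (Fin c) R) :
    LinearMap.ker (castMat ha hb M).mulVecLin = LinearMap.range (castMat hb hc N).mulVecLin ↔
      LinearMap.ker M.mulVecLin = LinearMap.range N.mulVecLin := by
  subst ha hb hc; simp

end Groth.Agent.Lib.Seat99.BE
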