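import Groth.Agent.Lib.Seat99BEMinors
import Groth.Agent.Lib.Seat88AcyclicLoc
import Mathlib.RingTheory.Regular.Flat
import Mathlib.RingTheory.Localization.AtPrime.Basic

/-!
# Buchsbaum–Eisenbud conditions: localization and local-global (seat 99)
-/

set_option autoImplicit false
set_option linter.unusedSectionVars false
set_option linter.unusedVariables false
set_option linter.unusedSimpArgs false

universe u

namespace Groth.Agent.Lib.Seat99.BE

open Matrix CAlgX

/-- The Buchsbaum–Eisenbud hypotheses on a family of matrices. -/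
structure Cond (R : Type u) [CommRing R] (e : ℕ) (n : ℕ → ℕ)
    (A : (i : ℕ) → Matrix (Fin (n i)) (Fin (n (i + 1))) R) : Prop where
  hA : ∀ i, i + 2 ≤ e → A i * A (i + 1) = 0
  hrank : ∀ j, 1 ≤ j → j ≤ e →
    (matrixRank (A (j - 1)) : ℤ) = ∑ t ∈ Finset.Icc j e, (-1 : ℤ) ^ (t - j) * (n t : ℤ)
  hdet : ∀ j, 1 ≤ j → j ≤ e →
    detIdeal (A (j - 1)) = ⊤ ∨
      ∃ rs : List R, rs.length = j ∧ (∀ r ∈ rs, r ∈ detIdeal (A (j - 1))) ∧
        RingTheory.Sequence.IsRegular R rs

/-- Exactness at `R^(n_e), …, R^(n_1)`. -/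
def Exact {R : Type u} [CommRing R] (e : ℕ) (n : ℕ → ℕ)
    (A : (i : ℕ) → Matrix (Fin (n i)) (Fin (n (i + 1))) R) : Prop :=
  LinearMap.ker (A (e - 1)).mulVecLin = ⊥ ∧
    ∀ i, i + 2 ≤ e → LinearMap.ker (A i).mulVecLin = LinearMap.range (A (i + 1)).mulVecLin

variable {R : Type u} [CommRing R]

/-- the determinantal ideal of a matrix satisfying the condition contains a regular element or
is the unit ideal; in both cases its image in a localization at a prime is nonzero. -/
theorem detIdeal_map_ne_bot (p : Ideal R) [p.IsPrime] {a b : ℕ} (A : Matrix (Fin a) (Fin b) R)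
    {j : ℕ} (hj : 1 ≤ j)
    (h : detIdeal A = ⊤ ∨ ∃ rs : List R, rs.length = j ∧ (∀ r ∈ rs, r ∈ detIdeal A) ∧
        RingTheory.Sequence.IsRegular R rs) :
    (detIdeal A).map (algebraMap R (Localization.AtPrime p)) ≠ ⊥ := by
  rcases h with h | ⟨rs, hlen, hmem, hreg⟩
  · rw [h, Ideal.map_top]
    exact top_ne_bot
  · match rs, hlen, hmem, hreg with
    | [], hlen, _, _ => simp at hlen; omega
    | x :: rs', _, hmem, hreg =>
      have hx : IsSMulRegular R x :=
        ((RingTheory.Sequence.isWeaklyRegular_cons_iff R x rs').1 hreg.toIsWeaklyRegular).1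
      intro hbot
      have h1 : algebraMap R (Localization.AtPrime p) x ∈
          (detIdeal A).map (algebraMap R (Localization.AtPrime p)) :=
        Ideal.mem_map_of_mem _ (hmem x (List.mem_cons_self))
      rw [hbot, Ideal.mem_bot] at h1
      obtain ⟨s, hs⟩ :=
        (IsLocalization.map_eq_zero_iff p.primeCompl (Localization.AtPrime p) x).1 h1
      have hs0 : (s : R) = 0 := by
        apply hx
        simp only [smul_eq_mul, mul_zero]
        rw [mul_comm]
        exact hs
      exact s.2 (hs0 ▸ p.zero_mem)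

theorem matrixRank_map_localization (p : Ideal R) [p.IsPrime] {a b : ℕ}
    (A : Matrix (Fin a) (Fin b) R)
    (h : (detIdeal A).map (algebraMap R (Localization.AtPrime p)) ≠ ⊥) :
    matrixRank (A.map (algebraMap R (Localization.AtPrime p))) = matrixRank A := by
  apply matrixRank_eq_of
  · rw [minorIdeal_map]
    exact h
  · rw [minorIdeal_map, minorIdeal_matrixRank_succ, Ideal.map_bot]

theorem detIdeal_map_localization (p : Ideal R) [p.IsPrime] {a b : ℕ}
    (A : Matrix (Fin a) (Fin b) R)
    (h : (detIdeal A).map (algebraMap R (Localization.AtPrime p)) ≠ ⊥) :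
    detIdeal (A.map (algebraMap R (Localization.AtPrime p))) =
      (detIdeal A).map (algebraMap R (Localization.AtPrime p)) := by
  unfold detIdeal
  rw [matrixRank_map_localization p A h, minorIdeal_map]

theorem Cond.localize {e : ℕ} {n : ℕ → ℕ} {A : (i : ℕ) → Matrix (Fin (n i)) (Fin (n (i + 1))) R}
    (h : Cond R e n A) (p : Ideal R) [p.IsPrime] :
    Cond (Localization.AtPrime p) e n
      (fun i => (A i).map (algebraMap R (Localization.AtPrime p))) := by
  refine ⟨fun i hi => ?_, fun j hj1 hje => ?_, fun j hj1 hje => ?_⟩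
  · show (A i).map _ * (A (i + 1)).map _ = 0
    rw [← Matrix.map_mul, h.hA i hi]
    ext; simp
  · show (matrixRank ((A (j - 1)).map _) : ℤ) = _
    rw [matrixRank_map_localization p _ (detIdeal_map_ne_bot p _ hj1 (h.hdet j hj1 hje))]
    exact h.hrank j hj1 hje
  · show detIdeal ((A (j - 1)).map _) = ⊤ ∨ _
    have hne := detIdeal_map_ne_bot p _ hj1 (h.hdet j hj1 hje)
    rw [detIdeal_map_localization p _ hne]
    rcases h.hdet j hj1 hje with h1 | ⟨rs, hlen, hmem, hreg⟩
    · left
      rw [h1, Ideal.map_top]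
    · by_cases hall : ∀ r ∈ rs, r ∈ p
      · right
        refine ⟨rs.map (algebraMap R (Localization.AtPrime p)), by simpa using hlen, ?_, ?_⟩
        · intro r hr
          obtain ⟨r', hr', rfl⟩ := List.mem_map.1 hr
          exact Ideal.mem_map_of_mem _ (hmem r' hr')
        · exact hreg.toIsWeaklyRegular.isRegular_of_isLocalization_of_mem
            (Localization.AtPrime p) p hall
      · left
        push Not at hall
        obtain ⟨r, hr, hrp⟩ := hall
        apply Ideal.eq_top_of_isUnit_mem _ (Ideal.mem_map_of_mem _ (hmem r hr))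
        exact IsLocalization.map_units (Localization.AtPrime p) (⟨r, hrp⟩ : p.primeCompl)

/-- Exactness can be checked after localizing at all primes. -/
theorem Exact.of_localization {e : ℕ} {n : ℕ → ℕ}
    {A : (i : ℕ) → Matrix (Fin (n i)) (Fin (n (i + 1))) R}
    (hA : ∀ i, i + 2 ≤ e → A i * A (i + 1) = 0)
    (h : ∀ (p : Ideal R) [p.IsPrime], Exact e n
      (fun i => (A i).map (algebraMap R (Localization.AtPrime p)))) :
    Exact e n A := by
  refine ⟨?_, fun i hi => ?_⟩
  · rw [eq_bot_iff]
    intro z hz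
    have key : ∃ N : ℕ, (1 : R) ^ N • z ∈ (⊥ : Submodule R (Fin (n (e - 1 + 1)) → R)) := by
      apply Groth.Agent.Lib.Seat88.AcyclicLoc.exists_pow_smul_mem
      intro p hp _
      have := Groth.Agent.Lib.Seat88.AcyclicLoc.exists_smul_mem_range_of_loc (A (e - 1))
        (0 : Matrix (Fin (n (e - 1 + 1))) (Fin 0) R) p
        (by rw [(h p).1]; exact bot_le) z hz
      obtain ⟨s, hs, w, hw⟩ := this
      refine ⟨s, hs, ?_⟩
      rw [← hw]
      simp
    obtain ⟨N, hN⟩ := key
    simpa using hN
  · apply le_antisymm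
    · intro z hz
      have key : ∃ N : ℕ, (1 : R) ^ N • z ∈ LinearMap.range (A (i + 1)).mulVecLin := by
        apply Groth.Agent.Lib.Seat88.AcyclicLoc.exists_pow_smul_mem
        intro p hp _
        exact Groth.Agent.Lib.Seat88.AcyclicLoc.exists_smul_mem_range_of_loc (A i) (A (i + 1)) p
          (le_of_eq ((h p).2 i hi)) z hz
      obtain ⟨N, hN⟩ := key
      simpa using hN
    · rintro _ ⟨w, rfl⟩
      rw [LinearMap.mem_ker, ← LinearMap.comp_apply, ← Matrix.mulVecLin_mul, hA i hi]
      simp

end Groth.Agent.Lib.Seat99.BE
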