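import Groth.Agent.Lib.Seat99BEShort
import Groth.Agent.S18128
import Mathlib.RingTheory.Ideal.KrullsHeightTheorem

/-!
# Buchsbaum–Eisenbud: sufficiency of the rank and grade conditions (seat 99)
-/

set_option autoImplicit false
set_option linter.unusedSectionVars false
set_option linter.unusedVariables false
set_option linter.unusedSimpArgs false

universe u

namespace Groth.Agent.Lib.Seat99.BE

open Matrix CAlgX

/-- dimension of a proper localization of a local Noetherian ring drops. -/
theorem exists_dim_lt {R : Type u} [CommRing R] [IsLocalRing R] [IsNoetherianRing R] (d : ℕ)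
    (hd : ringKrullDim R ≤ d) (p : Ideal R) [p.IsPrime] (hp : p ≠ IsLocalRing.maximalIdeal R) :
    ∃ d' : ℕ, d' < d ∧ ringKrullDim (Localization.AtPrime p) ≤ d' := by
  have hlt : p < IsLocalRing.maximalIdeal R :=
    lt_of_le_of_ne (IsLocalRing.le_maximalIdeal (Ideal.IsPrime.ne_top ‹_›)) hp
  have h1 : p.height < (IsLocalRing.maximalIdeal R).height :=
    Ideal.height_strict_mono_of_isPrime hlt
  have h2 : ((IsLocalRing.maximalIdeal R).height : WithBot ℕ∞) ≤ d := by
    rw [IsLocalRing.maximalIdeal_height_eq_ringKrullDim]; exact hd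
  have h3 : (IsLocalRing.maximalIdeal R).height ≤ (d : ℕ∞) := by exact_mod_cast h2
  have h4 : p.height < (d : ℕ∞) := lt_of_lt_of_le h1 h3
  obtain ⟨d', hd'⟩ := ENat.ne_top_iff_exists.1 (ne_top_of_lt h4)
  refine ⟨d', ?_, ?_⟩
  · rw [← hd'] at h4
    exact_mod_cast h4
  · rw [IsLocalization.AtPrime.ringKrullDim_eq_height p, ← hd']
    rfl

/-- Buchsbaum–Eisenbud sufficiency over a Noetherian local ring. -/
theorem exact_of_cond_local (d : ℕ) :
    ∀ (R : Type u) [CommRing R] [IsLocalRing R] [IsNoetherianRing R], ringKrullDim R ≤ d →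
    ∀ (e : ℕ), 1 ≤ e → ∀ (n : ℕ → ℕ) (A : (i : ℕ) → Matrix (Fin (n i)) (Fin (n (i + 1))) R),
      Cond R e n A → Exact e n A := by
  induction d using Nat.strong_induction_on with
  | _ d ihd =>
  intro R _ _ _ hd e
  induction e with
  | zero => intro he; omega
  | succ e' ihe =>
    intro _ n A h
    by_cases htop : detIdeal (A e') = ⊤
    · -- the top map splits
      match e', ihe, h, htop with
      | 0, _, h, htop =>
        have hr : matrixRank (A 0) = n 1 := by
          have h0 := h.hrank 1 le_rfl le_rfl
          change (matrixRank (A 0) : ℤ) = _ at h0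
          rw [Finset.Icc_self, Finset.sum_singleton, Nat.sub_self, pow_zero, one_mul] at h0
          exact_mod_cast h0
        have hY : minorIdeal (A 0) (n 1) = ⊤ := by
          have h0 := htop
          unfold detIdeal at h0
          rwa [hr] at h0
        obtain ⟨Q, hQ⟩ := exists_leftInverse_of_minorIdeal_eq_top (A 0) hY
        refine ⟨?_, fun i hi => by omega⟩
        change LinearMap.ker (A 0).mulVecLin = ⊥
        rw [LinearMap.ker_eq_bot]
        have hQl : Q.mulVecLin ∘ₗ (A 0).mulVecLin = LinearMap.id := by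
          rw [← Matrix.mulVecLin_mul, hQ, Matrix.mulVecLin_one]
        exact Function.LeftInverse.injective (g := Q.mulVecLin) (LinearMap.congr_fun hQl)
      | k + 1, ihe, h, htop =>
        obtain ⟨N, A', hc, hex⟩ := shorten k n A h htop
        exact hex (ihe (by omega) N A' hc)
    · -- depth at least `e' + 1`
      obtain ⟨rs, hlen, hmem, hreg⟩ := (h.hdet (e' + 1) (by omega) le_rfl).resolve_left htop
      change ∀ r ∈ rs, r ∈ detIdeal (A e') at hmem
      have hle : detIdeal (A e') ≤ IsLocalRing.maximalIdeal R :=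
        IsLocalRing.le_maximalIdeal htop
      have hloc : ∀ (p : Ideal R) [p.IsPrime], p ≠ IsLocalRing.maximalIdeal R →
          Exact (e' + 1) n (fun i => (A i).map (algebraMap R (Localization.AtPrime p))) := by
        intro p hp hpm
        obtain ⟨d', hd'd, hd'⟩ := exists_dim_lt d hd p hpm
        exact ihd d' hd'd (Localization.AtPrime p) hd' (e' + 1) (by omega) n _ (h.localize p)
      have hmem' : ∀ x ∈ rs, x ∈ IsLocalRing.maximalIdeal R := fun x hx => hle (hmem x hx)
      unfold Exact at hloc ⊢
      exact Groth.Agent.S18128.result (e' + 1) (by omega) n A h.hA rs hlen hmem' hreg hloc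

/-- **Buchsbaum–Eisenbud**, sufficiency, over a Noetherian ring. -/
theorem exact_of_cond {R : Type u} [CommRing R] [IsNoetherianRing R] (e : ℕ) (he : 1 ≤ e)
    (n : ℕ → ℕ) (A : (i : ℕ) → Matrix (Fin (n i)) (Fin (n (i + 1))) R) (h : Cond R e n A) :
    Exact e n A := by
  apply Exact.of_localization h.hA
  intro p hp
  have h1 : ringKrullDim (Localization.AtPrime p) = p.height :=
    IsLocalization.AtPrime.ringKrullDim_eq_height p _
  obtain ⟨d, hd⟩ := ENat.ne_top_iff_exists.1 (Ideal.height_ne_top (Ideal.IsPrime.ne_top hp))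
  refine exact_of_cond_local d (Localization.AtPrime p) ?_ e he n _ (h.localize p)
  rw [h1, ← hd]
  rfl

end Groth.Agent.Lib.Seat99.BE
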