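import Groth.Prelude.Def_CAlgX
import Groth.Agent.Lib.Helper13McCoy
import Groth.Agent.Lib.Seat76Minors
import Mathlib.LinearAlgebra.Matrix.Determinant.Basic
import Mathlib.RingTheory.Ideal.Maps

/-!
# Determinantal ideals `CAlgX.minorIdeal`: products, base change, monotonicity, rank (seat 99)
-/

set_option autoImplicit false
set_option linter.unusedSectionVars false
set_option linter.unusedVariables false
set_option linter.unusedSimpArgs false

universe u

namespace Groth.Agent.Lib.Seat99.BE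

open Matrix CAlgX

variable {R : Type u} [CommRing R]

theorem det_mem_minorIdeal {a b : ℕ} (A : Matrix (Fin a) (Fin b) R) {r : ℕ}
    (f : Fin r → Fin a) (g : Fin r → Fin b) : (A.submatrix f g).det ∈ minorIdeal A r :=
  Ideal.subset_span ⟨(f, g), rfl⟩

theorem minorIdeal_le_iff {a b : ℕ} (A : Matrix (Fin a) (Fin b) R) {r : ℕ} (I : Ideal R) :
    minorIdeal A r ≤ I ↔ ∀ (f : Fin r → Fin a) (g : Fin r → Fin b), (A.submatrix f g).det ∈ I := by
  unfold minorIdeal
  rw [Ideal.span_le]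
  constructor
  · intro h f g
    exact h ⟨(f, g), rfl⟩
  · rintro h _ ⟨⟨f, g⟩, rfl⟩
    exact h f g

theorem minorIdeal_zero {a b : ℕ} (A : Matrix (Fin a) (Fin b) R) : minorIdeal A 0 = ⊤ := by
  rw [Ideal.eq_top_iff_one]
  have := det_mem_minorIdeal A (r := 0) Fin.elim0 Fin.elim0
  rwa [Matrix.det_fin_zero] at this

theorem minorIdeal_mul_le_left {a b c : ℕ} (X : Matrix (Fin a) (Fin b) R)
    (Y : Matrix (Fin b) (Fin c) R) (r : ℕ) : minorIdeal (X * Y) r ≤ minorIdeal X r := by
  rw [minorIdeal_le_iff]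
  intro f g
  have h1 : (X * Y).submatrix f g = (X.submatrix f id) * (Y.submatrix id g) := by
    ext i j
    simp [Matrix.mul_apply]
  rw [h1]
  have h2 := Groth.Agent.Lib.Seat76.Minors.det_mul_mem_span (X.submatrix f id) (Y.submatrix id g)
  refine Ideal.span_le.2 ?_ h2
  rintro _ ⟨c, rfl⟩
  exact det_mem_minorIdeal X f c

theorem minorIdeal_transpose {a b : ℕ} (A : Matrix (Fin a) (Fin b) R) (r : ℕ) :
    minorIdeal Aᵀ r = minorIdeal A r := by
  apply le_antisymm
  · rw [minorIdeal_le_iff]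
    intro f g
    have : Aᵀ.submatrix f g = (A.submatrix g f)ᵀ := rfl
    rw [this, Matrix.det_transpose]
    exact det_mem_minorIdeal A g f
  · rw [minorIdeal_le_iff]
    intro f g
    have : A.submatrix f g = (Aᵀ.submatrix g f)ᵀ := rfl
    rw [this, Matrix.det_transpose]
    exact det_mem_minorIdeal Aᵀ g f

theorem minorIdeal_mul_le_right {a b c : ℕ} (X : Matrix (Fin a) (Fin b) R)
    (Y : Matrix (Fin b) (Fin c) R) (r : ℕ) : minorIdeal (X * Y) r ≤ minorIdeal Y r := by
  rw [← minorIdeal_transpose (X * Y), Matrix.transpose_mul, ← minorIdeal_transpose Y]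
  exact minorIdeal_mul_le_left _ _ r

theorem minorIdeal_map {S : Type*} [CommRing S] (φ : R →+* S) {a b : ℕ}
    (A : Matrix (Fin a) (Fin b) R) (r : ℕ) :
    minorIdeal (A.map φ) r = (minorIdeal A r).map φ := by
  unfold minorIdeal
  rw [Ideal.map_span]
  congr 1
  ext x
  constructor
  · rintro ⟨⟨f, g⟩, rfl⟩
    refine ⟨_, ⟨(f, g), rfl⟩, ?_⟩
    rw [RingHom.map_det]
    rfl
  · rintro ⟨_, ⟨⟨f, g⟩, rfl⟩, rfl⟩
    refine ⟨(f, g), ?_⟩
    rw [RingHom.map_det]
    rfl

theorem minorIdeal_succ_le {a b : ℕ} (A : Matrix (Fin a) (Fin b) R) (r : ℕ) :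
    minorIdeal A (r + 1) ≤ minorIdeal A r := by
  rw [minorIdeal_le_iff]
  intro f g
  rw [Matrix.det_succ_row_zero]
  refine Ideal.sum_mem _ fun j _ => ?_
  apply Ideal.mul_mem_left
  exact det_mem_minorIdeal A (f ∘ Fin.succ) (g ∘ j.succAbove)

theorem minorIdeal_eq_bot_of_le {a b : ℕ} (A : Matrix (Fin a) (Fin b) R) {r s : ℕ} (hrs : r ≤ s)
    (h : minorIdeal A r = ⊥) : minorIdeal A s = ⊥ := by
  induction s, hrs using Nat.le_induction with
  | base => exact h
  | succ s _ ih => exact le_bot_iff.1 ((minorIdeal_succ_le A s).trans ih.le)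

theorem bddAbove_rankSet {a b : ℕ} (A : Matrix (Fin a) (Fin b) R) :
    BddAbove {r : ℕ | minorIdeal A r ≠ ⊥} := by
  refine ⟨b, fun r hr => ?_⟩
  by_contra hlt
  rw [not_le] at hlt
  exact hr (Groth.Agent.Helper13McCoy.minorIdeal_eq_bot_of_lt A r hlt)

theorem matrixRank_eq_of {a b : ℕ} (A : Matrix (Fin a) (Fin b) R) (r : ℕ)
    (h1 : minorIdeal A r ≠ ⊥) (h2 : minorIdeal A (r + 1) = ⊥) : matrixRank A = r := by
  unfold matrixRank
  apply IsGreatest.csSup_eq
  refine ⟨h1, fun s hs => ?_⟩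
  by_contra hlt
  rw [not_le] at hlt
  exact hs (minorIdeal_eq_bot_of_le A hlt h2)

theorem minorIdeal_matrixRank_ne_bot [Nontrivial R] {a b : ℕ} (A : Matrix (Fin a) (Fin b) R) :
    minorIdeal A (matrixRank A) ≠ ⊥ := by
  have hne : {r : ℕ | minorIdeal A r ≠ ⊥}.Nonempty := by
    refine ⟨0, ?_⟩
    show minorIdeal A 0 ≠ ⊥
    rw [minorIdeal_zero]
    exact top_ne_bot
  exact Nat.sSup_mem hne (bddAbove_rankSet A)

theorem minorIdeal_matrixRank_succ {a b : ℕ} (A : Matrix (Fin a) (Fin b) R) :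
    minorIdeal A (matrixRank A + 1) = ⊥ := by
  by_contra h
  have : matrixRank A + 1 ≤ matrixRank A := le_csSup (bddAbove_rankSet A) h
  omega

/-- Two matrices with the same minor ideals have the same rank and determinantal ideal. -/
theorem matrixRank_eq_of_minorIdeal_eq {a b a' b' : ℕ} (A : Matrix (Fin a) (Fin b) R)
    (B : Matrix (Fin a') (Fin b') R) (h : ∀ r, minorIdeal A r = minorIdeal B r) :
    matrixRank A = matrixRank B := by
  unfold matrixRank
  congr 1
  ext r
  simp only [Set.mem_ofPred_eq, h r]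

theorem detIdeal_eq_of_minorIdeal_eq {a b a' b' : ℕ} (A : Matrix (Fin a) (Fin b) R)
    (B : Matrix (Fin a') (Fin b') R) (h : ∀ r, minorIdeal A r = minorIdeal B r) :
    detIdeal A = detIdeal B := by
  unfold detIdeal
  rw [matrixRank_eq_of_minorIdeal_eq A B h, h]

end Groth.Agent.Lib.Seat99.BE
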