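import Groth.Agent.Lib.Seat99BEShort

/-!
# Buchsbaum–Eisenbud, necessity: localization of exactness and shortening (seat 99)
-/

set_option autoImplicit false
set_option linter.unusedSectionVars false
set_option linter.unusedVariables false
set_option linter.unusedSimpArgs false

universe u

namespace Groth.Agent.Lib.Seat99.BE

open Matrix CAlgX

variable {R : Type u} [CommRing R]

/-- forward localization of `ker ≤ range`. -/
theorem ker_le_range_map_loc (p : Ideal R) [p.IsPrime] {a b c : ℕ}
    (X : Matrix (Fin a) (Fin b) R) (Y : Matrix (Fin b) (Fin c) R)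
    (h : LinearMap.ker X.mulVecLin ≤ LinearMap.range Y.mulVecLin) :
    LinearMap.ker (X.map (algebraMap R (Localization.AtPrime p))).mulVecLin ≤
      LinearMap.range (Y.map (algebraMap R (Localization.AtPrime p))).mulVecLin := by
  set φ := algebraMap R (Localization.AtPrime p) with hφ
  intro v hv
  rw [LinearMap.mem_ker, Matrix.mulVecLin_apply] at hv
  obtain ⟨t, ht⟩ := IsLocalization.exist_integer_multiples_of_finite p.primeCompl v
  choose w hw using ht
  have hw' : φ ∘ w = φ (t : R) • v := by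
    funext i
    rw [Function.comp_apply, hw i, Pi.smul_apply, Algebra.smul_def, smul_eq_mul]
  have h1 : φ ∘ (X *ᵥ w) = 0 := by
    rw [← Groth.Agent.Lib.Seat88.AcyclicLoc.map_mulVec_comp, hw', Matrix.mulVec_smul, hv,
      smul_zero]
  have h3 : ∀ k, ∃ m : p.primeCompl, (m : R) * ((X *ᵥ w) k) = 0 := fun k =>
    (IsLocalization.map_eq_zero_iff p.primeCompl (Localization.AtPrime p) _).mp (congrFun h1 k)
  choose m hm using h3
  have hM : (∏ k, (m k : R)) ∈ p.primeCompl := by
    have : (∏ k, (m k : R)) = ((∏ k, m k : p.primeCompl) : R) := by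
      rw [Submonoid.coe_finsetProd]
    rw [this]
    exact (∏ k, m k : p.primeCompl).2
  have h4 : (∏ k, (m k : R)) • w ∈ LinearMap.ker X.mulVecLin := by
    rw [LinearMap.mem_ker, Matrix.mulVecLin_apply, Matrix.mulVec_smul]
    funext k
    rw [Pi.smul_apply, smul_eq_mul, Pi.zero_apply,
      ← Finset.mul_prod_erase Finset.univ _ (Finset.mem_univ k), mul_comm (m k : R), mul_assoc,
      hm k, mul_zero]
  obtain ⟨u, hu⟩ := h h4
  rw [Matrix.mulVecLin_apply] at hu
  have hunit : IsUnit (φ ((∏ k, (m k : R)) * (t : R))) :=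
    IsLocalization.map_units (Localization.AtPrime p)
      (⟨(∏ k, (m k : R)) * (t : R), p.primeCompl.mul_mem hM t.2⟩ : p.primeCompl)
  obtain ⟨c, hc⟩ := hunit.exists_left_inv
  refine ⟨c • (φ ∘ u), ?_⟩
  rw [Matrix.mulVecLin_apply, Matrix.mulVec_smul,
    Groth.Agent.Lib.Seat88.AcyclicLoc.map_mulVec_comp, hu]
  have h5 : φ ∘ ((∏ k, (m k : R)) • w) = φ (∏ k, (m k : R)) • (φ ∘ w) := by
    funext i
    simp
  rw [h5, hw', smul_smul, smul_smul, mul_assoc, ← map_mul, hc, one_smul]

/-- Exactness is preserved by localization at a prime. -/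
theorem Exact.localize {e : ℕ} {n : ℕ → ℕ}
    {A : (i : ℕ) → Matrix (Fin (n i)) (Fin (n (i + 1))) R}
    (hA : ∀ i, i + 2 ≤ e → A i * A (i + 1) = 0) (h : Exact e n A)
    (p : Ideal R) [p.IsPrime] :
    Exact e n (fun i => (A i).map (algebraMap R (Localization.AtPrime p))) := by
  refine ⟨?_, fun i hi => ?_⟩
  · rw [eq_bot_iff]
    have h1 := ker_le_range_map_loc p (A (e - 1)) (0 : Matrix (Fin (n (e - 1 + 1))) (Fin 0) R)
      (by rw [h.1]; exact bot_le)
    intro v hv
    obtain ⟨w, hw⟩ := h1 hv
    rw [Submodule.mem_bot, ← hw]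
    simp
  · apply le_antisymm
    · exact ker_le_range_map_loc p (A i) (A (i + 1)) (le_of_eq (h.2 i hi))
    · rintro _ ⟨w, rfl⟩
      show _ ∈ LinearMap.ker ((A i).map (algebraMap R (Localization.AtPrime p))).mulVecLin
      rw [LinearMap.mem_ker]
      show ((A i).map (algebraMap R (Localization.AtPrime p))).mulVecLin
        (((A (i + 1)).map (algebraMap R (Localization.AtPrime p))).mulVecLin w) = 0
      rw [← LinearMap.comp_apply, ← Matrix.mulVecLin_mul, ← Matrix.map_mul, hA i hi]
      simp

/-- Converse shortening: over a local ring, an exact complex of length `k + 2` whose top map has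
unit ideal of maximal minors can be replaced by an exact complex of length `k + 1` with the same
ideals of minors in the remaining spots. -/
theorem shorten_conv [IsLocalRing R] (k : ℕ) (n : ℕ → ℕ)
    (A : (i : ℕ) → Matrix (Fin (n i)) (Fin (n (i + 1))) R)
    (hA : ∀ i, i + 2 ≤ k + 2 → A i * A (i + 1) = 0)
    (hY : minorIdeal (A (k + 1)) (n (k + 2)) = ⊤) (hE : Exact (k + 2) n A) :
    ∃ (N : ℕ → ℕ) (A' : (i : ℕ) → Matrix (Fin (N i)) (Fin (N (i + 1))) R),
      (∀ i, i + 2 ≤ k + 1 → A' i * A' (i + 1) = 0) ∧ Exact (k + 1) N A' ∧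
      (∀ j, j ≤ k + 1 → ∑ t ∈ Finset.Icc j (k + 1), (-1 : ℤ) ^ (t - j) * (N t : ℤ) =
        ∑ t ∈ Finset.Icc j (k + 2), (-1 : ℤ) ^ (t - j) * (n t : ℤ)) ∧
      (∀ i, i ≤ k → ∀ r, minorIdeal (A' i) r = minorIdeal (A i) r) := by
  have hXY : A k * A (k + 1) = 0 := hA k (by omega)
  obtain ⟨m', C, P, S, hm, hXCP, hCXS, hPS, hkerY, hkerP⟩ :=
    exists_split (A k) (A (k + 1)) hXY hY
  have hminor : ∀ r, minorIdeal C r = minorIdeal (A k) r := by
    intro r
    apply le_antisymm
    · have := minorIdeal_mul_le_left (A k) S r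
      rwa [← hCXS] at this
    · have := minorIdeal_mul_le_left C P r
      rwa [← hXCP] at this
  obtain ⟨htopE, hmidE⟩ := hE
  refine ⟨shortN n k m', shortA n A k m' C, ?_, ⟨?_, ?_⟩, ?_, ?_⟩
  · -- complex
    intro i hi
    have hik : i < k := by omega
    rw [shortA_lt n A k m' C hik]
    by_cases h1 : i + 1 < k
    · rw [shortA_lt n A k m' C h1, castMat_mul, hA i (by omega), castMat_zero]
    · have h2 : i + 1 = k := by omega
      subst h2
      rw [shortA_k, castMat_mul, hCXS, ← Matrix.mul_assoc, hA i (by omega), Matrix.zero_mul,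
        castMat_zero]
  · -- top injective
    change LinearMap.ker (shortA n A k m' C k).mulVecLin = ⊥
    rw [shortA_k, ker_castMat_eq_bot_iff, eq_bot_iff]
    intro v hv
    rw [LinearMap.mem_ker, Matrix.mulVecLin_apply] at hv
    have h1 : S.mulVecLin v ∈ LinearMap.ker (A k).mulVecLin := by
      rw [LinearMap.mem_ker, ← LinearMap.comp_apply, ← Matrix.mulVecLin_mul, ← hCXS,
        Matrix.mulVecLin_apply, hv]
    rw [hmidE k (by omega), ← hkerP, LinearMap.mem_ker, ← LinearMap.comp_apply,
      ← Matrix.mulVecLin_mul, hPS] at h1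
    simpa using h1
  · -- middle
    intro i hi
    rcases (by omega : i + 1 = k ∨ i + 1 < k) with h1 | h1
    · subst h1
      rw [shortA_lt n A (i + 1) m' C (by omega), shortA_k, ker_castMat_eq_range_iff,
        hmidE i (by omega)]
      exact (range_eq_of_mul (A (i + 1)) C P S hXCP hCXS).symm
    · rw [shortA_lt n A k m' C (by omega), shortA_lt n A k m' C h1, ker_castMat_eq_range_iff]
      exact hmidE i (by omega)
  · intro j hj
    exact sum_shortN n k m' hm j hj
  · intro i hi r
    rcases (by omega : i < k ∨ i = k) with h1 | h1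
    · rw [shortA_lt n A k m' C h1, minorIdeal_castMat]
    · subst h1
      rw [shortA_k, minorIdeal_castMat, hminor]

end Groth.Agent.Lib.Seat99.BE
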