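import Groth.Agent.Lib.Seat99BENec1
import Groth.Agent.Lib.Helper13McCoy
import Mathlib.RingTheory.Ideal.AssociatedPrime.Finiteness
import Mathlib.RingTheory.Ideal.AssociatedPrime.Basic

/-!
# Buchsbaum–Eisenbud, necessity: the ranks (seat 99)
-/

set_option autoImplicit false
set_option linter.unusedSectionVars false
set_option linter.unusedVariables false
set_option linter.unusedSimpArgs false

universe u

namespace Groth.Agent.Lib.Seat99.BE

open Matrix CAlgX

variable {R : Type u} [CommRing R]

/-- In a local ring with a nonzero element killed by the maximal ideal, an injective matrix has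
unit ideal of maximal minors. -/
theorem minorIdeal_eq_top_of_injective [IsLocalRing R] (z : R) (hz : z ≠ 0)
    (hmz : ∀ a ∈ IsLocalRing.maximalIdeal R, a * z = 0) {a b : ℕ}
    (Y : Matrix (Fin a) (Fin b) R) (hY : LinearMap.ker Y.mulVecLin = ⊥) :
    minorIdeal Y b = ⊤ := by
  by_contra hne
  have hle : minorIdeal Y b ≤ IsLocalRing.maximalIdeal R := IsLocalRing.le_maximalIdeal hne
  apply hz
  apply Groth.Agent.Helper13McCoy.eq_zero_of_forall_mul_det Y (LinearMap.ker_eq_bot.1 hY) z
  intro f g
  have h1 : det (Y.submatrix f g) ∈ IsLocalRing.maximalIdeal R :=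
    hle (Ideal.subset_span ⟨(f, g), rfl⟩)
  rw [mul_comm]
  exact hmz _ h1

/-- Depth zero: an exact complex of finite free modules over a local ring of depth zero is split;
all the ideals of minors of the expected size are the unit ideal. -/
theorem depth_zero [IsLocalRing R] (z : R) (hz : z ≠ 0)
    (hmz : ∀ a ∈ IsLocalRing.maximalIdeal R, a * z = 0) :
    ∀ (k : ℕ) (n : ℕ → ℕ) (A : (i : ℕ) → Matrix (Fin (n i)) (Fin (n (i + 1))) R),
      (∀ i, i + 2 ≤ k + 1 → A i * A (i + 1) = 0) → Exact (k + 1) n A →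
      ∀ i, i ≤ k → ∃ r : ℕ,
        (r : ℤ) = ∑ t ∈ Finset.Icc (i + 1) (k + 1), (-1 : ℤ) ^ (t - (i + 1)) * (n t : ℤ) ∧
        minorIdeal (A i) r = ⊤ ∧ minorIdeal (A i) (r + 1) = ⊥ := by
  intro k
  induction k with
  | zero =>
    intro n A hA hE i hi
    obtain rfl : i = 0 := by omega
    refine ⟨n 1, by simp, ?_, ?_⟩
    · exact minorIdeal_eq_top_of_injective z hz hmz (A 0) hE.1
    · exact Groth.Agent.Helper13McCoy.minorIdeal_eq_bot_of_lt (A 0) _ (Nat.lt_succ_self _)
  | succ k ih =>
    intro n A hA hE i hi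
    have hY : minorIdeal (A (k + 1)) (n (k + 2)) = ⊤ :=
      minorIdeal_eq_top_of_injective z hz hmz (A (k + 1)) hE.1
    rcases (by omega : i = k + 1 ∨ i ≤ k) with h1 | h1
    · subst h1
      refine ⟨n (k + 2), by simp, hY, ?_⟩
      exact Groth.Agent.Helper13McCoy.minorIdeal_eq_bot_of_lt (A (k + 1)) _ (Nat.lt_succ_self _)
    · obtain ⟨N, A', hA', hE', hsum, hmin⟩ := shorten_conv k n A hA hY hE
      obtain ⟨r, hr, h2, h3⟩ := ih N A' hA' hE' i h1
      refine ⟨r, ?_, ?_, ?_⟩
      · rw [hr, hsum (i + 1) (by omega)]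
      · rw [← hmin i h1]
        exact h2
      · rw [← hmin i h1]
        exact h3

/-- The localization at an associated prime has depth zero. -/
theorem exists_socle_of_mem_associatedPrimes [IsNoetherianRing R] (p : Ideal R) [p.IsPrime]
    (hp : p ∈ associatedPrimes R R) :
    ∃ z : Localization.AtPrime p, z ≠ 0 ∧
      ∀ a ∈ IsLocalRing.maximalIdeal (Localization.AtPrime p), a * z = 0 := by
  rw [AssociatedPrimes.mem_iff, isAssociatedPrime_iff] at hp
  obtain ⟨-, y, hy⟩ := hp
  refine ⟨algebraMap R (Localization.AtPrime p) y, ?_, ?_⟩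
  · intro h0
    obtain ⟨⟨s, hsp⟩, hs⟩ :=
      (IsLocalization.map_eq_zero_iff p.primeCompl (Localization.AtPrime p) y).1 h0
    apply hsp
    have h1 : s ∈ (⊥ : Submodule R R).colon {y} := by
      rw [Submodule.mem_colon_singleton, Submodule.mem_bot, smul_eq_mul]
      exact hs
    exact hy ▸ h1
  · intro a ha
    rw [← IsLocalization.AtPrime.map_eq_maximalIdeal p (Localization.AtPrime p)] at ha
    have hle : p.map (algebraMap R (Localization.AtPrime p)) ≤
        (⊥ : Submodule (Localization.AtPrime p) (Localization.AtPrime p)).colon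
          {algebraMap R (Localization.AtPrime p) y} := by
      rw [Ideal.map_le_iff_le_comap]
      intro b hb
      rw [Ideal.mem_comap, Submodule.mem_colon_singleton, Submodule.mem_bot, smul_eq_mul,
        ← map_mul]
      rw [hy, Submodule.mem_colon_singleton, Submodule.mem_bot, smul_eq_mul] at hb
      rw [hb, map_zero]
    have := hle ha
    rwa [Submodule.mem_colon_singleton, Submodule.mem_bot, smul_eq_mul] at this

/-- Ranks in an exact complex of finite free modules over a Noetherian ring: the ideal of minors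
of the expected size contains a nonzerodivisor, and the larger minors vanish. -/
theorem rank_of_exact [IsNoetherianRing R] [Nontrivial R] (k : ℕ) (n : ℕ → ℕ)
    (A : (i : ℕ) → Matrix (Fin (n i)) (Fin (n (i + 1))) R)
    (hA : ∀ i, i + 2 ≤ k + 1 → A i * A (i + 1) = 0) (hE : Exact (k + 1) n A)
    (i : ℕ) (hi : i ≤ k) :
    ∃ r : ℕ,
      (r : ℤ) = ∑ t ∈ Finset.Icc (i + 1) (k + 1), (-1 : ℤ) ^ (t - (i + 1)) * (n t : ℤ) ∧
      minorIdeal (A i) (r + 1) = ⊥ ∧ ∃ x ∈ minorIdeal (A i) r, IsSMulRegular R x := by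
  classical
  have key : ∀ p ∈ associatedPrimes R R, ∀ [p.IsPrime], ∃ r : ℕ,
      (r : ℤ) = ∑ t ∈ Finset.Icc (i + 1) (k + 1), (-1 : ℤ) ^ (t - (i + 1)) * (n t : ℤ) ∧
      (minorIdeal (A i) r).map (algebraMap R (Localization.AtPrime p)) = ⊤ ∧
      (minorIdeal (A i) (r + 1)).map (algebraMap R (Localization.AtPrime p)) = ⊥ := by
    intro p hp _
    obtain ⟨z, hz, hmz⟩ := exists_socle_of_mem_associatedPrimes p hp
    have hE' := Exact.localize hA hE p
    have hA' : ∀ i, i + 2 ≤ k + 1 →
        (fun i => (A i).map (algebraMap R (Localization.AtPrime p))) i *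
          (fun i => (A i).map (algebraMap R (Localization.AtPrime p))) (i + 1) = 0 := by
      intro i hi
      show (A i).map _ * (A (i + 1)).map _ = 0
      rw [← Matrix.map_mul, hA i hi]
      ext; simp
    obtain ⟨r, hr, h1, h2⟩ := depth_zero z hz hmz k n _ hA' hE' i hi
    refine ⟨r, hr, ?_, ?_⟩
    · rw [← minorIdeal_map]
      exact h1
    · rw [← minorIdeal_map]
      exact h2
  obtain ⟨p0, hp0⟩ := associatedPrimes.nonempty R R
  have : p0.IsPrime := hp0.isPrime
  obtain ⟨r, hr, -, -⟩ := key p0 hp0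
  have key' : ∀ p ∈ associatedPrimes R R, ∀ [p.IsPrime],
      (minorIdeal (A i) r).map (algebraMap R (Localization.AtPrime p)) = ⊤ ∧
      (minorIdeal (A i) (r + 1)).map (algebraMap R (Localization.AtPrime p)) = ⊥ := by
    intro p hp _
    obtain ⟨r', hr', h1, h2⟩ := key p hp
    have : r' = r := by
      have : (r' : ℤ) = (r : ℤ) := by rw [hr, hr']
      exact_mod_cast this
    subst this
    exact ⟨h1, h2⟩
  refine ⟨r, hr, ?_, ?_⟩
  · rw [eq_bot_iff]
    intro d hd
    rw [Submodule.mem_bot]
    by_contra hd0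
    obtain ⟨P, hP, hle⟩ := exists_le_isAssociatedPrime_of_isNoetherianRing R d hd0
    have : P.IsPrime := hP.isPrime
    have h1 := (key' P hP).2
    have h2 : algebraMap R (Localization.AtPrime P) d ∈
        (minorIdeal (A i) (r + 1)).map (algebraMap R (Localization.AtPrime P)) :=
      Ideal.mem_map_of_mem _ hd
    rw [h1, Ideal.mem_bot] at h2
    obtain ⟨s, hs⟩ :=
      (IsLocalization.map_eq_zero_iff P.primeCompl (Localization.AtPrime P) d).1 h2
    apply s.2
    apply hle
    rw [Submodule.mem_colon_singleton, Submodule.mem_bot, smul_eq_mul]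
    exact hs
  · by_contra hcon
    push Not at hcon
    have hsub : ((minorIdeal (A i) r : Ideal R) : Set R) ⊆
        ⋃ p ∈ associatedPrimes R R, (p : Set R) := by
      rw [biUnion_associatedPrimes_eq_compl_regular]
      intro z hz
      exact hcon z hz
    obtain ⟨P, hP, hle⟩ := (Ideal.subset_union_prime_finite (associatedPrimes.finite R R)
      (f := id) 0 0 (fun _ h _ _ => h.1)).1 hsub
    have : P.IsPrime := hP.isPrime
    have h1 := (key' P hP).1
    have h2 : (minorIdeal (A i) r).map (algebraMap R (Localization.AtPrime P)) ≤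
        P.map (algebraMap R (Localization.AtPrime P)) := Ideal.map_mono hle
    rw [h1, IsLocalization.AtPrime.map_eq_maximalIdeal P (Localization.AtPrime P)] at h2
    exact (IsLocalRing.maximalIdeal.isMaximal _).ne_top (top_le_iff.1 h2)

/-- The rank of each matrix in an exact complex, and a nonzerodivisor in its determinantal
ideal. -/
theorem matrixRank_of_exact [IsNoetherianRing R] [Nontrivial R] (k : ℕ) (n : ℕ → ℕ)
    (A : (i : ℕ) → Matrix (Fin (n i)) (Fin (n (i + 1))) R)
    (hA : ∀ i, i + 2 ≤ k + 1 → A i * A (i + 1) = 0) (hE : Exact (k + 1) n A)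
    (i : ℕ) (hi : i ≤ k) :
    (matrixRank (A i) : ℤ) =
        ∑ t ∈ Finset.Icc (i + 1) (k + 1), (-1 : ℤ) ^ (t - (i + 1)) * (n t : ℤ) ∧
      ∃ x ∈ detIdeal (A i), IsSMulRegular R x := by
  obtain ⟨r, hr, h1, x, hx, hxreg⟩ := rank_of_exact k n A hA hE i hi
  have hx0 : x ≠ 0 := by
    rintro rfl
    exact (not_subsingleton R) (IsSMulRegular.zero_iff_subsingleton.1 hxreg)
  have hrank : matrixRank (A i) = r := by
    apply matrixRank_eq_of _ _ _ h1
    intro hbot
    rw [hbot, Ideal.mem_bot] at hx
    exact hx0 hx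
  refine ⟨by rw [hrank, hr], x, ?_, hxreg⟩
  unfold detIdeal
  rw [hrank]
  exact hx

end Groth.Agent.Lib.Seat99.BE
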