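import Groth.Agent.Lib.Seat99BENec2
import Mathlib.RingTheory.Regular.RegularSequence

/-!
# Buchsbaum–Eisenbud, necessity: the regular sequences (seat 99)
-/

set_option autoImplicit false
set_option linter.unusedSectionVars false
set_option linter.unusedVariables false
set_option linter.unusedSimpArgs false

universe u

namespace Groth.Agent.Lib.Seat99.BE

open Matrix CAlgX
open scoped Pointwise

variable {R : Type u} [CommRing R]

/-- a regular sequence modulo a regular element lifts. -/
theorem isWeaklyRegular_cons_of_quotient (y : R) (rs : List R) (hy : IsSMulRegular R y)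
    (h : RingTheory.Sequence.IsWeaklyRegular (R ⧸ Ideal.span {y})
      (rs.map (Ideal.Quotient.mk (Ideal.span {y})))) :
    RingTheory.Sequence.IsWeaklyRegular R (y :: rs) := by
  rw [RingTheory.Sequence.isWeaklyRegular_cons_iff]
  refine ⟨hy, ?_⟩
  have h1 : (y • (⊤ : Submodule R R)) = Ideal.span {y} := by
    rw [← Submodule.ideal_span_singleton_smul, smul_eq_mul, Ideal.mul_top]
  have e : QuotSMulTop y R ≃ₗ[R] (R ⧸ Ideal.span {y}) := Submodule.quotEquivOfEq _ _ h1
  rw [e.isWeaklyRegular_congr]
  rw [← Ideal.Quotient.algebraMap_eq] at h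
  exact (RingTheory.Sequence.isWeaklyRegular_map_algebraMap_iff (R ⧸ Ideal.span {y})
    (R ⧸ Ideal.span {y}) rs).1 h

/-- the diagram chase: exactness modulo a regular element. -/
theorem ker_le_range_map_mk (y : R) (hy : IsSMulRegular R y) {a b c d : ℕ}
    (W : Matrix (Fin a) (Fin b) R) (X : Matrix (Fin b) (Fin c) R) (Y : Matrix (Fin c) (Fin d) R)
    (hWX : LinearMap.ker W.mulVecLin ≤ LinearMap.range X.mulVecLin)
    (hXY : LinearMap.ker X.mulVecLin ≤ LinearMap.range Y.mulVecLin) (hcx : W * X = 0) :
    LinearMap.ker (X.map (Ideal.Quotient.mk (Ideal.span {y}))).mulVecLin ≤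
      LinearMap.range (Y.map (Ideal.Quotient.mk (Ideal.span {y}))).mulVecLin := by
  set π := Ideal.Quotient.mk (Ideal.span ({y} : Set R)) with hπ
  intro vbar hv
  rw [LinearMap.mem_ker, Matrix.mulVecLin_apply] at hv
  have hsurj : ∀ j, ∃ r : R, π r = vbar j := fun j => Ideal.Quotient.mk_surjective (vbar j)
  choose v hvj using hsurj
  have hvbar : vbar = π ∘ v := funext fun j => (hvj j).symm
  rw [hvbar, Groth.Agent.Lib.Seat88.AcyclicLoc.map_mulVec_comp] at hv
  have h1 : ∀ i, ∃ w : R, y * w = (X *ᵥ v) i := by
    intro i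
    have h2 : π ((X *ᵥ v) i) = 0 := congrFun hv i
    rw [hπ, Ideal.Quotient.eq_zero_iff_mem, Ideal.mem_span_singleton'] at h2
    obtain ⟨a, ha⟩ := h2
    exact ⟨a, by rw [mul_comm]; exact ha⟩
  choose w hw using h1
  have h4 : X *ᵥ v = y • w := funext fun i => (hw i).symm
  have h5 : y • (W *ᵥ w) = 0 := by
    rw [← Matrix.mulVec_smul, ← h4, Matrix.mulVec_mulVec, hcx, Matrix.zero_mulVec]
  have h6 : W *ᵥ w = 0 := by
    funext i
    apply hy
    show y • (W *ᵥ w) i = y • (0 : Fin a → R) i
    have := congrFun h5 i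
    rw [Pi.smul_apply] at this
    rw [this]
    simp
  have h7 : w ∈ LinearMap.range X.mulVecLin := hWX (by rw [LinearMap.mem_ker]; exact h6)
  obtain ⟨u, hu⟩ := h7
  rw [Matrix.mulVecLin_apply] at hu
  have h8 : v - y • u ∈ LinearMap.ker X.mulVecLin := by
    rw [LinearMap.mem_ker, Matrix.mulVecLin_apply, Matrix.mulVec_sub, Matrix.mulVec_smul, hu, h4,
      sub_self]
  obtain ⟨t, ht⟩ := hXY h8
  rw [Matrix.mulVecLin_apply] at ht
  refine ⟨π ∘ t, ?_⟩
  rw [Matrix.mulVecLin_apply, Groth.Agent.Lib.Seat88.AcyclicLoc.map_mulVec_comp, ht, hvbar]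
  funext j
  simp only [Function.comp_apply, Pi.sub_apply, Pi.smul_apply, smul_eq_mul, map_sub, map_mul]
  have : π y = 0 := by
    rw [hπ, Ideal.Quotient.eq_zero_iff_mem]
    exact Ideal.mem_span_singleton_self y
  rw [this, zero_mul, sub_zero]

/-- Reduction of an exact complex modulo a regular element, forgetting the last spot. -/
theorem Exact.quotient (y : R) (hy : IsSMulRegular R y) (k : ℕ) (n : ℕ → ℕ)
    (A : (i : ℕ) → Matrix (Fin (n i)) (Fin (n (i + 1))) R)
    (hA : ∀ i, i + 2 ≤ k + 2 → A i * A (i + 1) = 0) (hE : Exact (k + 2) n A) :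
    Exact (k + 1) (fun t => n (t + 1))
      (fun t => (A (t + 1)).map (Ideal.Quotient.mk (Ideal.span {y}))) := by
  refine ⟨?_, fun t ht => ?_⟩
  · show LinearMap.ker ((A (k + 1)).map (Ideal.Quotient.mk (Ideal.span {y}))).mulVecLin = ⊥
    rw [eq_bot_iff]
    have h1 := ker_le_range_map_mk y hy (A k) (A (k + 1))
      (0 : Matrix (Fin (n (k + 1 + 1))) (Fin 0) R) (le_of_eq (hE.2 k (by omega)))
      (by
        have := hE.1
        change LinearMap.ker (A (k + 1)).mulVecLin = ⊥ at this
        rw [this]
        exact bot_le) (hA k (by omega))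
    intro v hv
    obtain ⟨w, hw⟩ := h1 hv
    rw [Submodule.mem_bot, ← hw]
    simp
  · show LinearMap.ker ((A (t + 1)).map (Ideal.Quotient.mk (Ideal.span {y}))).mulVecLin =
      LinearMap.range ((A (t + 1 + 1)).map (Ideal.Quotient.mk (Ideal.span {y}))).mulVecLin
    apply le_antisymm
    · exact ker_le_range_map_mk y hy (A t) (A (t + 1)) (A (t + 1 + 1))
        (le_of_eq (hE.2 t (by omega))) (le_of_eq (hE.2 (t + 1) (by omega))) (hA t (by omega))
    · rintro _ ⟨w, rfl⟩
      rw [LinearMap.mem_ker, ← LinearMap.comp_apply, ← Matrix.mulVecLin_mul, ← Matrix.map_mul,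
        hA (t + 1) (by omega)]
      simp

/-- shifting the alternating sums. -/
theorem sum_shift (n : ℕ → ℕ) (i k : ℕ) :
    ∑ t ∈ Finset.Icc (i + 1) (k + 1), (-1 : ℤ) ^ (t - (i + 1)) * ((fun t => n (t + 1)) t : ℤ) =
      ∑ t ∈ Finset.Icc (i + 1 + 1) (k + 1 + 1), (-1 : ℤ) ^ (t - (i + 1 + 1)) * (n t : ℤ) := by
  have h1 : Finset.Icc (i + 1 + 1) (k + 1 + 1) =
      (Finset.Icc (i + 1) (k + 1)).map (addRightEmbedding 1) :=
    (Finset.map_add_right_Icc _ _ _).symm
  rw [h1, Finset.sum_map]
  refine Finset.sum_congr rfl fun t ht => ?_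
  simp only [addRightEmbedding_apply]
  rw [Nat.add_sub_add_right]

/-- a common regular element of the proper determinantal ideals. -/
theorem exists_common_regular [IsNoetherianRing R] [Nontrivial R] (k : ℕ) (n : ℕ → ℕ)
    (A : (i : ℕ) → Matrix (Fin (n i)) (Fin (n (i + 1))) R)
    (hA : ∀ i, i + 2 ≤ k + 1 → A i * A (i + 1) = 0) (hE : Exact (k + 1) n A) :
    ∃ y : R, IsSMulRegular R y ∧ ∀ i, i ≤ k → detIdeal (A i) ≠ ⊤ → y ∈ detIdeal (A i) := by
  classical
  have h0 : ∀ i, ∃ x : R, IsSMulRegular R x ∧ (i ≤ k → x ∈ detIdeal (A i)) := by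
    intro i
    by_cases hi : i ≤ k
    · obtain ⟨-, x, hx, hxreg⟩ := matrixRank_of_exact k n A hA hE i hi
      exact ⟨x, hxreg, fun _ => hx⟩
    · exact ⟨1, IsSMulRegular.one R, fun h => absurd h hi⟩
  choose x hxreg hx using h0
  refine ⟨∏ i ∈ Finset.range (k + 1), x i, ?_, ?_⟩
  · apply Finset.prod_induction _ (fun a => IsSMulRegular R a)
    · intro a b ha hb
      exact ha.mul hb
    · exact IsSMulRegular.one R
    · intro i _
      exact hxreg i
  · intro i hi _
    rw [← Finset.mul_prod_erase (Finset.range (k + 1)) x (Finset.mem_range.2 (Nat.lt_succ_of_le hi))]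
    exact Ideal.mul_mem_right _ _ (hx i hi)

/-- Necessity of the Buchsbaum–Eisenbud conditions: the determinantal ideals of an exact complex
over a Noetherian local ring are the unit ideal or contain regular sequences of the right
length. -/
theorem grade_of_exact (k : ℕ) : ∀ (R : Type u) [CommRing R] [IsLocalRing R] [IsNoetherianRing R]
    (n : ℕ → ℕ) (A : (i : ℕ) → Matrix (Fin (n i)) (Fin (n (i + 1))) R),
    (∀ i, i + 2 ≤ k + 1 → A i * A (i + 1) = 0) → Exact (k + 1) n A →
    ∀ i, i ≤ k → detIdeal (A i) = ⊤ ∨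
      ∃ rs : List R, rs.length = i + 1 ∧ (∀ r ∈ rs, r ∈ detIdeal (A i)) ∧
        RingTheory.Sequence.IsRegular R rs := by
  induction k with
  | zero =>
    intro R _ _ _ n A hA hE i hi
    obtain rfl : i = 0 := by omega
    by_cases htop : detIdeal (A 0) = ⊤
    · exact Or.inl htop
    · right
      obtain ⟨y, hyreg, hy⟩ := exists_common_regular 0 n A hA hE
      have hy0 := hy 0 le_rfl htop
      refine ⟨[y], rfl, ?_, ?_⟩
      · intro r hr
        rw [List.mem_singleton] at hr
        rw [hr]
        exact hy0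
      · apply RingTheory.Sequence.IsRegular.of_isWeaklyRegular_of_mem_maximalIdeal
        · intro r hr
          rw [List.mem_singleton] at hr
          rw [hr]
          exact IsLocalRing.le_maximalIdeal htop hy0
        · exact (RingTheory.Sequence.isWeaklyRegular_singleton_iff R y).2 hyreg
  | succ k ih =>
    intro R _ _ _ n A hA hE i hi
    by_cases htop : detIdeal (A i) = ⊤
    · exact Or.inl htop
    right
    obtain ⟨y, hyreg, hy⟩ := exists_common_regular (k + 1) n A hA hE
    have hy0 := hy i hi htop
    have hym : y ∈ IsLocalRing.maximalIdeal R := IsLocalRing.le_maximalIdeal htop hy0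
    rcases i with _ | i
    · refine ⟨[y], rfl, ?_, ?_⟩
      · intro r hr
        rw [List.mem_singleton] at hr
        rw [hr]
        exact hy0
      · apply RingTheory.Sequence.IsRegular.of_isWeaklyRegular_of_mem_maximalIdeal
        · intro r hr
          rw [List.mem_singleton] at hr
          rw [hr]
          exact hym
        · exact (RingTheory.Sequence.isWeaklyRegular_singleton_iff R y).2 hyreg
    · -- pass to the quotient
      have hne : Ideal.span ({y} : Set R) ≠ ⊤ := by
        intro h
        have h1 : Ideal.span ({y} : Set R) ≤ IsLocalRing.maximalIdeal R := by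
          rw [Ideal.span_le]
          intro z hz
          rw [Set.mem_singleton_iff] at hz
          rw [hz]
          exact hym
        rw [h] at h1
        exact (IsLocalRing.maximalIdeal.isMaximal R).ne_top (top_le_iff.1 h1)
      have : Nontrivial (R ⧸ Ideal.span ({y} : Set R)) := Ideal.Quotient.nontrivial_iff.2 hne
      have : IsLocalRing (R ⧸ Ideal.span ({y} : Set R)) :=
        IsLocalRing.of_surjective' (Ideal.Quotient.mk (Ideal.span ({y} : Set R)))
          Ideal.Quotient.mk_surjective
      set π := Ideal.Quotient.mk (Ideal.span ({y} : Set R)) with hπ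
      have hE' := Exact.quotient y hyreg k n A hA hE
      have hA' : ∀ t, t + 2 ≤ k + 1 →
          (fun t => (A (t + 1)).map π) t * (fun t => (A (t + 1)).map π) (t + 1) = 0 := by
        intro t ht
        show (A (t + 1)).map π * (A (t + 1 + 1)).map π = 0
        rw [← Matrix.map_mul, hA (t + 1) (by omega)]
        ext; simp
      have hi' : i ≤ k := by omega
      -- ranks agree
      have hr1 := (matrixRank_of_exact k (fun t => n (t + 1)) (fun t => (A (t + 1)).map π) hA' hE'
        i hi').1
      have hr2 := (matrixRank_of_exact (k + 1) n A hA hE (i + 1) hi).1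
      have hrank : matrixRank ((A (i + 1)).map π) = matrixRank (A (i + 1)) := by
        have h3 : (matrixRank ((A (i + 1)).map π) : ℤ) = (matrixRank (A (i + 1)) : ℤ) := by
          rw [hr2, ← sum_shift n i k]
          exact hr1
        exact_mod_cast h3
      have hdet : detIdeal ((A (i + 1)).map π) = (detIdeal (A (i + 1))).map π := by
        unfold detIdeal
        rw [hrank, minorIdeal_map]
      rcases ih (R ⧸ Ideal.span ({y} : Set R)) (fun t => n (t + 1)) (fun t => (A (t + 1)).map π)
        hA' hE' i hi' with h1 | ⟨rsbar, hlen, hmem, hreg⟩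
      · exfalso
        change detIdeal ((A (i + 1)).map π) = ⊤ at h1
        rw [hdet, Ideal.eq_top_iff_one] at h1
        obtain ⟨a, ha, ha1⟩ := (Ideal.mem_map_iff_of_surjective π Ideal.Quotient.mk_surjective).1 h1
        have h2 : a - 1 ∈ Ideal.span ({y} : Set R) := by
          rw [← Ideal.Quotient.eq_zero_iff_mem, ← hπ, map_sub, ha1, map_one, sub_self]
        have h3 : a - 1 ∈ IsLocalRing.maximalIdeal R := by
          obtain ⟨c, hc⟩ := Ideal.mem_span_singleton'.1 h2
          rw [← hc]
          exact Ideal.mul_mem_left _ _ hym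
        have h4 : a ∈ IsLocalRing.maximalIdeal R := IsLocalRing.le_maximalIdeal htop ha
        have h5 : (1 : R) ∈ IsLocalRing.maximalIdeal R := by
          have := Ideal.sub_mem _ h4 h3
          simp at this
        exact (IsLocalRing.maximalIdeal.isMaximal R).ne_top ((Ideal.eq_top_iff_one _).2 h5)
      · change ∀ r ∈ rsbar, r ∈ detIdeal ((A (i + 1)).map π) at hmem
        rw [hdet] at hmem
        have hlift : ∀ rbar : R ⧸ Ideal.span ({y} : Set R), ∃ r : R,
            rbar ∈ (detIdeal (A (i + 1))).map π → r ∈ detIdeal (A (i + 1)) ∧ π r = rbar := by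
          intro rbar
          by_cases h : rbar ∈ (detIdeal (A (i + 1))).map π
          · obtain ⟨r, hr, hr'⟩ :=
              (Ideal.mem_map_iff_of_surjective π Ideal.Quotient.mk_surjective).1 h
            exact ⟨r, fun _ => ⟨hr, hr'⟩⟩
          · exact ⟨0, fun h' => absurd h' h⟩
        choose g hg using hlift
        have hmap : (rsbar.map g).map π = rsbar := by
          rw [List.map_map]
          conv_rhs => rw [← List.map_id rsbar]
          apply List.map_congr_left
          intro rbar hrbar
          exact (hg rbar (hmem rbar hrbar)).2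
        have hmemR : ∀ r ∈ rsbar.map g, r ∈ detIdeal (A (i + 1)) := by
          intro r hr
          obtain ⟨rbar, hrbar, rfl⟩ := List.mem_map.1 hr
          exact (hg rbar (hmem rbar hrbar)).1
        refine ⟨y :: rsbar.map g, by simp [hlen], ?_, ?_⟩
        · intro r hr
          rcases List.mem_cons.1 hr with h | h
          · rw [h]; exact hy0
          · exact hmemR r h
        · apply RingTheory.Sequence.IsRegular.of_isWeaklyRegular_of_mem_maximalIdeal
          · intro r hr
            rcases List.mem_cons.1 hr with h | h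
            · rw [h]; exact hym
            · exact IsLocalRing.le_maximalIdeal htop (hmemR r h)
          · apply isWeaklyRegular_cons_of_quotient y _ hyreg
            rw [hmap]
            exact hreg.toIsWeaklyRegular

end Groth.Agent.Lib.Seat99.BE
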