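import Groth.Agent.Lib.Seat99BEMinors
import Mathlib.LinearAlgebra.Matrix.ToLin
import Mathlib.LinearAlgebra.Matrix.NonsingularInverse
import Mathlib.RingTheory.LocalRing.Module
import Mathlib.LinearAlgebra.Dimension.Free
import Mathlib.LinearAlgebra.Dimension.Constructions

/-!
# Splitting off a top map with a unit maximal minor over a local ring (seat 99)
-/

set_option autoImplicit false
set_option linter.unusedSectionVars false
set_option linter.unusedVariables false
set_option linter.unusedSimpArgs false

universe u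

namespace Groth.Agent.Lib.Seat99.BE

open Matrix CAlgX

variable {R : Type u} [CommRing R]

/-- In a local ring, if the maximal minors of `Y` generate the unit ideal, then `Y` has a left
inverse. -/
theorem exists_leftInverse_of_minorIdeal_eq_top [IsLocalRing R] {b c : ℕ}
    (Y : Matrix (Fin b) (Fin c) R) (hY : minorIdeal Y c = ⊤) :
    ∃ Q : Matrix (Fin c) (Fin b) R, Q * Y = 1 := by
  classical
  -- some minor is a unit
  have h1 : ∃ (f : Fin c → Fin b) (g : Fin c → Fin c), IsUnit (Y.submatrix f g).det := by
    by_contra hcon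
    push Not at hcon
    have : minorIdeal Y c ≤ IsLocalRing.maximalIdeal R := by
      rw [minorIdeal_le_iff]
      intro f g
      exact (IsLocalRing.mem_maximalIdeal _).2 (hcon f g)
    rw [hY] at this
    exact (IsLocalRing.maximalIdeal.isMaximal R).ne_top (top_le_iff.1 this)
  obtain ⟨f, g, hu⟩ := h1
  -- `W₀ = Y.submatrix f id` has unit determinant
  have h2 : Y.submatrix f g = Y.submatrix f id * (1 : Matrix (Fin c) (Fin c) R).submatrix id g := by
    ext i k
    simp [Matrix.mul_apply, Matrix.one_apply]
  rw [h2, Matrix.det_mul] at hu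
  have hW : IsUnit (Y.submatrix f id).det := isUnit_of_mul_isUnit_left hu
  refine ⟨(Y.submatrix f id)⁻¹ * (1 : Matrix (Fin b) (Fin b) R).submatrix f id, ?_⟩
  have h3 : (1 : Matrix (Fin b) (Fin b) R).submatrix f id * Y = Y.submatrix f id := by
    ext i k
    simp [Matrix.mul_apply, Matrix.one_apply]
  rw [Matrix.mul_assoc, h3, Matrix.nonsing_inv_mul _ hW]

/-- Splitting off the top map. -/
theorem exists_split [IsLocalRing R] {a b c : ℕ} (X : Matrix (Fin a) (Fin b) R)
    (Y : Matrix (Fin b) (Fin c) R) (hXY : X * Y = 0) (hY : minorIdeal Y c = ⊤) :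
    ∃ (m' : ℕ) (C : Matrix (Fin a) (Fin m') R) (P : Matrix (Fin m') (Fin b) R)
      (S : Matrix (Fin b) (Fin m') R),
      b = c + m' ∧ X = C * P ∧ C = X * S ∧ P * S = 1 ∧ LinearMap.ker Y.mulVecLin = ⊥ ∧
      LinearMap.ker P.mulVecLin = LinearMap.range Y.mulVecLin := by
  classical
  obtain ⟨Q, hQY⟩ := exists_leftInverse_of_minorIdeal_eq_top Y hY
  have hQYl : Q.mulVecLin ∘ₗ Y.mulVecLin = LinearMap.id := by
    rw [← Matrix.mulVecLin_mul, hQY, Matrix.mulVecLin_one]
  -- the complement `K = ker Q`
  let K : Submodule R (Fin b → R) := LinearMap.ker Q.mulVecLin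
  -- the projection onto `K`
  let eL : (Fin b → R) →ₗ[R] (Fin b → R) := LinearMap.id - Y.mulVecLin ∘ₗ Q.mulVecLin
  have heK : ∀ v, eL v ∈ K := by
    intro v
    show Q.mulVecLin (eL v) = 0
    simp only [eL, LinearMap.sub_apply, LinearMap.id_apply, LinearMap.comp_apply, map_sub]
    have := LinearMap.congr_fun hQYl (Q.mulVecLin v)
    simp only [LinearMap.comp_apply, LinearMap.id_apply] at this
    rw [this, sub_self]
  let s : (Fin b → R) →ₗ[R] K := eL.codRestrict K heK
  have hsK : ∀ k : K, s k = k := by
    intro k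
    apply Subtype.ext
    show eL k = k
    have hk : Q.mulVecLin (k : Fin b → R) = 0 := k.2
    simp only [eL, LinearMap.sub_apply, LinearMap.id_apply, LinearMap.comp_apply, hk, map_zero,
      sub_zero]
  have hproj : Module.Projective R K :=
    Module.Projective.of_split K.subtype s (LinearMap.ext hsK)
  have hfin : Module.Finite R K := Module.Finite.of_surjective s (fun k => ⟨k, hsK k⟩)
  have hfree : Module.Free R K := Module.free_of_flat_of_isLocalRing
  let bK := Module.finBasis R K
  let m' := Module.finrank R K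
  -- the two maps
  let pLin : (Fin b → R) →ₗ[R] (Fin m' → R) := bK.equivFun.toLinearMap ∘ₗ s
  let sLin : (Fin m' → R) →ₗ[R] (Fin b → R) := K.subtype ∘ₗ bK.equivFun.symm.toLinearMap
  have hps : pLin ∘ₗ sLin = LinearMap.id := by
    refine LinearMap.ext fun u => ?_
    simp only [pLin, sLin, LinearMap.comp_apply, LinearEquiv.coe_coe, Submodule.subtype_apply,
      LinearMap.id_apply]
    rw [hsK, LinearEquiv.apply_symm_apply]
  have hsp : ∀ v, sLin (pLin v) = eL v := by
    intro v
    simp only [pLin, sLin, LinearMap.comp_apply, LinearEquiv.coe_coe, Submodule.subtype_apply,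
      LinearEquiv.symm_apply_apply]
    rfl
  have hXe : X.mulVecLin ∘ₗ eL = X.mulVecLin := by
    refine LinearMap.ext fun v => ?_
    simp only [eL, LinearMap.comp_apply, LinearMap.sub_apply, LinearMap.id_apply, map_sub]
    have : X.mulVecLin (Y.mulVecLin (Q.mulVecLin v)) = 0 := by
      rw [← LinearMap.comp_apply, ← Matrix.mulVecLin_mul, hXY]
      simp
    rw [this, sub_zero]
  let P : Matrix (Fin m') (Fin b) R := LinearMap.toMatrix' pLin
  let S : Matrix (Fin b) (Fin m') R := LinearMap.toMatrix' sLin
  have hP : P.mulVecLin = pLin := by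
    rw [← Matrix.toLin'_apply', Matrix.toLin'_toMatrix']
  have hS : S.mulVecLin = sLin := by
    rw [← Matrix.toLin'_apply', Matrix.toLin'_toMatrix']
  have hinj : ∀ {p q : ℕ} (M N : Matrix (Fin p) (Fin q) R), M.mulVecLin = N.mulVecLin → M = N := by
    intro p q M N h
    rw [← Matrix.toLin'_apply', ← Matrix.toLin'_apply'] at h
    exact Matrix.toLin'.injective h
  refine ⟨m', X * S, P, S, ?_, ?_, rfl, ?_, ?_, ?_⟩
  · -- rank count
    let E : (Fin b → R) ≃ₗ[R] ((Fin c → R) × K) :=
      LinearEquiv.ofLinearMap (Q.mulVecLin.prod s)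
        (Y.mulVecLin.coprod K.subtype)
        (by
          refine LinearMap.ext fun ⟨u, k⟩ => ?_
          have h1 : Q.mulVecLin (Y.mulVecLin u) = u := LinearMap.congr_fun hQYl u
          have h2 : Q.mulVecLin (k : Fin b → R) = 0 := k.2
          have h3 : s (Y.mulVecLin u) = 0 := by
            apply Subtype.ext
            show eL (Y.mulVecLin u) = 0
            simp only [eL, LinearMap.sub_apply, LinearMap.id_apply, LinearMap.comp_apply, h1,
              sub_self]
          show (Q.mulVecLin.prod s) (Y.mulVecLin u + (k : Fin b → R)) = (u, k)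
          rw [map_add]
          show (Q.mulVecLin (Y.mulVecLin u), s (Y.mulVecLin u)) +
            (Q.mulVecLin (k : Fin b → R), s (k : Fin b → R)) = (u, k)
          rw [h1, h2, h3, hsK]
          simp)
        (by
          refine LinearMap.ext fun v => ?_
          show Y.mulVecLin (Q.mulVecLin v) + eL v = v
          simp only [eL, LinearMap.sub_apply, LinearMap.id_apply, LinearMap.comp_apply]
          abel)
    have h1 := E.finrank_eq
    rw [Module.finrank_prod, Module.finrank_fin_fun, Module.finrank_fin_fun] at h1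
    exact h1
  · apply hinj
    rw [Matrix.mulVecLin_mul, Matrix.mulVecLin_mul, hP, hS, LinearMap.comp_assoc]
    have : sLin ∘ₗ pLin = eL := LinearMap.ext hsp
    rw [this, hXe]
  · apply hinj
    rw [Matrix.mulVecLin_mul, hP, hS, hps, Matrix.mulVecLin_one]
  · rw [LinearMap.ker_eq_bot]
    exact Function.LeftInverse.injective (g := Q.mulVecLin) (LinearMap.congr_fun hQYl)
  · rw [hP]
    ext v
    constructor
    · intro hv
      have h1 : eL v = 0 := by
        rw [← hsp, LinearMap.mem_ker.1 hv, map_zero]
      refine ⟨Q.mulVecLin v, ?_⟩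
      simp only [eL, LinearMap.sub_apply, LinearMap.id_apply, LinearMap.comp_apply] at h1
      exact (sub_eq_zero.1 h1).symm
    · rintro ⟨w, rfl⟩
      rw [LinearMap.mem_ker]
      simp only [pLin, LinearMap.comp_apply]
      have h3 : s (Y.mulVecLin w) = 0 := by
        apply Subtype.ext
        show eL (Y.mulVecLin w) = 0
        have h1 : Q.mulVecLin (Y.mulVecLin w) = w := LinearMap.congr_fun hQYl w
        simp only [eL, LinearMap.sub_apply, LinearMap.id_apply, LinearMap.comp_apply, h1,
          sub_self]
      rw [h3, map_zero]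

end Groth.Agent.Lib.Seat99.BE
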