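import Groth.Agent.Lib.Seat99BECast
import Groth.Agent.Lib.Seat99BESplit
import Groth.Agent.Lib.Seat99BELocal

/-!
# Shortening a Buchsbaum–Eisenbud complex whose top map splits (seat 99)
-/

set_option autoImplicit false
set_option linter.unusedSectionVars false
set_option linter.unusedVariables false
set_option linter.unusedSimpArgs false

universe u

namespace Groth.Agent.Lib.Seat99.BE

open Matrix CAlgX

variable {R : Type u} [CommRing R]

/-- sizes of the shortened complex. -/
def shortN (n : ℕ → ℕ) (k m' : ℕ) : ℕ → ℕ := Function.update n (k + 1) m'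

theorem shortN_le (n : ℕ → ℕ) (k m' : ℕ) {i : ℕ} (h : i ≤ k) : shortN n k m' i = n i := by
  unfold shortN
  rw [Function.update_of_ne (by omega)]

theorem shortN_top (n : ℕ → ℕ) (k m' : ℕ) : shortN n k m' (k + 1) = m' := by
  unfold shortN
  rw [Function.update_self]

/-- matrices of the shortened complex. -/
def shortA (n : ℕ → ℕ) (A : (i : ℕ) → Matrix (Fin (n i)) (Fin (n (i + 1))) R) (k m' : ℕ)
    (C : Matrix (Fin (n k)) (Fin m') R) :
    (i : ℕ) → Matrix (Fin (shortN n k m' i)) (Fin (shortN n k m' (i + 1))) R := fun i =>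
  if h : i < k then
    castMat (shortN_le n k m' (le_of_lt h)).symm (shortN_le n k m' (i := i + 1) h).symm (A i)
  else if h' : i = k then
    castMat (by rw [h']; exact (shortN_le n k m' le_rfl).symm)
      (by rw [h']; exact (shortN_top n k m').symm) C
  else 0

theorem shortA_lt (n : ℕ → ℕ) (A : (i : ℕ) → Matrix (Fin (n i)) (Fin (n (i + 1))) R) (k m' : ℕ)
    (C : Matrix (Fin (n k)) (Fin m') R) {i : ℕ} (h : i < k) :
    shortA n A k m' C i =
      castMat (shortN_le n k m' (le_of_lt h)).symm (shortN_le n k m' (i := i + 1) h).symm (A i) := by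
  unfold shortA
  rw [dif_pos h]

theorem shortA_k (n : ℕ → ℕ) (A : (i : ℕ) → Matrix (Fin (n i)) (Fin (n (i + 1))) R) (k m' : ℕ)
    (C : Matrix (Fin (n k)) (Fin m') R) :
    shortA n A k m' C k =
      castMat (shortN_le n k m' le_rfl).symm (shortN_top n k m').symm C := by
  unfold shortA
  rw [dif_neg (lt_irrefl k), dif_pos rfl]

/-- the alternating sums of the shortened complex. -/
theorem sum_shortN (n : ℕ → ℕ) (k m' : ℕ) (hm : n (k + 1) = n (k + 2) + m') (j : ℕ)
    (hj : j ≤ k + 1) :
    ∑ t ∈ Finset.Icc j (k + 1), (-1 : ℤ) ^ (t - j) * (shortN n k m' t : ℤ) =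
      ∑ t ∈ Finset.Icc j (k + 2), (-1 : ℤ) ^ (t - j) * (n t : ℤ) := by
  rw [Finset.sum_Icc_succ_top (by omega : j ≤ k + 1 + 1), Finset.sum_Icc_succ_top hj,
    Finset.sum_Icc_succ_top hj, shortN_top]
  have h1 : ∑ t ∈ Finset.Icc j k, (-1 : ℤ) ^ (t - j) * (shortN n k m' t : ℤ) =
      ∑ t ∈ Finset.Icc j k, (-1 : ℤ) ^ (t - j) * (n t : ℤ) := by
    refine Finset.sum_congr rfl fun t ht => ?_
    rw [shortN_le n k m' (Finset.mem_Icc.1 ht).2]
  rw [h1, add_assoc]
  congr 1
  have h2 : k + 1 + 1 - j = (k + 1 - j) + 1 := by omega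
  rw [h2, pow_succ, hm]
  push_cast
  ring

theorem range_eq_of_mul {a b m' : ℕ} (X : Matrix (Fin a) (Fin b) R) (C : Matrix (Fin a) (Fin m') R)
    (P : Matrix (Fin m') (Fin b) R) (S : Matrix (Fin b) (Fin m') R) (h1 : X = C * P)
    (h2 : C = X * S) : LinearMap.range C.mulVecLin = LinearMap.range X.mulVecLin := by
  apply le_antisymm
  · rintro _ ⟨w, rfl⟩
    refine ⟨S.mulVecLin w, ?_⟩
    rw [← LinearMap.comp_apply, ← Matrix.mulVecLin_mul, ← h2]
  · rintro _ ⟨w, rfl⟩
    refine ⟨P.mulVecLin w, ?_⟩
    rw [← LinearMap.comp_apply, ← Matrix.mulVecLin_mul, ← h1]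

/-- Over a local ring, a Buchsbaum–Eisenbud complex of length `k + 2` whose top determinantal
ideal is the unit ideal can be replaced by one of length `k + 1`. -/
theorem shorten [IsLocalRing R] (k : ℕ) (n : ℕ → ℕ)
    (A : (i : ℕ) → Matrix (Fin (n i)) (Fin (n (i + 1))) R)
    (h : Cond R (k + 2) n A) (htop : detIdeal (A (k + 1)) = ⊤) :
    ∃ (N : ℕ → ℕ) (A' : (i : ℕ) → Matrix (Fin (N i)) (Fin (N (i + 1))) R),
      Cond R (k + 1) N A' ∧ (Exact (k + 1) N A' → Exact (k + 2) n A) := by
  have hr : matrixRank (A (k + 1)) = n (k + 2) := by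
    have h0 := h.hrank (k + 2) (by omega) le_rfl
    change (matrixRank (A (k + 1)) : ℤ) = _ at h0
    rw [Finset.Icc_self, Finset.sum_singleton, Nat.sub_self, pow_zero, one_mul] at h0
    exact_mod_cast h0
  have hY : minorIdeal (A (k + 1)) (n (k + 2)) = ⊤ := by
    have h0 := htop
    unfold detIdeal at h0
    rwa [hr] at h0
  have hXY : A k * A (k + 1) = 0 := h.hA k (by omega)
  obtain ⟨m', C, P, S, hm, hXCP, hCXS, hPS, hkerY, hkerP⟩ :=
    exists_split (A k) (A (k + 1)) hXY hY
  have hminor : ∀ r, minorIdeal C r = minorIdeal (A k) r := by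
    intro r
    apply le_antisymm
    · have := minorIdeal_mul_le_left (A k) S r
      rwa [← hCXS] at this
    · have := minorIdeal_mul_le_left C P r
      rwa [← hXCP] at this
  refine ⟨shortN n k m', shortA n A k m' C, ⟨?_, ?_, ?_⟩, ?_⟩
  · -- complex
    intro i hi
    have hik : i < k := by omega
    rw [shortA_lt n A k m' C hik]
    by_cases h1 : i + 1 < k
    · rw [shortA_lt n A k m' C h1, castMat_mul, h.hA i (by omega), castMat_zero]
    · have h2 : i + 1 = k := by omega
      subst h2
      rw [shortA_k, castMat_mul, hCXS, ← Matrix.mul_assoc, h.hA i (by omega), Matrix.zero_mul,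
        castMat_zero]
  · -- ranks
    intro j hj1 hjk
    rw [sum_shortN n k m' hm j hjk]
    by_cases h1 : j - 1 < k
    · rw [shortA_lt n A k m' C h1, matrixRank_castMat]
      exact h.hrank j hj1 (by omega)
    · have hj : j = k + 1 := by omega
      subst hj
      change (matrixRank (shortA n A k m' C k) : ℤ) = _
      rw [shortA_k, matrixRank_castMat, matrixRank_eq_of_minorIdeal_eq C (A k) hminor]
      exact h.hrank (k + 1) (by omega) (by omega)
  · -- determinantal ideals
    intro j hj1 hjk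
    by_cases h1 : j - 1 < k
    · rw [shortA_lt n A k m' C h1, detIdeal_castMat]
      exact h.hdet j hj1 (by omega)
    · have hj : j = k + 1 := by omega
      subst hj
      change detIdeal (shortA n A k m' C k) = ⊤ ∨ ∃ rs : List R, rs.length = k + 1 ∧
        (∀ r ∈ rs, r ∈ detIdeal (shortA n A k m' C k)) ∧ RingTheory.Sequence.IsRegular R rs
      rw [shortA_k, detIdeal_castMat, detIdeal_eq_of_minorIdeal_eq C (A k) hminor]
      exact h.hdet (k + 1) (by omega) (by omega)
  · -- exactness
    rintro ⟨htopE, hmidE⟩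
    have hC : LinearMap.ker C.mulVecLin = ⊥ := by
      change LinearMap.ker (shortA n A k m' C k).mulVecLin = ⊥ at htopE
      rwa [shortA_k, ker_castMat_eq_bot_iff] at htopE
    refine ⟨hkerY, fun i hi => ?_⟩
    rcases (by omega : i = k ∨ i + 1 = k ∨ i + 1 < k) with h1 | h1 | h1
    · subst h1
      apply le_antisymm
      · intro z hz
        rw [← hkerP]
        rw [LinearMap.mem_ker] at hz ⊢
        rw [hXCP, Matrix.mulVecLin_mul, LinearMap.comp_apply] at hz
        have h3 : P.mulVecLin z ∈ LinearMap.ker C.mulVecLin := hz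
        rw [hC] at h3
        exact h3
      · rintro _ ⟨w, rfl⟩
        rw [LinearMap.mem_ker, ← LinearMap.comp_apply, ← Matrix.mulVecLin_mul, hXY]
        simp
    · subst h1
      have h3 := hmidE i (by omega)
      rw [shortA_lt n A (i + 1) m' C (by omega), shortA_k, ker_castMat_eq_range_iff] at h3
      rw [h3]
      exact range_eq_of_mul (A (i + 1)) C P S hXCP hCXS
    · have h3 := hmidE i (by omega)
      rw [shortA_lt n A k m' C (by omega), shortA_lt n A k m' C h1,
        ker_castMat_eq_range_iff] at h3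
      exact h3

end Groth.Agent.Lib.Seat99.BE
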