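import Mathlib
import Groth.Agent.Lib.Seat99BENec2
import Groth.Prelude.Def_W4c1famcyclesFFR

/-!
# Determinants of endomorphisms of modules with finite free resolutions: general lemmas (seat 99)
-/

set_option autoImplicit false
set_option linter.unusedSectionVars false
set_option linter.unusedVariables false
set_option linter.unusedSimpArgs false
set_option linter.style.haveILetI false

universe u

namespace Groth.Agent.Lib.Seat99.DetFFR

open Module TensorProduct

/-- block-triangular endomorphism of a product. -/
theorem charpoly_triangular {R : Type*} [CommRing R] {K M : Type*} [AddCommGroup K] [Module R K]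
    [AddCommGroup M] [Module R M] [Module.Free R K] [Module.Finite R K] [Module.Free R M]
    [Module.Finite R M] (φK : K →ₗ[R] K) (δ : M →ₗ[R] K) (φ : M →ₗ[R] M) :
    ((φK ∘ₗ LinearMap.fst R K M + δ ∘ₗ LinearMap.snd R K M).prod
      (φ ∘ₗ LinearMap.snd R K M)).charpoly = φK.charpoly * φ.charpoly := by
  classical
  let b₁ := Module.Free.chooseBasis R K
  let b₂ := Module.Free.chooseBasis R M
  let b := b₁.prod b₂
  rw [← LinearMap.charpoly_toMatrix φK b₁, ← LinearMap.charpoly_toMatrix φ b₂,
    ← LinearMap.charpoly_toMatrix _ b]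
  have : LinearMap.toMatrix b b ((φK ∘ₗ LinearMap.fst R K M + δ ∘ₗ LinearMap.snd R K M).prod
      (φ ∘ₗ LinearMap.snd R K M)) =
      Matrix.fromBlocks (LinearMap.toMatrix b₁ b₁ φK) (LinearMap.toMatrix b₂ b₁ δ) 0
        (LinearMap.toMatrix b₂ b₂ φ) := by
    ext (i | i) (j | j) <;> simp [LinearMap.toMatrix, b]
  rw [this, Matrix.charpoly_fromBlocks_zero₂₁]

/-- the characteristic polynomial is multiplicative in short exact sequences of finite free
modules. -/
theorem charpoly_of_exact {R : Type*} [CommRing R] {K F M : Type*} [AddCommGroup K] [Module R K]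
    [AddCommGroup F] [Module R F] [AddCommGroup M] [Module R M]
    [Module.Free R K] [Module.Finite R K] [Module.Free R F] [Module.Finite R F]
    [Module.Free R M] [Module.Finite R M]
    (ι : K →ₗ[R] F) (π : F →ₗ[R] M) (hι : Function.Injective ι) (hπ : Function.Surjective π)
    (hex : Function.Exact ι π) (φK : K →ₗ[R] K) (Φ : F →ₗ[R] F) (φ : M →ₗ[R] M)
    (h1 : Φ ∘ₗ ι = ι ∘ₗ φK) (h2 : π ∘ₗ Φ = φ ∘ₗ π) :
    Φ.charpoly = φK.charpoly * φ.charpoly := by
  obtain ⟨l, hl⟩ := Module.projective_lifting_property π LinearMap.id hπ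
  have hsplit : ∃ e : F ≃ₗ[R] K × M, ι = e.symm ∘ₗ LinearMap.inl R K M ∧
      π = LinearMap.snd R K M ∘ₗ e :=
    ⟨_, (hex.splitSurjectiveEquiv hι ⟨l, hl⟩).2⟩
  obtain ⟨e, he1, he2⟩ := hsplit
  rw [← LinearEquiv.charpoly_conj e Φ]
  set T := e.conj Φ with hT
  have hTapp : ∀ x, T x = e (Φ (e.symm x)) := fun x => by
    rw [hT, LinearEquiv.conj_apply]; rfl
  have hι' : ∀ k, e (ι k) = (k, 0) := by
    intro k
    rw [he1]
    simp
  have hπ' : ∀ x, π x = (e x).2 := by
    intro x
    rw [he2]
    rfl
  have hT1 : ∀ k, T (k, 0) = (φK k, 0) := by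
    intro k
    rw [hTapp, ← hι' k, LinearEquiv.symm_apply_apply]
    have := LinearMap.congr_fun h1 k
    simp only [LinearMap.comp_apply] at this
    rw [this, hι']
  have hT2 : ∀ m, (T (0, m)).2 = φ m := by
    intro m
    rw [hTapp, ← hπ']
    have := LinearMap.congr_fun h2 (e.symm (0, m))
    simp only [LinearMap.comp_apply] at this
    rw [this, hπ', LinearEquiv.apply_symm_apply]
  let δ : M →ₗ[R] K := LinearMap.fst R K M ∘ₗ T ∘ₗ LinearMap.inr R K M
  have hTeq : T = (φK ∘ₗ LinearMap.fst R K M + δ ∘ₗ LinearMap.snd R K M).prod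
      (φ ∘ₗ LinearMap.snd R K M) := by
    apply LinearMap.ext
    rintro ⟨k, m⟩
    have hkm : ((k, m) : K × M) = (k, 0) + (0, m) := by simp
    rw [hkm, map_add, hT1]
    apply Prod.ext
    · simp [δ]
    · simp [hT2]
  rw [hTeq, charpoly_triangular]

theorem free_localizedModule {A : Type u} [CommRing A] (S : Submonoid A) (M : Type u)
    [AddCommGroup M] [Module A M] [Module.Free A M] :
    Module.Free (Localization S) (LocalizedModule S M) :=
  Module.free_of_isLocalizedModule S (LocalizedModule.mkLinearMap S M)

theorem finite_localizedModule {A : Type u} [CommRing A] (S : Submonoid A) (M : Type u)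
    [AddCommGroup M] [Module A M] [Module.Finite A M] :
    Module.Finite (Localization S) (LocalizedModule S M) :=
  Module.Finite.of_isLocalizedModule S (LocalizedModule.mkLinearMap S M)

/-- the characteristic polynomial of the localization of an endomorphism of a finite free
module. -/
theorem charpoly_localizedModule_map {A : Type u} [CommRing A] (S : Submonoid A) {M : Type u}
    [AddCommGroup M] [Module A M] [Module.Free A M] [Module.Finite A M] (φ : M →ₗ[A] M) :
    haveI := free_localizedModule S M
    haveI := finite_localizedModule S M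
    (LocalizedModule.map S φ).charpoly = φ.charpoly.map (algebraMap A (Localization S)) := by
  haveI := free_localizedModule S M
  haveI := finite_localizedModule S M
  have hb : IsBaseChange (Localization S) (LocalizedModule.mkLinearMap S M) :=
    IsLocalizedModule.isBaseChange S (Localization S) (LocalizedModule.mkLinearMap S M)
  have hconj : LocalizedModule.map S φ = hb.equiv.conj (φ.baseChange (Localization S)) := by
    apply LinearMap.ext
    intro y
    obtain ⟨x, rfl⟩ := hb.equiv.surjective y
    rw [LinearEquiv.conj_apply]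
    simp only [LinearMap.comp_apply, LinearEquiv.coe_coe, LinearEquiv.symm_apply_apply]
    induction x using TensorProduct.induction_on with
    | zero => simp
    | tmul a m =>
      rw [LinearMap.baseChange_tmul, IsBaseChange.equiv_tmul, IsBaseChange.equiv_tmul, map_smul]
      congr 1
      simp [LocalizedModule.mkLinearMap_apply, LocalizedModule.map_mk]
    | add x y hx hy => simp only [map_add, hx, hy]
  rw [hconj, LinearEquiv.charpoly_conj, LinearMap.charpoly_baseChange]

section Loc

variable {A : Type u} [CommRing A] (S : Submonoid A)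
variable {M N P : Type u} [AddCommGroup M] [Module A M] [AddCommGroup N] [Module A N]
  [AddCommGroup P] [Module A P]

theorem coe_map_eq' (l : M →ₗ[A] N) :
    ⇑(LocalizedModule.map S l) =
      ⇑(IsLocalizedModule.map S (LocalizedModule.mkLinearMap S M)
        (LocalizedModule.mkLinearMap S N) l) := by
  funext x
  induction x using LocalizedModule.induction_on with
  | h m s => rw [LocalizedModule.map_mk, IsLocalizedModule.map_LocalizedModules]

theorem map_exact' (g : M →ₗ[A] N) (h : N →ₗ[A] P) (ex : Function.Exact g h) :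
    Function.Exact (LocalizedModule.map S g) (LocalizedModule.map S h) := by
  rw [coe_map_eq', coe_map_eq']
  exact LocalizedModule.map_exact S g h ex

theorem map_comp' (g : M →ₗ[A] N) (h : N →ₗ[A] P) :
    LocalizedModule.map S (h ∘ₗ g) = LocalizedModule.map S h ∘ₗ LocalizedModule.map S g := by
  apply LinearMap.ext
  intro x
  induction x using LocalizedModule.induction_on with
  | h m s => simp [LocalizedModule.map_mk]

end Loc

/-- a module with a finite free resolution is finite. -/
theorem finite_of_ffr {A : Type u} [CommRing A] : ∀ (n : ℕ) (M : Type u) [AddCommGroup M]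
    [Module A M], FamCyc.HasFiniteFreeResolutionLE A n M → Module.Finite A M
  | 0, M, _, _, h => h.2
  | n + 1, M, _, _, ⟨k, f, hf, _⟩ => Module.Finite.of_surjective f hf

/-- over a local ring of depth zero, the cokernel of an injective map of finite free modules is
free. -/
theorem free_of_exact_of_depth_zero {R : Type u} [CommRing R] [IsLocalRing R] (z : R) (hz : z ≠ 0)
    (hmz : ∀ a ∈ IsLocalRing.maximalIdeal R, a * z = 0)
    {K F M : Type u} [AddCommGroup K] [Module R K] [AddCommGroup F] [Module R F]
    [AddCommGroup M] [Module R M] [Module.Free R K] [Module.Finite R K] [Module.Free R F]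
    [Module.Finite R F] (ι : K →ₗ[R] F) (π : F →ₗ[R] M) (hι : Function.Injective ι)
    (hπ : Function.Surjective π) (hex : Function.Exact ι π) : Module.Free R M := by
  classical
  let bK := Module.finBasis R K
  let bF := Module.finBasis R F
  let Y : Matrix (Fin (Module.finrank R F)) (Fin (Module.finrank R K)) R :=
    LinearMap.toMatrix bK bF ι
  have hYrepr : ∀ x : K, Y.mulVec (bK.repr x) = bF.repr (ι x) := fun x =>
    LinearMap.toMatrix_mulVec_repr bK bF ι x
  have hker : LinearMap.ker Y.mulVecLin = ⊥ := by
    rw [eq_bot_iff]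
    intro v hv
    rw [LinearMap.mem_ker, Matrix.mulVecLin_apply] at hv
    rw [Submodule.mem_bot]
    have h1 : bK.repr (bK.equivFun.symm v) = Finsupp.equivFunOnFinite.symm v := by
      ext i
      simp [Basis.equivFun]
    have h2 := hYrepr (bK.equivFun.symm v)
    have h3 : (⇑(bK.repr (bK.equivFun.symm v)) : Fin (Module.finrank R K) → R) = v := by
      rw [h1]; rfl
    rw [h3, hv] at h2
    have h4 : ι (bK.equivFun.symm v) = 0 := by
      apply bF.repr.injective
      ext i
      have := congrFun h2 i
      simpa using this.symm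
    have h5 : bK.equivFun.symm v = 0 := hι (by rw [h4, map_zero])
    have := congrArg bK.equivFun h5
    rw [LinearEquiv.apply_symm_apply, map_zero] at this
    exact this
  have htop := Groth.Agent.Lib.Seat99.BE.minorIdeal_eq_top_of_injective z hz hmz Y hker
  obtain ⟨Q, hQ⟩ := Groth.Agent.Lib.Seat99.BE.exists_leftInverse_of_minorIdeal_eq_top Y htop
  let ρ : F →ₗ[R] K := bK.equivFun.symm.toLinearMap ∘ₗ Q.mulVecLin ∘ₗ bF.equivFun.toLinearMap
  have hρ : ρ ∘ₗ ι = LinearMap.id := by
    apply LinearMap.ext
    intro x
    show bK.equivFun.symm (Q.mulVec (bF.equivFun (ι x))) = x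
    have h1 : (bF.equivFun (ι x) : Fin (Module.finrank R F) → R) = Y.mulVec (bK.repr x) := by
      rw [hYrepr]; rfl
    rw [h1, Matrix.mulVec_mulVec, hQ, Matrix.one_mulVec]
    have : (⇑(bK.repr x) : Fin (Module.finrank R K) → R) = bK.equivFun x := rfl
    rw [this, LinearEquiv.symm_apply_apply]
  have hsplit : ∃ e : F ≃ₗ[R] K × M, ι = e.symm ∘ₗ LinearMap.inl R K M ∧
      π = LinearMap.snd R K M ∘ₗ e :=
    ⟨_, (hex.splitInjectiveEquiv hπ ⟨ρ, hρ⟩).2⟩
  obtain ⟨e, he1, he2⟩ := hsplit
  haveI : Module.Projective R M := by
    apply Module.Projective.of_split (e.symm.toLinearMap ∘ₗ LinearMap.inr R K M) π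
    rw [he2]
    apply LinearMap.ext
    intro m
    simp
  haveI : Module.Finite R M := Module.Finite.of_surjective π hπ
  exact Module.free_of_flat_of_isLocalRing

/-- over a local ring, the kernel of a surjection from a finite free module onto a free module is
free. -/
theorem free_ker_of_free {R : Type u} [CommRing R] [IsLocalRing R]
    {K F M : Type u} [AddCommGroup K] [Module R K] [AddCommGroup F] [Module R F]
    [AddCommGroup M] [Module R M] [Module.Finite R K] [Module.Free R F]
    [Module.Free R M] (ι : K →ₗ[R] F) (π : F →ₗ[R] M) (hι : Function.Injective ι)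
    (hπ : Function.Surjective π) (hex : Function.Exact ι π) : Module.Free R K := by
  obtain ⟨l, hl⟩ := Module.projective_lifting_property π LinearMap.id hπ
  have hsplit : ∃ e : F ≃ₗ[R] K × M, ι = e.symm ∘ₗ LinearMap.inl R K M ∧
      π = LinearMap.snd R K M ∘ₗ e :=
    ⟨_, (hex.splitSurjectiveEquiv hι ⟨l, hl⟩).2⟩
  obtain ⟨e, he1, he2⟩ := hsplit
  haveI : Module.Projective R K := by
    apply Module.Projective.of_split ι (LinearMap.fst R K M ∘ₗ e.toLinearMap)
    rw [he1]
    apply LinearMap.ext
    intro m
    simp
  exact Module.free_of_flat_of_isLocalRing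

end Groth.Agent.Lib.Seat99.DetFFR
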