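import Groth.Agent.Lib.Seat99DetFFR1

/-!
# Determinants of endomorphisms of modules with finite free resolutions (seat 99)

The characteristic polynomial of an endomorphism of a module with a finite free resolution over a
Noetherian ring, characterized by its localizations at the primes where the module is free.
-/

set_option autoImplicit false
set_option linter.unusedSectionVars false
set_option linter.unusedVariables false
set_option linter.unusedSimpArgs false
set_option linter.style.haveILetI false

universe u

namespace Groth.Agent.Lib.Seat99.DetFFR

open Module

variable {A : Type u} [CommRing A] [IsNoetherianRing A]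

/-- an element vanishing in all localizations at associated primes is zero. -/
theorem eq_zero_of_forall_assoc (c : A)
    (h : ∀ (P : Ideal A) [P.IsPrime], P ∈ associatedPrimes A A →
      algebraMap A (Localization.AtPrime P) c = 0) : c = 0 := by
  by_contra hc
  obtain ⟨P, hP, hle⟩ := exists_le_isAssociatedPrime_of_isNoetherianRing A c hc
  haveI := hP.isPrime
  have h0 := h P hP
  obtain ⟨s, hs⟩ :=
    (IsLocalization.map_eq_zero_iff P.primeCompl (Localization.AtPrime P) c).1 h0
  apply s.2
  apply hle
  rw [Submodule.mem_colon_singleton, Submodule.mem_bot, smul_eq_mul]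
  exact hs

/-- a module with a finite free resolution is free at the associated primes of the ring. -/
theorem free_localized_of_ffr (p : Ideal A) [p.IsPrime] (hp : p ∈ associatedPrimes A A) :
    ∀ (n : ℕ) (M : Type u) [AddCommGroup M] [Module A M],
      FamCyc.HasFiniteFreeResolutionLE A n M →
      Module.Free (Localization.AtPrime p) (LocalizedModule p.primeCompl M)
  | 0, M, _, _, h => by
    haveI := h.1
    exact free_localizedModule p.primeCompl M
  | n + 1, M, _, _, ⟨k, f, hf, hK⟩ => by
    obtain ⟨z, hz, hmz⟩ := Groth.Agent.Lib.Seat99.BE.exists_socle_of_mem_associatedPrimes p hp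
    haveI := free_localized_of_ffr p hp n _ hK
    haveI : Module.Finite A (LinearMap.ker f) := finite_of_ffr n _ hK
    haveI := finite_localizedModule p.primeCompl (LinearMap.ker f)
    haveI := free_localizedModule p.primeCompl (Fin k → A)
    haveI := finite_localizedModule p.primeCompl (Fin k → A)
    have hι := LocalizedModule.map_injective p.primeCompl _
      (Submodule.injective_subtype (LinearMap.ker f))
    have hπ := LocalizedModule.map_surjective p.primeCompl _ hf
    have hex := map_exact' p.primeCompl _ _ (LinearMap.exact_subtype_ker_map f)
    exact free_of_exact_of_depth_zero (R := Localization.AtPrime p) z hz hmz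
      (K := LocalizedModule p.primeCompl (LinearMap.ker f))
      (F := LocalizedModule p.primeCompl (Fin k → A))
      (M := LocalizedModule p.primeCompl M)
      (LocalizedModule.map p.primeCompl (LinearMap.ker f).subtype)
      (LocalizedModule.map p.primeCompl f) hι hπ hex

/-- the characteristic polynomial of an endomorphism of a module with a finite free resolution. -/
theorem exists_charpoly : ∀ (n : ℕ) (M : Type u) [AddCommGroup M] [Module A M]
    (hM : FamCyc.HasFiniteFreeResolutionLE A n M) (φ : M →ₗ[A] M),
    ∃ χ : Polynomial A, χ.Monic ∧ ∀ (p : Ideal A) [p.IsPrime]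
      (hfree : Module.Free (Localization.AtPrime p) (LocalizedModule p.primeCompl M)),
      haveI := hfree
      haveI : Module.Finite A M := finite_of_ffr n M hM
      haveI := finite_localizedModule p.primeCompl M
      χ.map (algebraMap A (Localization.AtPrime p)) =
        (LocalizedModule.map p.primeCompl φ).charpoly
  | 0, M, _, _, hM, φ => by
    haveI := hM.1
    haveI := hM.2
    refine ⟨φ.charpoly, LinearMap.charpoly_monic φ, ?_⟩
    intro p _ hfree
    exact (charpoly_localizedModule_map p.primeCompl φ).symm
  | n + 1, M, _, _, hM, φ => by
    classical
    have hM' := hM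
    obtain ⟨k, f, hf, hK⟩ := hM'
    obtain ⟨Φ, hΦ⟩ := Module.projective_lifting_property f (φ ∘ₗ f) hf
    have hmaps : ∀ x ∈ LinearMap.ker f, Φ x ∈ LinearMap.ker f := by
      intro x hx
      rw [LinearMap.mem_ker] at hx ⊢
      have := LinearMap.congr_fun hΦ x
      simp only [LinearMap.comp_apply] at this
      rw [this, hx, map_zero]
    let φK : LinearMap.ker f →ₗ[A] LinearMap.ker f := Φ.restrict hmaps
    have hsub : Φ ∘ₗ (LinearMap.ker f).subtype = (LinearMap.ker f).subtype ∘ₗ φK :=
      LinearMap.ext fun x => rfl
    obtain ⟨χK, hχKmonic, hχK⟩ := exists_charpoly n (LinearMap.ker f) hK φK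
    have hχFmonic : Φ.charpoly.Monic := LinearMap.charpoly_monic Φ
    haveI hMfin : Module.Finite A M := Module.Finite.of_surjective f hf
    haveI hKfin : Module.Finite A (LinearMap.ker f) := finite_of_ffr n _ hK
    have key : ∀ (p : Ideal A) [p.IsPrime]
        (hfree : Module.Free (Localization.AtPrime p) (LocalizedModule p.primeCompl M)),
        haveI := hfree
        haveI := finite_localizedModule p.primeCompl M
        Φ.charpoly.map (algebraMap A (Localization.AtPrime p)) =
          χK.map (algebraMap A (Localization.AtPrime p)) *
            (LocalizedModule.map p.primeCompl φ).charpoly := by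
      intro p _ hfree
      haveI := hfree
      haveI := finite_localizedModule p.primeCompl M
      haveI := finite_localizedModule p.primeCompl (LinearMap.ker f)
      haveI := free_localizedModule p.primeCompl (Fin k → A)
      haveI := finite_localizedModule p.primeCompl (Fin k → A)
      have hι := LocalizedModule.map_injective p.primeCompl _
        (Submodule.injective_subtype (LinearMap.ker f))
      have hπ := LocalizedModule.map_surjective p.primeCompl _ hf
      have hex := map_exact' p.primeCompl _ _ (LinearMap.exact_subtype_ker_map f)
      haveI hKfree : Module.Free (Localization.AtPrime p)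
          (LocalizedModule p.primeCompl (LinearMap.ker f)) := free_ker_of_free _ _ hι hπ hex
      rw [hχK p hKfree, ← charpoly_localizedModule_map p.primeCompl Φ]
      exact charpoly_of_exact _ _ hι hπ hex _ _ _
        (by rw [← map_comp', ← map_comp', hsub]) (by rw [← map_comp', ← map_comp', hΦ])
    have hT : Φ.charpoly %ₘ χK = 0 := by
      apply Polynomial.ext
      intro i
      rw [Polynomial.coeff_zero]
      apply eq_zero_of_forall_assoc
      intro P _ hP
      have hMfree := free_localized_of_ffr P hP (n + 1) M hM
      have h0 := key P hMfree
      have h1 : (Φ.charpoly %ₘ χK).map (algebraMap A (Localization.AtPrime P)) = 0 := by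
        rw [Polynomial.map_modByMonic _ hχKmonic, h0]
        exact (Polynomial.modByMonic_eq_zero_iff_dvd (hχKmonic.map _)).2 (dvd_mul_right _ _)
      have h2 := congrArg (fun q => q.coeff i) h1
      simpa [Polynomial.coeff_map] using h2
    have h2 : χK * (Φ.charpoly /ₘ χK) = Φ.charpoly := by
      have := Polynomial.modByMonic_add_div Φ.charpoly χK
      rw [hT, zero_add] at this
      exact this
    refine ⟨Φ.charpoly /ₘ χK, ?_, ?_⟩
    · exact hχKmonic.of_mul_monic_left (by rw [h2]; exact hχFmonic)
    · intro p _ hfree
      have h3 := key p hfree
      rw [← h2, Polynomial.map_mul] at h3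
      exact (hχKmonic.map _).isRegular.left h3

end Groth.Agent.Lib.Seat99.DetFFR
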