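import Groth.Prelude.Def_W4c6modpairsegaMP
import Mathlib.AlgebraicGeometry.Morphisms.Etale
import Mathlib.AlgebraicGeometry.AffineScheme
import Mathlib.RingTheory.Smooth.IntegralClosure
import Mathlib.RingTheory.Localization.BaseChange
import Mathlib.RingTheory.Etale.Basic
import Mathlib.RingTheory.Flat.TorsionFree

/-!
# Integral closedness in the interior of a modulus pair ascends along étale morphisms

Helper library of seat 99 for S20016.
-/

open CategoryTheory AlgebraicGeometry TopologicalSpace TensorProduct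

universe u

namespace Groth.Agent.Lib.Seat99.EtIntCl

section Algebra

variable {A B Aa Ba : Type u} [CommRing A] [CommRing B] [CommRing Aa] [CommRing Ba]
  [Algebra A B] [Algebra A Aa] [Algebra B Ba]

/-- If `A` is integrally closed in `A_a` (in the sense that integral elements come from `A`) and
`B` is smooth over `A`, then `B` is integrally closed in `B_a`. -/
theorem mem_range_of_isIntegral_of_smooth [Algebra.Smooth A B] (a : A)
    [IsLocalization.Away a Aa] [IsLocalization.Away (algebraMap A B a) Ba]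
    (h : ∀ s : Aa, IsIntegral A s → s ∈ Set.range (algebraMap A Aa))
    (t : Ba) (ht : IsIntegral B t) : t ∈ Set.range (algebraMap B Ba) := by
  -- `B ⊗ A_a` is a localization of `B` away from `a`
  have hloc : IsLocalization.Away (algebraMap A B a) (B ⊗[A] Aa) := by
    have := IsLocalization.tensor (S := B) (A := Aa) (Submonoid.powers a)
    rwa [Algebra.algebraMapSubmonoid_powers] at this
  let e : Ba ≃ₐ[B] B ⊗[A] Aa :=
    IsLocalization.algEquiv (Submonoid.powers (algebraMap A B a)) Ba (B ⊗[A] Aa)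
  have hz : IsIntegral B (e t) := ht.map e.toAlgHom
  obtain ⟨w, hw⟩ := (TensorProduct.toIntegralClosure_bijective_of_smooth (R := A) (S := B)
    (B := Aa)).2 ⟨e t, hz⟩
  have hw' : (Algebra.TensorProduct.map (AlgHom.id B B) (integralClosure A Aa).val) w = e t := by
    have := congrArg Subtype.val hw
    simpa [TensorProduct.toIntegralClosure] using this
  have key : ∀ w : B ⊗[A] integralClosure A Aa,
      (Algebra.TensorProduct.map (AlgHom.id B B) (integralClosure A Aa).val) w ∈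
        (algebraMap B (B ⊗[A] Aa)).range := by
    intro w
    induction w with
    | zero => simp
    | add x y hx hy => rw [map_add]; exact add_mem hx hy
    | tmul b c =>
      obtain ⟨a', ha'⟩ := h c.1 c.2
      refine ⟨a' • b, ?_⟩
      simp only [Algebra.TensorProduct.map_tmul, AlgHom.coe_id, id_eq, Subalgebra.coe_val,
        Algebra.TensorProduct.algebraMap_apply, Algebra.algebraMap_self, RingHom.id_apply]
      rw [← ha', TensorProduct.smul_tmul, Algebra.algebraMap_eq_smul_one]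
  obtain ⟨b, hb⟩ := key w
  rw [hw'] at hb
  refine ⟨b, ?_⟩
  apply e.injective
  rw [← hb, AlgEquiv.commutes]

end Algebra

variable {X Y : Scheme.{u}}

/-- On an affine open where the ideal is principal, the interior is the basic open. -/
theorem inf_interior_eq_basicOpen (IX : X.IdealSheafData) (U : X.Opens) (hU : IsAffineOpen U)
    (a : Γ(X, U)) (hIa : IX.ideal ⟨U, hU⟩ = Ideal.span {a}) :
    U ⊓ ModPair.interior IX = X.basicOpen a := by
  apply Opens.ext
  have h1 := IX.supportSet_inter ⟨U, hU⟩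
  rw [hIa] at h1
  have h2 : X.zeroLocus (U := U) (Ideal.span {a} : Set Γ(X, U)) = (X.basicOpen a : Set X)ᶜ := by
    rw [Scheme.zeroLocus_span, Scheme.zeroLocus_singleton]
  rw [h2] at h1
  have h3 : (X.basicOpen a : Set X) ⊆ U := X.basicOpen_le a
  ext x
  simp only [Opens.coe_inf, Set.mem_inter_iff, SetLike.mem_coe]
  have hx : x ∈ ModPair.interior IX ↔ x ∉ IX.supportSet := Iff.rfl
  rw [hx]
  constructor
  · rintro ⟨hxU, hxs⟩
    by_contra hxb
    have : x ∈ IX.supportSet ∩ U := by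
      rw [h1]; exact ⟨hxb, hxU⟩
    exact hxs this.1
  · intro hxb
    refine ⟨h3 hxb, fun hxs => ?_⟩
    have : x ∈ (X.basicOpen a : Set X)ᶜ ∩ U := by
      rw [← h1]; exact ⟨hxs, h3 hxb⟩
    exact this.1 hxb

/-- Abstract form of the local statement on an affine `V ≤ g⁻¹ U`, with the interiors replaced by
basic opens. -/
theorem good_affine_aux (g : Y ⟶ X) [Etale g]
    (U U' : X.Opens) (hU : IsAffineOpen U) (iU : U' ⟶ U) (a : Γ(X, U))
    (ha : a ∈ nonZeroDivisors Γ(X, U)) (hU' : U' = X.basicOpen a)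
    (hint : ∀ s : Γ(X, U'), (X.presheaf.map iU.op).hom.IsIntegralElem s →
      s ∈ Set.range (X.presheaf.map iU.op).hom)
    (V V' : Y.Opens) (hV : IsAffineOpen V) (hVU : V ≤ g ⁻¹ᵁ U) (iV : V' ⟶ V)
    (hV' : V' = Y.basicOpen ((g.appLE U V hVU).hom a)) :
    Function.Injective (Y.presheaf.map iV.op).hom ∧
    ∀ t : Γ(Y, V'), (Y.presheaf.map iV.op).hom.IsIntegralElem t →
      t ∈ Set.range (Y.presheaf.map iV.op).hom := by
  have hφ : (g.appLE U V hVU).hom.Etale :=
    HasRingHomProperty.appLE (P := @Etale) g inferInstance ⟨U, hU⟩ ⟨V, hV⟩ hVU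
  algebraize [(g.appLE U V hVU).hom]
  let _ := (X.presheaf.map iU.op).hom.toAlgebra
  let _ := (Y.presheaf.map iV.op).hom.toAlgebra
  have : IsLocalization.Away a Γ(X, U') := hU.isLocalization_of_eq_basicOpen a iU hU'
  have : IsLocalization.Away (algebraMap Γ(X, U) Γ(Y, V) a) Γ(Y, V') :=
    hV.isLocalization_of_eq_basicOpen _ iV hV'
  constructor
  · have hb : algebraMap Γ(X, U) Γ(Y, V) a ∈ nonZeroDivisors Γ(Y, V) := by
      have h1 : IsSMulRegular Γ(Y, V) a := Module.Flat.isSMulRegular_of_nonZeroDivisors ha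
      rw [mem_nonZeroDivisors_iff_right]
      intro x hx
      apply h1
      change a • x = a • (0 : Γ(Y, V))
      rw [smul_zero, Algebra.smul_def, mul_comm]
      exact hx
    exact IsLocalization.injective Γ(Y, V') (M := Submonoid.powers (algebraMap Γ(X, U) Γ(Y, V) a))
      (Submonoid.powers_le.mpr hb)
  · intro t ht
    exact mem_range_of_isIntegral_of_smooth (A := Γ(X, U)) (B := Γ(Y, V)) (Aa := Γ(X, U'))
      (Ba := Γ(Y, V')) a (fun s hs => hint s hs) t ht

/-- Concrete form of the local statement on an affine `V ≤ g⁻¹ U`, where on `U` the ideal is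
generated by a nonzerodivisor. -/
theorem good_affine (IX : X.IdealSheafData) (g : Y ⟶ X) [Etale g]
    (U : X.Opens) (hU : IsAffineOpen U) (a : Γ(X, U)) (ha : a ∈ nonZeroDivisors Γ(X, U))
    (hIa : IX.ideal ⟨U, hU⟩ = Ideal.span {a})
    (hint : ∀ s : Γ(X, U ⊓ ModPair.interior IX),
      (X.presheaf.map (homOfLE (inf_le_left : U ⊓ ModPair.interior IX ≤ U)).op).hom.IsIntegralElem
          s →
        s ∈ Set.range
          (X.presheaf.map (homOfLE (inf_le_left : U ⊓ ModPair.interior IX ≤ U)).op).hom)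
    (V : Y.Opens) (hV : IsAffineOpen V) (hVU : V ≤ g ⁻¹ᵁ U) :
    Function.Injective
      (Y.presheaf.map (homOfLE (inf_le_left : V ⊓ g ⁻¹ᵁ ModPair.interior IX ≤ V)).op).hom ∧
    ∀ t : Γ(Y, V ⊓ g ⁻¹ᵁ ModPair.interior IX),
      (Y.presheaf.map
        (homOfLE (inf_le_left : V ⊓ g ⁻¹ᵁ ModPair.interior IX ≤ V)).op).hom.IsIntegralElem t →
        t ∈ Set.range (Y.presheaf.map
          (homOfLE (inf_le_left : V ⊓ g ⁻¹ᵁ ModPair.interior IX ≤ V)).op).hom := by
  refine good_affine_aux g U _ hU _ a ha (inf_interior_eq_basicOpen IX U hU a hIa) hint V _ hV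
    hVU _ ?_
  rw [Scheme.basicOpen_appLE, ← inf_interior_eq_basicOpen IX U hU a hIa]
  apply le_antisymm
  · refine le_inf inf_le_left (fun y hy => ?_)
    exact ⟨hVU hy.1, hy.2⟩
  · refine le_inf inf_le_left (fun y hy => ?_)
    exact hy.2.2

/-- Restriction of sections along an inclusion of opens. -/
noncomputable def res (Y : Scheme.{u}) {A B : Y.Opens} (h : A ≤ B) : Γ(Y, B) →+* Γ(Y, A) :=
  (Y.presheaf.map (homOfLE h).op).hom

theorem res_res {A B C : Y.Opens} (h1 : A ≤ B) (h2 : B ≤ C) (x : Γ(Y, C)) :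
    res Y h1 (res Y h2 x) = res Y (h1.trans h2) x := by
  simp only [res]
  rw [← CommRingCat.comp_apply, ← Functor.map_comp]
  rfl

theorem map_eq_res {A B : Y.Opens} (i : A ⟶ B) (x : Γ(Y, B)) :
    (Y.presheaf.map i.op).hom x = res Y i.le x := rfl

/-- Gluing sections along a cover, where compatibility is checked after restricting to an open `Z`
to which restriction from the overlaps is injective. -/
theorem glue_of_injective (V Z : Y.Opens) {ι : Type*} (W : ι → Y.Opens) (hWV : ∀ i, W i ≤ V)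
    (hcov : V ≤ ⨆ i, W i)
    (hinj : ∀ i j, Function.Injective (res Y (inf_le_left : (W i ⊓ W j) ⊓ Z ≤ W i ⊓ W j)))
    (t : Γ(Y, V ⊓ Z)) (s : ∀ i, Γ(Y, W i))
    (hs : ∀ i, res Y (inf_le_left : W i ⊓ Z ≤ W i) (s i) =
      res Y (inf_le_inf_right Z (hWV i)) t) :
    ∃ s' : Γ(Y, V), res Y (inf_le_left : V ⊓ Z ≤ V) s' = t := by
  have hcompat : TopCat.Presheaf.IsCompatible Y.sheaf.1 W s := by
    intro i j
    apply hinj i j
    change res Y _ (res Y _ (s i)) = res Y _ (res Y _ (s j))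
    rw [res_res, res_res]
    have h1 : res Y ((inf_le_left : (W i ⊓ W j) ⊓ Z ≤ W i ⊓ W j).trans inf_le_left) (s i) =
        res Y (inf_le_inf_right Z inf_le_left : (W i ⊓ W j) ⊓ Z ≤ W i ⊓ Z)
          (res Y (inf_le_left : W i ⊓ Z ≤ W i) (s i)) := by
      rw [res_res]
    have h2 : res Y ((inf_le_left : (W i ⊓ W j) ⊓ Z ≤ W i ⊓ W j).trans inf_le_right) (s j) =
        res Y (inf_le_inf_right Z inf_le_right : (W i ⊓ W j) ⊓ Z ≤ W j ⊓ Z)
          (res Y (inf_le_left : W j ⊓ Z ≤ W j) (s j)) := by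
      rw [res_res]
    rw [h1, h2, hs i, hs j, res_res, res_res]
  obtain ⟨s', hs', -⟩ : ∃! s' : Γ(Y, V), ∀ i, res Y (hWV i) s' = s i :=
    Y.sheaf.existsUnique_gluing' W V (fun i => homOfLE (hWV i)) hcov s hcompat
  refine ⟨s', ?_⟩
  have hcov' : V ⊓ Z ≤ ⨆ i, (W i ⊓ Z) := by
    intro y hy
    obtain ⟨i, hi⟩ := Opens.mem_iSup.mp (hcov hy.1)
    exact Opens.mem_iSup.mpr ⟨i, hi, hy.2⟩
  refine Y.sheaf.eq_of_locally_eq' (fun i => W i ⊓ Z) (V ⊓ Z)
    (fun i => homOfLE (inf_le_inf_right Z (hWV i))) hcov' _ _ (fun i => ?_)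
  change res Y _ (res Y _ s') = res Y _ t
  rw [res_res, ← hs i, ← hs' i, res_res]

/-- Integrality is preserved by restriction. -/
theorem isIntegralElem_res {V Z W : Y.Opens} (hWV : W ≤ V) (t : Γ(Y, V ⊓ Z))
    (ht : (res Y (inf_le_left : V ⊓ Z ≤ V)).IsIntegralElem t) :
    (res Y (inf_le_left : W ⊓ Z ≤ W)).IsIntegralElem (res Y (inf_le_inf_right Z hWV) t) := by
  obtain ⟨p, hp, hpt⟩ := ht
  refine ⟨p.map (res Y hWV), hp.map _, ?_⟩
  rw [Polynomial.eval₂_map]
  have hcomp : (res Y (inf_le_left : W ⊓ Z ≤ W)).comp (res Y hWV) =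
      (res Y (inf_le_inf_right Z hWV)).comp (res Y (inf_le_left : V ⊓ Z ≤ V)) := by
    ext x
    simp only [RingHom.comp_apply, res_res]
  rw [hcomp, ← Polynomial.hom_eval₂, hpt, map_zero]

/-- **Integral closedness in the interior ascends along étale morphisms.** -/
theorem integrallyClosed_interior_of_etale
    (IX : X.IdealSheafData) (hX : BlowUp.IsEffCartierIdeal IX)
    (hint : ∀ U ∈ X.affineOpens, ∀ s : Γ(X, U ⊓ ModPair.interior IX),
      (X.presheaf.map (homOfLE (inf_le_left : U ⊓ ModPair.interior IX ≤ U)).op).hom.IsIntegralElem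
          s →
        s ∈ Set.range
          (X.presheaf.map (homOfLE (inf_le_left : U ⊓ ModPair.interior IX ≤ U)).op).hom)
    (g : Y ⟶ X) [Etale g] :
    ∀ V ∈ Y.affineOpens, ∀ t : Γ(Y, V ⊓ g ⁻¹ᵁ ModPair.interior IX),
      (Y.presheaf.map
        (homOfLE (inf_le_left : V ⊓ g ⁻¹ᵁ ModPair.interior IX ≤ V)).op).hom.IsIntegralElem t →
        t ∈ Set.range (Y.presheaf.map
          (homOfLE (inf_le_left : V ⊓ g ⁻¹ᵁ ModPair.interior IX ≤ V)).op).hom := by
  intro V hV t ht
  obtain ⟨Z, hZ⟩ : ∃ Z : Y.Opens, Z = g ⁻¹ᵁ ModPair.interior IX := ⟨_, rfl⟩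
  have hgood' : ∀ (U : X.Opens) (hU : IsAffineOpen U) (a : Γ(X, U)),
      a ∈ nonZeroDivisors Γ(X, U) → IX.ideal ⟨U, hU⟩ = Ideal.span {a} →
      ∀ (V : Y.Opens), IsAffineOpen V → V ≤ g ⁻¹ᵁ U →
      Function.Injective (res Y (inf_le_left : V ⊓ Z ≤ V)) ∧
      ∀ t : Γ(Y, V ⊓ Z), (res Y (inf_le_left : V ⊓ Z ≤ V)).IsIntegralElem t →
          t ∈ Set.range (res Y (inf_le_left : V ⊓ Z ≤ V)) := by
    subst hZ
    intro U hU a ha hIa V hV hle
    exact good_affine IX g U hU a ha hIa (hint U hU) V hV hle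
  suffices H : ∀ t : Γ(Y, V ⊓ Z), (res Y (inf_le_left : V ⊓ Z ≤ V)).IsIntegralElem t →
      t ∈ Set.range (res Y (inf_le_left : V ⊓ Z ≤ V)) by
    subst hZ
    exact H t ht
  clear ht t
  intro t ht
  -- the index set: elements `h` of `Γ(Y, V)` whose basic open maps into a good affine of `X`
  let ι : Type u := { h : Γ(Y, V) // ∃ (U : X.Opens) (hU : IsAffineOpen U) (a : Γ(X, U)),
    a ∈ nonZeroDivisors Γ(X, U) ∧ IX.ideal ⟨U, hU⟩ = Ideal.span {a} ∧ Y.basicOpen h ≤ g ⁻¹ᵁ U }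
  let W : ι → Y.Opens := fun h => Y.basicOpen h.1
  have hWV : ∀ i, W i ≤ V := fun i => Y.basicOpen_le i.1
  have hcov : V ≤ ⨆ i, W i := by
    intro y hy
    obtain ⟨U, hyU, a, ha, hIa⟩ := hX (g y)
    obtain ⟨h, hle, hyh⟩ := IsAffineOpen.exists_basicOpen_le hV (V := g ⁻¹ᵁ U.1) ⟨y, hyU⟩ hy
    exact Opens.mem_iSup.mpr ⟨⟨h, U.1, U.2, a, ha, hIa, hle⟩, hyh⟩
  -- every member of the cover and every pairwise intersection is good
  have hgood : ∀ h : Γ(Y, V), (∃ (U : X.Opens) (hU : IsAffineOpen U) (a : Γ(X, U)),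
      a ∈ nonZeroDivisors Γ(X, U) ∧ IX.ideal ⟨U, hU⟩ = Ideal.span {a} ∧
        Y.basicOpen h ≤ g ⁻¹ᵁ U) →
      Function.Injective (res Y (inf_le_left : Y.basicOpen h ⊓ Z ≤ Y.basicOpen h)) ∧
      ∀ t : Γ(Y, Y.basicOpen h ⊓ Z),
        (res Y (inf_le_left : Y.basicOpen h ⊓ Z ≤ Y.basicOpen h)).IsIntegralElem t →
          t ∈ Set.range (res Y (inf_le_left : Y.basicOpen h ⊓ Z ≤ Y.basicOpen h)) := by
    rintro h ⟨U, hU, a, ha, hIa, hle⟩
    exact hgood' U hU a ha hIa (Y.basicOpen h) (hV.basicOpen h) hle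
  have hinj : ∀ i j, Function.Injective (res Y (inf_le_left : (W i ⊓ W j) ⊓ Z ≤ W i ⊓ W j)) := by
    rintro ⟨h, U, hU, a, ha, hIa, hle⟩ ⟨h', hh'⟩
    have hmul : Y.basicOpen (h * h') = Y.basicOpen h ⊓ Y.basicOpen h' := Y.basicOpen_mul h h'
    have := (hgood (h * h') ⟨U, hU, a, ha, hIa, by rw [hmul]; exact inf_le_left.trans hle⟩).1
    change Function.Injective
      (res Y (inf_le_left : (Y.basicOpen h ⊓ Y.basicOpen h') ⊓ Z ≤ Y.basicOpen h ⊓ Y.basicOpen h'))
    rw [← hmul]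
    exact this
  have hex : ∀ i : ι, ∃ s : Γ(Y, W i), res Y (inf_le_left : W i ⊓ Z ≤ W i) s =
      res Y (inf_le_inf_right Z (hWV i)) t := by
    intro i
    exact (hgood i.1 i.2).2 _ (isIntegralElem_res (hWV i) t ht)
  choose s hs using hex
  obtain ⟨s', hs'⟩ := glue_of_injective V Z W hWV hcov hinj t s hs
  exact ⟨s', hs'⟩

end Groth.Agent.Lib.Seat99.EtIntCl
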