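import Mathlib.RingTheory.Etale.Kaehler
import Mathlib.RingTheory.Etale.StandardEtale
import Mathlib.RingTheory.Etale.Field
import Mathlib.RingTheory.Smooth.Flat
import Mathlib.FieldTheory.PrimitiveElement
import Mathlib.RingTheory.Polynomial.Basic

/-!
# `H¹` of the cotangent complex and finite separable residue field extensions

For a surjection `R → K` onto a field and a finite separable extension `L / K`, the canonical map
`L ⊗[K] H¹(L_{K/R}) → H¹(L_{L/R})` is bijective.  (Seat 99.)
-/

open Algebra TensorProduct Polynomial

universe u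

namespace Groth.Agent.Lib.Seat99.H1Sep

section

variable {R K L : Type u} [CommRing R] [Field K] [Field L] [Algebra R K] [Algebra K L] [Algebra R L]
    [IsScalarTower R K L]

lemma exists_monic_lift (hRK : Function.Surjective (algebraMap R K)) (g : K[X]) (hg : g.Monic) :
    ∃ G : R[X], G.map (algebraMap R K) = g ∧ G.Monic := by
  have : g ∈ Polynomial.lifts (algebraMap R K) := by
    rw [Polynomial.lifts_iff_coeff_lifts]
    intro n
    exact hRK _
  obtain ⟨G, h1, -, h3⟩ := Polynomial.lifts_and_degree_eq_and_monic this hg
  exact ⟨G, h1, h3⟩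

/-- The standard etale pair `(G, G')`. -/
noncomputable def pairOf (G : R[X]) (hG : G.Monic) : StandardEtalePair R where
  f := G
  monic_f := hG
  g := derivative G
  cond := ⟨1, 0, 1, by simp⟩

lemma hasMap_of (G : R[X]) (hG : G.Monic) (α : L)
    (hα : (G.map (algebraMap R K)) = minpoly K α) (hsep : (minpoly K α).Separable) :
    (pairOf G hG).HasMap α := by
  constructor
  · show aeval α G = 0
    have : aeval α (G.map (algebraMap R K)) = 0 := by rw [hα]; exact minpoly.aeval K α
    rwa [Polynomial.aeval_map_algebraMap] at this
  · show IsUnit (aeval α (derivative G))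
    have h1 : aeval α (derivative (G.map (algebraMap R K))) ≠ 0 := by
      rw [hα]
      exact hsep.aeval_derivative_ne_zero (minpoly.aeval K α)
    rw [Polynomial.derivative_map, Polynomial.aeval_map_algebraMap] at h1
    exact isUnit_iff_ne_zero.mpr h1

lemma lift_surjective (hRK : Function.Surjective (algebraMap R K))
    (P : StandardEtalePair R) (pb : PowerBasis K L) (h : P.HasMap pb.gen) :
    Function.Surjective (P.lift pb.gen h) := by
  intro x
  obtain ⟨p, rfl⟩ := pb.exists_eq_aeval' x
  obtain ⟨q, rfl⟩ := Polynomial.map_surjective (algebraMap R K) hRK p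
  refine ⟨aeval P.X q, ?_⟩
  rw [← Polynomial.aeval_algHom_apply, P.lift_X]
  simp [Polynomial.aeval_map_algebraMap]

lemma ker_lift_eq (hRK : Function.Surjective (algebraMap R K))
    (P : StandardEtalePair R) (pb : PowerBasis K L)
    (hP : P.f.map (algebraMap R K) = minpoly K pb.gen) (h : P.HasMap pb.gen) :
    RingHom.ker (P.lift pb.gen h) =
      Ideal.map (algebraMap R P.Ring) (RingHom.ker (algebraMap R K)) := by
  set m := RingHom.ker (algebraMap R K) with hm
  set I := Ideal.map (algebraMap R P.Ring) m with hI
  have hge : I ≤ RingHom.ker (P.lift pb.gen h) := by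
    rw [hI, Ideal.map_le_iff_le_comap]
    intro r hr
    rw [Ideal.mem_comap, RingHom.mem_ker, AlgHom.commutes, IsScalarTower.algebraMap_apply R K L,
      (RingHom.mem_ker).mp hr, map_zero]
  refine le_antisymm ?_ hge
  -- the map K → Q/I
  let j : R →+* (P.Ring ⧸ I) := (Ideal.Quotient.mk I).comp (algebraMap R P.Ring)
  have hj : ∀ a ∈ m, j a = 0 := by
    intro a ha
    show Ideal.Quotient.mk I (algebraMap R P.Ring a) = 0
    rw [Ideal.Quotient.eq_zero_iff_mem]
    exact Ideal.mem_map_of_mem _ ha
  let e := RingHom.quotientKerEquivOfSurjective hRK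
  let i : K →+* (P.Ring ⧸ I) := (Ideal.Quotient.lift m j hj).comp (e.symm : K →+* R ⧸ m)
  have hi : ∀ r : R, i (algebraMap R K r) = j r := by
    intro r
    have : e.symm (algebraMap R K r) = Ideal.Quotient.mk m r := by
      rw [RingEquiv.symm_apply_eq]
      rfl
    show (Ideal.Quotient.lift m j hj) (e.symm (algebraMap R K r)) = j r
    rw [this, Ideal.Quotient.lift_mk]
  let _ : Algebra K (P.Ring ⧸ I) := i.toAlgebra
  have hroot : aeval (Ideal.Quotient.mk I P.X) (minpoly K pb.gen) = 0 := by
    rw [← hP, Polynomial.aeval_def, Polynomial.eval₂_map]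
    have : (algebraMap K (P.Ring ⧸ I)).comp (algebraMap R K) = j := by
      ext r; exact hi r
    rw [this]
    show Polynomial.eval₂ ((Ideal.Quotient.mk I).comp (algebraMap R P.Ring)) _ P.f = 0
    rw [← Polynomial.hom_eval₂, ← Polynomial.aeval_def, P.hasMap_X.1, map_zero]
  let θ : L →ₐ[K] (P.Ring ⧸ I) := pb.lift _ hroot
  have hθ : θ pb.gen = Ideal.Quotient.mk I P.X := pb.lift_gen _ hroot
  let ψ : (P.Ring ⧸ I) →+* L := Ideal.Quotient.lift I (P.lift pb.gen h).toRingHom
    (fun a ha => hge ha)
  let A₂ : P.Ring →ₐ[R] (P.Ring ⧸ I) :=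
    { toRingHom := (θ : L →+* (P.Ring ⧸ I)).comp (ψ.comp (Ideal.Quotient.mk I))
      commutes' := by
        intro r
        show θ (ψ (Ideal.Quotient.mk I (algebraMap R P.Ring r))) = _
        show θ ((P.lift pb.gen h) (algebraMap R P.Ring r)) = _
        rw [AlgHom.commutes, IsScalarTower.algebraMap_apply R K L, AlgHom.commutes]
        exact hi r }
  have hA : Ideal.Quotient.mkₐ R I = A₂ := by
    apply StandardEtalePair.hom_ext
    show Ideal.Quotient.mk I P.X = θ ((P.lift pb.gen h) P.X)
    rw [P.lift_X, hθ]
  intro q hq
  have h1 : Ideal.Quotient.mk I q = A₂ q := congrArg (fun f => f q) hA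
  have h2 : A₂ q = θ ((P.lift pb.gen h) q) := rfl
  rw [h2, (RingHom.mem_ker).mp hq, map_zero] at h1
  exact Ideal.Quotient.eq_zero_iff_mem.mp h1

/-- The extension `R → K` for a surjection. -/
noncomputable def extBase (hRK : Function.Surjective (algebraMap R K)) : Extension.{u} R K :=
  Extension.ofSurjective (Algebra.ofId R K) hRK

/-- The extension `Q → L`. -/
noncomputable def extTop (P : StandardEtalePair R) (α : L) (h : P.HasMap α)
    (hs : Function.Surjective (P.lift α h)) : Extension.{u} R L :=
  Extension.ofSurjective (P.lift α h) hs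

/-- The morphism of extensions from `R → K` to `Q → L`. -/
noncomputable def homBaseTop (hRK : Function.Surjective (algebraMap R K))
    (P : StandardEtalePair R) (α : L) (h : P.HasMap α)
    (hs : Function.Surjective (P.lift α h)) : (extBase hRK).Hom (extTop P α h hs) where
  toRingHom := algebraMap R P.Ring
  toRingHom_algebraMap x := rfl
  algebraMap_toRingHom := by
    show ∀ x : R, (P.lift α h) (algebraMap R P.Ring x) = algebraMap K L (algebraMap R K x)
    intro x
    rw [AlgHom.commutes, ← IsScalarTower.algebraMap_apply]

end

section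

variable {R : Type u} [CommRing R] {Q : Type u} [CommRing Q] [Algebra R Q] [Module.Flat R Q]

/-- For a flat `R`-algebra `Q`, an ideal `m` of `R` and an ideal `J` of `Q` with `J = mQ`, the
canonical map `Q ⊗ m → J` is bijective. -/
lemma bijective_liftBaseChange_of_flat (m : Ideal R) (J : Ideal Q)
    (hJ : J = Ideal.map (algebraMap R Q) m) (F : m →ₗ[R] J)
    (hF : ∀ x : m, (F x : Q) = algebraMap R Q x) :
    Function.Bijective (F.liftBaseChange Q) := by
  have hcomp : ∀ t : Q ⊗[R] m, ((F.liftBaseChange Q t : J) : Q) =
      (TensorProduct.rid R Q) ((m.subtype.lTensor Q) t) := by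
    intro t
    induction t with
    | zero => simp
    | add x y hx hy => simp only [map_add, Submodule.coe_add, hx, hy]
    | tmul a b =>
      simp only [LinearMap.liftBaseChange_tmul, SetLike.val_smul, smul_eq_mul, hF,
        LinearMap.lTensor_tmul, Submodule.subtype_apply, TensorProduct.rid_tmul]
      rw [Algebra.smul_def, mul_comm]
  constructor
  · intro s t hst
    have h1 : Function.Injective (m.subtype.lTensor Q) :=
      Module.Flat.lTensor_preserves_injective_linearMap (M := Q) m.subtype Subtype.val_injective
    apply h1
    apply (TensorProduct.rid R Q).injective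
    rw [← hcomp, ← hcomp, hst]
  · rintro ⟨q, hq⟩
    have hle : Ideal.map (algebraMap R Q) m ≤
        LinearMap.range ((J.subtype : J →ₗ[Q] Q) ∘ₗ (F.liftBaseChange Q)) := by
      rw [Ideal.map, Ideal.span_le]
      rintro _ ⟨r, hr, rfl⟩
      refine ⟨1 ⊗ₜ ⟨r, hr⟩, ?_⟩
      simp [hF]
    rw [hJ] at hq
    obtain ⟨t, ht⟩ := hle hq
    exact ⟨t, Subtype.ext ht⟩

end

noncomputable section

variable {R K L : Type u} [CommRing R] [Field K] [Field L] [Algebra R K] [Algebra K L] [Algebra R L]
    [IsScalarTower R K L]

/-- The etale-level statement: `L ⊗ H¹(R → K) ≃ H¹(Q → L)`. -/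
theorem bijective_ext (hRK : Function.Surjective (algebraMap R K))
    (P : StandardEtalePair R) (pb : PowerBasis K L)
    (hP : P.f.map (algebraMap R K) = minpoly K pb.gen) (h : P.HasMap pb.gen) :
    Function.Bijective ((Extension.H1Cotangent.map
      (homBaseTop hRK P pb.gen h (lift_surjective hRK P pb h))).liftBaseChange L) := by
  set hs := lift_surjective hRK P pb h
  set f := homBaseTop hRK P pb.gen h hs
  let alg : Algebra (extBase hRK).Ring (extTop P pb.gen h hs).Ring :=
    inferInstanceAs (Algebra R P.Ring)
  have halg : algebraMap (extBase hRK).Ring (extTop P pb.gen h hs).Ring = f.toRingHom := rfl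
  have H₁ : f.toRingHom.FormallyEtale :=
    RingHom.formallyEtale_algebraMap.mpr (inferInstanceAs (Algebra.FormallyEtale R P.Ring))
  have H₂ : Function.Bijective ((f.mapKer halg).liftBaseChange (extTop P pb.gen h hs).Ring) := by
    have : Module.Flat R P.Ring := Algebra.Smooth.flat R P.Ring
    exact bijective_liftBaseChange_of_flat (R := R) (Q := P.Ring)
      (RingHom.ker (algebraMap R K)) (RingHom.ker (P.lift pb.gen h))
      (ker_lift_eq hRK P pb hP h) (f.mapKer halg) (fun x => rfl)
  exact (Extension.tensorH1CotangentOfFormallyEtale f halg H₁ H₂).bijective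

/-- transfer to the canonical presentation -/
theorem bijective_canonical (hRK : Function.Surjective (algebraMap R K))
    (P : StandardEtalePair R) (pb : PowerBasis K L)
    (hP : P.f.map (algebraMap R K) = minpoly K pb.gen) (h : P.HasMap pb.gen) :
    Function.Bijective ((Algebra.H1Cotangent.map R R K L).liftBaseChange L) := by
  set hs := lift_surjective hRK P pb h
  set f := homBaseTop hRK P pb.gen h hs
  have hF := bijective_ext hRK P pb hP h
  let PK := (Generators.self R K).toExtension
  let PL := (Generators.self R L).toExtension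
  let hh : PK.Hom PL :=
    (Generators.defaultHom (Generators.self R K) (Generators.self R L)).toExtensionHom
  let a : PK.Hom (extBase hRK) := Extension.defaultHom _ _ (extBase hRK)
  let b : PL.Hom (extTop P pb.gen h hs) := Extension.defaultHom _ _ (extTop P pb.gen h hs)
  have : Algebra.FormallySmooth R (extBase hRK).Ring := inferInstanceAs (Algebra.FormallySmooth R R)
  have : Algebra.FormallySmooth R (extTop P pb.gen h hs).Ring :=
    inferInstanceAs (Algebra.FormallySmooth R P.Ring)
  have : Algebra.FormallySmooth R PK.Ring :=
    inferInstanceAs (Algebra.FormallySmooth R (MvPolynomial K R))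
  have : Algebra.FormallySmooth R PL.Ring :=
    inferInstanceAs (Algebra.FormallySmooth R (MvPolynomial L R))
  have ha : Function.Bijective (Extension.H1Cotangent.map a) := by
    rw [← Extension.H1Cotangent.equivOfFormallySmooth_toLinearMap a]
    exact (Extension.H1Cotangent.equivOfFormallySmooth _ _).bijective
  have hb : Function.Bijective (Extension.H1Cotangent.map b) := by
    rw [← Extension.H1Cotangent.equivOfFormallySmooth_toLinearMap b]
    exact (Extension.H1Cotangent.equivOfFormallySmooth _ _).bijective
  -- the commutative square on `H¹`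
  have hsq : ∀ y : PK.H1Cotangent, Extension.H1Cotangent.map b (Extension.H1Cotangent.map hh y) =
      Extension.H1Cotangent.map f (Extension.H1Cotangent.map a y) := by
    intro y
    rw [← Extension.H1Cotangent.map_comp_apply, ← Extension.H1Cotangent.map_comp_apply]
    exact congrArg (fun g => g y) (Extension.H1Cotangent.map_eq (b.comp hh) (f.comp a))
  -- the base-changed square
  have hsq' : ∀ t : L ⊗[K] PK.H1Cotangent,
      Extension.H1Cotangent.map b ((Extension.H1Cotangent.map hh).liftBaseChange L t) =
      (Extension.H1Cotangent.map f).liftBaseChange L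
        ((Extension.H1Cotangent.map a).baseChange L t) := by
    intro t
    induction t with
    | zero => simp
    | add x y hx hy => simp only [map_add, hx, hy]
    | tmul l y =>
      simp only [LinearMap.liftBaseChange_tmul, LinearMap.baseChange_tmul, map_smul, hsq]
  have hH : Function.Bijective ((Extension.H1Cotangent.map a).baseChange L) := by
    let ε := LinearEquiv.ofBijective _ ha
    exact (LinearEquiv.baseChange K L _ _ ε).bijective
  have hcomp : (Extension.H1Cotangent.map b) ∘ ((Extension.H1Cotangent.map hh).liftBaseChange L) =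
      ((Extension.H1Cotangent.map f).liftBaseChange L) ∘
        ((Extension.H1Cotangent.map a).baseChange L) := funext hsq'
  have h3 : Function.Bijective
      ((Extension.H1Cotangent.map b) ∘ ((Extension.H1Cotangent.map hh).liftBaseChange L)) := by
    rw [hcomp]
    exact hF.comp hH
  exact (Function.Bijective.of_comp_iff' hb _).mp h3

/-- For a surjection `R → K` onto a field and a finite separable field extension `L / K`, the
canonical map `L ⊗[K] H¹(L_{K/R}) → H¹(L_{L/R})` is bijective. -/
theorem bijective_of_surjective_of_isSeparable (hRK : Function.Surjective (algebraMap R K))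
    [FiniteDimensional K L] [Algebra.IsSeparable K L] :
    Function.Bijective ((Algebra.H1Cotangent.map R R K L).liftBaseChange L) := by
  let pb := Field.powerBasisOfFiniteOfSeparable K L
  obtain ⟨G, hG1, hG2⟩ := exists_monic_lift hRK (minpoly K pb.gen) (minpoly.monic pb.isIntegral_gen)
  have hsep : (minpoly K pb.gen).Separable := Algebra.IsSeparable.isSeparable K pb.gen
  exact bijective_canonical hRK (pairOf G hG2) pb hG1 (hasMap_of G hG2 pb.gen hG1 hsep)

end

end Groth.Agent.Lib.Seat99.H1Sep
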