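import Groth.Agent.Lib.Seat99HQLocal
import Groth.Agent.S10849

/-!
# Horrocks–Quillen, part 2: existence of Birkhoff families; local Horrocks (seat 99)
-/

set_option linter.unusedSectionVars false
set_option linter.unusedVariables false

open Polynomial LaurentPolynomial Matrix

namespace Groth.Agent.Lib.Seat99.HQ

universe u

section MapL

variable {A B : Type*} [CommRing A] [CommRing B]

/-- Functoriality of Laurent polynomials in the coefficient ring. -/
noncomputable def mapL (f : A →+* B) : A[T;T⁻¹] →+* B[T;T⁻¹] := AddMonoidAlgebra.mapRingHom ℤ f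

theorem mapL_coeff (f : A →+* B) (q : A[T;T⁻¹]) (e : ℤ) : (mapL f q).coeff e = f (q.coeff e) :=
  AddMonoidAlgebra.coeff_mapRingHom f q e

theorem mapL_C (f : A →+* B) (a : A) : mapL f (LaurentPolynomial.C a) = LaurentPolynomial.C (f a) :=
  AddMonoidAlgebra.mapRingHom_single f 0 a

theorem mapL_T (f : A →+* B) (e : ℤ) : mapL f (T e) = T e := by
  have := AddMonoidAlgebra.mapRingHom_single f e (1 : A)
  rwa [map_one] at this

theorem mapL_toL (f : A →+* B) (p : A[X]) : mapL f (toL p) = toL (p.map f) := by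
  have : (mapL f).comp toL = (toL (A := B)).comp (Polynomial.mapRingHom f) := by
    refine Polynomial.ringHom_ext (fun a => ?_) ?_
    · simp only [RingHom.comp_apply, toLaurent_C, mapL_C, Polynomial.coe_mapRingHom,
        Polynomial.map_C]
    · simp only [RingHom.comp_apply, toLaurent_X, mapL_T, Polynomial.coe_mapRingHom,
        Polynomial.map_X]
  exact congrArg (fun g => g p) this

theorem mapL_invert (f : A →+* B) (q : A[T;T⁻¹]) :
    mapL f (LaurentPolynomial.invert q) = LaurentPolynomial.invert (mapL f q) := by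
  ext e
  rw [mapL_coeff, invert_apply, invert_apply, mapL_coeff]

theorem mapL_toL' (f : A →+* B) (p : A[X]) : mapL f (toL' p) = toL' (p.map f) := by
  rw [toL'_apply, mapL_invert, mapL_toL]
  rfl

theorem mapL_comp {C' : Type*} [CommRing C'] (g : B →+* C') (f : A →+* B) :
    mapL (g.comp f) = (mapL g).comp (mapL f) := AddMonoidAlgebra.mapRingHom_comp g f

variable {n n' : Type*} [Fintype n] [Fintype n'] [DecidableEq n] [DecidableEq n']

/-- Base change of `PData`. -/
noncomputable def PData.map (D : PData A n n') (f : A →+* B) : PData B n n' where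
  E := D.E.map (Polynomial.mapRingHom f)
  F := D.F.map (Polynomial.mapRingHom f)
  Xm := D.Xm.map (mapL f)
  Ym := D.Ym.map (mapL f)
  hE := by rw [← Matrix.map_mul, D.hE]
  hF := by rw [← Matrix.map_mul, D.hF]
  hYX := by
    rw [← Matrix.map_mul, D.hYX, Matrix.map_map, Matrix.map_map]
    congr 1
    funext p
    exact mapL_toL f p
  hXY := by
    rw [← Matrix.map_mul, D.hXY, Matrix.map_map, Matrix.map_map]
    congr 1
    funext p
    exact mapL_toL' f p

end MapL

section Kernels

variable {A : Type*} [CommRing A] [IsLocalRing A]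

theorem mem_mX_of_map_eq_zero {p : A[X]} (h : p.map (IsLocalRing.residue A) = 0) : p ∈ mX A := by
  rw [mX, Ideal.mem_map_C_iff]
  intro k
  have := congrArg (fun q => Polynomial.coeff q k) h
  simp only [Polynomial.coeff_map, Polynomial.coeff_zero] at this
  exact (IsLocalRing.residue_eq_zero_iff _).1 this

theorem mem_mL_of_mapL_eq_zero {q : A[T;T⁻¹]} (h : mapL (IsLocalRing.residue A) q = 0) :
    q ∈ mL A := by
  rw [← AddMonoidAlgebra.sum_coeff_single q, Finsupp.sum]
  refine Ideal.sum_mem _ fun e _ => ?_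
  have he : q.coeff e ∈ IsLocalRing.maximalIdeal A := by
    have := congrArg (fun r => AddMonoidAlgebra.coeff r e) h
    simp only [mapL_coeff] at this
    exact (IsLocalRing.residue_eq_zero_iff _).1 this
  rw [show (AddMonoidAlgebra.single e (q.coeff e) : A[T;T⁻¹]) =
    LaurentPolynomial.C (q.coeff e) * T e from LaurentPolynomial.single_eq_C_mul_T _ _]
  exact Ideal.mul_mem_right _ _ (Ideal.mem_map_of_mem _ he)

end Kernels

section Basis

variable {R : Type*} [CommRing R] {k : Type*} [Fintype k] [DecidableEq k]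
variable {ι : Type*} [Fintype ι] [DecidableEq ι]

/-- A basis of the image of an idempotent matrix gives a factorization `E = U U'`, `U' U = 1`. -/
theorem exists_matrices_of_basis (E : Matrix k k R) (hE : E * E = E)
    (β : Module.Basis ι R (LinearMap.range (Matrix.toLin' E))) :
    ∃ (U : Matrix k ι R) (U' : Matrix ι k R), U' * U = 1 ∧ U * U' = E := by
  have hmem : ∀ b : k, E *ᵥ Pi.single b 1 ∈ LinearMap.range (Matrix.toLin' E) :=
    fun b => ⟨Pi.single b 1, Matrix.toLin'_apply _ _⟩
  let U : Matrix k ι R := Matrix.of fun a c => (β c : k → R) a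
  let U' : Matrix ι k R := Matrix.of fun c b => β.repr ⟨E *ᵥ Pi.single b 1, hmem b⟩ c
  have hU : ∀ a c, U a c = (β c : k → R) a := fun _ _ => rfl
  have hU' : ∀ c b, U' c b = β.repr ⟨E *ᵥ Pi.single b 1, hmem b⟩ c := fun _ _ => rfl
  have hβE : ∀ c, E *ᵥ (β c : k → R) = (β c : k → R) := by
    intro c
    obtain ⟨y, hy⟩ := (β c).2
    rw [← hy, Matrix.toLin'_apply, Matrix.mulVec_mulVec, hE]
  refine ⟨U, U', ?_, ?_⟩
  · ext c c'
    rw [Matrix.mul_apply, Matrix.one_apply]
    simp only [hU, hU']
    -- β c' = ∑ b, (β c') b • ⟨E e_b, _⟩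
    have h1 : β c' = ∑ b, (β c' : k → R) b • (⟨E *ᵥ Pi.single b 1, hmem b⟩ :
        LinearMap.range (Matrix.toLin' E)) := by
      apply Subtype.ext
      rw [Submodule.coe_sum]
      simp only [Submodule.coe_smul]
      conv_lhs => rw [← hβE c', pi_eq_sum_univ (β c' : k → R)]
      rw [Matrix.mulVec_sum]
      refine Finset.sum_congr rfl fun b _ => ?_
      rw [← Matrix.mulVec_smul]
      congr 1
      funext a
      simp [Pi.single_apply, eq_comm]
    have h2 := congrArg (fun v => β.repr v c) h1
    simp only [Module.Basis.repr_self, map_sum, map_smul, Finsupp.coe_finsetSum, Finsupp.coe_smul,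
      Finset.sum_apply, Pi.smul_apply, smul_eq_mul] at h2
    rw [Finsupp.single_apply] at h2
    rw [show (∑ b, β.repr ⟨E *ᵥ Pi.single b 1, hmem b⟩ c * (β c' : k → R) b) =
      ∑ b, (β c' : k → R) b * β.repr ⟨E *ᵥ Pi.single b 1, hmem b⟩ c from
        Finset.sum_congr rfl fun b _ => mul_comm _ _, ← h2]
    simp only [eq_comm]
  · ext a b
    rw [Matrix.mul_apply]
    simp only [hU, hU']
    have h1 := β.sum_repr ⟨E *ᵥ Pi.single b 1, hmem b⟩
    have h2 := congrArg (fun v : LinearMap.range (Matrix.toLin' E) => (v : k → R) a) h1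
    simp only [Submodule.coe_sum, Submodule.coe_smul, Finset.sum_apply, Pi.smul_apply,
      smul_eq_mul] at h2
    rw [show (∑ c, (β c : k → R) a * β.repr ⟨E *ᵥ Pi.single b 1, hmem b⟩ c) =
      ∑ c, β.repr ⟨E *ᵥ Pi.single b 1, hmem b⟩ c * (β c : k → R) a from
        Finset.sum_congr rfl fun c _ => mul_comm _ _, h2]
    simp

end Basis

section Field

variable {k : Type u} [Field k]
variable {n n' : Type*} [Fintype n] [Fintype n'] [DecidableEq n] [DecidableEq n']

theorem exists_free_matrices (E : Matrix n n k[X]) (hE : E * E = E) :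
    ∃ (r : ℕ) (U : Matrix n (Fin r) k[X]) (U' : Matrix (Fin r) n k[X]),
      U' * U = 1 ∧ U * U' = E := by
  obtain ⟨r, ⟨β⟩⟩ := Submodule.nonempty_basis_of_pid (Pi.basisFun k[X] n)
    (LinearMap.range (Matrix.toLin' E))
  obtain ⟨U, U', h1, h2⟩ := exists_matrices_of_basis E hE β
  exact ⟨r, U, U', h1, h2⟩

/-- Birkhoff normal form of a vector bundle on `ℙ¹` over a field. -/
theorem exists_birkhoff_bases (D : PData k n n') :
    ∃ (r : ℕ) (U : Matrix n (Fin r) k[X]) (U' : Matrix (Fin r) n k[X])
      (W : Matrix n' (Fin r) k[X]) (W' : Matrix (Fin r) n' k[X]) (d : Fin r → ℤ),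
      U' * U = 1 ∧ U * U' = D.E ∧ W' * W = 1 ∧ W * W' = D.F ∧
      D.Ym * W.map toL' = U.map toL * Matrix.diagonal (fun c => (T (d c) : k[T;T⁻¹])) := by
  obtain ⟨r, U, U', hU1, hU2⟩ := exists_free_matrices D.E D.hE
  obtain ⟨r', W, W', hW1, hW2⟩ := exists_free_matrices D.F D.hF
  -- transition matrices
  set C' : Matrix (Fin r) (Fin r') k[T;T⁻¹] := U'.map toL * D.Ym * W.map toL' with hC'
  set C : Matrix (Fin r') (Fin r) k[T;T⁻¹] := W'.map toL' * D.Xm * U.map toL with hC
  have hUp : U.map toL * U'.map toL = D.Ep := by rw [← Matrix.map_mul, hU2]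
  have hWm : W.map toL' * W'.map toL' = D.Fm := by rw [← Matrix.map_mul, hW2]
  have hU'U : U'.map toL * U.map toL = 1 := by
    rw [← Matrix.map_mul, hU1, Matrix.map_one _ (map_zero _) (map_one _)]
  have hW'W : W'.map toL' * W.map toL' = 1 := by
    rw [← Matrix.map_mul, hW1, Matrix.map_one _ (map_zero _) (map_one _)]
  have hYFX : D.Ym * D.Fm * D.Xm = D.Ep := by
    have : D.Ym * D.Fm * D.Xm = (D.Ym * D.Xm) * (D.Ym * D.Xm) := by
      unfold PData.Fm; rw [← D.hXY]; simp only [Matrix.mul_assoc]
    rw [this, D.hYX, D.hEp]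
  have hXEY : D.Xm * D.Ep * D.Ym = D.Fm := by
    have : D.Xm * D.Ep * D.Ym = (D.Xm * D.Ym) * (D.Xm * D.Ym) := by
      unfold PData.Ep; rw [← D.hYX]; simp only [Matrix.mul_assoc]
    rw [this, D.hXY, D.hFm]
  have hEU : D.Ep * U.map toL = U.map toL := by
    rw [← hUp, Matrix.mul_assoc, hU'U, Matrix.mul_one]
  have hU'E : U'.map toL * D.Ep = U'.map toL := by
    rw [← hUp, ← Matrix.mul_assoc, hU'U, Matrix.one_mul]
  have hFW : D.Fm * W.map toL' = W.map toL' := by
    rw [← hWm, Matrix.mul_assoc, hW'W, Matrix.mul_one]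
  have hW'F : W'.map toL' * D.Fm = W'.map toL' := by
    rw [← hWm, ← Matrix.mul_assoc, hW'W, Matrix.one_mul]
  have hC'C : C' * C = 1 := by
    calc C' * C = U'.map toL * (D.Ym * (W.map toL' * W'.map toL') * D.Xm) * U.map toL := by
          rw [hC', hC]; simp only [Matrix.mul_assoc]
      _ = 1 := by rw [hWm, hYFX, hU'E, hU'U]
  have hCC' : C * C' = 1 := by
    calc C * C' = W'.map toL' * (D.Xm * (U.map toL * U'.map toL) * D.Ym) * W.map toL' := by
          rw [hC', hC]; simp only [Matrix.mul_assoc]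
      _ = 1 := by rw [hUp, hXEY, hW'F, hW'W]
  -- r = r'
  have hrr : r = r' := by
    have e : (Fin r → k[T;T⁻¹]) ≃ₗ[k[T;T⁻¹]] (Fin r' → k[T;T⁻¹]) :=
      LinearEquiv.ofLinearMap (Matrix.toLin' C) (Matrix.toLin' C')
        (by rw [← Matrix.toLin'_mul, hCC', Matrix.toLin'_one])
        (by rw [← Matrix.toLin'_mul, hC'C, Matrix.toLin'_one])
    have := card_eq_of_linearEquiv k[T;T⁻¹] e
    simpa using this
  subst hrr
  have hC'unit : IsUnit C' :=
    (Matrix.isUnit_iff_isUnit_det C').2 (Matrix.isUnit_det_of_right_inverse hC'C)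
  obtain ⟨P, Q, d, hP, hQ, -, hPDQ⟩ := Groth.Agent.S10849.result k r C' hC'unit
  have hPdet : IsUnit P.det := (Matrix.isUnit_iff_isUnit_det P).1 hP
  have hQdet : IsUnit Q.det := (Matrix.isUnit_iff_isUnit_det Q).1 hQ
  have hQm : (Q.map Polynomial.toLaurent).map LaurentPolynomial.invert = Q.map toL' := by
    rw [Matrix.map_map]; rfl
  rw [hQm] at hPDQ
  have hQQ : Q.map toL' * Q⁻¹.map toL' = 1 := by
    rw [← Matrix.map_mul, Matrix.mul_nonsing_inv Q hQdet, Matrix.map_one _ (map_zero _) (map_one _)]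
  -- Ym W₋ = U₊ C'
  have hYW : D.Ym * W.map toL' = U.map toL * C' := by
    rw [hC', ← Matrix.mul_assoc, ← Matrix.mul_assoc, hUp, ← D.Ym_Fm, Matrix.mul_assoc, hFW]
  refine ⟨r, U * P, P⁻¹ * U', W * Q⁻¹, Q * W', d, ?_, ?_, ?_, ?_, ?_⟩
  · rw [Matrix.mul_assoc, ← Matrix.mul_assoc U', hU1, Matrix.one_mul,
      Matrix.nonsing_inv_mul P hPdet]
  · rw [Matrix.mul_assoc, ← Matrix.mul_assoc P, Matrix.mul_nonsing_inv P hPdet, Matrix.one_mul, hU2]
  · rw [Matrix.mul_assoc, ← Matrix.mul_assoc W', hW1, Matrix.one_mul,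
      Matrix.mul_nonsing_inv Q hQdet]
  · rw [Matrix.mul_assoc, ← Matrix.mul_assoc Q⁻¹, Matrix.nonsing_inv_mul Q hQdet, Matrix.one_mul,
      hW2]
  · rw [Matrix.map_mul, ← Matrix.mul_assoc, hYW, hPDQ, Matrix.map_mul]
    simp only [Matrix.mul_assoc]
    rw [hQQ, Matrix.mul_one]

end Field

section Lift

variable {A : Type u} [CommRing A] [IsLocalRing A]
variable {n n' : Type*} [Fintype n] [Fintype n'] [DecidableEq n] [DecidableEq n']

/-- Every `PData` over a local ring admits a Birkhoff family. -/
theorem exists_bfam (D : PData A n n') : ∃ r : ℕ, Nonempty (BFam D (Fin r)) := by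
  classical
  set res : A →+* IsLocalRing.ResidueField A := IsLocalRing.residue A with hres
  set rX : A[X] →+* (IsLocalRing.ResidueField A)[X] := Polynomial.mapRingHom res with hrX
  have hrXsurj : Function.Surjective rX :=
    Polynomial.map_surjective res IsLocalRing.residue_surjective
  obtain ⟨r, U, U', W, W', d, hU1, hU2, hW1, hW2, hYW⟩ := exists_birkhoff_bases (D.map res)
  have hDE : (D.map res).E = D.E.map rX := rfl
  have hDF : (D.map res).F = D.F.map rX := rfl
  have hDYm : (D.map res).Ym = D.Ym.map (mapL res) := rfl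
  choose Ut hUt using fun a c => hrXsurj (U a c)
  choose Ut' hUt' using fun c a => hrXsurj (U' c a)
  choose Wt hWt using fun a c => hrXsurj (W a c)
  choose Wt' hWt' using fun c a => hrXsurj (W' c a)
  have hEU : D.E.map rX * U = U := by
    rw [← hDE, ← hU2, Matrix.mul_assoc, hU1, Matrix.mul_one]
  have hFW : D.F.map rX * W = W := by
    rw [← hDF, ← hW2, Matrix.mul_assoc, hW1, Matrix.mul_one]
  -- reductions of m, w
  have hm_red : ∀ c a, rX ((D.E *ᵥ fun a => Ut a c) a) = U a c := by
    intro c a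
    rw [RingHom.map_mulVec]
    have : (rX ∘ fun a => Ut a c) = fun a => U a c := by funext b; exact hUt b c
    rw [this]
    have := congrFun (congrFun hEU a) c
    rwa [Matrix.mul_apply] at this
  have hw_red : ∀ c a, rX ((D.F *ᵥ fun a => Wt a c) a) = W a c := by
    intro c a
    rw [RingHom.map_mulVec]
    have : (rX ∘ fun a => Wt a c) = fun a => W a c := by funext b; exact hWt b c
    rw [this]
    have := congrFun (congrFun hFW a) c
    rwa [Matrix.mul_apply] at this
  have hker : ∀ p : A[X], rX p = 0 → p ∈ mX A := fun p hp => mem_mX_of_map_eq_zero hp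
  refine ⟨r, ⟨?_⟩⟩
  exact
  { m := fun c => D.E *ᵥ fun a => Ut a c
    w := fun c => D.F *ᵥ fun a => Wt a c
    d := fun c => -d c
    φ := fun c a => Ut' c a
    ψ := fun c a => Wt' c a
    hm := fun c => by rw [Matrix.mulVec_mulVec, D.hE]
    hw := fun c => by rw [Matrix.mulVec_mulVec, D.hF]
    genM := by
      intro x hx
      have hxbar : D.E.map rX *ᵥ (rX ∘ x) = rX ∘ x := by
        funext a
        rw [← RingHom.map_mulVec, hx]; rfl
      choose c' hc' using fun c => hrXsurj ((U' *ᵥ (rX ∘ x)) c)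
      refine ⟨c', fun b => hker _ ?_⟩
      simp only [Pi.sub_apply, Finset.sum_apply, Pi.smul_apply, smul_eq_mul, map_sub, map_sum,
        map_mul, hc', hm_red]
      have h1 : (∑ c, (U' *ᵥ (rX ∘ x)) c * U b c) = (U *ᵥ (U' *ᵥ (rX ∘ x))) b := by
        simp only [Matrix.mulVec, dotProduct]
        exact Finset.sum_congr rfl fun c _ => mul_comm _ _
      rw [h1, Matrix.mulVec_mulVec, hU2, hDE, hxbar]
      simp
    genN := by
      intro x hx
      have hxbar : D.F.map rX *ᵥ (rX ∘ x) = rX ∘ x := by
        funext a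
        rw [← RingHom.map_mulVec, hx]; rfl
      choose c' hc' using fun c => hrXsurj ((W' *ᵥ (rX ∘ x)) c)
      refine ⟨c', fun b => hker _ ?_⟩
      simp only [Pi.sub_apply, Finset.sum_apply, Pi.smul_apply, smul_eq_mul, map_sub, map_sum,
        map_mul, hc', hw_red]
      have h1 : (∑ c, (W' *ᵥ (rX ∘ x)) c * W b c) = (W *ᵥ (W' *ᵥ (rX ∘ x))) b := by
        simp only [Matrix.mulVec, dotProduct]
        exact Finset.sum_congr rfl fun c _ => mul_comm _ _
      rw [h1, Matrix.mulVec_mulVec, hW2, hDF, hxbar]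
      simp
    dualM := by
      intro c c'
      refine hker _ ?_
      simp only [dotProduct, map_sub, map_sum, map_mul, hUt', hm_red]
      have := congrFun (congrFun hU1 c) c'
      rw [Matrix.mul_apply, Matrix.one_apply] at this
      rw [this]
      split_ifs <;> simp
    dualN := by
      intro c c'
      refine hker _ ?_
      simp only [dotProduct, map_sub, map_sum, map_mul, hWt', hw_red]
      have := congrFun (congrFun hW1 c) c'
      rw [Matrix.mul_apply, Matrix.one_apply] at this
      rw [this]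
      split_ifs <;> simp
    rel := by
      intro c a
      refine mem_mL_of_mapL_eq_zero ?_
      simp only [Pi.sub_apply, Function.comp_apply, Pi.smul_apply, smul_eq_mul, map_sub, map_mul,
        mapL_T]
      have h1 : mapL res (toL ((D.E *ᵥ fun a => Ut a c) a)) = toL (U a c) := by
        rw [mapL_toL]
        exact congrArg toL (hm_red c a)
      have h2 : mapL res ((D.Ym *ᵥ (toL' ∘ (D.F *ᵥ fun a => Wt a c))) a) =
          toL (U a c) * T (d c) := by
        rw [RingHom.map_mulVec]
        have h3 : (mapL res ∘ (toL' ∘ (D.F *ᵥ fun a => Wt a c))) = fun b => toL' (W b c) := by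
          funext b
          simp only [Function.comp_apply]
          rw [mapL_toL']
          exact congrArg toL' (hw_red c b)
        rw [h3]
        have h4 := congrFun (congrFun hYW a) c
        rw [Matrix.mul_apply, Matrix.mul_diagonal, hDYm] at h4
        simp only [Matrix.map_apply] at h4
        rw [← h4]
        rfl
      rw [h1, h2, mul_comm (toL (U a c)), ← mul_assoc, ← T_add, neg_add_cancel, T_zero, one_mul,
        sub_self] }

end Lift

section LocalHorrocks

variable {A : Type u} [CommRing A] [IsLocalRing A]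
variable {n n' : Type*} [Fintype n] [Fintype n'] [DecidableEq n] [DecidableEq n']

/-- **Local Horrocks (matrix form)**: over a local ring, the `A[t]`-part of a vector bundle on the
projective line is free. -/
theorem local_horrocks (D : PData A n n') :
    ∃ (r : ℕ) (U : Matrix n (Fin r) A[X]) (U' : Matrix (Fin r) n A[X]),
      U' * U = 1 ∧ U * U' = D.E := by
  obtain ⟨r, ⟨B⟩⟩ := exists_bfam D
  obtain ⟨U, U', h1, h2⟩ := exists_basis_of_bfam r (Fin r) (Fintype.card_fin r) D B
  exact ⟨r, U, U', h1, h2⟩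

end LocalHorrocks

end Groth.Agent.Lib.Seat99.HQ
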