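import Groth.Agent.Lib.Seat99HQPatch

/-!
# Zariski gluing of idempotent matrices over a two element cover (seat 99)

`glue_idem`: idempotents `Ea` over `R[1/a]`, `Eb` over `R[1/b]` (`a`, `b` comaximal) whose images are
isomorphic over `R[1/ab]` glue to an idempotent over `R` (of size `n + n'`), equivalent to `Ea` over
`R[1/a]` and to `Eb` over `R[1/b]`.  Everything is phrased with `LocLike` ring maps and matrices.
-/

set_option linter.unusedSectionVars false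
set_option linter.unusedVariables false
set_option linter.unusedSimpArgs false

open Polynomial Matrix

namespace Groth.Agent.Lib.Seat99.HQ

section Helpers

variable {R S : Type*} [CommRing R] [CommRing S] {m n : Type*}

theorem map_smul_hom (φ : R →+* S) (r : R) (M : Matrix m n R) :
    (r • M).map φ = φ r • M.map φ := by
  ext i j
  simp [smul_eq_mul]

variable [Finite m] [Finite n]

theorem LocLike.matrix_surj_pow {φ : R →+* S} {f : R} (h : LocLike φ (Submonoid.powers f))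
    (ξ : Matrix m n S) : ∃ k₀ : ℕ, ∀ k, k₀ ≤ k → ∃ W : Matrix m n R, W.map φ = φ f ^ k • ξ := by
  obtain ⟨_, ⟨k₀, rfl⟩, W, hW⟩ := h.matrix_surj ξ
  refine ⟨k₀, fun k hk => ⟨f ^ (k - k₀) • W, ?_⟩⟩
  rw [map_smul_hom, hW, smul_smul, ← map_mul, ← pow_add, Nat.sub_add_cancel hk, map_pow]

theorem LocLike.matrix_ker_pow {φ : R →+* S} {f : R} (h : LocLike φ (Submonoid.powers f))
    (W : Matrix m n R) (hW : W.map φ = 0) : ∃ k₀ : ℕ, ∀ k, k₀ ≤ k → f ^ k • W = 0 := by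
  obtain ⟨_, ⟨k₀, rfl⟩, hk₀⟩ := h.matrix_ker W hW
  refine ⟨k₀, fun k hk => ?_⟩
  have : f ^ k = f ^ (k - k₀) * f ^ k₀ := by rw [← pow_add, Nat.sub_add_cancel hk]
  rw [this, mul_smul]
  show f ^ (k - k₀) • (f ^ k₀ • W) = 0
  simp only at hk₀
  rw [hk₀, smul_zero]

end Helpers

section LiftPair

variable {S₁ S₂ : Type*} [CommRing S₁] [CommRing S₂]
variable {n n' : Type*} [Fintype n] [Fintype n'] [DecidableEq n] [DecidableEq n']

/-- Lifting an equivalence datum along a localization-like map, keeping the relations that matter. -/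
theorem lift_pair (φ : S₁ →+* S₂) (c : S₁) (hφ : LocLike φ (Submonoid.powers c))
    (Ea : Matrix n n S₁) (hEa : Ea * Ea = Ea) (X : Matrix n' n S₂) (Y : Matrix n n' S₂)
    (hYX : Y * X = Ea.map φ) (hEY : Ea.map φ * Y = Y) :
    ∃ (K : ℕ) (Xl : Matrix n' n S₁) (Yl : Matrix n n' S₁),
      Xl.map φ = φ c ^ K • X ∧ Yl.map φ = φ c ^ K • Y ∧ Ea * Yl = Yl ∧
        Yl * Xl = c ^ (2 * K) • Ea := by
  obtain ⟨k₁, hk₁⟩ := hφ.matrix_surj_pow X
  obtain ⟨k₂, hk₂⟩ := hφ.matrix_surj_pow Y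
  obtain ⟨k, hk⟩ : ∃ k, k = max k₁ k₂ := ⟨_, rfl⟩
  obtain ⟨X0, hX0⟩ := hk₁ k (hk ▸ le_max_left _ _)
  obtain ⟨Y0, hY0⟩ := hk₂ k (hk ▸ le_max_right _ _)
  obtain ⟨Y1, hY1⟩ : ∃ Y1, Y1 = Ea * Y0 := ⟨_, rfl⟩
  have hY1map : Y1.map φ = φ c ^ k • Y := by
    rw [hY1, Matrix.map_mul, hY0, Matrix.mul_smul, hEY]
  have hEY1 : Ea * Y1 = Y1 := by rw [hY1, ← Matrix.mul_assoc, hEa]
  have hZ : (Y1 * X0 - c ^ (2 * k) • Ea).map φ = 0 := by
    rw [Matrix.map_sub _ (map_sub φ), Matrix.map_mul, hY1map, hX0, map_smul_hom, Matrix.smul_mul,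
      Matrix.mul_smul, smul_smul, hYX, map_pow, ← pow_add, two_mul, sub_self]
  obtain ⟨j, hj⟩ := hφ.matrix_ker_pow _ hZ
  have hj' := hj j le_rfl
  rw [smul_sub, sub_eq_zero, smul_smul, ← pow_add] at hj'
  refine ⟨k + j, c ^ j • X0, c ^ j • Y1, ?_, ?_, ?_, ?_⟩
  · rw [map_smul_hom, hX0, smul_smul, map_pow, ← pow_add, add_comm]
  · rw [map_smul_hom, hY1map, smul_smul, map_pow, ← pow_add, add_comm]
  · rw [Matrix.mul_smul, hEY1]
  · rw [Matrix.smul_mul, Matrix.mul_smul, hj', smul_smul, ← pow_add]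
    congr 2
    ring

end LiftPair

section Glue

variable {R Ra Rb Rab : Type*} [CommRing R] [CommRing Ra] [CommRing Rb] [CommRing Rab]
variable {n n' : Type*} [Fintype n] [Fintype n'] [DecidableEq n] [DecidableEq n']

/-- **Zariski gluing of finite projective modules on a two element cover, matrix form.** -/
theorem glue_idem (ιa : R →+* Ra) (ιb : R →+* Rb) (fa : Ra →+* Rab) (fb : Rb →+* Rab)
    (a b : R) (hab : IsCoprime a b)
    (ha : LocLike ιa (Submonoid.powers a)) (hb : LocLike ιb (Submonoid.powers b))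
    (hfa : LocLike fa (Submonoid.powers (ιa b))) (hfb : LocLike fb (Submonoid.powers (ιb a)))
    (hcomp : fa.comp ιa = fb.comp ιb)
    (Ea : Matrix n n Ra) (Eb : Matrix n' n' Rb) (hEa : Ea * Ea = Ea) (hEb : Eb * Eb = Eb)
    (X : Matrix n' n Rab) (Y : Matrix n n' Rab)
    (hYX : Y * X = Ea.map fa) (hXY : X * Y = Eb.map fb) :
    ∃ E : Matrix (n ⊕ n') (n ⊕ n') R, E * E = E ∧
      (∃ (U : Matrix n (n ⊕ n') Ra) (V : Matrix (n ⊕ n') n Ra), V * U = E.map ιa ∧ U * V = Ea) ∧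
      (∃ (U : Matrix n' (n ⊕ n') Rb) (V : Matrix (n ⊕ n') n' Rb),
        V * U = E.map ιb ∧ U * V = Eb) := by
  have hcc : ∀ x, fa (ιa x) = fb (ιb x) := fun x => congrArg (fun g => g x) hcomp
  obtain ⟨Ea', hEa'⟩ : ∃ Ea', Ea' = Ea.map fa := ⟨_, rfl⟩
  obtain ⟨Eb', hEb'⟩ : ∃ Eb', Eb' = Eb.map fb := ⟨_, rfl⟩
  rw [← hEa'] at hYX
  rw [← hEb'] at hXY
  have hEaa : Ea' * Ea' = Ea' := by rw [hEa', ← Matrix.map_mul, hEa]
  have hEbb : Eb' * Eb' = Eb' := by rw [hEb', ← Matrix.map_mul, hEb]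
  obtain ⟨X', hX'⟩ : ∃ X', X' = X * Y * X := ⟨_, rfl⟩
  obtain ⟨Y', hY'⟩ : ∃ Y', Y' = Y * X * Y := ⟨_, rfl⟩
  have h1 : Y' * X' = Ea' := by
    rw [hX', hY']
    calc Y * X * Y * (X * Y * X) = (Y * X) * (Y * X) * (Y * X) := by simp only [Matrix.mul_assoc]
      _ = Ea' := by rw [hYX, hEaa, hEaa]
  have h2 : X' * Y' = Eb' := by
    rw [hX', hY']
    calc X * Y * X * (Y * X * Y) = (X * Y) * (X * Y) * (X * Y) := by simp only [Matrix.mul_assoc]
      _ = Eb' := by rw [hXY, hEbb, hEbb]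
  have h3 : Ea' * Y' = Y' := by
    rw [hY', ← hYX]
    calc Y * X * (Y * X * Y) = (Y * X) * (Y * X) * Y := by simp only [Matrix.mul_assoc]
      _ = Y * X * Y := by rw [hYX, hEaa]
  have h4 : Eb' * X' = X' := by
    rw [hX', ← hXY]
    calc X * Y * (X * Y * X) = (X * Y) * (X * Y) * X := by simp only [Matrix.mul_assoc]
      _ = X * Y * X := by rw [hXY, hEbb]
  have h5 : Y' * Eb' = Y' := by
    rw [hY', ← hXY]
    calc Y * X * Y * (X * Y) = Y * ((X * Y) * (X * Y)) := by simp only [Matrix.mul_assoc]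
      _ = Y * X * Y := by rw [hXY, hEbb, ← hXY, Matrix.mul_assoc]
  have h6 : X' * Ea' = X' := by
    rw [hX', ← hYX]
    calc X * Y * X * (Y * X) = X * ((Y * X) * (Y * X)) := by simp only [Matrix.mul_assoc]
      _ = X * Y * X := by rw [hYX, hEaa, ← hYX, Matrix.mul_assoc]
  -- lifts
  obtain ⟨K₁, Xa, Ya, hXa, hYa, hEYa, hYXa⟩ := lift_pair fa (ιa b) hfa Ea hEa X' Y'
    (by rw [h1, hEa']) (by rw [← hEa', h3])
  obtain ⟨K₂, Yb, Xb, hYb, hXb, hEXb, hXYb⟩ := lift_pair fb (ιb a) hfb Eb hEb Y' X'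
    (by rw [h2, hEb']) (by rw [← hEb', h4])
  obtain ⟨u, w, huw⟩ := IsCoprime.pow (m := 2 * K₂) (n := 2 * K₁) hab
  -- the `a`-side
  obtain ⟨ca, hca⟩ : ∃ ca : Matrix (n ⊕ n') n Ra, ca = Matrix.fromRows (ιa a ^ K₂ • Ea) Xa :=
    ⟨_, rfl⟩
  obtain ⟨γa, hγa⟩ : ∃ γa : Matrix n (n ⊕ n') Ra,
      γa = Matrix.fromCols ((ιa u * ιa a ^ K₂) • Ea) (ιa w • Ya) := ⟨_, rfl⟩
  have hγca : γa * ca = Ea := by
    rw [hγa, hca, Matrix.fromCols_mul_fromRows, Matrix.smul_mul, Matrix.mul_smul, hEa, smul_smul,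
      Matrix.smul_mul, hYXa, smul_smul, ← add_smul]
    have h7 : ιa u * ιa a ^ K₂ * ιa a ^ K₂ + ιa w * ιa b ^ (2 * K₁) = 1 := by
      have h8 := congrArg ιa huw
      simp only [map_add, map_mul, map_pow, map_one] at h8
      rw [← h8]; ring
    rw [h7, one_smul]
  have hEγa : Ea * γa = γa := by
    rw [hγa, Matrix.mul_fromCols, Matrix.mul_smul, Matrix.mul_smul, hEa, hEYa]
  -- the `b`-side
  obtain ⟨cb, hcb⟩ : ∃ cb : Matrix (n ⊕ n') n' Rb, cb = Matrix.fromRows Yb (ιb b ^ K₁ • Eb) :=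
    ⟨_, rfl⟩
  obtain ⟨γb, hγb⟩ : ∃ γb : Matrix n' (n ⊕ n') Rb,
      γb = Matrix.fromCols (ιb u • Xb) ((ιb w * ιb b ^ K₁) • Eb) := ⟨_, rfl⟩
  have hγcb : γb * cb = Eb := by
    rw [hγb, hcb, Matrix.fromCols_mul_fromRows, Matrix.smul_mul, hXYb, smul_smul,
      Matrix.smul_mul, Matrix.mul_smul, hEb, smul_smul, ← add_smul]
    have h7 : ιb u * ιb a ^ (2 * K₂) + ιb w * ιb b ^ K₁ * ιb b ^ K₁ = 1 := by
      have h8 := congrArg ιb huw
      simp only [map_add, map_mul, map_pow, map_one] at h8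
      rw [← h8]; ring
    rw [h7, one_smul]
  have hEγb : Eb * γb = γb := by
    rw [hγb, Matrix.mul_fromCols, Matrix.mul_smul, Matrix.mul_smul, hEb, hEXb]
  -- compatibility
  have hcompat : (ca * γa).map fa = (cb * γb).map fb := by
    rw [Matrix.map_mul, Matrix.map_mul, hca, hγa, hcb, hγb, Matrix.fromRows_map,
      Matrix.fromCols_map, Matrix.fromRows_map, Matrix.fromCols_map]
    simp only [map_smul_hom, map_mul, map_pow, hXa, hYa, hXb, hYb, ← hEa', ← hEb', ← hcc]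
    rw [Matrix.fromRows_mul_fromCols, Matrix.fromRows_mul_fromCols]
    simp only [Matrix.smul_mul, Matrix.mul_smul, smul_smul, hEaa, hEbb, h1, h2, h3, h4, h5, h6]
  have hker : ∀ y : Ra, fa y = 0 → ∃ k : ℕ, ιa b ^ k * y = 0 := by
    intro y hy
    obtain ⟨_, ⟨k, rfl⟩, hk⟩ := hfa.ker y hy
    exact ⟨k, hk⟩
  obtain ⟨E, hEa_, hEb_⟩ := exists_glue_matrix ιa ιb fa fb a b hab ha hb hker hcomp
    (ca * γa) (cb * γb) hcompat
  refine ⟨E, ?_, ⟨γa, ca, hEa_.symm, hγca⟩, ⟨γb, cb, hEb_.symm, hγcb⟩⟩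
  refine eq_of_glue_matrix ιa ιb a b hab ha hb _ _ ?_ ?_
  · rw [Matrix.map_mul, hEa_]
    calc ca * γa * (ca * γa) = ca * (γa * ca) * γa := by simp only [Matrix.mul_assoc]
      _ = ca * γa := by rw [hγca, Matrix.mul_assoc, hEγa]
  · rw [Matrix.map_mul, hEb_]
    calc cb * γb * (cb * γb) = cb * (γb * cb) * γb := by simp only [Matrix.mul_assoc]
      _ = cb * γb := by rw [hγcb, Matrix.mul_assoc, hEγb]

end Glue

end Groth.Agent.Lib.Seat99.HQ
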