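import Mathlib

/-!
# Horrocks–Quillen, part 0: Laurent polynomial preliminaries (seat 99)

`toL : A[X] → A[T;T⁻¹]` (`X ↦ T`) and `toL' : A[X] → A[T;T⁻¹]` (`X ↦ T⁻¹`), exhaustion, the reflection
identity, and the "properness lemma": an ideal `I ⊆ A[X]` over a local ring `A` with `I + 𝔪[X] = ⊤`
containing a polynomial with unit leading coefficient is the unit ideal.
-/

set_option linter.unusedSectionVars false

open Polynomial LaurentPolynomial

namespace Groth.Agent.Lib.Seat99.HQ

universe u

variable {A : Type*} [CommRing A]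

/-- `X ↦ T`. -/
noncomputable abbrev toL : A[X] →+* A[T;T⁻¹] := Polynomial.toLaurent

/-- `X ↦ T⁻¹`. -/
noncomputable def toL' : A[X] →+* A[T;T⁻¹] :=
  (LaurentPolynomial.invert (R := A)).toRingEquiv.toRingHom.comp Polynomial.toLaurent

theorem toL'_apply (p : A[X]) : toL' p = LaurentPolynomial.invert (toLaurent p) := rfl

theorem invert_toL (p : A[X]) : LaurentPolynomial.invert (toL p) = toL' p := rfl

theorem invert_toL' (p : A[X]) : LaurentPolynomial.invert (toL' p) = toL p := by
  rw [toL'_apply]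
  exact LaurentPolynomial.involutive_invert _

@[simp] theorem toL'_X : toL' (X : A[X]) = T (-1) := by
  rw [toL'_apply, toLaurent_X, invert_T]

@[simp] theorem toL'_C (a : A) : toL' (Polynomial.C a) = LaurentPolynomial.C a := by
  rw [toL'_apply, toLaurent_C, invert_C]

theorem toL'_X_pow (k : ℕ) : toL' ((X : A[X]) ^ k) = T (-(k : ℤ)) := by
  rw [map_pow, toL'_X, T_pow]
  congr 1
  ring

theorem toL_injective : Function.Injective (toL (A := A)) := Polynomial.toLaurent_injective

theorem toL'_injective : Function.Injective (toL' (A := A)) := by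
  intro p q h
  apply Polynomial.toLaurent_injective
  exact (LaurentPolynomial.invert (R := A)).injective h

theorem exists_T_mul_eq_toL (q : A[T;T⁻¹]) : ∃ (l : ℕ) (p : A[X]), T (l : ℤ) * q = toL p := by
  obtain ⟨l, p, h⟩ := LaurentPolynomial.exists_T_pow q
  exact ⟨l, p, by rw [h, mul_comm]⟩

theorem exists_T_mul_eq_toL' (q : A[T;T⁻¹]) :
    ∃ (l : ℕ) (p : A[X]), T (-(l : ℤ)) * q = toL' p := by
  obtain ⟨l, p, h⟩ := exists_T_mul_eq_toL (LaurentPolynomial.invert q)
  refine ⟨l, p, ?_⟩
  rw [toL'_apply, ← h, map_mul, invert_T]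
  congr 1
  exact (LaurentPolynomial.involutive_invert q).symm

/-- more room: if `T^l q` is a polynomial then so is `T^(l+k) q`. -/
theorem exists_toL_of_le {q : A[T;T⁻¹]} {l : ℕ} {p : A[X]} (h : T (l : ℤ) * q = toL p) (k : ℕ) :
    T ((l + k : ℕ) : ℤ) * q = toL (X ^ k * p) := by
  rw [map_mul, ← h, map_pow, toLaurent_X, T_pow, ← mul_assoc, ← T_add]
  congr 2
  push_cast
  ring

theorem exists_toL'_of_le {q : A[T;T⁻¹]} {l : ℕ} {p : A[X]} (h : T (-(l : ℤ)) * q = toL' p)
    (k : ℕ) : T (-((l + k : ℕ) : ℤ)) * q = toL' (X ^ k * p) := by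
  rw [map_mul, ← h, toL'_X_pow, ← mul_assoc, ← T_add]
  congr 2
  push_cast
  ring

/-- uniform exhaustion for finite families. -/
theorem exists_T_mul_eq_toL_vec {ι : Type*} [Finite ι] (v : ι → A[T;T⁻¹]) :
    ∃ (l : ℕ) (x : ι → A[X]), ∀ a, T (l : ℤ) * v a = toL (x a) := by
  classical
  cases nonempty_fintype ι
  choose l p h using fun a => exists_T_mul_eq_toL (v a)
  refine ⟨Finset.univ.sup l, fun a => X ^ (Finset.univ.sup l - l a) * p a, fun a => ?_⟩
  have hle : l a ≤ Finset.univ.sup l := Finset.le_sup (Finset.mem_univ a)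
  have := exists_toL_of_le (h a) (Finset.univ.sup l - l a)
  rwa [Nat.add_sub_cancel' hle] at this

theorem exists_T_mul_eq_toL'_vec {ι : Type*} [Finite ι] (v : ι → A[T;T⁻¹]) :
    ∃ (l : ℕ) (x : ι → A[X]), ∀ a, T (-(l : ℤ)) * v a = toL' (x a) := by
  classical
  cases nonempty_fintype ι
  choose l p h using fun a => exists_T_mul_eq_toL' (v a)
  refine ⟨Finset.univ.sup l, fun a => X ^ (Finset.univ.sup l - l a) * p a, fun a => ?_⟩
  have hle : l a ≤ Finset.univ.sup l := Finset.le_sup (Finset.mem_univ a)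
  have := exists_toL'_of_le (h a) (Finset.univ.sup l - l a)
  rwa [Nat.add_sub_cancel' hle] at this

theorem toL'_monomial (k : ℕ) (a : A) :
    toL' (monomial k a) = LaurentPolynomial.C a * T (-(k : ℤ)) := by
  rw [toL'_apply, Polynomial.toLaurent_C_mul_T, map_mul, invert_C, invert_T]

/-- The reflection identity: `T^D · g(T⁻¹) = (reflect D g)(T)`. -/
theorem T_mul_toL'_eq_toL_reflect (g : A[X]) (D : ℕ) (hD : g.natDegree ≤ D) :
    T (D : ℤ) * toL' g = toL (g.reflect D) := by
  classical
  have key : ∀ (s : Finset ℕ) (c : ℕ → A), (∀ k ∈ s, k ≤ D) →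
      T (D : ℤ) * toL' (∑ k ∈ s, monomial k (c k)) =
        toL ((∑ k ∈ s, monomial k (c k)).reflect D) := by
    intro s c
    induction s using Finset.induction_on with
    | empty => intro _; simp
    | insert k s hk ih =>
      intro hs
      rw [Finset.sum_insert hk, map_add, mul_add, reflect_add, map_add,
        ih (fun j hj => hs j (Finset.mem_insert_of_mem hj))]
      congr 1
      have hkD : k ≤ D := hs k (Finset.mem_insert_self k s)
      rw [toL'_monomial, ← C_mul_X_pow_eq_monomial, reflect_C_mul_X_pow, revAt_le hkD,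
        C_mul_X_pow_eq_monomial, Polynomial.toLaurent_C_mul_T, mul_left_comm, ← T_add]
      congr 2
      omega
  have h := key g.support g.coeff (fun k hk => (le_natDegree_of_mem_supp k hk).trans hD)
  rwa [← g.as_sum_support] at h

/-- The mirrored reflection identity: `T^(-D) · g(T) = (reflect D g)(T⁻¹)`. -/
theorem T_mul_toL_eq_toL'_reflect (g : A[X]) (D : ℕ) (hD : g.natDegree ≤ D) :
    T (-(D : ℤ)) * toL g = toL' (g.reflect D) := by
  have h := congrArg (LaurentPolynomial.invert (R := A)) (T_mul_toL'_eq_toL_reflect g D hD)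
  rw [map_mul, invert_T, invert_toL', invert_toL] at h
  exact h

section Local

variable [IsLocalRing A]

/-- The ideal `𝔪[X]` of `A[X]`. -/
noncomputable abbrev mX (A : Type*) [CommRing A] [IsLocalRing A] : Ideal A[X] :=
  (IsLocalRing.maximalIdeal A).map (Polynomial.C : A →+* A[X])

/-- An ideal of `A[X]` (`A` local) which is the unit ideal modulo `𝔪` and contains a polynomial with
unit leading coefficient is the unit ideal. -/
theorem ideal_eq_top_of_unit_leading_mem (I : Ideal A[X]) (h : A[X]) (hh : h ∈ I)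
    (hu : IsUnit h.leadingCoeff) (hI : I ⊔ mX A = ⊤) : I = ⊤ := by
  obtain ⟨u, hu'⟩ := hu
  set h' : A[X] := Polynomial.C (↑u⁻¹ : A) * h with hh'
  have hmonic : h'.Monic :=
    Polynomial.monic_C_mul_of_mul_leadingCoeff_eq_one (by rw [← hu']; exact u.inv_mul)
  have hh'I : h' ∈ I := I.mul_mem_left _ hh
  have hle : Ideal.span {h'} ≤ I := (Ideal.span_singleton_le_iff_mem I).2 hh'I
  have : Module.Finite A (A[X] ⧸ Ideal.span {h'}) := hmonic.finite_quotient
  have : Module.Finite A (A[X] ⧸ I) :=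
    Module.Finite.of_surjective (Ideal.Quotient.factorₐ A hle).toLinearMap
      (Ideal.Quotient.factor_surjective hle)
  have htop : (⊤ : Submodule A (A[X] ⧸ I)) ≤ IsLocalRing.maximalIdeal A • ⊤ := by
    rintro q -
    obtain ⟨f, rfl⟩ := Ideal.Quotient.mk_surjective q
    have hf : f ∈ I ⊔ mX A := by rw [hI]; trivial
    obtain ⟨y, hy, z, hz, rfl⟩ := Submodule.mem_sup.1 hf
    have hmk : Ideal.Quotient.mk I (y + z) = Ideal.Quotient.mk I z := by
      rw [map_add, Ideal.Quotient.eq_zero_iff_mem.2 hy, zero_add]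
    rw [hmk, z.as_sum_support_C_mul_X_pow, map_sum]
    refine Submodule.sum_mem _ fun k _ => ?_
    have hk : z.coeff k ∈ IsLocalRing.maximalIdeal A := Ideal.mem_map_C_iff.1 hz k
    have : Ideal.Quotient.mk I (Polynomial.C (z.coeff k) * X ^ k) =
        z.coeff k • Ideal.Quotient.mk I (X ^ k) := by
      rw [← Polynomial.smul_eq_C_mul]
      exact map_smul (Ideal.Quotient.mkₐ A I) _ _
    rw [this]
    exact Submodule.smul_mem_smul hk trivial
  have hbot := Submodule.eq_bot_of_le_smul_of_le_jacobson_bot (IsLocalRing.maximalIdeal A)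
    (⊤ : Submodule A (A[X] ⧸ I)) Module.Finite.fg_top htop
    (IsLocalRing.maximalIdeal_le_jacobson ⊥)
  have h1 : Ideal.Quotient.mk I 1 = 0 := by
    have : Ideal.Quotient.mk I 1 ∈ (⊤ : Submodule A (A[X] ⧸ I)) := trivial
    rw [hbot] at this
    exact this
  exact (Ideal.eq_top_iff_one I).2 (Ideal.Quotient.eq_zero_iff_mem.1 h1)

/-- The properness lemma. -/
theorem ideal_eq_top_of_laurent (I J : Ideal A[X]) (hI : I ⊔ mX A = ⊤) (hJ : J ⊔ mX A = ⊤)
    (hIJ : ∀ g ∈ J, ∃ (l : ℕ) (p : A[X]), p ∈ I ∧ T (l : ℤ) * toL' g = toL p) : I = ⊤ := by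
  -- an element of `J` congruent to `1`
  have h1 : (1 : A[X]) ∈ J ⊔ mX A := by rw [hJ]; trivial
  obtain ⟨g, hg, z, hz, hgz⟩ := Submodule.mem_sup.1 h1
  obtain ⟨l, p, hp, hlp⟩ := hIJ g hg
  set D := g.natDegree with hD
  -- `h = reflect D g` has unit leading coefficient
  have hrefl := T_mul_toL'_eq_toL_reflect g D le_rfl
  have hg0 : IsUnit (g.coeff 0) := by
    have hz0 : z.coeff 0 ∈ IsLocalRing.maximalIdeal A := Ideal.mem_map_C_iff.1 hz 0
    have : g.coeff 0 = 1 - z.coeff 0 := by
      have := congrArg (fun f => Polynomial.coeff f 0) hgz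
      simp only [coeff_add, coeff_one_zero] at this
      rw [← this]; ring
    rw [this]
    by_contra hnu
    have hmem : 1 - z.coeff 0 ∈ IsLocalRing.maximalIdeal A := (IsLocalRing.mem_maximalIdeal _).2 hnu
    have : (1 : A) ∈ IsLocalRing.maximalIdeal A := by
      have := Ideal.add_mem _ hmem hz0
      rwa [sub_add_cancel] at this
    exact (Ideal.ne_top_iff_one _).1 (IsLocalRing.maximalIdeal.isMaximal A).ne_top this
  -- X^l * reflect = X^D * p
  have hkey : X ^ l * g.reflect D = X ^ D * p := by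
    apply toL_injective
    rw [map_mul, map_mul, ← hrefl, ← hlp, map_pow, map_pow, toLaurent_X, T_pow, T_pow]
    simp only [mul_one]
    ring
  have hmem : X ^ l * g.reflect D ∈ I := by rw [hkey]; exact I.mul_mem_left _ hp
  refine ideal_eq_top_of_unit_leading_mem I _ hmem ?_ hI
  have hrev : g.reflect D = g.reverse := rfl
  have hne : g.coeff 0 ≠ 0 := hg0.ne_zero
  rw [mul_comm, leadingCoeff_mul_X_pow, hrev, reverse_leadingCoeff, Polynomial.trailingCoeff,
    natTrailingDegree_eq_zero.2 (Or.inr hne)]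
  exact hg0

end Local

end Groth.Agent.Lib.Seat99.HQ
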