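import Groth.Agent.Lib.Seat99HQMonic

/-!
# Descent of equivalences of constant idempotents from a punctured neighbourhood of the zero
section (seat 99)
-/

set_option linter.unusedSectionVars false
set_option linter.unusedVariables false
set_option linter.unusedSimpArgs false

open Polynomial LaurentPolynomial Matrix

namespace Groth.Agent.Lib.Seat99.HQ

universe u

section LaurentDesc

variable {A : Type u} [CommRing A] {n n' : Type*} [Fintype n] [Fintype n'] [DecidableEq n]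
  [DecidableEq n']

/-- If constant idempotents `p`, `p'` become equivalent over `A[T;T⁻¹]_g` with `g(0) = 1` (a
punctured Zariski neighbourhood of the zero section), they are equivalent over `A`. -/
theorem laurent_matrix (p : Matrix n n A) (p' : Matrix n' n' A) (hp : p * p = p) (hp' : p' * p' = p')
    (g : A[X]) (hg0 : g.coeff 0 = 1) (X' : Matrix n' n A[T;T⁻¹]) (Y' : Matrix n n' A[T;T⁻¹])
    (hYX : Y' * X' = toL g • (p.map (Polynomial.C : A →+* A[X])).map (toL (A := A)))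
    (hXY : X' * Y' = toL g • (p'.map (Polynomial.C : A →+* A[X])).map (toL (A := A))) :
    ∃ (X₀ : Matrix n' n A) (Y₀ : Matrix n n' A), Y₀ * X₀ = p ∧ X₀ * Y₀ = p' := by
  classical
  have hab : IsCoprime (X : A[X]) g := by
    refine ⟨-g.divX, 1, ?_⟩
    have := Polynomial.divX_mul_X_add g
    rw [hg0, map_one] at this
    linear_combination (-1 : A[X]) * this
  -- the rings
  have ha : LocLike (toL (A := A)) (Submonoid.powers (X : A[X])) :=
    LocLike.of_isLocalization (S := A[T;T⁻¹]) (Submonoid.powers (X : A[X]))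
  have hb : LocLike (algebraMap A[X] (Localization.Away g)) (Submonoid.powers g) :=
    LocLike.of_isLocalization _
  have hua : IsUnit (algebraMap A[X] (Localization.Away (X * g)) X) :=
    IsLocalization.Away.isUnit_of_dvd (X * g) ⟨g, rfl⟩
  have hub : IsUnit (algebraMap A[X] (Localization.Away (X * g)) g) :=
    IsLocalization.Away.isUnit_of_dvd (X * g) ⟨X, mul_comm _ _⟩
  obtain ⟨fa, hfa⟩ : ∃ fa : A[T;T⁻¹] →+* Localization.Away (X * g),
      fa.comp (toL (A := A)) = algebraMap A[X] (Localization.Away (X * g)) :=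
    ⟨IsLocalization.Away.lift (S := A[T;T⁻¹]) (X : A[X]) hua,
      IsLocalization.Away.lift_comp (S := A[T;T⁻¹]) (X : A[X]) hua⟩
  obtain ⟨fb, hfb⟩ : ∃ fb : Localization.Away g →+* Localization.Away (X * g),
      fb.comp (algebraMap A[X] (Localization.Away g)) =
        algebraMap A[X] (Localization.Away (X * g)) :=
    ⟨IsLocalization.Away.lift g hub, IsLocalization.Away.lift_comp g hub⟩
  have hLab : LocLike (algebraMap A[X] (Localization.Away (X * g))) (Submonoid.powers (X * g)) :=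
    LocLike.of_isLocalization _
  have hLba : LocLike (algebraMap A[X] (Localization.Away (X * g))) (Submonoid.powers (g * X)) := by
    have h5 : Submonoid.powers (g * X) = Submonoid.powers (X * g) := by rw [mul_comm]
    rw [h5]; exact hLab
  have hLfa := LocLike.of_comp _ _ fa X g ha hLab hfa
  have hLfb := LocLike.of_comp _ _ fb g X hb hLba hfb
  have hfa' : ∀ q, fa (toL q) = algebraMap A[X] (Localization.Away (X * g)) q :=
    fun q => congrArg (fun h => h q) hfa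
  have hunit : IsUnit (fa (toL g)) := by rw [hfa']; exact hub
  obtain ⟨υ, hυ⟩ := hunit.exists_left_inv
  -- the gluing data
  obtain ⟨Ea, hEa⟩ : ∃ Ea : Matrix n n A[T;T⁻¹],
      Ea = (p.map (Polynomial.C : A →+* A[X])).map (toL (A := A)) := ⟨_, rfl⟩
  obtain ⟨Eb, hEb⟩ : ∃ Eb : Matrix n' n' (Localization.Away g),
      Eb = (p'.map (Polynomial.C : A →+* A[X])).map (algebraMap A[X] (Localization.Away g)) :=
    ⟨_, rfl⟩
  have hEaa : Ea * Ea = Ea := by rw [hEa, ← Matrix.map_mul, ← Matrix.map_mul, hp]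
  have hEbb : Eb * Eb = Eb := by rw [hEb, ← Matrix.map_mul, ← Matrix.map_mul, hp']
  obtain ⟨Xg, hXg⟩ : ∃ Xg : Matrix n' n (Localization.Away (X * g)), Xg = X'.map fa := ⟨_, rfl⟩
  obtain ⟨Yg, hYg⟩ : ∃ Yg : Matrix n n' (Localization.Away (X * g)), Yg = υ • Y'.map fa :=
    ⟨_, rfl⟩
  have hYXg : Yg * Xg = Ea.map fa := by
    rw [hYg, hXg, Matrix.smul_mul, ← Matrix.map_mul, hYX, map_smul_hom, smul_smul, hυ, one_smul,
      hEa]
  have hXYg : Xg * Yg = Eb.map fb := by
    have e1 : ((p'.map (Polynomial.C : A →+* A[X])).map (toL (A := A))).map fa = Eb.map fb := by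
      rw [hEb, map_map_hom _ (toL (A := A)) fa, map_map_hom _ (algebraMap A[X] _) fb, hfa, hfb]
    rw [hYg, hXg, Matrix.mul_smul, ← Matrix.map_mul, hXY, map_smul_hom, smul_smul, hυ, one_smul,
      e1]
  obtain ⟨E, hEE, ⟨Ua, Va, hVUa, hUVa⟩, ⟨Ub, Vb, hVUb, hUVb⟩⟩ :=
    glue_idem (toL (A := A)) (algebraMap A[X] (Localization.Away g)) fa fb X g hab ha hb hLfa hLfb
      (hfa.trans hfb.symm) Ea Eb hEaa hEbb Xg Yg hYXg hXYg
  -- affine Horrocks
  let D : PData A (n ⊕ n') n :=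
    { E := E
      F := p.map (Polynomial.C : A →+* A[X])
      Xm := Ua
      Ym := Va
      hE := hEE
      hF := by rw [← Matrix.map_mul, hp]
      hYX := hVUa
      hXY := by rw [hUVa, hEa, map_C_map_toL'] }
  obtain ⟨U, V, hVU, hUV⟩ := horrocks_matrix D
  change V * U = E at hVU
  change U * V = (E.map (Polynomial.evalRingHom 0)).map (Polynomial.C : A →+* A[X]) at hUV
  -- evaluation maps
  obtain ⟨ε₁, hε₁⟩ : ∃ ε₁ : A[T;T⁻¹] →+* A, ε₁.comp (toL (A := A)) = Polynomial.evalRingHom 1 := by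
    have h1 : IsUnit ((Polynomial.evalRingHom (1 : A)) X) := by simp
    exact ⟨IsLocalization.Away.lift (S := A[T;T⁻¹]) (X : A[X]) h1,
      IsLocalization.Away.lift_comp (S := A[T;T⁻¹]) (X : A[X]) h1⟩
  obtain ⟨ε₀, hε₀⟩ : ∃ ε₀ : Localization.Away g →+* A,
      ε₀.comp (algebraMap A[X] (Localization.Away g)) = Polynomial.evalRingHom 0 := by
    have h1 : IsUnit ((Polynomial.evalRingHom (0 : A)) g) := by
      rw [Polynomial.coe_evalRingHom, ← Polynomial.coeff_zero_eq_eval_zero, hg0]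
      exact isUnit_one
    exact ⟨IsLocalization.Away.lift g h1, IsLocalization.Away.lift_comp g h1⟩
  have hCev : ∀ (c : A) (q : Matrix n n A),
      (q.map (Polynomial.C : A →+* A[X])).map (Polynomial.evalRingHom c) = q := by
    intro c q
    ext i j
    simp
  have hCev' : ∀ (c : A) (q : Matrix n' n' A),
      (q.map (Polynomial.C : A →+* A[X])).map (Polynomial.evalRingHom c) = q := by
    intro c q
    ext i j
    simp
  have hCev'' : ∀ (c : A) (q : Matrix (n ⊕ n') (n ⊕ n') A),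
      (q.map (Polynomial.C : A →+* A[X])).map (Polynomial.evalRingHom c) = q := by
    intro c q
    ext i j
    simp
  obtain ⟨E1, hE1⟩ : ∃ E1, E1 = E.map (Polynomial.evalRingHom (1 : A)) := ⟨_, rfl⟩
  obtain ⟨E0, hE0⟩ : ∃ E0, E0 = E.map (Polynomial.evalRingHom (0 : A)) := ⟨_, rfl⟩
  obtain ⟨P1, hP1⟩ : ∃ P1, P1 = Ua.map ε₁ := ⟨_, rfl⟩
  obtain ⟨Q1, hQ1⟩ : ∃ Q1, Q1 = Va.map ε₁ := ⟨_, rfl⟩
  obtain ⟨P2, hP2⟩ : ∃ P2, P2 = U.map (Polynomial.evalRingHom (1 : A)) := ⟨_, rfl⟩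
  obtain ⟨Q2, hQ2⟩ : ∃ Q2, Q2 = V.map (Polynomial.evalRingHom (1 : A)) := ⟨_, rfl⟩
  obtain ⟨P3, hP3⟩ : ∃ P3, P3 = Ub.map ε₀ := ⟨_, rfl⟩
  obtain ⟨Q3, hQ3⟩ : ∃ Q3, Q3 = Vb.map ε₀ := ⟨_, rfl⟩
  have a1 : Q1 * P1 = E1 := by
    rw [hQ1, hP1, ← Matrix.map_mul, hVUa, map_map_hom, hε₁, hE1]
  have a2 : P1 * Q1 = p := by
    rw [hQ1, hP1, ← Matrix.map_mul, hUVa, hEa, map_map_hom, hε₁, hCev]
  have b1 : Q2 * P2 = E1 := by
    rw [hQ2, hP2, ← Matrix.map_mul, hVU, hE1]
  have b2 : P2 * Q2 = E0 := by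
    rw [hQ2, hP2, ← Matrix.map_mul, hUV, hCev'', hE0]
  have c1 : Q3 * P3 = E0 := by
    rw [hQ3, hP3, ← Matrix.map_mul, hVUb, map_map_hom, hε₀, hE0]
  have c2 : P3 * Q3 = p' := by
    rw [hQ3, hP3, ← Matrix.map_mul, hUVb, hEb, map_map_hom, hε₀, hCev']
  refine ⟨P3 * P2 * Q1, P1 * Q2 * Q3, ?_, ?_⟩
  · calc P1 * Q2 * Q3 * (P3 * P2 * Q1) = P1 * Q2 * (Q3 * P3) * P2 * Q1 := by
          simp only [Matrix.mul_assoc]
      _ = P1 * (Q2 * P2) * (Q2 * P2) * Q1 := by rw [c1, ← b2]; simp only [Matrix.mul_assoc]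
      _ = (P1 * Q1) * (P1 * Q1) * (P1 * Q1) := by rw [b1, ← a1]; simp only [Matrix.mul_assoc]
      _ = p := by rw [a2, hp, hp]
  · calc P3 * P2 * Q1 * (P1 * Q2 * Q3) = P3 * P2 * (Q1 * P1) * Q2 * Q3 := by
          simp only [Matrix.mul_assoc]
      _ = P3 * (P2 * Q2) * (P2 * Q2) * Q3 := by rw [a1, ← b1]; simp only [Matrix.mul_assoc]
      _ = (P3 * Q3) * (P3 * Q3) * (P3 * Q3) := by rw [b2, ← c1]; simp only [Matrix.mul_assoc]
      _ = p' := by rw [c2, hp', hp']

end LaurentDesc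

end Groth.Agent.Lib.Seat99.HQ
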