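import Groth.Agent.Lib.Seat99HQLaurentDesc
import Groth.Agent.Lib.Seat99ApproxLaurent

/-!
# Isomorphisms of finite projective `R`-modules descend from `R((t))` (seat 99)
-/

set_option linter.unusedSectionVars false
set_option linter.unusedVariables false
set_option linter.unusedSimpArgs false

open Polynomial LaurentPolynomial Matrix

namespace Groth.Agent.Lib.Seat99.HQ

universe u

open Groth.Agent.Lib.Seat99.Approx

section LS

variable {R : Type u} [CommRing R] {n n' : Type*} [Fintype n] [Fintype n'] [DecidableEq n]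
  [DecidableEq n']

/-- `R[X] → R((t))`. -/
noncomputable def polyToLS (R : Type u) [CommRing R] : R[X] →+* LaurentSeries R :=
  (HahnSeries.ofPowerSeries ℤ R).comp Polynomial.coeToPowerSeries.ringHom

theorem polyToLS_apply (p : R[X]) :
    polyToLS R p = HahnSeries.ofPowerSeries ℤ R (p : PowerSeries R) := rfl

theorem polyToLS_C (x : R) : polyToLS R (Polynomial.C x) = HahnSeries.C x := by
  rw [polyToLS_apply, Polynomial.coe_C, HahnSeries.ofPowerSeries_C]

theorem isUnit_polyToLS {s : R[X]} (hs : s ∈ monoidT R) : IsUnit (polyToLS R s) := by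
  induction hs using Submonoid.closure_induction with
  | mem x hx =>
    rcases hx with hx | hx
    · have h1 : IsUnit ((x : R[X]) : PowerSeries R) := by
        rw [PowerSeries.isUnit_iff_constantCoeff, ← PowerSeries.coeff_zero_eq_constantCoeff_apply,
          Polynomial.coeff_coe]
        have : x.coeff 0 = 1 := hx
        rw [this]
        exact isUnit_one
      rw [polyToLS_apply]
      exact h1.map (HahnSeries.ofPowerSeries ℤ R)
    · rw [Set.mem_singleton_iff] at hx
      rw [hx, polyToLS_apply, Polynomial.coe_X, HahnSeries.ofPowerSeries_X]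
      refine IsUnit.of_mul_eq_one (HahnSeries.single (-1 : ℤ) (1 : R)) ?_
      rw [HahnSeries.single_mul_single]
      simp
  | one => rw [map_one]; exact isUnit_one
  | mul x y _ _ hx hy => rw [map_mul]; exact hx.mul hy

/-- **Matrix form**: equivalences of constant idempotents descend from `R((t))` to `R`. -/
theorem laurentSeries_matrix (p : Matrix n n R) (p' : Matrix n' n' R) (hp : p * p = p)
    (hp' : p' * p' = p') (Xs : Matrix n' n (LaurentSeries R)) (Ys : Matrix n n' (LaurentSeries R))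
    (hYX : Ys * Xs = p.map (HahnSeries.C : R →+* LaurentSeries R))
    (hXY : Xs * Ys = p'.map (HahnSeries.C : R →+* LaurentSeries R)) :
    ∃ (X₀ : Matrix n' n R) (Y₀ : Matrix n n' R), Y₀ * X₀ = p ∧ X₀ * Y₀ = p' := by
  classical
  -- the ring `L₀` and its map to `R((t))`
  let L₀ := Localization (monoidT R)
  let ψ : L₀ →+* LaurentSeries R :=
    IsLocalization.lift (M := monoidT R) (g := polyToLS R) (fun s => isUnit_polyToLS s.2)
  letI : Algebra L₀ (LaurentSeries R) := ψ.toAlgebra
  have hψ : ∀ q : R[X], algebraMap L₀ (LaurentSeries R) (algebraMap R[X] L₀ q) = polyToLS R q :=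
    fun q => IsLocalization.lift_eq _ q
  have he : ∀ q : R[X], (RingEquiv.refl (LaurentSeries R))
      (algebraMap L₀ (LaurentSeries R) (algebraMap R[X] L₀ q)) =
      HahnSeries.ofPowerSeries ℤ R (Polynomial.coeToPowerSeries.ringHom q) := fun q => hψ q
  let S := laurentSetup L₀ (LaurentSeries R) (RingEquiv.refl _) he
  have hSι : S.ι = algebraMap L₀ (LaurentSeries R) := rfl
  obtain ⟨φ, hφdef⟩ : ∃ φ, φ = algebraMap R[X] L₀ := ⟨_, rfl⟩
  have hιC : ((p.map (Polynomial.C : R →+* R[X])).map φ).map S.ι =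
        p.map (HahnSeries.C : R →+* LaurentSeries R) := by
    ext i j
    simp only [Matrix.map_apply, hSι, hφdef, hψ, polyToLS_C]
  have hιC' : ((p'.map (Polynomial.C : R →+* R[X])).map φ).map S.ι =
        p'.map (HahnSeries.C : R →+* LaurentSeries R) := by
    ext i j
    simp only [Matrix.map_apply, hSι, hφdef, hψ, polyToLS_C]
  have hE₀ : (p.map (Polynomial.C : R →+* R[X])).map φ * (p.map (Polynomial.C : R →+* R[X])).map φ =
      (p.map (Polynomial.C : R →+* R[X])).map φ := by
    rw [← Matrix.map_mul, ← Matrix.map_mul, hp]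
  have hE₀' : (p'.map (Polynomial.C : R →+* R[X])).map φ *
      (p'.map (Polynomial.C : R →+* R[X])).map φ = (p'.map (Polynomial.C : R →+* R[X])).map φ := by
    rw [← Matrix.map_mul, ← Matrix.map_mul, hp']
  -- step A: descend to `L₀`
  obtain ⟨X₁, Y₁, hYX₁, hXY₁⟩ := S.exists_descent_of_idempotents _ _ hE₀ hE₀' Xs Ys
    (by rw [hYX, hιC]) (by rw [hXY, hιC'])
  -- step B: clear denominators
  have hφ : LocLike φ (monoidT R) := by rw [hφdef]; exact LocLike.of_isLocalization _
  obtain ⟨f₁, hf₁, X₂, hX₂⟩ := hφ.matrix_surj X₁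
  obtain ⟨f₂, hf₂, Y₂, hY₂⟩ := hφ.matrix_surj Y₁
  have k1 : (Y₂ * X₂ - (f₂ * f₁) • p.map (Polynomial.C : R →+* R[X])).map φ = 0 := by
    rw [Matrix.map_sub _ (map_sub φ), Matrix.map_mul, hY₂, hX₂, map_smul_hom, Matrix.smul_mul,
      Matrix.mul_smul, smul_smul, hYX₁, map_mul, sub_self]
  have k2 : (X₂ * Y₂ - (f₁ * f₂) • p'.map (Polynomial.C : R →+* R[X])).map φ = 0 := by
    rw [Matrix.map_sub _ (map_sub φ), Matrix.map_mul, hY₂, hX₂, map_smul_hom, Matrix.smul_mul,
      Matrix.mul_smul, smul_smul, hXY₁, map_mul, sub_self]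
  obtain ⟨f₃, hf₃, h3⟩ := hφ.matrix_ker _ k1
  obtain ⟨f₄, hf₄, h4⟩ := hφ.matrix_ker _ k2
  rw [smul_sub, sub_eq_zero] at h3 h4
  have hfm : f₃ * f₄ * (f₁ * f₂) ∈ monoidT R :=
    (monoidT R).mul_mem ((monoidT R).mul_mem hf₃ hf₄) ((monoidT R).mul_mem hf₁ hf₂)
  obtain ⟨k, q, hkq, hq0⟩ := exists_eq_X_pow_mul_of_mem_monoidT hfm
  have e1 : Y₂ * ((f₃ * f₄) • X₂) = (X ^ k * q) • p.map (Polynomial.C : R →+* R[X]) := by
    rw [← hkq, Matrix.mul_smul, mul_comm f₃ f₄, mul_smul, h3, smul_smul, smul_smul]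
    congr 1; ring
  have e2 : ((f₃ * f₄) • X₂) * Y₂ = (X ^ k * q) • p'.map (Polynomial.C : R →+* R[X]) := by
    rw [← hkq, Matrix.smul_mul, mul_smul, h4, smul_smul, smul_smul]
  have hT : (T (-(k : ℤ)) : R[T;T⁻¹]) * toL (X ^ k * q) = toL q := by
    rw [map_mul, map_pow, Polynomial.toLaurent_X, LaurentPolynomial.T_pow, ← mul_assoc,
      ← LaurentPolynomial.T_add]
    simp
  refine laurent_matrix p p' hp hp' q hq0 (((f₃ * f₄) • X₂).map (toL (A := R)))
    ((T (-(k : ℤ)) : R[T;T⁻¹]) • Y₂.map (toL (A := R))) ?_ ?_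
  · rw [Matrix.smul_mul, ← Matrix.map_mul, e1, map_smul_hom, smul_smul, hT]
  · rw [Matrix.mul_smul, ← Matrix.map_mul, e2, map_smul_hom, smul_smul, hT]

end LS

end Groth.Agent.Lib.Seat99.HQ
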