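import Groth.Agent.Lib.Seat99HQModule

/-!
# Zariski local freeness of extended modules (seat 99)
-/

set_option linter.unusedSectionVars false
set_option linter.unusedVariables false
set_option linter.unusedSimpArgs false

open Polynomial TensorProduct Matrix

namespace Groth.Agent.Lib.Seat99.HQ

universe u v

section LocFree

variable {R : Type u} [CommRing R]

/-- The image of an idempotent matrix is a finite projective module. -/
theorem range_toLin'_projective {a : ℕ} (e₀ : Matrix (Fin a) (Fin a) R) (he₀ : e₀ * e₀ = e₀) :
    Module.Projective R (LinearMap.range (Matrix.toLin' e₀)) := by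
  refine Module.Projective.of_split (LinearMap.range (Matrix.toLin' e₀)).subtype
    (Matrix.toLin' e₀).rangeRestrict ?_
  apply LinearMap.ext
  rintro ⟨p, v, rfl⟩
  apply Subtype.ext
  show Matrix.toLin' e₀ (Matrix.toLin' e₀ v) = Matrix.toLin' e₀ v
  rw [← Matrix.toLin'_mul_apply, he₀]

/-- A finite projective module is free on the members of a finite Zariski cover. -/
theorem exists_cover_free (P₀ : Type v) [AddCommGroup P₀] [Module R P₀] [Module.Finite R P₀]
    [Module.Projective R P₀] :
    ∃ (n : ℕ) (g : Fin n → R), Ideal.span (Set.range g) = ⊤ ∧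
      ∀ i, Module.Free (Localization.Away (g i)) (LocalizedModule.Away (g i) P₀) := by
  classical
  let T : Set R := {r | Module.Free (Localization.Away r) (LocalizedModule.Away r P₀)}
  have hT : Ideal.span T = ⊤ := by
    by_contra h
    obtain ⟨m, hm, hTm⟩ := Ideal.exists_le_maximal _ h
    let x : PrimeSpectrum R := ⟨m, hm.isPrime⟩
    have hx : x ∈ Module.freeLocus R P₀ := by rw [Module.freeLocus_eq_univ]; trivial
    have : Module.Free (Localization.AtPrime x.asIdeal)
      (LocalizedModule x.asIdeal.primeCompl P₀) := hx
    haveI : Module.FinitePresentation R P₀ := Module.finitePresentation_of_projective R P₀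
    obtain ⟨r, hr, hfree, _⟩ := Module.FinitePresentation.exists_free_localizedModule_powers
      x.asIdeal.primeCompl (LocalizedModule.mkLinearMap x.asIdeal.primeCompl P₀)
      (Localization.AtPrime x.asIdeal)
    exact hr (hTm (Ideal.subset_span hfree))
  obtain ⟨T', hT'sub, hT'⟩ := (Ideal.span_eq_top_iff_finite T).1 hT
  refine ⟨T'.card, fun i => (T'.equivFin.symm i : R), ?_, fun i => hT'sub (T'.equivFin.symm i).2⟩
  have : Set.range (fun i => (T'.equivFin.symm i : R)) = ↑T' := by
    ext r
    constructor
    · rintro ⟨i, rfl⟩
      exact (T'.equivFin.symm i).2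
    · intro hr
      exact ⟨T'.equivFin ⟨r, hr⟩, by simp⟩
  rw [this, hT']

/-- If `P ≅ A ⊗[R] P₀` and `P₀` is free after inverting `g`, then `P` is free after inverting `g`. -/
theorem free_localizedModule_of_extended {A : Type u} [CommRing A] [Algebra R A]
    (P₀ : Type u) [AddCommGroup P₀] [Module R P₀] (P : Type u) [AddCommGroup P] [Module A P]
    (ψ : P ≃ₗ[A] A ⊗[R] P₀) (g : R)
    [Module.Free (Localization.Away g) (LocalizedModule.Away g P₀)] :
    Module.Free (Localization.Away (algebraMap R A g))
      (LocalizedModule (Submonoid.powers (algebraMap R A g)) P) := by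
  have hu : IsUnit (algebraMap R (Localization.Away (algebraMap R A g)) g) := by
    rw [IsScalarTower.algebraMap_apply R A (Localization.Away (algebraMap R A g))]
    exact IsLocalization.Away.algebraMap_isUnit (algebraMap R A g)
  letI : Algebra (Localization.Away g) (Localization.Away (algebraMap R A g)) :=
    (IsLocalization.Away.lift g hu).toAlgebra
  haveI : IsScalarTower R (Localization.Away g) (Localization.Away (algebraMap R A g)) :=
    IsScalarTower.of_algebraMap_eq (fun x => (IsLocalization.Away.lift_eq g hu x).symm)
  let e1 : Localization.Away (algebraMap R A g) ⊗[A] P ≃ₗ[Localization.Away (algebraMap R A g)]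
      LocalizedModule (Submonoid.powers (algebraMap R A g)) P :=
    (IsLocalizedModule.isBaseChange (Submonoid.powers (algebraMap R A g))
      (Localization.Away (algebraMap R A g))
      (LocalizedModule.mkLinearMap (Submonoid.powers (algebraMap R A g)) P)).equiv
  let e2 : Localization.Away (algebraMap R A g) ⊗[A] P ≃ₗ[Localization.Away (algebraMap R A g)]
      Localization.Away (algebraMap R A g) ⊗[A] (A ⊗[R] P₀) :=
    TensorProduct.AlgebraTensorModule.congr (LinearEquiv.refl _ _) ψ
  let e3 : Localization.Away (algebraMap R A g) ⊗[A] (A ⊗[R] P₀)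
      ≃ₗ[Localization.Away (algebraMap R A g)] Localization.Away (algebraMap R A g) ⊗[R] P₀ :=
    TensorProduct.AlgebraTensorModule.cancelBaseChange R A (Localization.Away (algebraMap R A g))
      (Localization.Away (algebraMap R A g)) P₀
  let e4 : Localization.Away (algebraMap R A g) ⊗[Localization.Away g]
      (Localization.Away g ⊗[R] P₀) ≃ₗ[Localization.Away (algebraMap R A g)]
      Localization.Away (algebraMap R A g) ⊗[R] P₀ :=
    TensorProduct.AlgebraTensorModule.cancelBaseChange R (Localization.Away g)
      (Localization.Away (algebraMap R A g)) (Localization.Away (algebraMap R A g)) P₀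
  let e5 : Localization.Away g ⊗[R] P₀ ≃ₗ[Localization.Away g] LocalizedModule.Away g P₀ :=
    (IsLocalizedModule.isBaseChange (Submonoid.powers g) (Localization.Away g)
      (LocalizedModule.mkLinearMap (Submonoid.powers g) P₀)).equiv
  let e6 : Localization.Away (algebraMap R A g) ⊗[Localization.Away g]
      (Localization.Away g ⊗[R] P₀) ≃ₗ[Localization.Away (algebraMap R A g)]
      Localization.Away (algebraMap R A g) ⊗[Localization.Away g] (LocalizedModule.Away g P₀) :=
    TensorProduct.AlgebraTensorModule.congr (LinearEquiv.refl _ _) e5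
  exact Module.Free.of_equiv (e6.symm ≪≫ₗ e4 ≪≫ₗ e3.symm ≪≫ₗ e2.symm ≪≫ₗ e1)

end LocFree

end Groth.Agent.Lib.Seat99.HQ
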