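import Groth.Agent.Lib.Seat99HQLaurent

/-!
# Horrocks–Quillen, part 1: local Horrocks in matrix form (seat 99)

A "vector bundle on the projective line over `A`" is encoded by `PData`: idempotent matrices `E`
over `A[t]` and `F` over `A[s]` and a pair of matrices `Xm`, `Ym` over `A[T;T⁻¹]` with
`Ym * Xm = E(T)` and `Xm * Ym = F(T⁻¹)`.
-/

set_option linter.unusedSectionVars false
set_option linter.unusedVariables false

open Polynomial LaurentPolynomial Matrix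

namespace Groth.Agent.Lib.Seat99.HQ

universe u

variable {A : Type*} [CommRing A]
variable {n n' : Type*} [Fintype n] [Fintype n'] [DecidableEq n] [DecidableEq n']

/-- Matrix data of a vector bundle on `ℙ¹_A`. -/
structure PData (A : Type*) [CommRing A] (n n' : Type*) [Fintype n] [Fintype n']
    [DecidableEq n] [DecidableEq n'] where
  E : Matrix n n A[X]
  F : Matrix n' n' A[X]
  Xm : Matrix n' n A[T;T⁻¹]
  Ym : Matrix n n' A[T;T⁻¹]
  hE : E * E = E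
  hF : F * F = F
  hYX : Ym * Xm = E.map toL
  hXY : Xm * Ym = F.map toL'

namespace PData

variable (D : PData A n n')

/-- `E(T)` -/
noncomputable abbrev Ep : Matrix n n A[T;T⁻¹] := D.E.map toL
/-- `F(T⁻¹)` -/
noncomputable abbrev Fm : Matrix n' n' A[T;T⁻¹] := D.F.map toL'

theorem hEp : D.Ep * D.Ep = D.Ep := by
  rw [Ep, ← Matrix.map_mul, D.hE]

theorem hFm : D.Fm * D.Fm = D.Fm := by
  rw [Fm, ← Matrix.map_mul, D.hF]

theorem Ym_Fm : D.Ym * D.Fm = D.Ep * D.Ym := by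
  unfold Ep Fm
  rw [← D.hXY, ← D.hYX, Matrix.mul_assoc]

theorem Xm_Ep : D.Xm * D.Ep = D.Fm * D.Xm := by
  unfold Ep Fm
  rw [← D.hXY, ← D.hYX, Matrix.mul_assoc]

theorem Ep_Ym_Fm : D.Ep * D.Ym * D.Fm = D.Ep * D.Ym := by
  rw [Matrix.mul_assoc, D.Ym_Fm, ← Matrix.mul_assoc, D.hEp]

theorem toL_mulVec (x : n → A[X]) : toL ∘ (D.E *ᵥ x) = D.Ep *ᵥ (toL ∘ x) := by
  funext a
  exact RingHom.map_mulVec toL D.E x a

theorem toL'_mulVec (w : n' → A[X]) : toL' ∘ (D.F *ᵥ w) = D.Fm *ᵥ (toL' ∘ w) := by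
  funext a
  exact RingHom.map_mulVec toL' D.F w a

/-- The mirrored data (swap the two charts). -/
noncomputable def mirror : PData A n' n where
  E := D.F
  F := D.E
  Xm := D.Ym.map (LaurentPolynomial.invert (R := A))
  Ym := D.Xm.map (LaurentPolynomial.invert (R := A))
  hE := D.hF
  hF := D.hE
  hYX := by
    rw [← Matrix.map_mul, D.hXY, Matrix.map_map]
    congr 1
    funext p
    exact invert_toL' p
  hXY := by
    rw [← Matrix.map_mul, D.hYX, Matrix.map_map]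
    rfl

/-- Twist by `O(c)`. -/
noncomputable def twist (c : ℤ) : PData A n n' where
  E := D.E
  F := D.F
  Xm := (T (-c) : A[T;T⁻¹]) • D.Xm
  Ym := (T c : A[T;T⁻¹]) • D.Ym
  hE := D.hE
  hF := D.hF
  hYX := by
    rw [Matrix.smul_mul, Matrix.mul_smul, smul_smul, ← T_add, add_neg_cancel, T_zero, one_smul,
      D.hYX]
  hXY := by
    rw [Matrix.smul_mul, Matrix.mul_smul, smul_smul, ← T_add, neg_add_cancel, T_zero, one_smul,
      D.hXY]

end PData

section Submodules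

/-- An `A`-submodule of `L^n` stable under all `T^e` is stable under `L`. -/
theorem smul_mem_of_T_smul_mem (P : Submodule A (n → A[T;T⁻¹])) (y : n → A[T;T⁻¹])
    (h : ∀ e : ℤ, (T e : A[T;T⁻¹]) • y ∈ P) (q : A[T;T⁻¹]) : q • y ∈ P := by
  induction q using LaurentPolynomial.induction_on' with
  | add p q hp hq => rw [add_smul]; exact P.add_mem hp hq
  | C_mul_T e a =>
    have h1 : (LaurentPolynomial.C a * T e : A[T;T⁻¹]) • y = a • ((T e : A[T;T⁻¹]) • y) := by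
      funext b
      simp only [Pi.smul_apply, smul_eq_mul, LaurentPolynomial.smul_eq_C_mul, mul_assoc]
    rw [h1]
    exact P.smul_mem a (h e)

variable (D : PData A n n')

/-- `{v | E(T) v = v}` as an `A`-submodule. -/
def VA : Submodule A (n → A[T;T⁻¹]) where
  carrier := {v | D.Ep *ᵥ v = v}
  add_mem' := by
    intro a b ha hb
    show D.Ep *ᵥ (a + b) = a + b
    rw [Matrix.mulVec_add, ha, hb]
  zero_mem' := by simp
  smul_mem' := by
    intro c v hv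
    show D.Ep *ᵥ (c • v) = c • v
    rw [Matrix.mulVec_smul, hv]

theorem mem_VA {v : n → A[T;T⁻¹]} : v ∈ VA D ↔ D.Ep *ᵥ v = v := Iff.rfl

theorem smul_mem_VA {v : n → A[T;T⁻¹]} (hv : v ∈ VA D) (q : A[T;T⁻¹]) : q • v ∈ VA D := by
  rw [mem_VA] at hv ⊢
  rw [Matrix.mulVec_smul, hv]

theorem toL_smul_vec (a : A) (x : n → A[X]) :
    (toL ∘ (Polynomial.C a • x) : n → A[T;T⁻¹]) = a • (toL ∘ x) := by
  funext b
  simp only [Function.comp_apply, Pi.smul_apply, smul_eq_mul, map_mul,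
    LaurentPolynomial.smul_eq_C_mul, toLaurent_C]

theorem toL'_smul_vec (a : A) (x : n' → A[X]) :
    (toL' ∘ (Polynomial.C a • x) : n' → A[T;T⁻¹]) = a • (toL' ∘ x) := by
  funext b
  simp only [Function.comp_apply, Pi.smul_apply, smul_eq_mul, map_mul,
    LaurentPolynomial.smul_eq_C_mul, toL'_C]

theorem toL_add_vec (x y : n → A[X]) :
    (toL ∘ (x + y) : n → A[T;T⁻¹]) = toL ∘ x + toL ∘ y := by
  funext b; simp

theorem toL'_add_vec (x y : n' → A[X]) :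
    (toL' ∘ (x + y) : n' → A[T;T⁻¹]) = toL' ∘ x + toL' ∘ y := by
  funext b; simp

/-- The image of `M = {x | E x = x}` in `L^n`. -/
def Mp : Submodule A (n → A[T;T⁻¹]) where
  carrier := {v | ∃ x : n → A[X], D.E *ᵥ x = x ∧ v = toL ∘ x}
  add_mem' := by
    rintro _ _ ⟨x, hx, rfl⟩ ⟨y, hy, rfl⟩
    exact ⟨x + y, by rw [Matrix.mulVec_add, hx, hy], (toL_add_vec x y).symm⟩
  zero_mem' := ⟨0, by simp, by funext b; simp⟩
  smul_mem' := by
    rintro c _ ⟨x, hx, rfl⟩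
    exact ⟨Polynomial.C c • x, by rw [Matrix.mulVec_smul, hx], (toL_smul_vec c x).symm⟩

/-- The image of `N = {w | F w = w}` in `L^n`. -/
def Np : Submodule A (n → A[T;T⁻¹]) where
  carrier := {v | ∃ w : n' → A[X], D.F *ᵥ w = w ∧ v = D.Ym *ᵥ (toL' ∘ w)}
  add_mem' := by
    rintro _ _ ⟨x, hx, rfl⟩ ⟨y, hy, rfl⟩
    exact ⟨x + y, by rw [Matrix.mulVec_add, hx, hy], by rw [toL'_add_vec, Matrix.mulVec_add]⟩
  zero_mem' := ⟨0, by simp, by
    have : (toL' ∘ (0 : n' → A[X]) : n' → A[T;T⁻¹]) = 0 := by funext b; simp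
    rw [this, Matrix.mulVec_zero]⟩
  smul_mem' := by
    rintro c _ ⟨x, hx, rfl⟩
    exact ⟨Polynomial.C c • x, by rw [Matrix.mulVec_smul, hx], by
      rw [toL'_smul_vec, Matrix.mulVec_smul]⟩

theorem Mp_le_VA : Mp D ≤ VA D := by
  rintro _ ⟨x, hx, rfl⟩
  rw [mem_VA, ← D.toL_mulVec, hx]

theorem Np_le_VA : Np D ≤ VA D := by
  rintro _ ⟨w, hw, rfl⟩
  rw [mem_VA, Matrix.mulVec_mulVec, ← D.Ym_Fm, ← Matrix.mulVec_mulVec, ← D.toL'_mulVec, hw]

end Submodules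

section Gen

variable (D : PData A n n')

theorem toL_psmul_vec (p : A[X]) (x : n → A[X]) :
    (toL ∘ (p • x) : n → A[T;T⁻¹]) = toL p • (toL ∘ x) := by
  funext b
  simp only [Function.comp_apply, Pi.smul_apply, smul_eq_mul, map_mul]

theorem toL'_psmul_vec (p : A[X]) (x : n' → A[X]) :
    (toL' ∘ (p • x) : n' → A[T;T⁻¹]) = toL' p • (toL' ∘ x) := by
  funext b
  simp only [Function.comp_apply, Pi.smul_apply, smul_eq_mul, map_mul]

theorem toL'_sum_vec {ι : Type*} (s : Finset ι) (f : ι → n' → A[X]) :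
    (toL' ∘ (∑ a ∈ s, f a) : n' → A[T;T⁻¹]) = ∑ a ∈ s, toL' ∘ f a := by
  funext b
  simp only [Function.comp_apply, Finset.sum_apply, map_sum]

theorem toL_sum_vec {ι : Type*} (s : Finset ι) (f : ι → n → A[X]) :
    (toL ∘ (∑ a ∈ s, f a) : n → A[T;T⁻¹]) = ∑ a ∈ s, toL ∘ f a := by
  funext b
  simp only [Function.comp_apply, Finset.sum_apply, map_sum]

theorem toL_sub_vec (x y : n → A[X]) :
    (toL ∘ (x - y) : n → A[T;T⁻¹]) = toL ∘ x - toL ∘ y := by
  funext b; simp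

theorem toL'_sub_vec (x y : n' → A[X]) :
    (toL' ∘ (x - y) : n' → A[T;T⁻¹]) = toL' ∘ x - toL' ∘ y := by
  funext b; simp

/-- The generation lemma: to show `VA ≤ P` it suffices to treat `T^e • Ym w_a` for a family `w_a`
generating `N` modulo `Z`. -/
theorem VA_le_of_gen (P : Submodule A (n → A[T;T⁻¹])) {ι : Type*} [Fintype ι]
    (w : ι → n' → A[X]) (Z : (n' → A[X]) → Prop)
    (hgen : ∀ w', D.F *ᵥ w' = w' → ∃ c : ι → A[X], Z (w' - ∑ a, c a • w a))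
    (h1 : ∀ a (e : ℤ), (T e : A[T;T⁻¹]) • (D.Ym *ᵥ (toL' ∘ w a)) ∈ P)
    (h2 : ∀ z, Z z → ∀ q : A[T;T⁻¹], q • (D.Ym *ᵥ (toL' ∘ z)) ∈ P) : VA D ≤ P := by
  intro v hv
  rw [mem_VA] at hv
  obtain ⟨l, w'', hw''⟩ := exists_T_mul_eq_toL'_vec (D.Xm *ᵥ v)
  set w' := D.F *ᵥ w'' with hw'
  have hFw' : D.F *ᵥ w' = w' := by rw [hw', Matrix.mulVec_mulVec, D.hF]
  have h3 : (toL' ∘ w' : n' → A[T;T⁻¹]) = (T (-(l : ℤ)) : A[T;T⁻¹]) • (D.Xm *ᵥ v) := by
    have h31 : (toL' ∘ w'' : n' → A[T;T⁻¹]) = (T (-(l : ℤ)) : A[T;T⁻¹]) • (D.Xm *ᵥ v) := by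
      funext b
      simp only [Function.comp_apply, Pi.smul_apply, smul_eq_mul]
      exact (hw'' b).symm
    rw [hw', D.toL'_mulVec, h31, Matrix.mulVec_smul, Matrix.mulVec_mulVec, ← D.Xm_Ep,
      ← Matrix.mulVec_mulVec, hv]
  have h4 : v = (T (l : ℤ) : A[T;T⁻¹]) • (D.Ym *ᵥ (toL' ∘ w')) := by
    rw [h3, Matrix.mulVec_smul, smul_smul, ← T_add, add_neg_cancel, T_zero, one_smul,
      Matrix.mulVec_mulVec, D.hYX, hv]
  obtain ⟨c, hc⟩ := hgen w' hFw'
  have h5 : w' = ∑ a, c a • w a + (w' - ∑ a, c a • w a) := by abel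
  rw [h4, h5, toL'_add_vec, Matrix.mulVec_add, smul_add, toL'_sum_vec, Matrix.mulVec_sum,
    Finset.smul_sum]
  refine P.add_mem (P.sum_mem fun a _ => ?_) (h2 _ hc _)
  rw [toL'_psmul_vec, Matrix.mulVec_smul, smul_smul]
  exact smul_mem_of_T_smul_mem P _ (h1 a) _

end Gen

section LocalRing

variable [IsLocalRing A] (D : PData A n n')

/-- The ideal `𝔪·A[T;T⁻¹]`. -/
noncomputable abbrev mL (A : Type*) [CommRing A] [IsLocalRing A] : Ideal A[T;T⁻¹] :=
  (IsLocalRing.maximalIdeal A).map (LaurentPolynomial.C : A →+* A[T;T⁻¹])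

theorem toL_mem_mL {p : A[X]} (hp : p ∈ mX A) : toL p ∈ mL A := by
  have h := Ideal.mem_map_of_mem (toL (A := A)) hp
  rw [mX, Ideal.map_map] at h
  have : (toL (A := A)).comp Polynomial.C = LaurentPolynomial.C := by
    ext a : 1
    exact toLaurent_C a
  rwa [this] at h

theorem toL'_mem_mL {p : A[X]} (hp : p ∈ mX A) : toL' p ∈ mL A := by
  have h := Ideal.mem_map_of_mem (toL' (A := A)) hp
  rw [mX, Ideal.map_map] at h
  have : (toL' (A := A)).comp Polynomial.C = LaurentPolynomial.C := by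
    ext a : 1
    exact toL'_C a
  rwa [this] at h

/-- Vectors with all entries in `𝔪·L`. -/
def mLvec (A : Type*) [CommRing A] [IsLocalRing A] (n : Type*) : Submodule A (n → A[T;T⁻¹]) where
  carrier := {δ | ∀ a, δ a ∈ mL A}
  add_mem' := fun ha hb a => (mL A).add_mem (ha a) (hb a)
  zero_mem' := fun a => (mL A).zero_mem
  smul_mem' := fun c δ hδ a => by
    show c • δ a ∈ mL A
    rw [LaurentPolynomial.smul_eq_C_mul]
    exact (mL A).mul_mem_left _ (hδ a)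

theorem mem_mLvec {δ : n → A[T;T⁻¹]} : δ ∈ mLvec A n ↔ ∀ a, δ a ∈ mL A := Iff.rfl

theorem smul_mem_mLvec {δ : n → A[T;T⁻¹]} (hδ : δ ∈ mLvec A n) (q : A[T;T⁻¹]) :
    q • δ ∈ mLvec A n := fun a => (mL A).mul_mem_left _ (hδ a)

theorem mulVec_mem_mLvec (M : Matrix n n' A[T;T⁻¹]) {δ : n' → A[T;T⁻¹]}
    (hδ : δ ∈ mLvec A n') : M *ᵥ δ ∈ mLvec A n := fun a =>
  (mL A).sum_mem fun b _ => (mL A).mul_mem_left _ (hδ b)

theorem toL_mem_mLvec {x : n → A[X]} (hx : ∀ a, x a ∈ mX A) :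
    (toL ∘ x : n → A[T;T⁻¹]) ∈ mLvec A n := fun a => toL_mem_mL (hx a)

theorem toL'_mem_mLvec {x : n' → A[X]} (hx : ∀ a, x a ∈ mX A) :
    (toL' ∘ x : n' → A[T;T⁻¹]) ∈ mLvec A n' := fun a => toL'_mem_mL (hx a)

/-- Induction principle for `VA ⊓ mLvec`. -/
theorem mem_of_mem_VA_inf_mLvec (P : Submodule A (n → A[T;T⁻¹]))
    (hP : ∀ a ∈ IsLocalRing.maximalIdeal A, ∀ v ∈ VA D, a • v ∈ P)
    {δ : n → A[T;T⁻¹]} (hδ : δ ∈ VA D) (hδ' : δ ∈ mLvec A n) : δ ∈ P := by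
  have key : ∀ r ∈ mL A, ∀ v ∈ VA D, r • v ∈ P := by
    intro r hr
    refine Submodule.span_induction (p := fun r _ => ∀ v ∈ VA D, r • v ∈ P) ?_ ?_ ?_ ?_ hr
    · rintro _ ⟨a, ha, rfl⟩ v hv
      have : (LaurentPolynomial.C a : A[T;T⁻¹]) • v = a • v := by
        funext b
        simp only [Pi.smul_apply, smul_eq_mul, LaurentPolynomial.smul_eq_C_mul]
      rw [this]
      exact hP a ha v hv
    · intro v _
      rw [zero_smul]; exact P.zero_mem
    · intro x y _ _ hx hy v hv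
      rw [add_smul]; exact P.add_mem (hx v hv) (hy v hv)
    · intro q x _ hx v hv
      rw [smul_eq_mul, mul_comm, mul_smul]
      exact hx _ (smul_mem_VA D hv q)
  rw [mem_VA] at hδ
  have hsum : δ = ∑ b, δ b • (D.Ep *ᵥ Pi.single b 1) := by
    conv_lhs => rw [← hδ, pi_eq_sum_univ δ]
    rw [Matrix.mulVec_sum]
    refine Finset.sum_congr rfl fun b _ => ?_
    rw [← Matrix.mulVec_smul]
    congr 1
    funext c
    simp [Pi.single_apply, eq_comm]
  rw [hsum]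
  refine P.sum_mem fun b _ => key _ (hδ' b) _ ?_
  rw [mem_VA, Matrix.mulVec_mulVec, D.hEp]

theorem VA_inf_mLvec_le : VA D ⊓ mLvec A n ≤ IsLocalRing.maximalIdeal A • VA D := by
  rintro δ ⟨h1, h2⟩
  exact mem_of_mem_VA_inf_mLvec D _ (fun a ha v hv => Submodule.smul_mem_smul ha hv) h1 h2

end LocalRing

section Nakayama

variable [IsLocalRing A] (D : PData A n n')

theorem T_neg_smul_Ym (k : ℕ) (w : n' → A[X]) :
    (T (-(k : ℤ)) : A[T;T⁻¹]) • (D.Ym *ᵥ (toL' ∘ w)) = D.Ym *ᵥ (toL' ∘ ((X : A[X]) ^ k • w)) := by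
  rw [toL'_psmul_vec, Matrix.mulVec_smul, toL'_X_pow]

theorem T_smul_toL (k : ℕ) (x : n → A[X]) :
    (T (k : ℤ) : A[T;T⁻¹]) • (toL ∘ x : n → A[T;T⁻¹]) = toL ∘ ((X : A[X]) ^ k • x) := by
  rw [toL_psmul_vec, map_pow, toLaurent_X, T_pow, mul_one]

theorem T_smul_Ym_mem_Np {w : n' → A[X]} (hw : D.F *ᵥ w = w) {e : ℤ} (he : e ≤ 0) :
    (T e : A[T;T⁻¹]) • (D.Ym *ᵥ (toL' ∘ w)) ∈ Np D := by
  obtain ⟨k, rfl⟩ : ∃ k : ℕ, e = -(k : ℤ) := ⟨(-e).toNat, by omega⟩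
  rw [T_neg_smul_Ym]
  exact ⟨X ^ k • w, by rw [Matrix.mulVec_smul, hw], rfl⟩

theorem T_smul_toL_mem_Mp {x : n → A[X]} (hx : D.E *ᵥ x = x) {e : ℤ} (he : 0 ≤ e) :
    (T e : A[T;T⁻¹]) • (toL ∘ x : n → A[T;T⁻¹]) ∈ Mp D := by
  obtain ⟨k, rfl⟩ : ∃ k : ℕ, e = (k : ℤ) := ⟨e.toNat, by omega⟩
  rw [T_smul_toL]
  exact ⟨X ^ k • x, by rw [Matrix.mulVec_smul, hx], rfl⟩

/-- Nakayama: if `V = M + N` modulo `𝔪` then `V = M + N`. -/
theorem VA_le_Mp_sup_Np_of_mod (h : VA D ≤ Mp D ⊔ Np D ⊔ mLvec A n) : VA D ≤ Mp D ⊔ Np D := by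
  classical
  -- the generators `y b` of `N`
  set wcol : n' → n' → A[X] := fun b => D.F *ᵥ Pi.single b 1 with hwcol
  have hFw : ∀ b, D.F *ᵥ wcol b = wcol b := fun b => by
    rw [hwcol]; simp only; rw [Matrix.mulVec_mulVec, D.hF]
  set y : n' → n → A[T;T⁻¹] := fun b => D.Ym *ᵥ (toL' ∘ wcol b) with hy
  have hyV : ∀ b, y b ∈ VA D := fun b => Np_le_VA D ⟨wcol b, hFw b, rfl⟩
  obtain ⟨l, x, hx⟩ := exists_T_mul_eq_toL_vec (fun p : n' × n => y p.1 p.2)
  set xb : n' → n → A[X] := fun b a => x (b, a) with hxb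
  have hTy : ∀ b, (T (l : ℤ) : A[T;T⁻¹]) • y b = toL ∘ xb b := fun b => by
    funext a
    exact hx (b, a)
  have hExb : ∀ b, D.E *ᵥ xb b = xb b := fun b => by
    have h1 : (toL ∘ xb b : n → A[T;T⁻¹]) ∈ VA D := by
      rw [← hTy]; exact smul_mem_VA D (hyV b) _
    rw [mem_VA, ← D.toL_mulVec] at h1
    funext a
    exact toL_injective (congrFun h1 a)
  -- the finitely generated part
  set N' : Submodule A (n → A[T;T⁻¹]) :=
    Submodule.span A (Set.range fun p : Fin (l + 1) × n' => (T ((p.1 : ℕ) : ℤ) : A[T;T⁻¹]) • y p.2)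
    with hN'
  have hN'fg : N'.FG := Submodule.fg_span (Set.finite_range _)
  have hN'V : N' ≤ VA D := by
    rw [hN', Submodule.span_le]
    rintro _ ⟨p, rfl⟩
    exact smul_mem_VA D (hyV p.2) _
  have hVW : VA D ≤ (Mp D ⊔ Np D) ⊔ N' := by
    refine VA_le_of_gen D _ wcol (fun z => z = 0) ?_ ?_ ?_
    · intro w' hw'
      refine ⟨w', ?_⟩
      rw [sub_eq_zero]
      conv_lhs => rw [← hw', pi_eq_sum_univ w']
      rw [Matrix.mulVec_sum]
      refine Finset.sum_congr rfl fun b _ => ?_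
      rw [hwcol]; simp only
      rw [← Matrix.mulVec_smul]
      congr 1
      funext c
      simp [Pi.single_apply, eq_comm]
    · intro b e
      rcases le_or_gt e 0 with he | he
      · exact Submodule.mem_sup_left (Submodule.mem_sup_right (T_smul_Ym_mem_Np D (hFw b) he))
      rcases le_or_gt e l with hel | hel
      · obtain ⟨k, rfl⟩ : ∃ k : ℕ, e = (k : ℤ) := ⟨e.toNat, by omega⟩
        refine Submodule.mem_sup_right (Submodule.subset_span ⟨(⟨k, by omega⟩, b), rfl⟩)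
      · have : (T e : A[T;T⁻¹]) • (D.Ym *ᵥ (toL' ∘ wcol b)) =
            (T (e - l) : A[T;T⁻¹]) • ((T (l : ℤ) : A[T;T⁻¹]) • y b) := by
          rw [smul_smul, ← T_add, sub_add_cancel]
        rw [this, hTy]
        exact Submodule.mem_sup_left (Submodule.mem_sup_left
          (T_smul_toL_mem_Mp D (hExb b) (by omega)))
    · rintro z rfl q
      have : (toL' ∘ (0 : n' → A[X]) : n' → A[T;T⁻¹]) = 0 := by funext b; simp
      rw [this, Matrix.mulVec_zero, smul_zero]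
      exact Submodule.zero_mem _
  have hNN : N' ≤ (Mp D ⊔ Np D) ⊔ IsLocalRing.maximalIdeal A • N' := by
    intro v hv
    have hvV := hN'V hv
    obtain ⟨xy, hxy, δ, hδ, rfl⟩ := Submodule.mem_sup.1 (h hvV)
    have hxyV : xy ∈ VA D := (sup_le (Mp_le_VA D) (Np_le_VA D)) hxy
    have hδV : δ ∈ VA D := by
      have := (VA D).sub_mem hvV hxyV
      rwa [add_sub_cancel_left] at this
    have h1 : δ ∈ IsLocalRing.maximalIdeal A • VA D := VA_inf_mLvec_le D ⟨hδV, hδ⟩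
    have h2 : IsLocalRing.maximalIdeal A • VA D ≤
        (Mp D ⊔ Np D) ⊔ IsLocalRing.maximalIdeal A • N' := by
      refine (Submodule.smul_mono le_rfl hVW).trans ?_
      rw [Submodule.smul_sup]
      exact sup_le_sup_right Submodule.smul_le_right _
    exact Submodule.add_mem _ (Submodule.mem_sup_left hxy) (h2 h1)
  have hN'W : N' ≤ Mp D ⊔ Np D :=
    Submodule.le_of_le_smul_of_le_jacobson_bot hN'fg (IsLocalRing.maximalIdeal_le_jacobson ⊥) hNN
  exact hVW.trans (sup_le le_rfl hN'W)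

/-- Generation modulo `𝔪`. -/
theorem VA_le_mod {ι : Type*} [Fintype ι] (w : ι → n' → A[X]) (m : ι → n → A[X]) (d : ι → ℤ)
    (hd : ∀ a, d a ≤ 0) (hw : ∀ a, D.F *ᵥ w a = w a) (hm : ∀ a, D.E *ᵥ m a = m a)
    (genN : ∀ x, D.F *ᵥ x = x → ∃ c : ι → A[X], ∀ b, (x - ∑ a, c a • w a) b ∈ mX A)
    (rel : ∀ a, (toL ∘ m a - (T (d a) : A[T;T⁻¹]) • (D.Ym *ᵥ (toL' ∘ w a)) : n → A[T;T⁻¹]) ∈
      mLvec A n) :
    VA D ≤ Mp D ⊔ Np D ⊔ mLvec A n := by
  refine VA_le_of_gen D _ w (fun z => ∀ b, z b ∈ mX A) genN ?_ ?_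
  · intro a e
    rcases le_or_gt e 0 with he | he
    · exact Submodule.mem_sup_left (Submodule.mem_sup_right (T_smul_Ym_mem_Np D (hw a) he))
    · have h1 : (T e : A[T;T⁻¹]) • (D.Ym *ᵥ (toL' ∘ w a)) =
          (T (e - d a) : A[T;T⁻¹]) • (toL ∘ m a : n → A[T;T⁻¹]) -
          (T (e - d a) : A[T;T⁻¹]) •
            (toL ∘ m a - (T (d a) : A[T;T⁻¹]) • (D.Ym *ᵥ (toL' ∘ w a)) : n → A[T;T⁻¹]) := by
        rw [← smul_sub, sub_sub_cancel, smul_smul, ← T_add, sub_add_cancel]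
      rw [h1]
      refine Submodule.sub_mem _ (Submodule.mem_sup_left (Submodule.mem_sup_left
        (T_smul_toL_mem_Mp D (hm a) (by have := hd a; omega)))) (Submodule.mem_sup_right ?_)
      exact smul_mem_mLvec (rel a) _
  · intro z hz q
    exact Submodule.mem_sup_right (smul_mem_mLvec (mulVec_mem_mLvec _ (toL'_mem_mLvec hz)) _)

/-- Lifting a congruence `m ≡ Ym w` modulo `𝔪` to an equality. -/
theorem exists_lift (hV : VA D ≤ Mp D ⊔ Np D) {δ : n → A[T;T⁻¹]} (hδ : δ ∈ VA D)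
    (hδ' : δ ∈ mLvec A n) :
    ∃ (x : n → A[X]) (w : n' → A[X]), D.E *ᵥ x = x ∧ (∀ a, x a ∈ mX A) ∧ D.F *ᵥ w = w ∧
      (∀ b, w b ∈ mX A) ∧ δ = toL ∘ x + D.Ym *ᵥ (toL' ∘ w) := by
  let Q : Submodule A (n → A[T;T⁻¹]) :=
    { carrier := {δ | ∃ (x : n → A[X]) (w : n' → A[X]), D.E *ᵥ x = x ∧ (∀ a, x a ∈ mX A) ∧
        D.F *ᵥ w = w ∧ (∀ b, w b ∈ mX A) ∧ δ = toL ∘ x + D.Ym *ᵥ (toL' ∘ w)}
      add_mem' := by
        rintro _ _ ⟨x, w, hx, hx', hw, hw', rfl⟩ ⟨x₂, w₂, hx₂, hx₂', hw₂, hw₂', rfl⟩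
        refine ⟨x + x₂, w + w₂, by rw [Matrix.mulVec_add, hx, hx₂],
          fun a => (mX A).add_mem (hx' a) (hx₂' a), by rw [Matrix.mulVec_add, hw, hw₂],
          fun a => (mX A).add_mem (hw' a) (hw₂' a), ?_⟩
        rw [toL_add_vec, toL'_add_vec, Matrix.mulVec_add]
        abel
      zero_mem' := by
        refine ⟨0, 0, by simp, fun a => (mX A).zero_mem, by simp, fun a => (mX A).zero_mem, ?_⟩
        have h1 : (toL' ∘ (0 : n' → A[X]) : n' → A[T;T⁻¹]) = 0 := by funext b; simp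
        have h2 : (toL ∘ (0 : n → A[X]) : n → A[T;T⁻¹]) = 0 := by funext b; simp
        rw [h1, h2, Matrix.mulVec_zero, add_zero]
      smul_mem' := by
        rintro c _ ⟨x, w, hx, hx', hw, hw', rfl⟩
        refine ⟨Polynomial.C c • x, Polynomial.C c • w, by rw [Matrix.mulVec_smul, hx],
          fun a => (mX A).mul_mem_left _ (hx' a), by rw [Matrix.mulVec_smul, hw],
          fun a => (mX A).mul_mem_left _ (hw' a), ?_⟩
        rw [toL_smul_vec, toL'_smul_vec, Matrix.mulVec_smul, smul_add] }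
  have : δ ∈ Q := by
    refine mem_of_mem_VA_inf_mLvec D Q ?_ hδ hδ'
    intro a ha v hv
    obtain ⟨v₁, ⟨x, hx, rfl⟩, v₂, ⟨w, hw, rfl⟩, rfl⟩ := Submodule.mem_sup.1 (hV hv)
    refine ⟨Polynomial.C a • x, Polynomial.C a • w, by rw [Matrix.mulVec_smul, hx],
      fun b => (mX A).mul_mem_right _ (Ideal.mem_map_of_mem _ ha),
      by rw [Matrix.mulVec_smul, hw],
      fun b => (mX A).mul_mem_right _ (Ideal.mem_map_of_mem _ ha), ?_⟩
    rw [toL_smul_vec, toL'_smul_vec, Matrix.mulVec_smul, smul_add]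
  exact this

end Nakayama

section RankOne

variable {R : Type*} [CommRing R] {k : Type*} [Fintype k] [DecidableEq k]

/-- The rank one idempotent attached to a unimodular element `σ` of the image of an idempotent. -/
def proj1 (E : Matrix k k R) (σ ρ : k → R) : Matrix k k R := vecMulVec σ (ρ ᵥ* E)

variable {E : Matrix k k R} {σ ρ : k → R}

theorem mul_proj1 (hσ : E *ᵥ σ = σ) : E * proj1 E σ ρ = proj1 E σ ρ := by
  rw [proj1, Matrix.mul_vecMulVec, hσ]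

theorem proj1_mul (hE : E * E = E) : proj1 E σ ρ * E = proj1 E σ ρ := by
  rw [proj1, Matrix.vecMulVec_mul, Matrix.vecMul_vecMul, hE]

theorem proj1_dot (hσ : E *ᵥ σ = σ) (hρ : ρ ⬝ᵥ σ = 1) : (ρ ᵥ* E) ⬝ᵥ σ = 1 := by
  rw [← Matrix.dotProduct_mulVec, hσ, hρ]

theorem proj1_mul_proj1 (hσ : E *ᵥ σ = σ) (hρ : ρ ⬝ᵥ σ = 1) :
    proj1 E σ ρ * proj1 E σ ρ = proj1 E σ ρ := by
  rw [proj1, Matrix.vecMulVec_mul_vecMulVec, proj1_dot hσ hρ, one_smul]

theorem proj1_mulVec (hσ : E *ᵥ σ = σ) (hρ : ρ ⬝ᵥ σ = 1) : proj1 E σ ρ *ᵥ σ = σ := by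
  funext a
  have h := proj1_dot hσ hρ
  simp only [proj1, Matrix.mulVec, dotProduct, Matrix.vecMulVec_apply] at h ⊢
  simp_rw [mul_assoc]
  rw [← Finset.mul_sum, h, mul_one]

theorem sub_proj1_idem (hE : E * E = E) (hσ : E *ᵥ σ = σ) (hρ : ρ ⬝ᵥ σ = 1) :
    (E - proj1 E σ ρ) * (E - proj1 E σ ρ) = E - proj1 E σ ρ := by
  rw [Matrix.sub_mul, Matrix.mul_sub, Matrix.mul_sub, hE, mul_proj1 hσ, proj1_mul hE,
    proj1_mul_proj1 hσ hρ]
  abel

theorem mul_sub_proj1 (hE : E * E = E) (hσ : E *ᵥ σ = σ) :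
    E * (E - proj1 E σ ρ) = E - proj1 E σ ρ := by
  rw [Matrix.mul_sub, hE, mul_proj1 hσ]

theorem sub_proj1_mul (hE : E * E = E) :
    (E - proj1 E σ ρ) * E = E - proj1 E σ ρ := by
  rw [Matrix.sub_mul, hE, proj1_mul hE]

theorem sub_proj1_mulVec (hσ : E *ᵥ σ = σ) (hρ : ρ ⬝ᵥ σ = 1) :
    (E - proj1 E σ ρ) *ᵥ σ = 0 := by
  rw [Matrix.sub_mulVec, hσ, proj1_mulVec hσ hρ, sub_self]

theorem map_vecMulVec {S : Type*} [CommRing S] (f : R →+* S) (u v : k → R) :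
    (vecMulVec u v).map f = vecMulVec (f ∘ u) (f ∘ v) := by
  ext a b
  simp [Matrix.vecMulVec_apply]

end RankOne

namespace PData

variable (D : PData A n n')

/-- Sub-data cut out by smaller idempotents. -/
noncomputable def sub (E'' : Matrix n n A[X]) (F'' : Matrix n' n' A[X])
    (hE'' : E'' * E'' = E'') (hF'' : F'' * F'' = F'')
    (hEE : E'' * D.E = E'') (hFF : F'' * D.F = F'')
    (h1 : E''.map toL * D.Ym * (D.F - F'').map toL' = 0)
    (h2 : F''.map toL' * D.Xm * (D.E - E'').map toL = 0) : PData A n n' where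
  E := E''
  F := F''
  Xm := F''.map toL' * D.Xm * E''.map toL
  Ym := E''.map toL * D.Ym * F''.map toL'
  hE := hE''
  hF := hF''
  hYX := by
    have hA : E''.map toL * D.Ym * F''.map toL' = E''.map toL * D.Ym * D.Fm := by
      have : F''.map toL' = D.Fm - (D.F - F'').map toL' := by
        rw [Matrix.map_sub (f := toL') (fun a b => map_sub toL' a b)]; simp [PData.Fm]
      rw [this, Matrix.mul_sub, h1, sub_zero]
    have hF''m : F''.map toL' * F''.map toL' = F''.map toL' := by rw [← Matrix.map_mul, hF'']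
    have hE''p : E''.map toL * D.Ep = E''.map toL := by rw [PData.Ep, ← Matrix.map_mul, hEE]
    have hE''pp : E''.map toL * E''.map toL = E''.map toL := by rw [← Matrix.map_mul, hE'']
    calc E''.map toL * D.Ym * F''.map toL' * (F''.map toL' * D.Xm * E''.map toL)
        = E''.map toL * D.Ym * (F''.map toL' * F''.map toL') * D.Xm * E''.map toL := by
          simp only [Matrix.mul_assoc]
      _ = E''.map toL * D.Ym * D.Fm * D.Xm * E''.map toL := by rw [hF''m, hA]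
      _ = E''.map toL * (D.Ym * (D.Xm * D.Ym) * D.Xm) * E''.map toL := by
          unfold PData.Fm; rw [← D.hXY]; simp only [Matrix.mul_assoc]
      _ = E''.map toL * (D.Ep * D.Ep) * E''.map toL := by
          rw [show D.Ym * (D.Xm * D.Ym) * D.Xm = (D.Ym * D.Xm) * (D.Ym * D.Xm) by
            simp only [Matrix.mul_assoc], D.hYX]
      _ = E''.map toL := by rw [D.hEp, hE''p, hE''pp]
  hXY := by
    have hB : F''.map toL' * D.Xm * E''.map toL = F''.map toL' * D.Xm * D.Ep := by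
      have : E''.map toL = D.Ep - (D.E - E'').map toL := by
        rw [Matrix.map_sub (f := toL) (fun a b => map_sub toL a b)]; simp [PData.Ep]
      rw [this, Matrix.mul_sub, h2, sub_zero]
    have hE''p : E''.map toL * E''.map toL = E''.map toL := by rw [← Matrix.map_mul, hE'']
    have hF''m : F''.map toL' * D.Fm = F''.map toL' := by rw [PData.Fm, ← Matrix.map_mul, hFF]
    have hF''mm : F''.map toL' * F''.map toL' = F''.map toL' := by rw [← Matrix.map_mul, hF'']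
    calc F''.map toL' * D.Xm * E''.map toL * (E''.map toL * D.Ym * F''.map toL')
        = F''.map toL' * D.Xm * (E''.map toL * E''.map toL) * D.Ym * F''.map toL' := by
          simp only [Matrix.mul_assoc]
      _ = F''.map toL' * D.Xm * D.Ep * D.Ym * F''.map toL' := by rw [hE''p, hB]
      _ = F''.map toL' * (D.Xm * (D.Ym * D.Xm) * D.Ym) * F''.map toL' := by
          unfold PData.Ep; rw [← D.hYX]; simp only [Matrix.mul_assoc]
      _ = F''.map toL' * (D.Fm * D.Fm) * F''.map toL' := by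
          rw [show D.Xm * (D.Ym * D.Xm) * D.Ym = (D.Xm * D.Ym) * (D.Xm * D.Ym) by
            simp only [Matrix.mul_assoc], D.hXY]
      _ = F''.map toL' := by rw [D.hFm, hF''m, hF''mm]

theorem sub_Ym_mulVec (E'' : Matrix n n A[X]) (F'' : Matrix n' n' A[X])
    (hE'' : E'' * E'' = E'') (hF'' : F'' * F'' = F'')
    (hEE : E'' * D.E = E'') (hFF : F'' * D.F = F'')
    (h1 : E''.map toL * D.Ym * (D.F - F'').map toL' = 0)
    (h2 : F''.map toL' * D.Xm * (D.E - E'').map toL = 0) (w : n' → A[X]) (hw : D.F *ᵥ w = w) :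
    (D.sub E'' F'' hE'' hF'' hEE hFF h1 h2).Ym *ᵥ (toL' ∘ (F'' *ᵥ w)) =
      E''.map toL *ᵥ (D.Ym *ᵥ (toL' ∘ w)) := by
  have hA : E''.map toL * D.Ym * F''.map toL' = E''.map toL * D.Ym * D.Fm := by
    have : F''.map toL' = D.Fm - (D.F - F'').map toL' := by
      rw [Matrix.map_sub (f := toL') (fun a b => map_sub toL' a b)]; simp [PData.Fm]
    rw [this, Matrix.mul_sub, h1, sub_zero]
  have hF''m : F''.map toL' * F''.map toL' = F''.map toL' := by rw [← Matrix.map_mul, hF'']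
  have h3 : (toL' ∘ (F'' *ᵥ w) : n' → A[T;T⁻¹]) = F''.map toL' *ᵥ (toL' ∘ w) := by
    funext a
    exact RingHom.map_mulVec toL' F'' w a
  show (E''.map toL * D.Ym * F''.map toL') *ᵥ (toL' ∘ (F'' *ᵥ w)) = _
  rw [h3, Matrix.mulVec_mulVec, Matrix.mul_assoc _ (F''.map toL') (F''.map toL'), hF''m, hA,
    ← Matrix.mulVec_mulVec, ← D.toL'_mulVec, hw, Matrix.mulVec_mulVec]

end PData

section Unimodular

variable [IsLocalRing A] (D : PData A n n')

theorem Xm_toL_eq {σM : n → A[X]} {σN : n' → A[X]} (hσN : D.F *ᵥ σN = σN)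
    (hσ : (toL ∘ σM : n → A[T;T⁻¹]) = D.Ym *ᵥ (toL' ∘ σN)) :
    D.Xm *ᵥ (toL ∘ σM) = toL' ∘ σN := by
  rw [hσ, Matrix.mulVec_mulVec, D.hXY, ← D.toL'_mulVec, hσN]

/-- Unimodularity: a section which is nowhere vanishing modulo `𝔪` on both charts is unimodular. -/
theorem span_eq_top_of_mod (σM : n → A[X]) (σN : n' → A[X]) (hσN : D.F *ᵥ σN = σN)
    (hσ : (toL ∘ σM : n → A[T;T⁻¹]) = D.Ym *ᵥ (toL' ∘ σN))
    (hI : Ideal.span (Set.range σM) ⊔ mX A = ⊤) (hJ : Ideal.span (Set.range σN) ⊔ mX A = ⊤) :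
    Ideal.span (Set.range σM) = ⊤ := by
  refine ideal_eq_top_of_laurent _ _ hI hJ ?_
  intro g hg
  obtain ⟨ψ, rfl⟩ := (Ideal.mem_span_range_iff_exists_fun (R := A[X])).1 hg
  obtain ⟨l, φ, hφ⟩ := exists_T_mul_eq_toL_vec ((toL' ∘ ψ) ᵥ* D.Xm)
  refine ⟨l, ∑ a, φ a * σM a, ?_, ?_⟩
  · exact Ideal.sum_mem _ fun a _ => Ideal.mul_mem_left _ _ (Ideal.subset_span ⟨a, rfl⟩)
  · have h1 : toL' (∑ b, ψ b * σN b) = (toL' ∘ ψ) ⬝ᵥ (toL' ∘ σN) := by
      simp only [map_sum, map_mul, dotProduct, Function.comp_apply]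
    rw [h1, ← Xm_toL_eq D hσN hσ, Matrix.dotProduct_mulVec]
    simp only [dotProduct, Finset.mul_sum, ← mul_assoc, hφ, map_sum, map_mul,
      Function.comp_apply]

theorem exists_dot_eq_one_of_mod (σM : n → A[X]) (σN : n' → A[X]) (hσN : D.F *ᵥ σN = σN)
    (hσ : (toL ∘ σM : n → A[T;T⁻¹]) = D.Ym *ᵥ (toL' ∘ σN))
    (hI : Ideal.span (Set.range σM) ⊔ mX A = ⊤) (hJ : Ideal.span (Set.range σN) ⊔ mX A = ⊤) :
    ∃ ρ : n → A[X], ρ ⬝ᵥ σM = 1 := by
  have h := span_eq_top_of_mod D σM σN hσN hσ hI hJ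
  have h1 : (1 : A[X]) ∈ Ideal.span (Set.range σM) := by rw [h]; trivial
  obtain ⟨ρ, hρ⟩ := (Ideal.mem_span_range_iff_exists_fun (R := A[X])).1 h1
  exact ⟨ρ, hρ⟩

/-- The mirrored relation. -/
theorem mirror_rel {σM : n → A[X]} {σN : n' → A[X]} (hσN : D.F *ᵥ σN = σN)
    (hσ : (toL ∘ σM : n → A[T;T⁻¹]) = D.Ym *ᵥ (toL' ∘ σN)) :
    (toL ∘ σN : n' → A[T;T⁻¹]) = D.mirror.Ym *ᵥ (toL' ∘ σM) := by
  have h := Xm_toL_eq D hσN hσ
  have h2 : (toL ∘ σN : n' → A[T;T⁻¹]) =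
      (LaurentPolynomial.invert (R := A)) ∘ (D.Xm *ᵥ (toL ∘ σM)) := by
    rw [h]
    funext b
    exact (invert_toL' (σN b)).symm
  rw [h2]
  funext b
  have := RingHom.map_mulVec (LaurentPolynomial.invert (R := A)).toRingEquiv.toRingHom D.Xm
    (toL ∘ σM) b
  exact this

theorem exists_dot_eq_one_of_mod' (σM : n → A[X]) (σN : n' → A[X]) (hσM : D.E *ᵥ σM = σM)
    (hσN : D.F *ᵥ σN = σN)
    (hσ : (toL ∘ σM : n → A[T;T⁻¹]) = D.Ym *ᵥ (toL' ∘ σN))
    (hI : Ideal.span (Set.range σM) ⊔ mX A = ⊤) (hJ : Ideal.span (Set.range σN) ⊔ mX A = ⊤) :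
    ∃ ψ : n' → A[X], ψ ⬝ᵥ σN = 1 :=
  exists_dot_eq_one_of_mod D.mirror σN σM hσM (mirror_rel D hσN hσ) hJ hI

end Unimodular

section Induction

variable [IsLocalRing A]

/-- A Birkhoff family: bases of `M/𝔪M` and `N/𝔪N` (with dual functionals) in which the transition
function is diagonal `T^{d_a}` modulo `𝔪`. -/
structure BFam (D : PData A n n') (ι : Type*) [Fintype ι] [DecidableEq ι] where
  m : ι → n → A[X]
  w : ι → n' → A[X]
  d : ι → ℤ
  φ : ι → n → A[X]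
  ψ : ι → n' → A[X]
  hm : ∀ a, D.E *ᵥ m a = m a
  hw : ∀ a, D.F *ᵥ w a = w a
  genM : ∀ x, D.E *ᵥ x = x → ∃ c : ι → A[X], ∀ b, (x - ∑ a, c a • m a) b ∈ mX A
  genN : ∀ x, D.F *ᵥ x = x → ∃ c : ι → A[X], ∀ b, (x - ∑ a, c a • w a) b ∈ mX A
  dualM : ∀ a b, φ a ⬝ᵥ m b - (if a = b then 1 else 0) ∈ mX A
  dualN : ∀ a b, ψ a ⬝ᵥ w b - (if a = b then 1 else 0) ∈ mX A
  rel : ∀ a, (toL ∘ m a - (T (d a) : A[T;T⁻¹]) • (D.Ym *ᵥ (toL' ∘ w a)) : n → A[T;T⁻¹]) ∈
    mLvec A n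

theorem mulVec_mem_mX {k k' : Type*} [Fintype k'] (M : Matrix k k' A[X]) {x : k' → A[X]}
    (hx : ∀ b, x b ∈ mX A) (a : k) : (M *ᵥ x) a ∈ mX A :=
  (mX A).sum_mem fun b _ => (mX A).mul_mem_left _ (hx b)

theorem dot_mem_mX {k : Type*} [Fintype k] (φ : k → A[X]) {x : k → A[X]}
    (hx : ∀ b, x b ∈ mX A) : φ ⬝ᵥ x ∈ mX A :=
  (mX A).sum_mem fun b _ => (mX A).mul_mem_left _ (hx b)

/-- `det (1 - E) ≡ 1` modulo an ideal containing the entries of `E`. -/
theorem det_one_sub_sub_one_mem {R : Type*} [CommRing R] {k : Type*} [Fintype k] [DecidableEq k]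
    (I : Ideal R) (E : Matrix k k R) (hE : ∀ a b, E a b ∈ I) : (1 - E).det - 1 ∈ I := by
  rw [← Ideal.Quotient.eq_zero_iff_mem, map_sub, map_one, RingHom.map_det]
  have : (Ideal.Quotient.mk I).mapMatrix (1 - E) = 1 := by
    rw [map_sub, map_one]
    have : (Ideal.Quotient.mk I).mapMatrix E = 0 := by
      ext a b
      simp only [RingHom.mapMatrix_apply, Matrix.map_apply, Matrix.zero_apply]
      exact Ideal.Quotient.eq_zero_iff_mem.2 (hE a b)
    rw [this, sub_zero]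
  rw [this, Matrix.det_one, sub_self]

theorem det_one_sub_smul {R : Type*} [CommRing R] {k : Type*} [Fintype k] [DecidableEq k]
    (E : Matrix k k R) (hE : E * E = E) : (1 - E).det • E = 0 := by
  have h : (1 - E) * E = 0 := by rw [Matrix.sub_mul, Matrix.one_mul, hE, sub_self]
  have := congrArg (fun M => Matrix.adjugate (1 - E) * M) h
  simp only [Matrix.mul_zero, ← Matrix.mul_assoc, Matrix.adjugate_mul] at this
  rwa [Matrix.smul_mul, Matrix.one_mul] at this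

/-- The base case: rank zero modulo `𝔪` forces `E = 0`. -/
theorem E_eq_zero_of_mod (D : PData A n n')
    (hM : ∀ x, D.E *ᵥ x = x → ∀ b, x b ∈ mX A) (hN : ∀ x, D.F *ᵥ x = x → ∀ b, x b ∈ mX A) :
    D.E = 0 := by
  classical
  have hEent : ∀ a b, D.E a b ∈ mX A := by
    intro a b
    have h1 : D.E *ᵥ (D.E *ᵥ Pi.single b 1) = D.E *ᵥ Pi.single b 1 := by
      rw [Matrix.mulVec_mulVec, D.hE]
    have := hM _ h1 a
    simpa using this
  have hFent : ∀ a b, D.F a b ∈ mX A := by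
    intro a b
    have h1 : D.F *ᵥ (D.F *ᵥ Pi.single b 1) = D.F *ᵥ Pi.single b 1 := by
      rw [Matrix.mulVec_mulVec, D.hF]
    have := hN _ h1 a
    simpa using this
  let I : Ideal A[X] :=
    { carrier := {f | f • D.E = 0}
      add_mem' := fun {a b} ha hb => by
        show (a + b) • D.E = 0
        rw [add_smul, ha, hb, add_zero]
      zero_mem' := zero_smul _ _
      smul_mem' := fun c f hf => by
        show (c • f) • D.E = 0
        rw [smul_assoc, hf, smul_zero] }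
  let J : Ideal A[X] :=
    { carrier := {f | f • D.F = 0}
      add_mem' := fun {a b} ha hb => by
        show (a + b) • D.F = 0
        rw [add_smul, ha, hb, add_zero]
      zero_mem' := zero_smul _ _
      smul_mem' := fun c f hf => by
        show (c • f) • D.F = 0
        rw [smul_assoc, hf, smul_zero] }
  have hI : I ⊔ mX A = ⊤ := by
    rw [Ideal.eq_top_iff_one]
    have h1 : (1 - D.E).det ∈ I := det_one_sub_smul D.E D.hE
    have h2 := det_one_sub_sub_one_mem (mX A) D.E hEent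
    have : (1 : A[X]) = (1 - D.E).det - ((1 - D.E).det - 1) := by ring
    rw [this]
    exact Ideal.sub_mem _ (Ideal.mem_sup_left h1) (Ideal.mem_sup_right h2)
  have hJ : J ⊔ mX A = ⊤ := by
    rw [Ideal.eq_top_iff_one]
    have h1 : (1 - D.F).det ∈ J := det_one_sub_smul D.F D.hF
    have h2 := det_one_sub_sub_one_mem (mX A) D.F hFent
    have : (1 : A[X]) = (1 - D.F).det - ((1 - D.F).det - 1) := by ring
    rw [this]
    exact Ideal.sub_mem _ (Ideal.mem_sup_left h1) (Ideal.mem_sup_right h2)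
  have hIJ : ∀ g ∈ J, ∃ (l : ℕ) (p : A[X]), p ∈ I ∧ T (l : ℤ) * toL' g = toL p := by
    intro g hg
    refine ⟨g.natDegree, g.reflect g.natDegree, ?_, T_mul_toL'_eq_toL_reflect g _ le_rfl⟩
    show g.reflect g.natDegree • D.E = 0
    have hg' : toL' g • D.Fm = 0 := by
      have : toL' g • D.Fm = (g • D.F).map toL' := by
        ext a b; simp [PData.Fm]
      rw [this, show g • D.F = 0 from hg]; simp
    have hEp : D.Ep = D.Ym * D.Fm * D.Xm := by
      have : D.Ym * D.Fm * D.Xm = (D.Ym * D.Xm) * (D.Ym * D.Xm) := by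
        unfold PData.Fm; rw [← D.hXY]; simp only [Matrix.mul_assoc]
      rw [this, D.hYX, D.hEp]
    have h3 : toL (g.reflect g.natDegree) • D.Ep = 0 := by
      rw [← T_mul_toL'_eq_toL_reflect g _ le_rfl, hEp, mul_smul]
      have : toL' g • (D.Ym * D.Fm * D.Xm) = D.Ym * (toL' g • D.Fm) * D.Xm := by
        rw [Matrix.mul_smul, Matrix.smul_mul]
      rw [this, hg']
      simp
    have h4 : (g.reflect g.natDegree • D.E).map toL = 0 := by
      rw [← h3]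
      ext a b; simp [PData.Ep]
    refine Matrix.ext fun a b => ?_
    have := congrFun (congrFun h4 a) b
    simp only [Matrix.map_apply, Matrix.zero_apply] at this
    rw [Matrix.zero_apply]
    exact toL_injective (this.trans (map_zero toL).symm)
  have htop := ideal_eq_top_of_laurent I J hI hJ hIJ
  have h1 : (1 : A[X]) ∈ I := by rw [htop]; trivial
  have : (1 : A[X]) • D.E = 0 := h1
  rwa [one_smul] at this

end Induction

section Assemble

variable {R : Type*} [CommRing R] {k : Type*} [Fintype k] [DecidableEq k]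
variable {ι : Type*} [Fintype ι] [DecidableEq ι]

/-- Adding back the split-off rank one summand. -/
theorem exists_basis_of_sub_proj1 (E : Matrix k k R) (hE : E * E = E) (σ ρ : k → R)
    (hσ : E *ᵥ σ = σ) (hρ : ρ ⬝ᵥ σ = 1) (a₀ : ι)
    (U₂ : Matrix k {a // a ≠ a₀} R) (U₂' : Matrix {a // a ≠ a₀} k R)
    (h1 : U₂' * U₂ = 1) (h2 : U₂ * U₂' = E - proj1 E σ ρ) :
    ∃ (U : Matrix k ι R) (U' : Matrix ι k R), U' * U = 1 ∧ U * U' = E := by
  set E'' := E - proj1 E σ ρ with hE''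
  have hEU : E'' * U₂ = U₂ := by rw [← h2, Matrix.mul_assoc, h1, Matrix.mul_one]
  have hUE : U₂' * E'' = U₂' := by rw [← h2, ← Matrix.mul_assoc, h1, Matrix.one_mul]
  have hρE'' : (ρ ᵥ* E) ᵥ* E'' = 0 := by
    rw [hE'', Matrix.vecMul_sub, Matrix.vecMul_vecMul, hE, proj1, Matrix.vecMul_vecMulVec,
      proj1_dot hσ hρ, one_smul, sub_self]
  have hE''σ : E'' *ᵥ σ = 0 := sub_proj1_mulVec hσ hρ
  have hρU : (ρ ᵥ* E) ᵥ* U₂ = 0 := by
    rw [← hEU, ← Matrix.vecMul_vecMul, hρE'', Matrix.zero_vecMul]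
  have hUσ : U₂' *ᵥ σ = 0 := by
    rw [← hUE, ← Matrix.mulVec_mulVec, hE''σ, Matrix.mulVec_zero]
  let U : Matrix k ι R := Matrix.of fun a c => if h : c = a₀ then σ a else U₂ a ⟨c, h⟩
  let U' : Matrix ι k R := Matrix.of fun c b => if h : c = a₀ then (ρ ᵥ* E) b else U₂' ⟨c, h⟩ b
  have hU : ∀ a c, U a c = if h : c = a₀ then σ a else U₂ a ⟨c, h⟩ := fun _ _ => rfl
  have hU' : ∀ c b, U' c b = if h : c = a₀ then (ρ ᵥ* E) b else U₂' ⟨c, h⟩ b := fun _ _ => rfl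
  refine ⟨U, U', ?_, ?_⟩
  · ext c c'
    rw [Matrix.mul_apply, Matrix.one_apply]
    simp only [hU, hU']
    by_cases hc : c = a₀
    · by_cases hc' : c' = a₀
      · simp only [hc, hc', dif_pos, if_true]
        exact proj1_dot hσ hρ
      · simp only [hc, hc', dif_pos, dif_neg, not_false_eq_true]
        have := congrFun hρU ⟨c', hc'⟩
        rw [if_neg (fun h => hc' h.symm)]
        exact this
    · by_cases hc' : c' = a₀
      · simp only [hc, hc', dif_pos, dif_neg, not_false_eq_true]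
        have := congrFun hUσ ⟨c, hc⟩
        simpa [Matrix.mulVec, dotProduct] using this
      · simp only [hc, hc', dif_neg, not_false_eq_true]
        have := congrFun (congrFun h1 ⟨c, hc⟩) ⟨c', hc'⟩
        rw [Matrix.mul_apply, Matrix.one_apply] at this
        rw [this]
        simp only [Subtype.mk.injEq]
  · ext a b
    rw [Matrix.mul_apply, Fintype.sum_eq_add_sum_subtype_ne _ a₀]
    simp only [hU, hU', dif_pos]
    have h3 : ∀ c : {c // c ≠ a₀}, (if h : (c : ι) = a₀ then σ a else U₂ a ⟨c, h⟩) *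
        (if h : (c : ι) = a₀ then (ρ ᵥ* E) b else U₂' ⟨c, h⟩ b) = U₂ a c * U₂' c b := by
      intro c
      rw [dif_neg c.2, dif_neg c.2]
    rw [Finset.sum_congr rfl fun c _ => h3 c]
    have h4 := congrFun (congrFun h2 a) b
    rw [Matrix.mul_apply] at h4
    rw [h4, hE'', Matrix.sub_apply, proj1, Matrix.vecMulVec_apply]
    ring

end Assemble

section Step

variable [IsLocalRing A] {ι : Type*} [Fintype ι] [DecidableEq ι]

theorem proj1_mulVec_gen {R : Type*} [CommRing R] {k : Type*} [Fintype k] [DecidableEq k]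
    (E : Matrix k k R) (σ ρ v : k → R) : proj1 E σ ρ *ᵥ v = ((ρ ᵥ* E) ⬝ᵥ v) • σ := by
  funext a
  simp only [proj1, Matrix.mulVec, dotProduct, Matrix.vecMulVec_apply, Pi.smul_apply, smul_eq_mul,
    Finset.sum_mul]
  refine Finset.sum_congr rfl fun b _ => ?_
  ring

theorem toL_mulVec_gen (M : Matrix n n A[X]) (x : n → A[X]) :
    (toL ∘ (M *ᵥ x) : n → A[T;T⁻¹]) = M.map toL *ᵥ (toL ∘ x) := by
  funext a
  exact RingHom.map_mulVec toL M x a

theorem toL'_mulVec_gen (M : Matrix n' n' A[X]) (x : n' → A[X]) :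
    (toL' ∘ (M *ᵥ x) : n' → A[T;T⁻¹]) = M.map toL' *ᵥ (toL' ∘ x) := by
  funext a
  exact RingHom.map_mulVec toL' M x a

theorem toL_zero_vec : (toL ∘ (0 : n → A[X]) : n → A[T;T⁻¹]) = 0 := by funext b; simp

theorem toL'_zero_vec : (toL' ∘ (0 : n' → A[X]) : n' → A[T;T⁻¹]) = 0 := by funext b; simp

/-- The inductive step: split off a rank one summand. -/
theorem exists_step (D : PData A n n') (B : BFam D ι) (a₀ : ι) (ha₀ : ∀ a, B.d a ≤ B.d a₀) :
    ∃ (σM ρ : n → A[X]) (D₂ : PData A n n'), Nonempty (BFam D₂ {a // a ≠ a₀}) ∧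
      D.E *ᵥ σM = σM ∧ ρ ⬝ᵥ σM = 1 ∧ D₂.E = D.E - proj1 D.E σM ρ := by
  classical
  obtain ⟨c, hc⟩ : ∃ c, c = B.d a₀ := ⟨_, rfl⟩
  obtain ⟨D₁, hD₁⟩ : ∃ D₁, D₁ = D.twist c := ⟨_, rfl⟩
  have hD₁E : D₁.E = D.E := by rw [hD₁]; rfl
  have hD₁F : D₁.F = D.F := by rw [hD₁]; rfl
  have hD₁Ym : D₁.Ym = (T c : A[T;T⁻¹]) • D.Ym := by rw [hD₁]; rfl
  have rel₁ : ∀ a, (toL ∘ B.m a - (T (B.d a - c) : A[T;T⁻¹]) • (D₁.Ym *ᵥ (toL' ∘ B.w a)) :
      n → A[T;T⁻¹]) ∈ mLvec A n := by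
    intro a
    have := B.rel a
    rwa [hD₁Ym, Matrix.smul_mulVec, smul_smul, ← T_add, sub_add_cancel]
  have hd₁ : ∀ a, B.d a - c ≤ 0 := fun a => by rw [hc]; exact sub_nonpos.2 (ha₀ a)
  have hwF : ∀ a, D₁.F *ᵥ B.w a = B.w a := fun a => by rw [hD₁F]; exact B.hw a
  have hmE : ∀ a, D₁.E *ᵥ B.m a = B.m a := fun a => by rw [hD₁E]; exact B.hm a
  have hgenN : ∀ x, D₁.F *ᵥ x = x → ∃ c : ι → A[X], ∀ b, (x - ∑ a, c a • B.w a) b ∈ mX A := by
    intro x hx; rw [hD₁F] at hx; exact B.genN x hx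
  have hmod := VA_le_mod D₁ B.w B.m (fun a => B.d a - c) hd₁ hwF hmE hgenN rel₁
  have hV := VA_le_Mp_sup_Np_of_mod D₁ hmod
  obtain ⟨δ, hδdef⟩ : ∃ δ : n → A[T;T⁻¹], δ = toL ∘ B.m a₀ - D₁.Ym *ᵥ (toL' ∘ B.w a₀) := ⟨_, rfl⟩
  have hδ' : δ ∈ mLvec A n := by
    have := rel₁ a₀
    rwa [hc, sub_self, T_zero, one_smul, ← hδdef] at this
  have hδ : δ ∈ VA D₁ := by
    rw [hδdef]
    exact (VA D₁).sub_mem (Mp_le_VA D₁ ⟨B.m a₀, hmE a₀, rfl⟩) (Np_le_VA D₁ ⟨B.w a₀, hwF a₀, rfl⟩)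
  obtain ⟨x, w, hx, hx', hw, hw', hδeq⟩ := exists_lift D₁ hV hδ hδ'
  rw [hD₁E] at hx
  rw [hD₁F] at hw
  obtain ⟨σM, hσMdef⟩ : ∃ σM, σM = B.m a₀ - x := ⟨_, rfl⟩
  obtain ⟨σN, hσNdef⟩ : ∃ σN, σN = B.w a₀ + w := ⟨_, rfl⟩
  have hσM : D.E *ᵥ σM = σM := by rw [hσMdef, Matrix.mulVec_sub, B.hm, hx]
  have hσN : D.F *ᵥ σN = σN := by rw [hσNdef, Matrix.mulVec_add, B.hw, hw]
  have hσ : (toL ∘ σM : n → A[T;T⁻¹]) = D₁.Ym *ᵥ (toL' ∘ σN) := by
    rw [hσMdef, hσNdef, toL_sub_vec, toL'_add_vec, Matrix.mulVec_add]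
    have h := hδeq
    rw [hδdef, sub_eq_iff_eq_add] at h
    rw [h]
    abel
  have hI : Ideal.span (Set.range σM) ⊔ mX A = ⊤ := by
    rw [Ideal.eq_top_iff_one]
    have h1 : B.φ a₀ ⬝ᵥ σM ∈ Ideal.span (Set.range σM) :=
      Ideal.sum_mem _ fun b _ => Ideal.mul_mem_left _ _ (Ideal.subset_span ⟨b, rfl⟩)
    have h2 : B.φ a₀ ⬝ᵥ σM - 1 ∈ mX A := by
      have h3 := B.dualM a₀ a₀
      rw [if_pos rfl] at h3
      have h4 : B.φ a₀ ⬝ᵥ x ∈ mX A := dot_mem_mX _ hx'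
      have : B.φ a₀ ⬝ᵥ σM - 1 = (B.φ a₀ ⬝ᵥ B.m a₀ - 1) - B.φ a₀ ⬝ᵥ x := by
        rw [hσMdef, dotProduct_sub]; ring
      rw [this]; exact Ideal.sub_mem _ h3 h4
    have : (1 : A[X]) = B.φ a₀ ⬝ᵥ σM - (B.φ a₀ ⬝ᵥ σM - 1) := by ring
    rw [this]; exact Ideal.sub_mem _ (Ideal.mem_sup_left h1) (Ideal.mem_sup_right h2)
  have hJ : Ideal.span (Set.range σN) ⊔ mX A = ⊤ := by
    rw [Ideal.eq_top_iff_one]
    have h1 : B.ψ a₀ ⬝ᵥ σN ∈ Ideal.span (Set.range σN) :=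
      Ideal.sum_mem _ fun b _ => Ideal.mul_mem_left _ _ (Ideal.subset_span ⟨b, rfl⟩)
    have h2 : B.ψ a₀ ⬝ᵥ σN - 1 ∈ mX A := by
      have h3 := B.dualN a₀ a₀
      rw [if_pos rfl] at h3
      have h4 : B.ψ a₀ ⬝ᵥ w ∈ mX A := dot_mem_mX _ hw'
      have : B.ψ a₀ ⬝ᵥ σN - 1 = (B.ψ a₀ ⬝ᵥ B.w a₀ - 1) + B.ψ a₀ ⬝ᵥ w := by
        rw [hσNdef, dotProduct_add]; ring
      rw [this]; exact Ideal.add_mem _ h3 h4
    have : (1 : A[X]) = B.ψ a₀ ⬝ᵥ σN - (B.ψ a₀ ⬝ᵥ σN - 1) := by ring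
    rw [this]; exact Ideal.sub_mem _ (Ideal.mem_sup_left h1) (Ideal.mem_sup_right h2)
  have hσN₁ : D₁.F *ᵥ σN = σN := by rw [hD₁F]; exact hσN
  have hσM₁ : D₁.E *ᵥ σM = σM := by rw [hD₁E]; exact hσM
  obtain ⟨ρ, hρ⟩ := exists_dot_eq_one_of_mod D₁ σM σN hσN₁ hσ hI hJ
  obtain ⟨ψ₀, hψ₀⟩ := exists_dot_eq_one_of_mod' D₁ σM σN hσM₁ hσN₁ hσ hI hJ
  obtain ⟨E'', hE''def⟩ : ∃ E'', E'' = D.E - proj1 D.E σM ρ := ⟨_, rfl⟩
  obtain ⟨F'', hF''def⟩ : ∃ F'', F'' = D.F - proj1 D.F σN ψ₀ := ⟨_, rfl⟩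
  have hE''σ : E'' *ᵥ σM = 0 := by rw [hE''def]; exact sub_proj1_mulVec hσM hρ
  have hF''σ : F'' *ᵥ σN = 0 := by rw [hF''def]; exact sub_proj1_mulVec hσN hψ₀
  have hE''idem : E'' * E'' = E'' := by rw [hE''def]; exact sub_proj1_idem D.hE hσM hρ
  have hF''idem : F'' * F'' = F'' := by rw [hF''def]; exact sub_proj1_idem D.hF hσN hψ₀
  have hE''E : E'' * D₁.E = E'' := by rw [hE''def, hD₁E]; exact sub_proj1_mul D.hE
  have hF''F : F'' * D₁.F = F'' := by rw [hF''def, hD₁F]; exact sub_proj1_mul D.hF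
  have hEE'' : D.E * E'' = E'' := by rw [hE''def]; exact mul_sub_proj1 D.hE hσM
  have hFF'' : D.F * F'' = F'' := by rw [hF''def]; exact mul_sub_proj1 D.hF hσN
  have h1 : E''.map toL * D₁.Ym * (D₁.F - F'').map toL' = 0 := by
    have h11 : D₁.F - F'' = proj1 D.F σN ψ₀ := by rw [hF''def, hD₁F]; exact sub_sub_cancel _ _
    have h12 : E''.map toL *ᵥ (toL ∘ σM) = 0 := by
      rw [← toL_mulVec_gen, hE''σ, toL_zero_vec]
    rw [h11, proj1, map_vecMulVec, Matrix.mul_assoc, Matrix.mul_vecMulVec, ← hσ,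
      Matrix.mul_vecMulVec, h12, Matrix.zero_vecMulVec]
  have h2 : F''.map toL' * D₁.Xm * (D₁.E - E'').map toL = 0 := by
    have h21 : D₁.E - E'' = proj1 D.E σM ρ := by rw [hE''def, hD₁E]; exact sub_sub_cancel _ _
    have h22 : F''.map toL' *ᵥ (toL' ∘ σN) = 0 := by
      rw [← toL'_mulVec_gen, hF''σ, toL'_zero_vec]
    rw [h21, proj1, map_vecMulVec, Matrix.mul_assoc, Matrix.mul_vecMulVec,
      Xm_toL_eq D₁ hσN₁ hσ, Matrix.mul_vecMulVec, h22, Matrix.zero_vecMulVec]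
  refine ⟨σM, ρ, D₁.sub E'' F'' hE''idem hF''idem hE''E hF''F h1 h2, ⟨?_⟩, hσM, hρ, hE''def⟩
  -- some congruences
  have hφσ : ∀ a : ι, a ≠ a₀ → B.φ a ⬝ᵥ σM ∈ mX A := by
    intro a ha
    have h3 := B.dualM a a₀
    rw [if_neg ha, sub_zero] at h3
    rw [hσMdef, dotProduct_sub]
    exact Ideal.sub_mem _ h3 (dot_mem_mX _ hx')
  have hψσ : ∀ a : ι, a ≠ a₀ → B.ψ a ⬝ᵥ σN ∈ mX A := by
    intro a ha
    have h3 := B.dualN a a₀
    rw [if_neg ha, sub_zero] at h3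
    rw [hσNdef, dotProduct_add]
    exact Ideal.add_mem _ h3 (dot_mem_mX _ hw')
  have hE''m₀ : E'' *ᵥ B.m a₀ = E'' *ᵥ x := by
    have : B.m a₀ = σM + x := by rw [hσMdef]; abel
    rw [this, Matrix.mulVec_add, hE''σ, zero_add]
  have hF''w₀ : F'' *ᵥ B.w a₀ = -(F'' *ᵥ w) := by
    have : B.w a₀ = σN - w := by rw [hσNdef]; abel
    rw [this, Matrix.mulVec_sub, hF''σ, zero_sub]
  exact
  { m := fun a => E'' *ᵥ B.m a
    w := fun a => F'' *ᵥ B.w a
    d := fun a => B.d a - c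
    φ := fun a => B.φ a
    ψ := fun a => B.ψ a
    hm := fun a => by
      show E'' *ᵥ (E'' *ᵥ B.m a) = E'' *ᵥ B.m a
      rw [Matrix.mulVec_mulVec, hE''idem]
    hw := fun a => by
      show F'' *ᵥ (F'' *ᵥ B.w a) = F'' *ᵥ B.w a
      rw [Matrix.mulVec_mulVec, hF''idem]
    genM := by
      intro y hy
      have hy' : E'' *ᵥ y = y := hy
      have hEy : D.E *ᵥ y = y := by rw [← hy', Matrix.mulVec_mulVec, hEE'']
      obtain ⟨c', hc'⟩ := B.genM y hEy
      refine ⟨fun a => c' a, fun b => ?_⟩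
      have key : y - ∑ a : {a // a ≠ a₀}, c' a • (E'' *ᵥ B.m a) =
          E'' *ᵥ (y - ∑ a, c' a • B.m a) + c' a₀ • (E'' *ᵥ x) := by
        rw [Matrix.mulVec_sub, hy', Matrix.mulVec_sum, Fintype.sum_eq_add_sum_subtype_ne _ a₀]
        simp only [Matrix.mulVec_smul, hE''m₀]
        abel
      rw [key]
      exact Ideal.add_mem _ (mulVec_mem_mX E'' hc' b)
        (Ideal.mul_mem_left _ _ (mulVec_mem_mX E'' hx' b))
    genN := by
      intro y hy
      have hy' : F'' *ᵥ y = y := hy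
      have hFy : D.F *ᵥ y = y := by rw [← hy', Matrix.mulVec_mulVec, hFF'']
      obtain ⟨c', hc'⟩ := B.genN y hFy
      refine ⟨fun a => c' a, fun b => ?_⟩
      have key : y - ∑ a : {a // a ≠ a₀}, c' a • (F'' *ᵥ B.w a) =
          F'' *ᵥ (y - ∑ a, c' a • B.w a) - c' a₀ • (F'' *ᵥ w) := by
        rw [Matrix.mulVec_sub, hy', Matrix.mulVec_sum, Fintype.sum_eq_add_sum_subtype_ne _ a₀]
        simp only [Matrix.mulVec_smul, hF''w₀, smul_neg]
        abel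
      rw [key]
      exact Ideal.sub_mem _ (mulVec_mem_mX F'' hc' b)
        (Ideal.mul_mem_left _ _ (mulVec_mem_mX F'' hw' b))
    dualM := by
      intro a b
      have h3 := B.dualM a b
      have h4 : B.φ a ⬝ᵥ (E'' *ᵥ B.m b) =
          B.φ a ⬝ᵥ B.m b - ((ρ ᵥ* D.E) ⬝ᵥ B.m b) * (B.φ a ⬝ᵥ σM) := by
        rw [hE''def, Matrix.sub_mulVec, B.hm, proj1_mulVec_gen, dotProduct_sub, dotProduct_smul,
          smul_eq_mul]
      show B.φ a ⬝ᵥ (E'' *ᵥ B.m b) - (if a = b then 1 else 0) ∈ mX A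
      have h5 : (if a = b then (1 : A[X]) else 0) = if (a : ι) = b then 1 else 0 := by
        simp only [Subtype.ext_iff]
      rw [h4, h5, sub_right_comm]
      exact Ideal.sub_mem _ h3 (Ideal.mul_mem_left _ _ (hφσ a a.2))
    dualN := by
      intro a b
      have h3 := B.dualN a b
      have h4 : B.ψ a ⬝ᵥ (F'' *ᵥ B.w b) =
          B.ψ a ⬝ᵥ B.w b - ((ψ₀ ᵥ* D.F) ⬝ᵥ B.w b) * (B.ψ a ⬝ᵥ σN) := by
        rw [hF''def, Matrix.sub_mulVec, B.hw, proj1_mulVec_gen, dotProduct_sub, dotProduct_smul,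
          smul_eq_mul]
      show B.ψ a ⬝ᵥ (F'' *ᵥ B.w b) - (if a = b then 1 else 0) ∈ mX A
      have h5 : (if a = b then (1 : A[X]) else 0) = if (a : ι) = b then 1 else 0 := by
        simp only [Subtype.ext_iff]
      rw [h4, h5, sub_right_comm]
      exact Ideal.sub_mem _ h3 (Ideal.mul_mem_left _ _ (hψσ a a.2))
    rel := by
      intro a
      show (toL ∘ (E'' *ᵥ B.m a) - (T (B.d a - c) : A[T;T⁻¹]) •
        ((D₁.sub E'' F'' hE''idem hF''idem hE''E hF''F h1 h2).Ym *ᵥ (toL' ∘ (F'' *ᵥ B.w a))) :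
        n → A[T;T⁻¹]) ∈ mLvec A n
      rw [PData.sub_Ym_mulVec D₁ E'' F'' hE''idem hF''idem hE''E hF''F h1 h2 _ (hwF a),
        toL_mulVec_gen, ← Matrix.mulVec_smul, ← Matrix.mulVec_sub]
      exact mulVec_mem_mLvec _ (rel₁ a) }

end Step

section Main

variable [IsLocalRing A]

universe v

/-- **Local Horrocks, matrix form with a Birkhoff family**: the idempotent `E` is "free". -/
theorem exists_basis_of_bfam : ∀ (r : ℕ) (ι : Type v) [Fintype ι] [DecidableEq ι],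
    Fintype.card ι = r → ∀ (D : PData A n n') (_ : BFam D ι),
    ∃ (U : Matrix n ι A[X]) (U' : Matrix ι n A[X]), U' * U = 1 ∧ U * U' = D.E := by
  intro r
  induction r with
  | zero =>
    intro ι _ _ hcard D B
    have hemp : IsEmpty ι := Fintype.card_eq_zero_iff.1 hcard
    have hE0 : D.E = 0 := by
      refine E_eq_zero_of_mod D ?_ ?_
      · intro x hx b
        obtain ⟨c, hc⟩ := B.genM x hx
        have := hc b
        simpa using this
      · intro x hx b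
        obtain ⟨c, hc⟩ := B.genN x hx
        have := hc b
        simpa using this
    refine ⟨0, 0, ?_, ?_⟩
    · ext a; exact (hemp.false a).elim
    · rw [hE0]; simp
  | succ r ih =>
    intro ι _ _ hcard D B
    have hne : (Finset.univ : Finset ι).Nonempty := by
      rw [Finset.univ_nonempty_iff, ← Fintype.card_pos_iff, hcard]
      exact Nat.succ_pos r
    obtain ⟨a₀, -, ha₀⟩ := Finset.exists_max_image Finset.univ B.d hne
    obtain ⟨σM, ρ, D₂, ⟨B₂⟩, hσM, hρ, hD₂E⟩ :=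
      exists_step D B a₀ (fun a => ha₀ a (Finset.mem_univ a))
    have hcard' : Fintype.card {a // a ≠ a₀} = r := by
      rw [Fintype.card_subtype_compl, Fintype.card_subtype_eq, hcard]
      rfl
    obtain ⟨U₂, U₂', h1, h2⟩ := ih {a // a ≠ a₀} hcard' D₂ B₂
    rw [hD₂E] at h2
    exact exists_basis_of_sub_proj1 D.E D.hE σM ρ hσM hρ a₀ U₂ U₂' h1 h2

end Main

end Groth.Agent.Lib.Seat99.HQ
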