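import Groth.Agent.Lib.Seat99HQQuillen

/-!
# Horrocks–Quillen, part 4: Quillen patching for idempotent matrices (seat 99)
-/

set_option linter.unusedSectionVars false
set_option linter.unusedVariables false
set_option linter.unusedSimpArgs false

open Polynomial Matrix

namespace Groth.Agent.Lib.Seat99.HQ

section Glue

variable {B Ba Bb Bab : Type*} [CommRing B] [CommRing Ba] [CommRing Bb] [CommRing Bab]

/-- Zariski gluing of elements for a two element cover. -/
theorem exists_glue (ιa : B →+* Ba) (ιb : B →+* Bb) (fa : Ba →+* Bab) (fb : Bb →+* Bab)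
    (a b : B) (hab : IsCoprime a b)
    (ha : LocLike ιa (Submonoid.powers a)) (hb : LocLike ιb (Submonoid.powers b))
    (hfa : ∀ y : Ba, fa y = 0 → ∃ k : ℕ, ιa b ^ k * y = 0)
    (hcomp : fa.comp ιa = fb.comp ιb)
    (xa : Ba) (xb : Bb) (h : fa xa = fb xb) : ∃ x : B, ιa x = xa ∧ ιb x = xb := by
  obtain ⟨_, ⟨m₁, rfl⟩, pa, hpa⟩ := ha.surj xa
  obtain ⟨_, ⟨m₂, rfl⟩, pb, hpb⟩ := hb.surj xb
  have hc : ∀ x, fa (ιa x) = fb (ιb x) := fun x => congrArg (fun g => g x) hcomp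
  simp only at hpa hpb
  have h0 : fa (ιa (b ^ m₂ * pa - a ^ m₁ * pb)) = 0 := by
    have e1 : fa (ιa (b ^ m₂ * pa)) = fa (ιa (b ^ m₂)) * (fa (ιa (a ^ m₁)) * fa xa) := by
      rw [map_mul, map_mul, hpa, map_mul]
    have e2 : fa (ιa (a ^ m₁ * pb)) = fa (ιa (a ^ m₁)) * (fa (ιa (b ^ m₂)) * fa xa) := by
      rw [hc, map_mul, map_mul, hpb, map_mul, ← hc, ← hc, h]
    rw [map_sub, map_sub, e1, e2]
    ring
  obtain ⟨k, hk⟩ := hfa _ h0
  have h1 : ιa (b ^ k * (b ^ m₂ * pa - a ^ m₁ * pb)) = 0 := by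
    rw [map_mul, map_pow]; exact hk
  obtain ⟨_, ⟨j, rfl⟩, hj⟩ := ha.ker _ h1
  obtain ⟨u, v, huv⟩ := IsCoprime.pow (m := m₁ + j) (n := m₂ + k) hab
  have hau : IsUnit (ιa (a ^ (m₁ + j))) := ha.unit _ ⟨m₁ + j, rfl⟩
  have hbu : IsUnit (ιb (b ^ (m₂ + k))) := hb.unit _ ⟨m₂ + k, rfl⟩
  refine ⟨u * a ^ j * pa + v * b ^ k * pb, ?_, ?_⟩
  · apply hau.mul_left_cancel
    have e1 : ιa (a ^ (m₁ + j)) * xa = ιa (a ^ j * pa) := by
      rw [map_mul, hpa, pow_add, map_mul]; ring
    rw [e1, ← map_mul]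
    congr 1
    have : a ^ (m₁ + j) * (u * a ^ j * pa + v * b ^ k * pb) - a ^ j * pa =
        -(v * (a ^ j * (b ^ k * (b ^ m₂ * pa - a ^ m₁ * pb)))) +
          (u * a ^ (m₁ + j) + v * b ^ (m₂ + k) - 1) * (a ^ j * pa) := by
      rw [pow_add, pow_add]; ring
    rw [hj, huv] at this
    rw [← sub_eq_zero, this]; ring
  · apply hbu.mul_left_cancel
    have e1 : ιb (b ^ (m₂ + k)) * xb = ιb (b ^ k * pb) := by
      rw [map_mul, hpb, pow_add, map_mul]; ring
    rw [e1, ← map_mul]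
    congr 1
    have : b ^ (m₂ + k) * (u * a ^ j * pa + v * b ^ k * pb) - b ^ k * pb =
        u * (a ^ j * (b ^ k * (b ^ m₂ * pa - a ^ m₁ * pb))) +
          (u * a ^ (m₁ + j) + v * b ^ (m₂ + k) - 1) * (b ^ k * pb) := by
      rw [pow_add, pow_add]; ring
    rw [hj, huv] at this
    rw [← sub_eq_zero, this]; ring

/-- Injectivity of `B → Ba × Bb`. -/
theorem eq_zero_of_glue (ιa : B →+* Ba) (ιb : B →+* Bb) (a b : B) (hab : IsCoprime a b)
    (ha : LocLike ιa (Submonoid.powers a)) (hb : LocLike ιb (Submonoid.powers b))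
    (x : B) (hxa : ιa x = 0) (hxb : ιb x = 0) : x = 0 := by
  obtain ⟨_, ⟨j, rfl⟩, hj⟩ := ha.ker _ hxa
  obtain ⟨_, ⟨k, rfl⟩, hk⟩ := hb.ker _ hxb
  obtain ⟨u, v, huv⟩ := IsCoprime.pow (m := j) (n := k) hab
  calc x = (u * a ^ j + v * b ^ k) * x := by rw [huv, one_mul]
    _ = u * (a ^ j * x) + v * (b ^ k * x) := by ring
    _ = 0 := by rw [hj, hk]; ring

variable {m n : Type*} [Finite m] [Finite n]

theorem exists_glue_matrix (ιa : B →+* Ba) (ιb : B →+* Bb) (fa : Ba →+* Bab) (fb : Bb →+* Bab)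
    (a b : B) (hab : IsCoprime a b)
    (ha : LocLike ιa (Submonoid.powers a)) (hb : LocLike ιb (Submonoid.powers b))
    (hfa : ∀ y : Ba, fa y = 0 → ∃ k : ℕ, ιa b ^ k * y = 0)
    (hcomp : fa.comp ιa = fb.comp ιb)
    (Ma : Matrix m n Ba) (Mb : Matrix m n Bb) (h : Ma.map fa = Mb.map fb) :
    ∃ M : Matrix m n B, M.map ιa = Ma ∧ M.map ιb = Mb := by
  choose x hxa hxb using fun i j => exists_glue ιa ιb fa fb a b hab ha hb hfa hcomp (Ma i j)
    (Mb i j) (congrFun (congrFun h i) j)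
  exact ⟨Matrix.of x, Matrix.ext hxa, Matrix.ext hxb⟩

theorem eq_of_glue_matrix (ιa : B →+* Ba) (ιb : B →+* Bb) (a b : B) (hab : IsCoprime a b)
    (ha : LocLike ιa (Submonoid.powers a)) (hb : LocLike ιb (Submonoid.powers b))
    (M M' : Matrix m n B) (hMa : M.map ιa = M'.map ιa) (hMb : M.map ιb = M'.map ιb) : M = M' := by
  refine Matrix.ext fun i j => ?_
  rw [← sub_eq_zero]
  refine eq_zero_of_glue ιa ιb a b hab ha hb _ ?_ ?_
  · rw [map_sub, sub_eq_zero]; exact congrFun (congrFun hMa i) j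
  · rw [map_sub, sub_eq_zero]; exact congrFun (congrFun hMb i) j

end Glue

section IsConj

variable {A S S' : Type*} [CommRing A] [CommRing S] [CommRing S']
variable {n : Type*} [Fintype n] [DecidableEq n]

/-- `E` is conjugate, over `S[X]` (via `φ : A → S`), to the constant matrix `e₀`. -/
def IsConj (E : Matrix n n A[X]) (e₀ : Matrix n n A) (φ : A →+* S) : Prop :=
  ∃ g g' : Matrix n n S[X], g * g' = 1 ∧ g' * g = 1 ∧
    g * E.map (Polynomial.mapRingHom φ) = e₀.map ((Polynomial.C : S →+* S[X]).comp φ) * g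

variable {E : Matrix n n A[X]} {e₀ : Matrix n n A}

theorem IsConj.comp {φ : A →+* S} (h : IsConj E e₀ φ) (ψ : S →+* S') :
    IsConj E e₀ (ψ.comp φ) := by
  obtain ⟨g, g', h1, h2, h3⟩ := h
  refine ⟨g.map (Polynomial.mapRingHom ψ), g'.map (Polynomial.mapRingHom ψ), ?_, ?_, ?_⟩
  · rw [← Matrix.map_mul, h1, Matrix.map_one _ (map_zero _) (map_one _)]
  · rw [← Matrix.map_mul, h2, Matrix.map_one _ (map_zero _) (map_one _)]
  · have := congrArg (fun M => M.map (Polynomial.mapRingHom ψ)) h3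
    simp only [Matrix.map_mul, Matrix.map_map] at this
    convert this using 2
    · congr 1
      funext p
      simp [Polynomial.map_map]
    · congr 1
      funext a
      simp

theorem isConj_comp_iff {φ : A →+* S} {ψ : S →+* S'} :
    IsConj E e₀ (ψ.comp φ) ↔ IsConj (E.map (Polynomial.mapRingHom φ)) (e₀.map φ) ψ := by
  have h1 : E.map (Polynomial.mapRingHom (ψ.comp φ)) =
      (E.map (Polynomial.mapRingHom φ)).map (Polynomial.mapRingHom ψ) := by
    rw [Matrix.map_map]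
    congr 1
    funext p
    simp [Polynomial.map_map]
  have h2 : e₀.map ((Polynomial.C : S' →+* S'[X]).comp (ψ.comp φ)) =
      (e₀.map φ).map ((Polynomial.C : S' →+* S'[X]).comp ψ) := by
    rw [Matrix.map_map]
    rfl
  unfold IsConj
  rw [h1, h2]

/-- Normalization: the conjugating matrix can be taken to be `1` at `t = 0`. -/
theorem IsConj.normalize {φ : A →+* S} (h : IsConj E e₀ φ)
    (he₀ : E.map (Polynomial.evalRingHom 0) = e₀) :
    ∃ g g' : Matrix n n S[X], g * g' = 1 ∧ g' * g = 1 ∧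
      g * E.map (Polynomial.mapRingHom φ) = e₀.map ((Polynomial.C : S →+* S[X]).comp φ) * g ∧
      g.map (Polynomial.evalRingHom 0) = 1 ∧ g'.map (Polynomial.evalRingHom 0) = 1 := by
  obtain ⟨g, g', h1, h2, h3⟩ := h
  set ev : S[X] →+* S := Polynomial.evalRingHom 0 with hev
  set g0 : Matrix n n S := g.map ev with hg0
  set g0' : Matrix n n S := g'.map ev with hg0'
  have h10 : g0 * g0' = 1 := by
    rw [hg0, hg0', ← Matrix.map_mul, h1, Matrix.map_one _ (map_zero _) (map_one _)]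
  have h20 : g0' * g0 = 1 := by
    rw [hg0, hg0', ← Matrix.map_mul, h2, Matrix.map_one _ (map_zero _) (map_one _)]
  set ebar : Matrix n n S := e₀.map φ with hebar
  have hE0 : (E.map (Polynomial.mapRingHom φ)).map ev = ebar := by
    rw [hebar, ← he₀, Matrix.map_map, Matrix.map_map]
    congr 1
    funext p
    simp [hev, Polynomial.eval_map, Polynomial.eval₂_at_zero, Polynomial.coeff_zero_eq_eval_zero]
  have hC0 : (e₀.map ((Polynomial.C : S →+* S[X]).comp φ)).map ev = ebar := by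
    rw [hebar, Matrix.map_map]
    congr 1
    funext a
    simp [hev]
  have hcomm0 : g0 * ebar = ebar * g0 := by
    have := congrArg (fun M => M.map ev) h3
    simp only [Matrix.map_mul, hE0, hC0] at this
    exact this
  have hcomm0' : g0' * ebar = ebar * g0' := by
    calc g0' * ebar = g0' * ebar * (g0 * g0') := by rw [h10, mul_one]
      _ = g0' * (ebar * g0) * g0' := by simp only [mul_assoc]
      _ = g0' * (g0 * ebar) * g0' := by rw [hcomm0]
      _ = (g0' * g0) * ebar * g0' := by simp only [mul_assoc]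
      _ = ebar * g0' := by rw [h20, one_mul]
  have hCmap : ∀ M N : Matrix n n S, (M * N).map (Polynomial.C : S →+* S[X]) =
      M.map Polynomial.C * N.map Polynomial.C := fun M N => Matrix.map_mul
  have hCe : e₀.map ((Polynomial.C : S →+* S[X]).comp φ) = ebar.map (Polynomial.C : S →+* S[X]) := by
    rw [hebar, Matrix.map_map]; rfl
  refine ⟨g0'.map Polynomial.C * g, g' * g0.map Polynomial.C, ?_, ?_, ?_, ?_, ?_⟩
  · calc g0'.map Polynomial.C * g * (g' * g0.map Polynomial.C)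
        = g0'.map Polynomial.C * (g * g') * g0.map Polynomial.C := by simp only [mul_assoc]
      _ = 1 := by
        rw [h1, mul_one, ← hCmap, h20, Matrix.map_one _ (map_zero _) (map_one _)]
  · calc g' * g0.map Polynomial.C * (g0'.map Polynomial.C * g)
        = g' * (g0.map Polynomial.C * g0'.map Polynomial.C) * g := by simp only [mul_assoc]
      _ = 1 := by
        rw [← hCmap, h10, Matrix.map_one _ (map_zero _) (map_one _), mul_one, h2]
  · rw [mul_assoc, h3, hCe, ← mul_assoc, ← hCmap, hcomm0', hCmap, mul_assoc]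
  · rw [Matrix.map_mul, Matrix.map_map]
    have : (ev : S[X] → S) ∘ (Polynomial.C : S → S[X]) = id := by funext a; simp [hev]
    rw [this, Matrix.map_id, ← hg0, h20]
  · rw [Matrix.map_mul, Matrix.map_map]
    have : (ev : S[X] → S) ∘ (Polynomial.C : S → S[X]) = id := by funext a; simp [hev]
    rw [this, Matrix.map_id, ← hg0', h20]

end IsConj

section Patch

variable {B Ba Bb Bab : Type*} [CommRing B] [CommRing Ba] [CommRing Bb] [CommRing Bab]
variable {n : Type*} [Fintype n] [DecidableEq n]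

theorem scaleHom_one {S : Type*} [CommRing S] : scaleHom (1 : S) = RingHom.id S[X] := by
  refine Polynomial.ringHom_ext (fun a => ?_) ?_
  · simp [scaleHom, Polynomial.coe_compRingHom_apply]
  · simp [scaleHom, Polynomial.coe_compRingHom_apply]

theorem scaleHom_zero {S : Type*} [CommRing S] :
    scaleHom (0 : S) = (Polynomial.C : S →+* S[X]).comp (Polynomial.evalRingHom 0) := by
  refine Polynomial.ringHom_ext (fun a => ?_) ?_
  · simp [scaleHom, Polynomial.coe_compRingHom_apply]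
  · simp [scaleHom, Polynomial.coe_compRingHom_apply]

theorem map_map_hom {R S T : Type*} [Semiring R] [Semiring S] [Semiring T] {m n : Type*}
    (M : Matrix m n R) (f : R →+* S) (g : S →+* T) : (M.map f).map g = M.map (g.comp f) := by
  rw [Matrix.map_map]; rfl

theorem map_one_hom {R S : Type*} [Semiring R] [Semiring S] (f : R →+* S) :
    (1 : Matrix n n R).map f = 1 := Matrix.map_one _ (map_zero _) (map_one _)

theorem map_map_eval_zero {R R' : Type*} [CommRing R] [CommRing R'] (f : R →+* R')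
    (M : Matrix n n R[X]) :
    (M.map (Polynomial.mapRingHom f)).map (Polynomial.evalRingHom 0) =
      (M.map (Polynomial.evalRingHom 0)).map f := by
  rw [map_map_hom, map_map_hom]
  congr 1
  ext p
  simp [Polynomial.eval_map, Polynomial.eval₂_at_zero, Polynomial.coeff_zero_eq_eval_zero]

/-- **Quillen patching** for a two element cover. -/
theorem patch (ιa : B →+* Ba) (ιb : B →+* Bb) (fa : Ba →+* Bab) (fb : Bb →+* Bab)
    (a b : B) (hab : IsCoprime a b)
    (ha : LocLike ιa (Submonoid.powers a)) (hb : LocLike ιb (Submonoid.powers b))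
    (hfa : LocLike fa (Submonoid.powers (ιa b))) (hfb : LocLike fb (Submonoid.powers (ιb a)))
    (hcomp : fa.comp ιa = fb.comp ιb)
    (E : Matrix n n B[X]) (e₀ : Matrix n n B) (he₀ : E.map (Polynomial.evalRingHom 0) = e₀)
    (hEa : IsConj E e₀ ιa) (hEb : IsConj E e₀ ιb) : IsConj E e₀ (RingHom.id B) := by
  obtain ⟨ga, ga', ha1, ha2, ha3, ha0, ha0'⟩ := hEa.normalize he₀
  obtain ⟨gb, gb', hb1, hb2, hb3, hb0, hb0'⟩ := hEb.normalize he₀
  obtain ⟨Fa, hFa⟩ : ∃ Fa, Fa = Polynomial.mapRingHom fa := ⟨_, rfl⟩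
  obtain ⟨Fb, hFb⟩ : ∃ Fb, Fb = Polynomial.mapRingHom fb := ⟨_, rfl⟩
  obtain ⟨Ia, hIa⟩ : ∃ Ia, Ia = Polynomial.mapRingHom ιa := ⟨_, rfl⟩
  obtain ⟨Ib, hIb⟩ : ∃ Ib, Ib = Polynomial.mapRingHom ιb := ⟨_, rfl⟩
  rw [← hIa] at ha3
  rw [← hIb] at hb3
  have hFI : Fa.comp Ia = Fb.comp Ib := by
    rw [hFa, hFb, hIa, hIb, Polynomial.mapRingHom_comp, Polynomial.mapRingHom_comp, hcomp]
  have hFaC : Fa.comp (Polynomial.C : Ba →+* Ba[X]) = (Polynomial.C : Bab →+* Bab[X]).comp fa := by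
    rw [hFa]; ext x; simp
  have hFbC : Fb.comp (Polynomial.C : Bb →+* Bb[X]) = (Polynomial.C : Bab →+* Bab[X]).comp fb := by
    rw [hFb]; ext x; simp
  -- the common matrices over `Bab[X]`
  obtain ⟨Eab, hEab⟩ : ∃ Eab, Eab = E.map (Fa.comp Ia) := ⟨_, rfl⟩
  obtain ⟨eab, heab⟩ : ∃ eab, eab = e₀.map ((Polynomial.C : Bab →+* Bab[X]).comp (fa.comp ιa)) :=
    ⟨_, rfl⟩
  have ha3F : ga.map Fa * Eab = eab * ga.map Fa := by
    have := congrArg (fun M => M.map Fa) ha3
    simp only [Matrix.map_mul, map_map_hom] at this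
    rw [hEab, heab, this, ← RingHom.comp_assoc, hFaC, RingHom.comp_assoc]
  have hb3' : E.map Ib * gb' = gb' * e₀.map ((Polynomial.C : Bb →+* Bb[X]).comp ιb) := by
    calc E.map Ib * gb' = (gb' * gb) * E.map Ib * gb' := by rw [hb2, one_mul]
      _ = gb' * (gb * E.map Ib) * gb' := by simp only [mul_assoc]
      _ = gb' * e₀.map ((Polynomial.C : Bb →+* Bb[X]).comp ιb) * (gb * gb') := by
        rw [hb3]; simp only [mul_assoc]
      _ = _ := by rw [hb1, mul_one]
  have hb3F : Eab * gb'.map Fb = gb'.map Fb * eab := by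
    have := congrArg (fun M => M.map Fb) hb3'
    simp only [Matrix.map_mul, map_map_hom] at this
    rw [hEab, heab, hFI, this, ← RingHom.comp_assoc, hFbC, RingHom.comp_assoc, hcomp]
  obtain ⟨θ, hθ⟩ : ∃ θ, θ = ga.map Fa * gb'.map Fb := ⟨_, rfl⟩
  obtain ⟨θ', hθ'⟩ : ∃ θ', θ' = gb.map Fb * ga'.map Fa := ⟨_, rfl⟩
  have hθ1 : θ * θ' = 1 := by
    calc θ * θ' = ga.map Fa * (gb'.map Fb * gb.map Fb) * ga'.map Fa := by
          rw [hθ, hθ']; simp only [mul_assoc]
      _ = 1 := by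
          rw [← Matrix.map_mul, hb2, map_one_hom, mul_one, ← Matrix.map_mul, ha1, map_one_hom]
  have hθ2 : θ' * θ = 1 := by
    calc θ' * θ = gb.map Fb * (ga'.map Fa * ga.map Fa) * gb'.map Fb := by
          rw [hθ, hθ']; simp only [mul_assoc]
      _ = 1 := by
          rw [← Matrix.map_mul, ha2, map_one_hom, mul_one, ← Matrix.map_mul, hb1, map_one_hom]
  have hcθ : Commute eab θ := by
    show eab * θ = θ * eab
    calc eab * θ = (eab * ga.map Fa) * gb'.map Fb := by rw [hθ, mul_assoc]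
      _ = ga.map Fa * (Eab * gb'.map Fb) := by rw [← ha3F, mul_assoc]
      _ = θ * eab := by rw [hb3F, ← mul_assoc, hθ]
  have hθ'0 : θ'.map (scaleHom (0 : Bab)) = 1 := by
    rw [scaleHom_zero, ← map_map_hom, hθ', Matrix.map_mul, hFa, hFb, map_map_eval_zero,
      map_map_eval_zero, hb0, ha0',
      map_one_hom, map_one_hom, mul_one, map_one_hom]
  -- apply Quillen's lemma twice
  have hca : Commute ((e₀.map ιa).map ((Polynomial.C : Bab →+* Bab[X]).comp fa)) θ := by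
    rw [map_map_hom, RingHom.comp_assoc, ← heab]; exact hcθ
  have hcb : Commute ((e₀.map ιb).map ((Polynomial.C : Bab →+* Bab[X]).comp fb)) θ := by
    rw [map_map_hom, RingHom.comp_assoc, ← hcomp, ← heab]; exact hcθ
  obtain ⟨k₁, hk₁⟩ := quillen_lift fa (ιa b) hfa (e₀.map ιa) θ θ' hθ1 hθ2 hca 1
  obtain ⟨k₂, hk₂⟩ := quillen_lift fb (ιb a) hfb (e₀.map ιb) θ θ' hθ1 hθ2 hcb 0
  obtain ⟨u, v, huv⟩ := IsCoprime.pow (m := k₂) (n := k₁) hab
  obtain ⟨ψ₁, ψ₁', hψ₁1, hψ₁2, hψ₁c, hψ₁⟩ := hk₁ (ιa (-v))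
  obtain ⟨ψ₂, ψ₂', hψ₂1, hψ₂2, hψ₂c, hψ₂⟩ := hk₂ (ιb u)
  rw [← hFa] at hψ₁
  rw [← hFb] at hψ₂
  obtain ⟨c, hc⟩ : ∃ c, c = fa (ιa (u * a ^ k₂)) := ⟨_, rfl⟩
  have hc1 : fa (1 + ιa b ^ k₁ * ιa (-v)) = c := by
    rw [hc, ← map_pow, ← map_mul, ← map_one ιa, ← map_add]
    congr 2
    linear_combination (-1 : B) * huv
  have hc2 : fb (0 + ιb a ^ k₂ * ιb u) = c := by
    have hcc : ∀ x, fa (ιa x) = fb (ιb x) := fun x => congrArg (fun g => g x) hcomp
    rw [hc, hcc, ← map_pow, ← map_mul, zero_add, mul_comm]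
  rw [hc1, map_one, scaleHom_one] at hψ₁
  rw [hc2, map_zero, hθ'0, mul_one] at hψ₂
  have hid : θ'.map (RingHom.id Bab[X]) = θ' := by
    ext i j; rfl
  rw [hid] at hψ₁
  -- the corrected conjugators
  obtain ⟨Ha, hHa⟩ : ∃ Ha, Ha = ψ₁ * ga := ⟨_, rfl⟩
  obtain ⟨Hb, hHb⟩ : ∃ Hb, Hb = ψ₂ * gb := ⟨_, rfl⟩
  obtain ⟨Ha', hHa'⟩ : ∃ Ha', Ha' = ga' * ψ₁' := ⟨_, rfl⟩
  obtain ⟨Hb', hHb'⟩ : ∃ Hb', Hb' = gb' * ψ₂' := ⟨_, rfl⟩
  have hHa1 : Ha * Ha' = 1 := by
    calc Ha * Ha' = ψ₁ * (ga * ga') * ψ₁' := by rw [hHa, hHa']; simp only [mul_assoc]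
      _ = 1 := by rw [ha1, mul_one, hψ₁1]
  have hHa2 : Ha' * Ha = 1 := by
    calc Ha' * Ha = ga' * (ψ₁' * ψ₁) * ga := by rw [hHa, hHa']; simp only [mul_assoc]
      _ = 1 := by rw [hψ₁2, mul_one, ha2]
  have hHb1 : Hb * Hb' = 1 := by
    calc Hb * Hb' = ψ₂ * (gb * gb') * ψ₂' := by rw [hHb, hHb']; simp only [mul_assoc]
      _ = 1 := by rw [hb1, mul_one, hψ₂1]
  have hHb2 : Hb' * Hb = 1 := by
    calc Hb' * Hb = gb' * (ψ₂' * ψ₂) * gb := by rw [hHb, hHb']; simp only [mul_assoc]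
      _ = 1 := by rw [hψ₂2, mul_one, hb2]
  have hHab : Ha.map Fa = Hb.map Fb := by
    rw [hHa, hHb, Matrix.map_mul, Matrix.map_mul, hψ₁, hψ₂, hθ']
    calc θ.map (scaleHom c) * (gb.map Fb * ga'.map Fa) * ga.map Fa
        = θ.map (scaleHom c) * gb.map Fb * (ga'.map Fa * ga.map Fa) := by simp only [mul_assoc]
      _ = θ.map (scaleHom c) * gb.map Fb := by
        rw [← Matrix.map_mul, ha2, map_one_hom, mul_one]
  have hHab' : Ha'.map Fa = Hb'.map Fb := by
    calc Ha'.map Fa = Ha'.map Fa * (Hb.map Fb * Hb'.map Fb) := by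
          rw [← Matrix.map_mul, hHb1, map_one_hom, mul_one]
      _ = (Ha'.map Fa * Ha.map Fa) * Hb'.map Fb := by rw [← hHab]; simp only [mul_assoc]
      _ = Hb'.map Fb := by rw [← Matrix.map_mul, hHa2, map_one_hom, one_mul]
  have hHaE : Ha * E.map Ia = e₀.map ((Polynomial.C : Ba →+* Ba[X]).comp ιa) * Ha := by
    have hcm : e₀.map ((Polynomial.C : Ba →+* Ba[X]).comp ιa) * ψ₁ =
        ψ₁ * e₀.map ((Polynomial.C : Ba →+* Ba[X]).comp ιa) := by
      have := hψ₁c.eq
      rwa [map_map_hom] at this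
    rw [hHa, mul_assoc, ha3, ← mul_assoc, ← hcm, mul_assoc]
  have hHbE : Hb * E.map Ib = e₀.map ((Polynomial.C : Bb →+* Bb[X]).comp ιb) * Hb := by
    have hcm : e₀.map ((Polynomial.C : Bb →+* Bb[X]).comp ιb) * ψ₂ =
        ψ₂ * e₀.map ((Polynomial.C : Bb →+* Bb[X]).comp ιb) := by
      have := hψ₂c.eq
      rwa [map_map_hom] at this
    rw [hHb, mul_assoc, hb3, ← mul_assoc, ← hcm, mul_assoc]
  -- glue
  have hCab : IsCoprime (Polynomial.C a : B[X]) (Polynomial.C b) := by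
    obtain ⟨u, v, h⟩ := hab
    exact ⟨Polynomial.C u, Polynomial.C v, by rw [← map_mul, ← map_mul, ← map_add, h, map_one]⟩
  have hLa : LocLike Ia (Submonoid.powers (Polynomial.C a : B[X])) := by
    have := ha.polynomial
    rwa [Submonoid.map_powers, ← hIa] at this
  have hLb : LocLike Ib (Submonoid.powers (Polynomial.C b : B[X])) := by
    have := hb.polynomial
    rwa [Submonoid.map_powers, ← hIb] at this
  have hker : ∀ y : Ba[X], Fa y = 0 → ∃ k : ℕ, Ia (Polynomial.C b) ^ k * y = 0 := by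
    intro y hy
    rw [hFa] at hy
    obtain ⟨_, ⟨_, ⟨k, rfl⟩, rfl⟩, hs⟩ := hfa.polynomial.ker y hy
    refine ⟨k, ?_⟩
    rw [hIa, Polynomial.coe_mapRingHom, Polynomial.map_C, ← map_pow]
    exact hs
  obtain ⟨G, hGa, hGb⟩ := exists_glue_matrix Ia Ib Fa Fb _ _ hCab hLa hLb hker hFI Ha Hb hHab
  obtain ⟨G', hGa', hGb'⟩ := exists_glue_matrix Ia Ib Fa Fb _ _ hCab hLa hLb hker hFI Ha' Hb' hHab'
  refine ⟨G, G', ?_, ?_, ?_⟩
  · refine eq_of_glue_matrix Ia Ib _ _ hCab hLa hLb _ _ ?_ ?_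
    · rw [Matrix.map_mul, hGa, hGa', hHa1, map_one_hom]
    · rw [Matrix.map_mul, hGb, hGb', hHb1, map_one_hom]
  · refine eq_of_glue_matrix Ia Ib _ _ hCab hLa hLb _ _ ?_ ?_
    · rw [Matrix.map_mul, hGa, hGa', hHa2, map_one_hom]
    · rw [Matrix.map_mul, hGb, hGb', hHb2, map_one_hom]
  · have hEid : E.map (Polynomial.mapRingHom (RingHom.id B)) = E := by
      ext i j; simp
    rw [hEid, RingHom.comp_id]
    have hIaC : Ia.comp (Polynomial.C : B →+* B[X]) = (Polynomial.C : Ba →+* Ba[X]).comp ιa := by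
      rw [hIa]; ext x; simp
    have hIbC : Ib.comp (Polynomial.C : B →+* B[X]) = (Polynomial.C : Bb →+* Bb[X]).comp ιb := by
      rw [hIb]; ext x; simp
    refine eq_of_glue_matrix Ia Ib _ _ hCab hLa hLb _ _ ?_ ?_
    · rw [Matrix.map_mul, Matrix.map_mul, hGa, map_map_hom, hIaC, hHaE]
    · rw [Matrix.map_mul, Matrix.map_mul, hGb, map_map_hom, hIbC, hHbE]

end Patch

section QuillenIdeal

theorem LocLike.of_comp {B Ba Bab : Type*} [CommRing B] [CommRing Ba] [CommRing Bab]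
    (ι : B →+* Ba) (g : B →+* Bab) (f : Ba →+* Bab) (a b : B)
    (hι : LocLike ι (Submonoid.powers a)) (hg : LocLike g (Submonoid.powers (a * b)))
    (hfg : f.comp ι = g) : LocLike f (Submonoid.powers (ι b)) := by
  have hfι : ∀ x, f (ι x) = g x := fun x => congrArg (fun h => h x) hfg
  obtain ⟨w, hw⟩ := (hι.unit a ⟨1, pow_one a⟩).exists_left_inv
  refine ⟨?_, ?_, ?_⟩
  · rintro _ ⟨k, rfl⟩
    rw [map_pow, hfι]
    have h1 : IsUnit (g (a * b)) := hg.unit _ ⟨1, pow_one _⟩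
    rw [map_mul] at h1
    exact (isUnit_of_mul_isUnit_right h1).pow k
  · intro x
    obtain ⟨_, ⟨k, rfl⟩, y, hy⟩ := hg.surj x
    change g y = g ((a * b) ^ k) * x at hy
    refine ⟨ι b ^ k, ⟨k, rfl⟩, w ^ k * ι y, ?_⟩
    have h2 : f w * f (ι a) = 1 := by rw [← map_mul, hw, map_one]
    rw [map_mul, hfι, hy]
    simp only [map_pow, map_mul]
    rw [← hfι a, ← hfι b]
    calc f w ^ k * ((f (ι a) * f (ι b)) ^ k * x)
        = (f w * f (ι a)) ^ k * (f (ι b) ^ k * x) := by rw [mul_pow, mul_pow]; ring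
      _ = _ := by rw [h2, one_pow, one_mul]
  · intro y hy
    obtain ⟨_, ⟨j, rfl⟩, p, hp⟩ := hι.surj y
    have hgp : g p = 0 := by rw [← hfι, hp, map_mul, hy, mul_zero]
    obtain ⟨_, ⟨k, rfl⟩, hk⟩ := hg.ker p hgp
    refine ⟨ι b ^ k, ⟨k, rfl⟩, ?_⟩
    have h1 : ι ((a * b) ^ k * p) = 0 := by rw [hk, map_zero]
    rw [map_mul, hp, map_pow, map_mul, mul_pow, map_pow] at h1
    calc ι b ^ k * y = (w * ι a) ^ (k + j) * (ι b ^ k * y) := by rw [hw, one_pow, one_mul]
      _ = w ^ (k + j) * (ι a ^ k * ι b ^ k * (ι a ^ j * y)) := by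
        rw [mul_pow, pow_add (ι a)]; ring
      _ = 0 := by rw [h1, mul_zero]

variable {A : Type*} [CommRing A] {n : Type*} [Fintype n] [DecidableEq n]
variable {E : Matrix n n A[X]} {e₀ : Matrix n n A}

theorem IsConj.of_isUnit {s : A} (h : IsConj E e₀ (algebraMap A (Localization.Away s)))
    {T : Type*} [CommRing T] (φ : A →+* T) (hφ : IsUnit (φ s)) : IsConj E e₀ φ := by
  have := h.comp (IsLocalization.Away.lift (S := Localization.Away s) s hφ)
  rwa [IsLocalization.Away.lift_comp] at this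

theorem isConj_of_subsingleton {T : Type*} [CommRing T] [Subsingleton T] (φ : A →+* T) :
    IsConj E e₀ φ := by
  refine ⟨1, 1, ?_, ?_, ?_⟩
  · ext i j; exact Subsingleton.elim _ _
  · ext i j; exact Subsingleton.elim _ _
  · ext i j; exact Subsingleton.elim _ _

/-- Descent from a localization-like map to the localization away from a single element. -/
theorem exists_isConj_away {S : Type*} [CommRing S] (φ : A →+* S) (M : Submonoid A)
    (hφ : LocLike φ M) (h : IsConj E e₀ φ) :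
    ∃ s ∈ M, IsConj E e₀ (algebraMap A (Localization.Away s)) := by
  classical
  obtain ⟨g, g', h1, h2, h3⟩ := h
  have hΦ := hφ.polynomial
  obtain ⟨Φ, hΦdef⟩ : ∃ Φ, Φ = Polynomial.mapRingHom φ := ⟨_, rfl⟩
  rw [← hΦdef] at hΦ h3
  have hΦC : Φ.comp (Polynomial.C : A →+* A[X]) = (Polynomial.C : S →+* S[X]).comp φ := by
    rw [hΦdef]; ext x; simp
  obtain ⟨_, ⟨s₁, hs₁, rfl⟩, W, hW⟩ := hΦ.matrix_surj g
  obtain ⟨_, ⟨s₂, hs₂, rfl⟩, W', hW'⟩ := hΦ.matrix_surj g'
  have k1 : (W * W' - Polynomial.C (s₁ * s₂) • (1 : Matrix n n A[X])).map Φ = 0 := by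
    rw [Matrix.map_sub _ (map_sub Φ), Matrix.map_mul, hW, hW',
      Matrix.map_smul' _ _ _ (map_mul Φ), map_one_hom, Matrix.smul_mul, Matrix.mul_smul, h1,
      smul_smul, Polynomial.C_mul, map_mul, sub_self]
  have k2 : (W * E - e₀.map (Polynomial.C : A →+* A[X]) * W).map Φ = 0 := by
    rw [Matrix.map_sub _ (map_sub Φ), Matrix.map_mul, Matrix.map_mul, hW, map_map_hom, hΦC,
      Matrix.smul_mul, Matrix.mul_smul, h3, sub_self]
  obtain ⟨_, ⟨s₃, hs₃, rfl⟩, hk1⟩ := hΦ.matrix_ker _ k1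
  obtain ⟨_, ⟨s₄, hs₄, rfl⟩, hk2⟩ := hΦ.matrix_ker _ k2
  obtain ⟨s, hs⟩ : ∃ s, s = s₁ * s₂ * s₃ * s₄ := ⟨_, rfl⟩
  refine ⟨s, hs ▸ M.mul_mem (M.mul_mem (M.mul_mem hs₁ hs₂) hs₃) hs₄, ?_⟩
  obtain ⟨τ, hτ⟩ : ∃ τ, τ = algebraMap A (Localization.Away s) := ⟨_, rfl⟩
  rw [← hτ]
  obtain ⟨Tτ, hTτ⟩ : ∃ Tτ, Tτ = Polynomial.mapRingHom τ := ⟨_, rfl⟩
  have hTC : Tτ.comp (Polynomial.C : A →+* A[X]) =
      (Polynomial.C : Localization.Away s →+* (Localization.Away s)[X]).comp τ := by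
    rw [hTτ]; ext x; simp
  have hunit : ∀ r : A, r ∣ s → IsUnit (Tτ (Polynomial.C r)) := by
    intro r hr
    have h5 : IsUnit (τ r) := by
      rw [hτ]; exact IsLocalization.Away.isUnit_of_dvd s hr
    have h6 : Tτ (Polynomial.C r) = Polynomial.C (τ r) := by
      rw [hTτ]; simp
    rw [h6]
    exact h5.map Polynomial.C
  have hd1 : s₁ ∣ s := ⟨s₂ * s₃ * s₄, by rw [hs]; ring⟩
  have hd2 : s₂ ∣ s := ⟨s₁ * s₃ * s₄, by rw [hs]; ring⟩
  have hd3 : s₃ ∣ s := ⟨s₁ * s₂ * s₄, by rw [hs]; ring⟩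
  have hd4 : s₄ ∣ s := ⟨s₁ * s₂ * s₃, by rw [hs]; ring⟩
  obtain ⟨u₁, hu₁⟩ := (hunit s₁ hd1).exists_left_inv
  obtain ⟨u₂, hu₂⟩ := (hunit s₂ hd2).exists_left_inv
  have e1 : W.map Tτ * W'.map Tτ = (Tτ (Polynomial.C s₁) * Tτ (Polynomial.C s₂)) • 1 := by
    have := congrArg (fun X => X.map Tτ) hk1
    rw [Matrix.map_smul' _ _ _ (map_mul Tτ), Matrix.map_sub _ (map_sub Tτ), Matrix.map_mul,
      Matrix.map_smul' _ _ _ (map_mul Tτ), map_one_hom, Matrix.map_zero _ (map_zero Tτ),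
      (hunit s₃ hd3).smul_eq_zero, sub_eq_zero, Polynomial.C_mul, map_mul] at this
    exact this
  have e2 : W.map Tτ * E.map Tτ = e₀.map ((Polynomial.C : Localization.Away s →+*
      (Localization.Away s)[X]).comp τ) * W.map Tτ := by
    have := congrArg (fun X => X.map Tτ) hk2
    rw [Matrix.map_smul' _ _ _ (map_mul Tτ), Matrix.map_sub _ (map_sub Tτ), Matrix.map_mul,
      Matrix.map_mul, map_map_hom, hTC, Matrix.map_zero _ (map_zero Tτ),
      (hunit s₄ hd4).smul_eq_zero, sub_eq_zero] at this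
    exact this
  have e3 : (u₁ • W.map Tτ) * (u₂ • W'.map Tτ) = 1 := by
    rw [Matrix.smul_mul, Matrix.mul_smul, e1, smul_smul, smul_smul]
    have : u₁ * u₂ * (Tτ (Polynomial.C s₁) * Tτ (Polynomial.C s₂)) = 1 := by
      linear_combination (u₂ * Tτ (Polynomial.C s₂)) * hu₁ + hu₂
    rw [this, one_smul]
  refine ⟨u₁ • W.map Tτ, u₂ • W'.map Tτ, e3, mul_eq_one_comm.1 e3, ?_⟩
  rw [← hTτ, Matrix.smul_mul, Matrix.mul_smul, e2]

theorem isConj_away_add {A : Type*} [CommRing A] {n : Type*} [Fintype n] [DecidableEq n]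
    (E : Matrix n n A[X]) (e₀ : Matrix n n A) (he₀ : E.map (Polynomial.evalRingHom 0) = e₀)
    {s t : A} (hs : IsConj E e₀ (algebraMap A (Localization.Away s)))
    (ht : IsConj E e₀ (algebraMap A (Localization.Away t))) :
    IsConj E e₀ (algebraMap A (Localization.Away (s + t))) := by
  obtain ⟨β, hβ⟩ : ∃ β, β = algebraMap A (Localization.Away (s + t)) := ⟨_, rfl⟩
  rw [← hβ]
  obtain ⟨a, ha⟩ : ∃ a, a = β s := ⟨_, rfl⟩
  obtain ⟨b, hb⟩ : ∃ b, b = β t := ⟨_, rfl⟩
  have hab : IsCoprime a b := by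
    have hu : IsUnit (a + b) := by
      rw [ha, hb, ← map_add, hβ]
      exact IsLocalization.Away.algebraMap_isUnit (s + t)
    obtain ⟨w, hw⟩ := hu.exists_left_inv
    exact ⟨w, w, by rw [← mul_add, hw]⟩
  have hua : IsUnit (algebraMap _ (Localization.Away (a * b)) a) :=
    IsLocalization.Away.isUnit_of_dvd (a * b) ⟨b, rfl⟩
  have hub : IsUnit (algebraMap _ (Localization.Away (a * b)) b) :=
    IsLocalization.Away.isUnit_of_dvd (a * b) ⟨a, mul_comm _ _⟩
  obtain ⟨fa, hfa⟩ : ∃ fa : Localization.Away a →+* Localization.Away (a * b),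
      fa.comp (algebraMap _ (Localization.Away a)) = algebraMap _ (Localization.Away (a * b)) :=
    ⟨IsLocalization.Away.lift a hua, IsLocalization.Away.lift_comp a hua⟩
  obtain ⟨fb, hfb⟩ : ∃ fb : Localization.Away b →+* Localization.Away (a * b),
      fb.comp (algebraMap _ (Localization.Away b)) = algebraMap _ (Localization.Away (a * b)) :=
    ⟨IsLocalization.Away.lift b hub, IsLocalization.Away.lift_comp b hub⟩
  have hLa : LocLike (algebraMap _ (Localization.Away a)) (Submonoid.powers a) :=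
    LocLike.of_isLocalization _
  have hLb : LocLike (algebraMap _ (Localization.Away b)) (Submonoid.powers b) :=
    LocLike.of_isLocalization _
  have hLab : LocLike (algebraMap _ (Localization.Away (a * b))) (Submonoid.powers (a * b)) :=
    LocLike.of_isLocalization _
  have hLba : LocLike (algebraMap _ (Localization.Away (a * b))) (Submonoid.powers (b * a)) := by
    have h5 : Submonoid.powers (b * a) = Submonoid.powers (a * b) := by rw [mul_comm]
    rw [h5]; exact hLab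
  have hLfa := LocLike.of_comp _ _ fa a b hLa hLab hfa
  have hLfb := LocLike.of_comp _ _ fb b a hLb hLba hfb
  have hEa : IsConj (E.map (Polynomial.mapRingHom β)) (e₀.map β)
      (algebraMap _ (Localization.Away a)) := by
    rw [← isConj_comp_iff]
    refine hs.of_isUnit _ ?_
    rw [RingHom.comp_apply, ← ha]
    exact IsLocalization.Away.algebraMap_isUnit a
  have hEb : IsConj (E.map (Polynomial.mapRingHom β)) (e₀.map β)
      (algebraMap _ (Localization.Away b)) := by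
    rw [← isConj_comp_iff]
    refine ht.of_isUnit _ ?_
    rw [RingHom.comp_apply, ← hb]
    exact IsLocalization.Away.algebraMap_isUnit b
  have := patch _ _ fa fb a b hab hLa hLb hLfa hLfb (hfa.trans hfb.symm)
    (E.map (Polynomial.mapRingHom β)) (e₀.map β) (by rw [map_map_eval_zero, he₀]) hEa hEb
  rw [← isConj_comp_iff, RingHom.id_comp] at this
  exact this

/-- **Quillen's local–global principle** for conjugacy of `E(t)` and `E(0)`. -/
theorem isConj_of_forall_away {A : Type*} [CommRing A] {n : Type*} [Fintype n] [DecidableEq n]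
    (E : Matrix n n A[X]) (e₀ : Matrix n n A) (he₀ : E.map (Polynomial.evalRingHom 0) = e₀)
    (h : ∀ m : Ideal A, m.IsMaximal →
      ∃ s, s ∉ m ∧ IsConj E e₀ (algebraMap A (Localization.Away s))) :
    IsConj E e₀ (RingHom.id A) := by
  classical
  let Q : Ideal A :=
    { carrier := {s | IsConj E e₀ (algebraMap A (Localization.Away s))}
      zero_mem' := by
        have : Subsingleton (Localization.Away (0 : A)) :=
          IsLocalization.subsingleton (M := Submonoid.powers (0 : A)) ⟨1, pow_one 0⟩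
        exact isConj_of_subsingleton _
      smul_mem' := by
        intro r s hs
        refine IsConj.of_isUnit hs _ ?_
        exact IsLocalization.Away.isUnit_of_dvd (r • s) ⟨r, by rw [smul_eq_mul, mul_comm]⟩
      add_mem' := by
        intro s t hs ht
        exact isConj_away_add E e₀ he₀ hs ht }
  by_contra hcon
  have hQ : Q ≠ ⊤ := by
    intro hQ
    have h1 : (1 : A) ∈ Q := by rw [hQ]; trivial
    exact hcon (IsConj.of_isUnit h1 _ isUnit_one)
  obtain ⟨m, hm, hQm⟩ := Ideal.exists_le_maximal Q hQ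
  obtain ⟨s, hsm, hs⟩ := h m hm
  exact hsm (hQm hs)

theorem isConj_of_forall_atPrime {A : Type*} [CommRing A] {n : Type*} [Fintype n] [DecidableEq n]
    (E : Matrix n n A[X]) (e₀ : Matrix n n A) (he₀ : E.map (Polynomial.evalRingHom 0) = e₀)
    (h : ∀ (m : Ideal A) [m.IsMaximal], IsConj E e₀ (algebraMap A (Localization.AtPrime m))) :
    IsConj E e₀ (RingHom.id A) := by
  refine isConj_of_forall_away E e₀ he₀ fun m hm => ?_
  haveI := hm
  obtain ⟨s, hs, hc⟩ := exists_isConj_away (algebraMap A (Localization.AtPrime m)) m.primeCompl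
    (LocLike.of_isLocalization _) (h m)
  exact ⟨s, hs, hc⟩

end QuillenIdeal

end Groth.Agent.Lib.Seat99.HQ
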