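import Groth.Agent.Lib.Seat99HQBirk
import Groth.Agent.Lib.Seat99HQPatch

/-!
# Horrocks–Quillen, part 5: the global matrix theorem (seat 99)

`horrocks_matrix`: for `PData` over an arbitrary commutative ring `A`, the idempotent `E(t)` is
equivalent (as an idempotent, i.e. with isomorphic image) to the constant idempotent `E(0)`.
-/

set_option linter.unusedSectionVars false
set_option linter.unusedVariables false
set_option linter.unusedSimpArgs false

open Polynomial Matrix

namespace Groth.Agent.Lib.Seat99.HQ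

section Blocks

variable {R : Type*} [CommRing R] {n : Type*} [Fintype n] [DecidableEq n]

/-- Equivalent idempotents become conjugate after adding a zero block. -/
theorem conj_blocks (E' e' P Q : Matrix n n R) (hE : E' * E' = E') (he : e' * e' = e')
    (h1 : Q * P = E') (h2 : P * Q = e') :
    ∃ H H' : Matrix (n ⊕ n) (n ⊕ n) R, H * H' = 1 ∧ H' * H = 1 ∧
      H * Matrix.fromBlocks E' 0 0 0 = Matrix.fromBlocks e' 0 0 0 * H := by
  obtain ⟨P₁, hP₁⟩ : ∃ P₁, P₁ = e' * P * E' := ⟨_, rfl⟩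
  obtain ⟨Q₁, hQ₁⟩ : ∃ Q₁, Q₁ = E' * Q * e' := ⟨_, rfl⟩
  have hQP : Q₁ * P₁ = E' := by
    rw [hQ₁, hP₁]
    calc E' * Q * e' * (e' * P * E') = E' * (Q * P) * (Q * P) * (Q * P) * E' := by
          rw [← h2]; simp only [mul_assoc]
      _ = E' := by rw [h1, hE, hE, hE, hE]
  have hPQ : P₁ * Q₁ = e' := by
    rw [hQ₁, hP₁]
    calc e' * P * E' * (E' * Q * e') = e' * (P * Q) * (P * Q) * (P * Q) * e' := by
          rw [← h1]; simp only [mul_assoc]
      _ = e' := by rw [h2, he, he, he, he]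
  have hPE : P₁ * E' = P₁ := by rw [hP₁, mul_assoc, hE]
  have heP : e' * P₁ = P₁ := by rw [hP₁, ← mul_assoc, ← mul_assoc, he]
  have hQe : Q₁ * e' = Q₁ := by rw [hQ₁, mul_assoc, he]
  have hEQ : E' * Q₁ = Q₁ := by rw [hQ₁, ← mul_assoc, ← mul_assoc, hE]
  have hE1 : (1 - E') * (1 - E') = 1 - E' := by
    rw [mul_sub, sub_mul, sub_mul, one_mul, mul_one, one_mul, hE, sub_self, sub_zero]
  have he1 : (1 - e') * (1 - e') = 1 - e' := by
    rw [mul_sub, sub_mul, sub_mul, one_mul, mul_one, one_mul, he, sub_self, sub_zero]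
  have z1 : P₁ * (1 - E') = 0 := by rw [mul_sub, mul_one, hPE, sub_self]
  have z2 : (1 - e') * P₁ = 0 := by rw [sub_mul, one_mul, heP, sub_self]
  have z3 : (1 - E') * Q₁ = 0 := by rw [sub_mul, one_mul, hEQ, sub_self]
  have z4 : Q₁ * (1 - e') = 0 := by rw [mul_sub, mul_one, hQe, sub_self]
  have z5 : (1 - E') * E' = 0 := by rw [sub_mul, one_mul, hE, sub_self]
  have z6 : e' * (1 - e') = 0 := by rw [mul_sub, mul_one, he, sub_self]
  refine ⟨Matrix.fromBlocks P₁ (1 - e') (1 - E') Q₁, Matrix.fromBlocks Q₁ (1 - E') (1 - e') P₁,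
    ?_, ?_, ?_⟩
  · rw [Matrix.fromBlocks_multiply, hPQ, he1, z1, z2, z3, z4, hE1, hQP, add_zero,
      add_sub_cancel, sub_add_cancel, Matrix.fromBlocks_one]
  · rw [Matrix.fromBlocks_multiply, hQP, hE1, z4, z3, z2, z1, he1, hPQ, add_zero,
      add_sub_cancel, sub_add_cancel, Matrix.fromBlocks_one]
  · rw [Matrix.fromBlocks_multiply, Matrix.fromBlocks_multiply, hPE, heP, z5, z6]
    simp only [mul_zero, zero_mul, add_zero]

/-- Conversely, from conjugacy of the stabilized idempotents one recovers an equivalence. -/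
theorem equivIdem_of_conj_blocks (E' e' : Matrix n n R)
    (H H' : Matrix (n ⊕ n) (n ⊕ n) R) (h1 : H * H' = 1) (h2 : H' * H = 1)
    (h3 : H * Matrix.fromBlocks E' 0 0 0 = Matrix.fromBlocks e' 0 0 0 * H) :
    ∃ P Q : Matrix n n R, Q * P = E' * E' ∧ P * Q = e' * e' := by
  rw [← Matrix.fromBlocks_toBlocks H, ← Matrix.fromBlocks_toBlocks H'] at h1 h2
  rw [← Matrix.fromBlocks_toBlocks H] at h3
  rw [Matrix.fromBlocks_multiply, ← Matrix.fromBlocks_one, Matrix.fromBlocks_inj] at h1 h2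
  rw [Matrix.fromBlocks_multiply, Matrix.fromBlocks_multiply, Matrix.fromBlocks_inj] at h3
  simp only [mul_zero, zero_mul, add_zero] at h3
  obtain ⟨a1, -, -, -⟩ := h1
  obtain ⟨b1, -, -, -⟩ := h2
  obtain ⟨c1, c2, c3, -⟩ := h3
  refine ⟨e' * H.toBlocks₁₁, H'.toBlocks₁₁ * e', ?_, ?_⟩
  · calc H'.toBlocks₁₁ * e' * (e' * H.toBlocks₁₁)
        = H'.toBlocks₁₁ * e' * (H.toBlocks₁₁ * E') := by rw [c1]
      _ = H'.toBlocks₁₁ * (e' * H.toBlocks₁₁) * E' := by simp only [mul_assoc]
      _ = H'.toBlocks₁₁ * H.toBlocks₁₁ * E' * E' := by rw [← c1]; simp only [mul_assoc]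
      _ = (1 - H'.toBlocks₁₂ * H.toBlocks₂₁) * E' * E' := by rw [← b1, add_sub_cancel_right]
      _ = E' * E' := by rw [sub_mul, one_mul, mul_assoc, c3, mul_zero, sub_zero]
  · calc e' * H.toBlocks₁₁ * (H'.toBlocks₁₁ * e')
        = e' * (H.toBlocks₁₁ * H'.toBlocks₁₁) * e' := by simp only [mul_assoc]
      _ = e' * (1 - H.toBlocks₁₂ * H'.toBlocks₂₁) * e' := by rw [← a1, add_sub_cancel_right]
      _ = e' * e' := by rw [mul_sub, mul_one, ← mul_assoc, ← c2, zero_mul, sub_zero]

end Blocks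

section Global

variable {A : Type*} [CommRing A] {n n' : Type*} [Fintype n] [Fintype n'] [DecidableEq n]
  [DecidableEq n']

/-- **Affine Horrocks (Quillen), matrix form.** -/
theorem horrocks_matrix (D : PData A n n') :
    ∃ U V : Matrix n n A[X], V * U = D.E ∧
      U * V = (D.E.map (Polynomial.evalRingHom 0)).map (Polynomial.C : A →+* A[X]) := by
  obtain ⟨E, hE⟩ : ∃ E, E = D.E := ⟨_, rfl⟩
  obtain ⟨e₀, he₀⟩ : ∃ e₀, e₀ = E.map (Polynomial.evalRingHom 0) := ⟨_, rfl⟩
  have hEE : E * E = E := by rw [hE]; exact D.hE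
  have hee : e₀ * e₀ = e₀ := by rw [he₀, ← Matrix.map_mul, hEE]
  rw [← hE, ← he₀]
  have hblock0 : (Matrix.fromBlocks E 0 0 0 : Matrix (n ⊕ n) (n ⊕ n) A[X]).map
      (Polynomial.evalRingHom 0) = Matrix.fromBlocks e₀ 0 0 0 := by
    rw [Matrix.fromBlocks_map, he₀]
    simp only [Matrix.map_zero _ (map_zero _)]
  have key : IsConj (Matrix.fromBlocks E 0 0 0 : Matrix (n ⊕ n) (n ⊕ n) A[X])
      (Matrix.fromBlocks e₀ 0 0 0) (RingHom.id A) := by
    refine isConj_of_forall_atPrime _ _ hblock0 fun m _ => ?_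
    obtain ⟨φ, hφ⟩ : ∃ φ, φ = algebraMap A (Localization.AtPrime m) := ⟨_, rfl⟩
    rw [← hφ]
    obtain ⟨r, U, U', hU1, hU2⟩ := local_horrocks (D.map φ)
    have hU2' : U * U' = E.map (Polynomial.mapRingHom φ) := by rw [hU2, hE]; rfl
    obtain ⟨P, hP⟩ : ∃ P, P = (U.map (Polynomial.evalRingHom 0)).map
      (Polynomial.C : Localization.AtPrime m →+* (Localization.AtPrime m)[X]) * U' := ⟨_, rfl⟩
    obtain ⟨Q, hQ⟩ : ∃ Q, Q = U * (U'.map (Polynomial.evalRingHom 0)).map
      (Polynomial.C : Localization.AtPrime m →+* (Localization.AtPrime m)[X]) := ⟨_, rfl⟩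
    have hQP : Q * P = E.map (Polynomial.mapRingHom φ) := by
      rw [hQ, hP]
      calc U * (U'.map (Polynomial.evalRingHom 0)).map Polynomial.C *
            ((U.map (Polynomial.evalRingHom 0)).map Polynomial.C * U')
          = U * ((U'.map (Polynomial.evalRingHom 0)).map Polynomial.C *
            (U.map (Polynomial.evalRingHom 0)).map Polynomial.C) * U' := by
            simp only [Matrix.mul_assoc]
        _ = U * U' := by
            rw [← Matrix.map_mul, ← Matrix.map_mul, hU1, map_one_hom, map_one_hom, Matrix.mul_one]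
        _ = _ := hU2'
    have hPQ : P * Q = e₀.map ((Polynomial.C : Localization.AtPrime m →+*
        (Localization.AtPrime m)[X]).comp φ) := by
      rw [hQ, hP]
      calc (U.map (Polynomial.evalRingHom 0)).map Polynomial.C * U' *
            (U * (U'.map (Polynomial.evalRingHom 0)).map Polynomial.C)
          = (U.map (Polynomial.evalRingHom 0)).map Polynomial.C * (U' * U) *
            (U'.map (Polynomial.evalRingHom 0)).map Polynomial.C := by
            simp only [Matrix.mul_assoc]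
        _ = ((U * U').map (Polynomial.evalRingHom 0)).map Polynomial.C := by
            rw [hU1, Matrix.mul_one, ← Matrix.map_mul, ← Matrix.map_mul]
        _ = _ := by
            rw [hU2', map_map_eval_zero, ← he₀, map_map_hom]
    have hE' : E.map (Polynomial.mapRingHom φ) * E.map (Polynomial.mapRingHom φ) =
        E.map (Polynomial.mapRingHom φ) := by rw [← Matrix.map_mul, hEE]
    have he' : e₀.map ((Polynomial.C : Localization.AtPrime m →+*
        (Localization.AtPrime m)[X]).comp φ) * e₀.map ((Polynomial.C : Localization.AtPrime m →+*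
        (Localization.AtPrime m)[X]).comp φ) = e₀.map ((Polynomial.C : Localization.AtPrime m →+*
        (Localization.AtPrime m)[X]).comp φ) := by rw [← Matrix.map_mul, hee]
    obtain ⟨H, H', h1, h2, h3⟩ := conj_blocks _ _ P Q hE' he' hQP hPQ
    refine ⟨H, H', h1, h2, ?_⟩
    rw [Matrix.fromBlocks_map, Matrix.fromBlocks_map]
    simp only [Matrix.map_zero _ (map_zero _)]
    exact h3
  obtain ⟨H, H', h1, h2, h3⟩ := key
  rw [Matrix.fromBlocks_map, Matrix.fromBlocks_map] at h3
  simp only [Matrix.map_zero _ (map_zero _)] at h3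
  obtain ⟨P, Q, hQP, hPQ⟩ := equivIdem_of_conj_blocks _ _ H H' h1 h2 h3
  refine ⟨P, Q, ?_, ?_⟩
  · rw [hQP, ← Matrix.map_mul, hEE]
    ext i j; simp
  · rw [hPQ, ← Matrix.map_mul, hee]
    rfl

end Global

end Groth.Agent.Lib.Seat99.HQ
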