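import Groth.Agent.Lib.Seat99HQMain
import Groth.Agent.Lib.Seat99ApproxMod

/-!
# Horrocks–Quillen, part 6: module-level wrappers (seat 99)
-/

set_option linter.unusedSectionVars false
set_option linter.unusedVariables false
set_option linter.unusedSimpArgs false

open Polynomial LaurentPolynomial TensorProduct Matrix

namespace Groth.Agent.Lib.Seat99.HQ

universe u

variable {A : Type u} [CommRing A]

/-- The involution `T ↦ T⁻¹` as a ring homomorphism. -/
noncomputable abbrev σL : A[T;T⁻¹] →+* A[T;T⁻¹] :=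
  (LaurentPolynomial.invert (R := A)).toRingEquiv.toRingHom

theorem σL_σL (c : A[T;T⁻¹]) : σL (σL c) = c := LaurentPolynomial.involutive_invert c

instance σL_invPair : RingHomInvPair (σL (A := A)) σL :=
  ⟨RingHom.ext σL_σL, RingHom.ext σL_σL⟩

open Groth.Agent.Lib.Seat99.Approx in
/-- From a semilinear bijection between the Laurent localizations of two retracts of finite free
`A[X]`-modules one gets `PData`. -/
theorem exists_pdata {M N : Type*} [AddCommGroup M] [Module A[X] M] [AddCommGroup N]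
    [Module A[X] N] {a b : ℕ}
    (r : (Fin a → A[X]) →ₗ[A[X]] M) (i : M →ₗ[A[X]] (Fin a → A[X]))
    (hi : r ∘ₗ i = LinearMap.id)
    (r' : (Fin b → A[X]) →ₗ[A[X]] N) (i' : N →ₗ[A[X]] (Fin b → A[X]))
    (hi' : r' ∘ₗ i' = LinearMap.id)
    (e : (A[T;T⁻¹] ⊗[A[X]] M) →ₛₗ[σL (A := A)] (A[T;T⁻¹] ⊗[A[X]] N))
    (he : Function.Bijective e) :
    ∃ D : PData A (Fin a) (Fin b), D.E = LinearMap.toMatrix' (i ∘ₗ r) := by
  classical
  have hri : ∀ z, r.baseChange A[T;T⁻¹] (i.baseChange A[T;T⁻¹] z) = z := fun z => by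
    rw [← LinearMap.comp_apply, ← LinearMap.baseChange_comp, hi, LinearMap.baseChange_id,
      LinearMap.id_apply]
  have hri' : ∀ z, r'.baseChange A[T;T⁻¹] (i'.baseChange A[T;T⁻¹] z) = z := fun z => by
    rw [← LinearMap.comp_apply, ← LinearMap.baseChange_comp, hi', LinearMap.baseChange_id,
      LinearMap.id_apply]
  obtain ⟨eq, heq⟩ : ∃ eq : (A[T;T⁻¹] ⊗[A[X]] M) ≃ₛₗ[σL (A := A)] (A[T;T⁻¹] ⊗[A[X]] N),
      ∀ z, eq z = e z := ⟨LinearEquiv.ofBijective e he, fun z => rfl⟩
  let x : (Fin a → A[T;T⁻¹]) →ₗ[A[T;T⁻¹]] (Fin b → A[T;T⁻¹]) :=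
    { toFun := fun v k => σL ((τ A[X] A[T;T⁻¹] (Fin b)) (i'.baseChange A[T;T⁻¹]
        (eq (r.baseChange A[T;T⁻¹] ((τ A[X] A[T;T⁻¹] (Fin a)).symm v)))) k)
      map_add' := by
        intro v w
        funext k
        simp only [map_add, Pi.add_apply]
      map_smul' := by
        intro c v
        funext k
        simp only [map_smul, map_smulₛₗ, Pi.smul_apply, smul_eq_mul, map_mul, RingHom.id_apply,
          σL_σL] }
  let y : (Fin b → A[T;T⁻¹]) →ₗ[A[T;T⁻¹]] (Fin a → A[T;T⁻¹]) :=
    { toFun := fun w => (τ A[X] A[T;T⁻¹] (Fin a)) (i.baseChange A[T;T⁻¹]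
        (eq.symm (r'.baseChange A[T;T⁻¹] ((τ A[X] A[T;T⁻¹] (Fin b)).symm (fun k => σL (w k))))))
      map_add' := by
        intro v w
        have : (fun k => σL ((v + w) k)) = (fun k => σL (v k)) + (fun k => σL (w k)) := by
          funext k; simp only [Pi.add_apply, map_add]
        simp only [this, map_add]
      map_smul' := by
        intro c v
        have : (fun k => σL ((c • v) k)) = σL c • (fun k => σL (v k)) := by
          funext k; simp only [Pi.smul_apply, smul_eq_mul, map_mul]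
        simp only [this, map_smul, map_smulₛₗ, RingHom.id_apply, σL_σL] }
  have hx : ∀ v k, x v k = σL ((τ A[X] A[T;T⁻¹] (Fin b)) (i'.baseChange A[T;T⁻¹]
        (eq (r.baseChange A[T;T⁻¹] ((τ A[X] A[T;T⁻¹] (Fin a)).symm v)))) k) := fun v k => rfl
  have hy : ∀ w, y w = (τ A[X] A[T;T⁻¹] (Fin a)) (i.baseChange A[T;T⁻¹]
        (eq.symm (r'.baseChange A[T;T⁻¹] ((τ A[X] A[T;T⁻¹] (Fin b)).symm (fun k => σL (w k)))))) :=
    fun w => rfl
  have hyx : y ∘ₗ x = bc (L' := A[T;T⁻¹]) (i ∘ₗ r) := by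
    apply LinearMap.ext
    intro v
    rw [LinearMap.comp_apply, hy]
    have h1 : (fun k => σL (x v k)) = (τ A[X] A[T;T⁻¹] (Fin b)) (i'.baseChange A[T;T⁻¹]
        (eq (r.baseChange A[T;T⁻¹] ((τ A[X] A[T;T⁻¹] (Fin a)).symm v)))) := by
      funext k
      rw [hx, σL_σL]
    rw [h1, LinearEquiv.symm_apply_apply, hri', LinearEquiv.symm_apply_apply]
    simp only [bc, LinearMap.coe_comp, LinearEquiv.coe_coe, Function.comp_apply,
      LinearMap.baseChange_comp]
  set E : Matrix (Fin a) (Fin a) A[X] := LinearMap.toMatrix' (i ∘ₗ r) with hEdef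
  set F : Matrix (Fin b) (Fin b) A[X] := LinearMap.toMatrix' (i' ∘ₗ r') with hFdef
  have hxy : x ∘ₗ y = Matrix.toLin' (F.map toL') := by
    apply LinearMap.ext
    intro w
    funext k
    rw [LinearMap.comp_apply, hx, hy, LinearEquiv.symm_apply_apply, hri, LinearEquiv.apply_symm_apply]
    have h2 : (τ A[X] A[T;T⁻¹] (Fin b)) (i'.baseChange A[T;T⁻¹] (r'.baseChange A[T;T⁻¹]
        ((τ A[X] A[T;T⁻¹] (Fin b)).symm (fun k => σL (w k))))) =
        Matrix.toLin' (F.map (algebraMap A[X] A[T;T⁻¹])) (fun k => σL (w k)) := by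
      rw [← bc_toLin', hFdef, Matrix.toLin'_toMatrix']
      simp only [bc, LinearMap.coe_comp, LinearEquiv.coe_coe, Function.comp_apply,
        LinearMap.baseChange_comp]
    rw [h2, Matrix.toLin'_apply, Matrix.toLin'_apply, Matrix.mulVec, Matrix.mulVec, dotProduct,
      dotProduct, map_sum]
    refine Finset.sum_congr rfl fun j _ => ?_
    rw [map_mul, σL_σL]
    rfl
  have hE : E * E = E := by
    rw [hEdef, ← LinearMap.toMatrix'_comp]
    congr 1
    apply LinearMap.ext
    intro v
    have := congrArg (fun f => f (r v)) hi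
    simp only [LinearMap.comp_apply, LinearMap.id_apply] at this ⊢
    rw [this]
  have hF : F * F = F := by
    rw [hFdef, ← LinearMap.toMatrix'_comp]
    congr 1
    apply LinearMap.ext
    intro v
    have := congrArg (fun f => f (r' v)) hi'
    simp only [LinearMap.comp_apply, LinearMap.id_apply] at this ⊢
    rw [this]
  refine ⟨⟨E, F, LinearMap.toMatrix' x, LinearMap.toMatrix' y, hE, hF, ?_, ?_⟩, rfl⟩
  · rw [← LinearMap.toMatrix'_comp, hyx, toMatrix'_bc]
    rfl
  · rw [← LinearMap.toMatrix'_comp, hxy, LinearMap.toMatrix'_toLin']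

open Groth.Agent.Lib.Seat99.Approx in
/-- A retract of a finite free `A[X]`-module whose idempotent is equivalent to a constant idempotent
is extended from `A`. -/
theorem extended_of_matrices {M : Type*} [AddCommGroup M] [Module A[X] M] {a : ℕ}
    (r : (Fin a → A[X]) →ₗ[A[X]] M) (i : M →ₗ[A[X]] (Fin a → A[X]))
    (hi : r ∘ₗ i = LinearMap.id)
    (e₀ : Matrix (Fin a) (Fin a) A) (he₀ : e₀ * e₀ = e₀) (U V : Matrix (Fin a) (Fin a) A[X])
    (hVU : V * U = LinearMap.toMatrix' (i ∘ₗ r))
    (hUV : U * V = e₀.map (Polynomial.C : A →+* A[X])) :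
    Nonempty (M ≃ₗ[A[X]] (A[X] ⊗[A] (LinearMap.range (Matrix.toLin' e₀)))) := by
  classical
  set E : Matrix (Fin a) (Fin a) A[X] := LinearMap.toMatrix' (i ∘ₗ r) with hEdef
  have hir : ∀ v, i (r v) = Matrix.toLin' E v := fun v => by
    rw [hEdef, Matrix.toLin'_toMatrix']; rfl
  have hri : ∀ m, r (i m) = m := fun m => by
    have := congrArg (fun f => f m) hi
    simpa using this
  have hE : E * E = E := by
    rw [hEdef, ← LinearMap.toMatrix'_comp]
    congr 1
    apply LinearMap.ext
    intro v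
    simp only [LinearMap.comp_apply, hri]
  have hC : e₀.map (algebraMap A A[X]) = e₀.map (Polynomial.C : A →+* A[X]) := rfl
  have heC : e₀.map (Polynomial.C : A →+* A[X]) * e₀.map (Polynomial.C : A →+* A[X]) =
      e₀.map (Polynomial.C : A →+* A[X]) := by rw [← Matrix.map_mul, he₀]
  have hVeU : V * e₀.map (Polynomial.C : A →+* A[X]) * U = E := by
    rw [← hUV]
    calc V * (U * V) * U = (V * U) * (V * U) := by simp only [Matrix.mul_assoc]
      _ = E := by rw [hVU, hE]
  have hUEV : U * E * V = e₀.map (Polynomial.C : A →+* A[X]) := by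
    rw [← hVU]
    calc U * (V * U) * V = (U * V) * (U * V) := by simp only [Matrix.mul_assoc]
      _ = _ := by rw [hUV, heC]
  set P := LinearMap.range (Matrix.toLin' e₀) with hP
  set rr : (Fin a → A) →ₗ[A] P := (Matrix.toLin' e₀).rangeRestrict with hrr
  have hsubrr : P.subtype ∘ₗ rr = Matrix.toLin' e₀ := by
    apply LinearMap.ext
    intro v
    rfl
  have hrrsub : rr ∘ₗ P.subtype = LinearMap.id := by
    apply LinearMap.ext
    rintro ⟨p, v, rfl⟩
    apply Subtype.ext
    show Matrix.toLin' e₀ (Matrix.toLin' e₀ v) = Matrix.toLin' e₀ v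
    rw [← Matrix.toLin'_mul_apply, he₀]
  have h3 : (rr ∘ₗ Matrix.toLin' e₀) ∘ₗ P.subtype = LinearMap.id := by
    rw [← hsubrr, ← LinearMap.comp_assoc, hrrsub, LinearMap.id_comp, hrrsub]
  have key1 : ∀ z, rr.baseChange A[X] ((Matrix.toLin' e₀).baseChange A[X]
      (P.subtype.baseChange A[X] z)) = z := by
    intro z
    have := congrArg (fun f => f.baseChange A[X] z) h3
    simp only [LinearMap.baseChange_comp, LinearMap.comp_apply, LinearMap.baseChange_id,
      LinearMap.id_apply] at this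
    exact this
  have key2 : ∀ z, P.subtype.baseChange A[X] (rr.baseChange A[X] z) =
      (Matrix.toLin' e₀).baseChange A[X] z := by
    intro z
    have := congrArg (fun f => f.baseChange A[X] z) hsubrr
    simp only [LinearMap.baseChange_comp, LinearMap.comp_apply] at this
    exact this
  have hbc : ∀ z, (τ A A[X] (Fin a)) ((Matrix.toLin' e₀).baseChange A[X] z) =
      Matrix.toLin' (e₀.map (Polynomial.C : A →+* A[X])) ((τ A A[X] (Fin a)) z) := by
    intro z
    rw [← hC, ← bc_toLin']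
    simp only [bc, LinearMap.coe_comp, LinearEquiv.coe_coe, Function.comp_apply,
      LinearEquiv.symm_apply_apply]
  refine ⟨LinearEquiv.ofLinearMap
    (rr.baseChange A[X] ∘ₗ (τ A A[X] (Fin a)).symm.toLinearMap ∘ₗ Matrix.toLin' U ∘ₗ i)
    (r ∘ₗ Matrix.toLin' V ∘ₗ (τ A A[X] (Fin a)).toLinearMap ∘ₗ P.subtype.baseChange A[X]) ?_ ?_⟩
  · apply LinearMap.ext
    intro z
    simp only [LinearMap.comp_apply, LinearEquiv.coe_coe, LinearMap.id_apply]
    rw [hir, ← Matrix.toLin'_mul_apply, ← Matrix.toLin'_mul_apply, hUEV, ← hbc,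
      LinearEquiv.symm_apply_apply, key1]
  · apply LinearMap.ext
    intro m
    simp only [LinearMap.comp_apply, LinearEquiv.coe_coe, LinearMap.id_apply]
    rw [key2, hbc, LinearEquiv.apply_symm_apply, ← Matrix.toLin'_mul_apply,
      ← Matrix.toLin'_mul_apply, hVeU, ← hir, hri, hri]

/-- **Affine Horrocks (Quillen)**: a finite projective `A[X]`-module that extends to the projective
line is extended from `A`. -/
theorem extended_of_semilinear (M N : Type*) [AddCommGroup M] [Module A[X] M]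
    [Module.Finite A[X] M] [Module.Projective A[X] M]
    [AddCommGroup N] [Module A[X] N] [Module.Finite A[X] N] [Module.Projective A[X] N]
    (e : (A[T;T⁻¹] ⊗[A[X]] M) →ₛₗ[σL (A := A)] (A[T;T⁻¹] ⊗[A[X]] N))
    (he : Function.Bijective e) :
    ∃ (a : ℕ) (e₀ : Matrix (Fin a) (Fin a) A), e₀ * e₀ = e₀ ∧
      Nonempty (M ≃ₗ[A[X]] (A[X] ⊗[A] (LinearMap.range (Matrix.toLin' e₀)))) := by
  obtain ⟨a, r, hr⟩ := Module.Finite.exists_fin' A[X] M
  obtain ⟨i, hi⟩ := Module.projective_lifting_property r LinearMap.id hr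
  obtain ⟨b, r', hr'⟩ := Module.Finite.exists_fin' A[X] N
  obtain ⟨i', hi'⟩ := Module.projective_lifting_property r' LinearMap.id hr'
  obtain ⟨D, hD⟩ := exists_pdata r i hi r' i' hi' e he
  obtain ⟨U, V, hVU, hUV⟩ := horrocks_matrix D
  refine ⟨a, D.E.map (Polynomial.evalRingHom 0), ?_, ?_⟩
  · rw [← Matrix.map_mul, D.hE]
  · refine extended_of_matrices r i hi _ ?_ U V (hVU.trans hD) hUV
    rw [← Matrix.map_mul, D.hE]

section Converse

variable (P : Type*) [AddCommGroup P] [Module A P]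

/-- The twist `σ ⊗ id` on `A[T;T⁻¹] ⊗[A] P`. -/
noncomputable def twistP : (A[T;T⁻¹] ⊗[A] P) →ₛₗ[σL (A := A)] (A[T;T⁻¹] ⊗[A] P) where
  toFun := LinearMap.rTensor P (LaurentPolynomial.invert (R := A)).toLinearMap
  map_add' := map_add _
  map_smul' := by
    intro c z
    induction z using TensorProduct.induction_on with
    | zero => simp only [smul_zero, map_zero]
    | tmul l p =>
      rw [TensorProduct.smul_tmul', LinearMap.rTensor_tmul, LinearMap.rTensor_tmul,
        TensorProduct.smul_tmul']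
      congr 1
      simp only [smul_eq_mul, AlgEquiv.toLinearMap_apply, map_mul]
      rfl
    | add z w hz hw => rw [smul_add, map_add, map_add, hz, hw, smul_add]

theorem twistP_twistP (z : A[T;T⁻¹] ⊗[A] P) : twistP P (twistP P z) = z := by
  show LinearMap.rTensor P (LaurentPolynomial.invert (R := A)).toLinearMap
    (LinearMap.rTensor P (LaurentPolynomial.invert (R := A)).toLinearMap z) = z
  rw [← LinearMap.comp_apply, ← LinearMap.rTensor_comp]
  have : (LaurentPolynomial.invert (R := A)).toLinearMap ∘ₗ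
      (LaurentPolynomial.invert (R := A)).toLinearMap = LinearMap.id := by
    apply LinearMap.ext
    intro c
    exact LaurentPolynomial.involutive_invert c
  rw [this, LinearMap.rTensor_id, LinearMap.id_apply]

instance : IsScalarTower A A[X] A[T;T⁻¹] :=
  IsScalarTower.of_algebraMap_eq fun x => by
    rw [LaurentPolynomial.algebraMap_apply, LaurentPolynomial.algebraMap_eq_toLaurent,
      Polynomial.algebraMap_apply, Algebra.algebraMap_self_apply, Polynomial.toLaurent_C]

/-- An extended module extends (trivially) to the projective line. -/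
theorem exists_semilinear_of_extended (M : Type*) [AddCommGroup M] [Module A[X] M]
    (φ : M ≃ₗ[A[X]] (A[X] ⊗[A] P)) :
    ∃ e : (A[T;T⁻¹] ⊗[A[X]] M) →ₛₗ[σL (A := A)] (A[T;T⁻¹] ⊗[A[X]] M), Function.Bijective e := by
  let ψ : (A[T;T⁻¹] ⊗[A[X]] M) ≃ₗ[A[T;T⁻¹]] (A[T;T⁻¹] ⊗[A] P) :=
    (TensorProduct.AlgebraTensorModule.congr (LinearEquiv.refl A[T;T⁻¹] A[T;T⁻¹]) φ) ≪≫ₗ
      (TensorProduct.AlgebraTensorModule.cancelBaseChange A A[X] A[T;T⁻¹] A[T;T⁻¹] P)
  refine ⟨{ toFun := fun z => ψ.symm (twistP P (ψ z))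
            map_add' := fun z w => by simp only [map_add]
            map_smul' := fun c z => by simp only [map_smul, map_smulₛₗ] }, ?_⟩
  have hinv : Function.Involutive fun z => ψ.symm (twistP P (ψ z)) := by
    intro z
    simp only [LinearEquiv.apply_symm_apply, twistP_twistP, LinearEquiv.symm_apply_apply]
  exact hinv.bijective

end Converse

end Groth.Agent.Lib.Seat99.HQ
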