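import Groth.Agent.Lib.Seat99HQMain
import Groth.Agent.Lib.Seat99HQGlue
import Groth.Agent.Lib.Seat99ApproxMod

/-!
# Isomorphisms of finite projective modules descend from the monic localization (seat 99)

`monic_matrix`: if idempotents `p`, `p'` over `A` become equivalent over `A[X]_f` (`f` monic; the
equivalence is given by polynomial matrices `X₁, Y₁` with `Y₁X₁ = f p`, `X₁Y₁ = f p'`), then `p`
and `p'` are equivalent over `A`.  Proof: glue a bundle on the projective line (`glue_idem`) and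
apply affine Horrocks (`horrocks_matrix`).
-/

set_option linter.unusedSectionVars false
set_option linter.unusedVariables false
set_option linter.unusedSimpArgs false

open Polynomial LaurentPolynomial Matrix

namespace Groth.Agent.Lib.Seat99.HQ

universe u

section Monic

variable {A : Type u} [CommRing A] {n n' : Type*} [Fintype n] [Fintype n'] [DecidableEq n]
  [DecidableEq n']

theorem map_C_map_toL' (p : Matrix n n A) :
    (p.map (Polynomial.C : A →+* A[X])).map (toL' (A := A)) =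
      (p.map (Polynomial.C : A →+* A[X])).map (toL (A := A)) := by
  ext i j
  simp only [Matrix.map_apply, toL'_C, Polynomial.toLaurent_C]

theorem monic_matrix (p : Matrix n n A) (p' : Matrix n' n' A) (hp : p * p = p) (hp' : p' * p' = p')
    (f : A[X]) (hf : f.Monic) (X₁ : Matrix n' n A[X]) (Y₁ : Matrix n n' A[X])
    (hYX : Y₁ * X₁ = f • p.map (Polynomial.C : A →+* A[X]))
    (hXY : X₁ * Y₁ = f • p'.map (Polynomial.C : A →+* A[X])) :
    ∃ (X₀ : Matrix n' n A) (Y₀ : Matrix n n' A), Y₀ * X₀ = p ∧ X₀ * Y₀ = p' := by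
  classical
  obtain ⟨g, hg⟩ : ∃ g, g = f.reverse := ⟨_, rfl⟩
  have hg0 : g.coeff 0 = 1 := by rw [hg, Polynomial.coeff_zero_reverse, hf.leadingCoeff]
  have hab : IsCoprime (X : A[X]) g := by
    refine ⟨-g.divX, 1, ?_⟩
    have := Polynomial.divX_mul_X_add g
    rw [hg0, map_one] at this
    linear_combination (-1 : A[X]) * this
  -- the rings
  have ha : LocLike (toL (A := A)) (Submonoid.powers (X : A[X])) :=
    LocLike.of_isLocalization (S := A[T;T⁻¹]) (Submonoid.powers (X : A[X]))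
  have hb : LocLike (algebraMap A[X] (Localization.Away g)) (Submonoid.powers g) :=
    LocLike.of_isLocalization _
  have hua : IsUnit (algebraMap A[X] (Localization.Away (X * g)) X) :=
    IsLocalization.Away.isUnit_of_dvd (X * g) ⟨g, rfl⟩
  have hub : IsUnit (algebraMap A[X] (Localization.Away (X * g)) g) :=
    IsLocalization.Away.isUnit_of_dvd (X * g) ⟨X, mul_comm _ _⟩
  obtain ⟨fa, hfa⟩ : ∃ fa : A[T;T⁻¹] →+* Localization.Away (X * g),
      fa.comp (toL (A := A)) = algebraMap A[X] (Localization.Away (X * g)) :=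
    ⟨IsLocalization.Away.lift (S := A[T;T⁻¹]) (X : A[X]) hua,
      IsLocalization.Away.lift_comp (S := A[T;T⁻¹]) (X : A[X]) hua⟩
  obtain ⟨fb, hfb⟩ : ∃ fb : Localization.Away g →+* Localization.Away (X * g),
      fb.comp (algebraMap A[X] (Localization.Away g)) =
        algebraMap A[X] (Localization.Away (X * g)) :=
    ⟨IsLocalization.Away.lift g hub, IsLocalization.Away.lift_comp g hub⟩
  have hLab : LocLike (algebraMap A[X] (Localization.Away (X * g))) (Submonoid.powers (X * g)) :=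
    LocLike.of_isLocalization _
  have hLba : LocLike (algebraMap A[X] (Localization.Away (X * g))) (Submonoid.powers (g * X)) := by
    have h5 : Submonoid.powers (g * X) = Submonoid.powers (X * g) := by rw [mul_comm]
    rw [h5]; exact hLab
  have hLfa := LocLike.of_comp _ _ fa X g ha hLab hfa
  have hLfb := LocLike.of_comp _ _ fb g X hb hLba hfb
  have hfa' : ∀ q, fa (toL q) = algebraMap A[X] (Localization.Away (X * g)) q :=
    fun q => congrArg (fun h => h q) hfa
  -- `toL' f` becomes a unit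
  have hunit : IsUnit (fa (toL' f)) := by
    have h1 : toL g = toL' f * T (f.natDegree : ℤ) := by
      rw [hg]; exact LaurentPolynomial.toLaurent_reverse f
    have h2 : toL' f = toL g * T (-(f.natDegree : ℤ)) := by
      rw [h1, mul_assoc, ← LaurentPolynomial.T_add, add_neg_cancel, LaurentPolynomial.T_zero,
        mul_one]
    rw [h2, map_mul, hfa']
    exact hub.mul ((LaurentPolynomial.isUnit_T _).map fa)
  obtain ⟨υ, hυ⟩ := hunit.exists_left_inv
  -- the gluing data
  obtain ⟨Ea, hEa⟩ : ∃ Ea : Matrix n n A[T;T⁻¹],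
      Ea = (p.map (Polynomial.C : A →+* A[X])).map (toL (A := A)) := ⟨_, rfl⟩
  obtain ⟨Eb, hEb⟩ : ∃ Eb : Matrix n' n' (Localization.Away g),
      Eb = (p'.map (Polynomial.C : A →+* A[X])).map (algebraMap A[X] (Localization.Away g)) :=
    ⟨_, rfl⟩
  have hEaa : Ea * Ea = Ea := by rw [hEa, ← Matrix.map_mul, ← Matrix.map_mul, hp]
  have hEbb : Eb * Eb = Eb := by rw [hEb, ← Matrix.map_mul, ← Matrix.map_mul, hp']
  obtain ⟨Xg, hXg⟩ : ∃ Xg : Matrix n' n (Localization.Away (X * g)),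
      Xg = (X₁.map (toL' (A := A))).map fa := ⟨_, rfl⟩
  obtain ⟨Yg, hYg⟩ : ∃ Yg : Matrix n n' (Localization.Away (X * g)),
      Yg = υ • (Y₁.map (toL' (A := A))).map fa := ⟨_, rfl⟩
  have hYXg : Yg * Xg = Ea.map fa := by
    rw [hYg, hXg, Matrix.smul_mul, ← Matrix.map_mul, ← Matrix.map_mul, hYX, map_smul_hom,
      map_smul_hom, smul_smul, hυ, one_smul, map_C_map_toL', hEa]
  have hXYg : Xg * Yg = Eb.map fb := by
    have e1 : ((p'.map (Polynomial.C : A →+* A[X])).map (toL (A := A))).map fa = Eb.map fb := by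
      rw [hEb, map_map_hom _ (toL (A := A)) fa, map_map_hom _ (algebraMap A[X] _) fb, hfa, hfb]
    rw [hYg, hXg, Matrix.mul_smul, ← Matrix.map_mul, ← Matrix.map_mul, hXY, map_smul_hom,
      map_smul_hom, smul_smul, hυ, one_smul, map_C_map_toL', e1]
  obtain ⟨E, hEE, ⟨Ua, Va, hVUa, hUVa⟩, ⟨Ub, Vb, hVUb, hUVb⟩⟩ :=
    glue_idem (toL (A := A)) (algebraMap A[X] (Localization.Away g)) fa fb X g hab ha hb hLfa hLfb
      (hfa.trans hfb.symm) Ea Eb hEaa hEbb Xg Yg hYXg hXYg
  -- affine Horrocks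
  let D : PData A (n ⊕ n') n :=
    { E := E
      F := p.map (Polynomial.C : A →+* A[X])
      Xm := Ua
      Ym := Va
      hE := hEE
      hF := by rw [← Matrix.map_mul, hp]
      hYX := hVUa
      hXY := by rw [hUVa, hEa, map_C_map_toL'] }
  obtain ⟨U, V, hVU, hUV⟩ := horrocks_matrix D
  change V * U = E at hVU
  change U * V = (E.map (Polynomial.evalRingHom 0)).map (Polynomial.C : A →+* A[X]) at hUV
  -- evaluation maps
  obtain ⟨ε₁, hε₁⟩ : ∃ ε₁ : A[T;T⁻¹] →+* A, ε₁.comp (toL (A := A)) = Polynomial.evalRingHom 1 := by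
    have h1 : IsUnit ((Polynomial.evalRingHom (1 : A)) X) := by simp
    exact ⟨IsLocalization.Away.lift (S := A[T;T⁻¹]) (X : A[X]) h1,
      IsLocalization.Away.lift_comp (S := A[T;T⁻¹]) (X : A[X]) h1⟩
  obtain ⟨ε₀, hε₀⟩ : ∃ ε₀ : Localization.Away g →+* A,
      ε₀.comp (algebraMap A[X] (Localization.Away g)) = Polynomial.evalRingHom 0 := by
    have h1 : IsUnit ((Polynomial.evalRingHom (0 : A)) g) := by
      rw [Polynomial.coe_evalRingHom, ← Polynomial.coeff_zero_eq_eval_zero, hg0]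
      exact isUnit_one
    exact ⟨IsLocalization.Away.lift g h1, IsLocalization.Away.lift_comp g h1⟩
  have hCev : ∀ (c : A) (q : Matrix n n A),
      (q.map (Polynomial.C : A →+* A[X])).map (Polynomial.evalRingHom c) = q := by
    intro c q
    ext i j
    simp
  have hCev' : ∀ (c : A) (q : Matrix n' n' A),
      (q.map (Polynomial.C : A →+* A[X])).map (Polynomial.evalRingHom c) = q := by
    intro c q
    ext i j
    simp
  have hCev'' : ∀ (c : A) (q : Matrix (n ⊕ n') (n ⊕ n') A),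
      (q.map (Polynomial.C : A →+* A[X])).map (Polynomial.evalRingHom c) = q := by
    intro c q
    ext i j
    simp
  obtain ⟨E1, hE1⟩ : ∃ E1, E1 = E.map (Polynomial.evalRingHom (1 : A)) := ⟨_, rfl⟩
  obtain ⟨E0, hE0⟩ : ∃ E0, E0 = E.map (Polynomial.evalRingHom (0 : A)) := ⟨_, rfl⟩
  obtain ⟨P1, hP1⟩ : ∃ P1, P1 = Ua.map ε₁ := ⟨_, rfl⟩
  obtain ⟨Q1, hQ1⟩ : ∃ Q1, Q1 = Va.map ε₁ := ⟨_, rfl⟩
  obtain ⟨P2, hP2⟩ : ∃ P2, P2 = U.map (Polynomial.evalRingHom (1 : A)) := ⟨_, rfl⟩
  obtain ⟨Q2, hQ2⟩ : ∃ Q2, Q2 = V.map (Polynomial.evalRingHom (1 : A)) := ⟨_, rfl⟩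
  obtain ⟨P3, hP3⟩ : ∃ P3, P3 = Ub.map ε₀ := ⟨_, rfl⟩
  obtain ⟨Q3, hQ3⟩ : ∃ Q3, Q3 = Vb.map ε₀ := ⟨_, rfl⟩
  have a1 : Q1 * P1 = E1 := by
    rw [hQ1, hP1, ← Matrix.map_mul, hVUa, map_map_hom, hε₁, hE1]
  have a2 : P1 * Q1 = p := by
    rw [hQ1, hP1, ← Matrix.map_mul, hUVa, hEa, map_map_hom, hε₁, hCev]
  have b1 : Q2 * P2 = E1 := by
    rw [hQ2, hP2, ← Matrix.map_mul, hVU, hE1]
  have b2 : P2 * Q2 = E0 := by
    rw [hQ2, hP2, ← Matrix.map_mul, hUV, hCev'', hE0]
  have c1 : Q3 * P3 = E0 := by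
    rw [hQ3, hP3, ← Matrix.map_mul, hVUb, map_map_hom, hε₀, hE0]
  have c2 : P3 * Q3 = p' := by
    rw [hQ3, hP3, ← Matrix.map_mul, hUVb, hEb, map_map_hom, hε₀, hCev']
  refine ⟨P3 * P2 * Q1, P1 * Q2 * Q3, ?_, ?_⟩
  · calc P1 * Q2 * Q3 * (P3 * P2 * Q1) = P1 * Q2 * (Q3 * P3) * P2 * Q1 := by
          simp only [Matrix.mul_assoc]
      _ = P1 * (Q2 * P2) * (Q2 * P2) * Q1 := by rw [c1, ← b2]; simp only [Matrix.mul_assoc]
      _ = (P1 * Q1) * (P1 * Q1) * (P1 * Q1) := by rw [b1, ← a1]; simp only [Matrix.mul_assoc]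
      _ = p := by rw [a2, hp, hp]
  · calc P3 * P2 * Q1 * (P1 * Q2 * Q3) = P3 * P2 * (Q1 * P1) * Q2 * Q3 := by
          simp only [Matrix.mul_assoc]
      _ = P3 * (P2 * Q2) * (P2 * Q2) * Q3 := by rw [a1, ← b1]; simp only [Matrix.mul_assoc]
      _ = (P3 * Q3) * (P3 * Q3) * (P3 * Q3) := by rw [b2, ← c1]; simp only [Matrix.mul_assoc]
      _ = p' := by rw [c2, hp', hp']

/-- Descent of equivalences of constant idempotents from the localization of `A[X]` at the monic
polynomials. -/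
theorem monic_localization_descent (M : Submonoid A[X]) (hM : ∀ f : A[X], f ∈ M ↔ f.Monic)
    {At : Type*} [CommRing At] [Algebra A[X] At] [IsLocalization M At]
    (p : Matrix n n A) (p' : Matrix n' n' A) (hp : p * p = p) (hp' : p' * p' = p')
    (X : Matrix n' n At) (Y : Matrix n n' At)
    (hYX : Y * X = (p.map (Polynomial.C : A →+* A[X])).map (algebraMap A[X] At))
    (hXY : X * Y = (p'.map (Polynomial.C : A →+* A[X])).map (algebraMap A[X] At)) :
    ∃ (X₀ : Matrix n' n A) (Y₀ : Matrix n n' A), Y₀ * X₀ = p ∧ X₀ * Y₀ = p' := by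
  classical
  obtain ⟨φ, hφdef⟩ : ∃ φ, φ = algebraMap A[X] At := ⟨_, rfl⟩
  rw [← hφdef] at hYX hXY
  have hφ : LocLike φ M := by rw [hφdef]; exact LocLike.of_isLocalization M
  obtain ⟨f₁, hf₁, X₁, hX₁⟩ := hφ.matrix_surj X
  obtain ⟨f₂, hf₂, Y₁, hY₁⟩ := hφ.matrix_surj Y
  have k1 : (Y₁ * X₁ - (f₂ * f₁) • p.map (Polynomial.C : A →+* A[X])).map φ = 0 := by
    rw [Matrix.map_sub _ (map_sub φ), Matrix.map_mul, hY₁, hX₁, map_smul_hom, Matrix.smul_mul,
      Matrix.mul_smul, smul_smul, hYX, map_mul, sub_self]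
  have k2 : (X₁ * Y₁ - (f₁ * f₂) • p'.map (Polynomial.C : A →+* A[X])).map φ = 0 := by
    rw [Matrix.map_sub _ (map_sub φ), Matrix.map_mul, hY₁, hX₁, map_smul_hom, Matrix.smul_mul,
      Matrix.mul_smul, smul_smul, hXY, map_mul, sub_self]
  obtain ⟨f₃, hf₃, h3⟩ := hφ.matrix_ker _ k1
  obtain ⟨f₄, hf₄, h4⟩ := hφ.matrix_ker _ k2
  rw [smul_sub, sub_eq_zero] at h3 h4
  have hfm : (f₃ * f₄ * (f₁ * f₂)).Monic :=
    (hM _).1 (M.mul_mem (M.mul_mem hf₃ hf₄) (M.mul_mem hf₁ hf₂))
  refine monic_matrix p p' hp hp' _ hfm ((f₃ * f₄) • X₁) Y₁ ?_ ?_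
  · rw [Matrix.mul_smul, mul_comm f₃ f₄, mul_smul, h3, smul_smul, smul_smul]
    congr 1; ring
  · rw [Matrix.smul_mul, mul_smul, h4, smul_smul, smul_smul]

end Monic

section Descent

open TensorProduct Groth.Agent.Lib.Seat99.Approx

universe v

variable {L : Type u} {L' : Type v} [CommRing L] [CommRing L'] [Algebra L L']

/-- If equivalences of idempotent matrices descend from `L'` to `L`, then so do isomorphisms of
finite projective modules. -/
theorem nonempty_linearEquiv_of_matrix_descent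
    (H : ∀ (a b : ℕ) (E : Matrix (Fin a) (Fin a) L) (E' : Matrix (Fin b) (Fin b) L),
      E * E = E → E' * E' = E' → ∀ (X : Matrix (Fin b) (Fin a) L') (Y : Matrix (Fin a) (Fin b) L'),
        Y * X = E.map (algebraMap L L') → X * Y = E'.map (algebraMap L L') →
          ∃ (X₁ : Matrix (Fin b) (Fin a) L) (Y₁ : Matrix (Fin a) (Fin b) L),
            Y₁ * X₁ = E ∧ X₁ * Y₁ = E')
    (M N : Type*) [AddCommGroup M] [Module L M] [Module.Finite L M] [Module.Projective L M]
    [AddCommGroup N] [Module L N] [Module.Finite L N] [Module.Projective L N]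
    (h : Nonempty (L' ⊗[L] M ≃ₗ[L'] L' ⊗[L] N)) : Nonempty (M ≃ₗ[L] N) := by
  obtain ⟨Φ⟩ := h
  obtain ⟨a, r, hr⟩ := Module.Finite.exists_fin' L M
  obtain ⟨i, hi⟩ := Module.projective_lifting_property r LinearMap.id hr
  obtain ⟨b, r', hr'⟩ := Module.Finite.exists_fin' L N
  obtain ⟨i', hi'⟩ := Module.projective_lifting_property r' LinearMap.id hr'
  have hri : ∀ z, r.baseChange L' (i.baseChange L' z) = z := fun z => by
    rw [← LinearMap.comp_apply, ← LinearMap.baseChange_comp, hi, LinearMap.baseChange_id,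
      LinearMap.id_apply]
  have hri' : ∀ z, r'.baseChange L' (i'.baseChange L' z) = z := fun z => by
    rw [← LinearMap.comp_apply, ← LinearMap.baseChange_comp, hi', LinearMap.baseChange_id,
      LinearMap.id_apply]
  let x : (Fin a → L') →ₗ[L'] (Fin b → L') :=
    (τ L L' (Fin b)).toLinearMap ∘ₗ i'.baseChange L' ∘ₗ Φ.toLinearMap ∘ₗ r.baseChange L' ∘ₗ
      (τ L L' (Fin a)).symm.toLinearMap
  let y : (Fin b → L') →ₗ[L'] (Fin a → L') :=
    (τ L L' (Fin a)).toLinearMap ∘ₗ i.baseChange L' ∘ₗ Φ.symm.toLinearMap ∘ₗ r'.baseChange L' ∘ₗ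
      (τ L L' (Fin b)).symm.toLinearMap
  have hyx : y ∘ₗ x = bc (L' := L') (i ∘ₗ r) := by
    apply LinearMap.ext
    intro v
    simp only [x, y, bc, LinearMap.coe_comp, LinearEquiv.coe_coe, Function.comp_apply,
      LinearEquiv.symm_apply_apply, hri', LinearMap.baseChange_comp]
  have hxy : x ∘ₗ y = bc (L' := L') (i' ∘ₗ r') := by
    apply LinearMap.ext
    intro v
    simp only [x, y, bc, LinearMap.coe_comp, LinearEquiv.coe_coe, Function.comp_apply,
      LinearEquiv.symm_apply_apply, LinearEquiv.apply_symm_apply, hri, LinearMap.baseChange_comp]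
  set E : Matrix (Fin a) (Fin a) L := LinearMap.toMatrix' (i ∘ₗ r) with hEdef
  set E' : Matrix (Fin b) (Fin b) L := LinearMap.toMatrix' (i' ∘ₗ r') with hE'def
  have hE : E * E = E := by
    rw [hEdef, ← LinearMap.toMatrix'_comp]
    congr 1
    apply LinearMap.ext
    intro v
    have := congrArg (fun f => f (r v)) hi
    simp only [LinearMap.comp_apply, LinearMap.id_apply] at this ⊢
    rw [this]
  have hE' : E' * E' = E' := by
    rw [hE'def, ← LinearMap.toMatrix'_comp]
    congr 1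
    apply LinearMap.ext
    intro v
    have := congrArg (fun f => f (r' v)) hi'
    simp only [LinearMap.comp_apply, LinearMap.id_apply] at this ⊢
    rw [this]
  have hYX : LinearMap.toMatrix' y * LinearMap.toMatrix' x = E.map (algebraMap L L') := by
    rw [← LinearMap.toMatrix'_comp, hyx, toMatrix'_bc]
  have hXY : LinearMap.toMatrix' x * LinearMap.toMatrix' y = E'.map (algebraMap L L') := by
    rw [← LinearMap.toMatrix'_comp, hxy, toMatrix'_bc]
  obtain ⟨X₁, Y₁, h1, h2⟩ := H a b E E' hE hE' _ _ hYX hXY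
  have hrE : ∀ v, r (Matrix.toLin' E v) = r v := by
    intro v
    rw [hEdef, Matrix.toLin'_toMatrix']
    have := congrArg (fun f => f (r v)) hi
    simpa using this
  have hrE' : ∀ v, r' (Matrix.toLin' E' v) = r' v := by
    intro v
    rw [hE'def, Matrix.toLin'_toMatrix']
    have := congrArg (fun f => f (r' v)) hi'
    simpa using this
  have hiE : ∀ m, Matrix.toLin' E (i m) = i m := by
    intro m
    rw [hEdef, Matrix.toLin'_toMatrix']
    have := congrArg (fun f => f m) hi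
    simp only [LinearMap.comp_apply, LinearMap.id_apply] at this ⊢
    rw [this]
  have hiE' : ∀ m, Matrix.toLin' E' (i' m) = i' m := by
    intro m
    rw [hE'def, Matrix.toLin'_toMatrix']
    have := congrArg (fun f => f m) hi'
    simp only [LinearMap.comp_apply, LinearMap.id_apply] at this ⊢
    rw [this]
  have hir : ∀ v, i (r v) = Matrix.toLin' E v := fun v => by
    rw [hEdef, Matrix.toLin'_toMatrix']; rfl
  have hir' : ∀ v, i' (r' v) = Matrix.toLin' E' v := fun v => by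
    rw [hE'def, Matrix.toLin'_toMatrix']; rfl
  have hXEY : X₁ * E * Y₁ = E' := by
    rw [← h1]
    calc X₁ * (Y₁ * X₁) * Y₁ = (X₁ * Y₁) * (X₁ * Y₁) := by simp only [Matrix.mul_assoc]
      _ = E' := by rw [h2, hE']
  have hYEX : Y₁ * E' * X₁ = E := by
    rw [← h2]
    calc Y₁ * (X₁ * Y₁) * X₁ = (Y₁ * X₁) * (Y₁ * X₁) := by simp only [Matrix.mul_assoc]
      _ = E := by rw [h1, hE]
  refine ⟨LinearEquiv.ofLinearMap (r' ∘ₗ Matrix.toLin' X₁ ∘ₗ i) (r ∘ₗ Matrix.toLin' Y₁ ∘ₗ i')
    ?_ ?_⟩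
  · apply LinearMap.ext
    intro n
    simp only [LinearMap.comp_apply, LinearMap.id_apply]
    rw [hir, ← Matrix.toLin'_mul_apply, ← Matrix.toLin'_mul_apply, hXEY, hiE']
    exact congrArg (fun f => f n) hi'
  · apply LinearMap.ext
    intro m
    simp only [LinearMap.comp_apply, LinearMap.id_apply]
    rw [hir', ← Matrix.toLin'_mul_apply, ← Matrix.toLin'_mul_apply, hYEX, hiE]
    exact congrArg (fun f => f m) hi

end Descent

end Groth.Agent.Lib.Seat99.HQ
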