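import Mathlib

/-!
# Horrocks–Quillen, part 3: Quillen's lemma (seat 99)

* `LocLike φ M`: the ring map `φ : R → S` behaves like the localization at `M` (every element of `S`
  is a fraction, and the kernel is `M`-torsion); stable under passing to polynomial rings and
  available entrywise for matrices.
* `abstract_quillen`: the abstract form of Quillen's lemma.
-/

set_option linter.unusedSectionVars false
set_option linter.unusedVariables false
set_option linter.unusedSimpArgs false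

open Polynomial Matrix

namespace Groth.Agent.Lib.Seat99.HQ

/-- `φ` is "localization-like" for the submonoid `M`. -/
structure LocLike {R S : Type*} [CommRing R] [CommRing S] (φ : R →+* S) (M : Submonoid R) :
    Prop where
  unit : ∀ s ∈ M, IsUnit (φ s)
  surj : ∀ x : S, ∃ s ∈ M, ∃ y : R, φ y = φ s * x
  ker : ∀ y : R, φ y = 0 → ∃ s ∈ M, s * y = 0

namespace LocLike

variable {R S : Type*} [CommRing R] [CommRing S]

theorem of_isLocalization (M : Submonoid R) [Algebra R S] [IsLocalization M S] :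
    LocLike (algebraMap R S) M where
  unit s hs := IsLocalization.map_units S ⟨s, hs⟩
  surj x := by
    obtain ⟨⟨y, s⟩, h⟩ := IsLocalization.surj M x
    exact ⟨s, s.2, y, by rw [← h, mul_comm]⟩
  ker y hy := by
    obtain ⟨m, hm⟩ := (IsLocalization.map_eq_zero_iff M S y).1 hy
    exact ⟨m, m.2, hm⟩

variable {φ : R →+* S} {M : Submonoid R}

/-- Finite families have common denominators. -/
theorem surj_finite (h : LocLike φ M) {ι : Type*} [Finite ι] (x : ι → S) :
    ∃ s ∈ M, ∃ y : ι → R, ∀ i, φ (y i) = φ s * x i := by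
  classical
  cases nonempty_fintype ι
  choose s hs y hy using fun i => h.surj (x i)
  refine ⟨∏ i, s i, Submonoid.prod_mem _ fun i _ => hs i,
    fun i => (∏ j ∈ Finset.univ.erase i, s j) * y i, fun i => ?_⟩
  rw [map_mul, hy, ← mul_assoc, ← map_mul, mul_comm _ (s i),
    Finset.mul_prod_erase _ _ (Finset.mem_univ i)]

theorem ker_finite (h : LocLike φ M) {ι : Type*} [Finite ι] (y : ι → R) (hy : ∀ i, φ (y i) = 0) :
    ∃ s ∈ M, ∀ i, s * y i = 0 := by
  classical
  cases nonempty_fintype ι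
  choose s hs hsy using fun i => h.ker (y i) (hy i)
  refine ⟨∏ i, s i, Submonoid.prod_mem _ fun i _ => hs i, fun i => ?_⟩
  rw [← Finset.mul_prod_erase _ _ (Finset.mem_univ i), mul_right_comm, hsy, zero_mul]

theorem matrix_surj (h : LocLike φ M) {m n : Type*} [Finite m] [Finite n] (ξ : Matrix m n S) :
    ∃ s ∈ M, ∃ W : Matrix m n R, W.map φ = φ s • ξ := by
  obtain ⟨s, hs, y, hy⟩ := h.surj_finite (fun p : m × n => ξ p.1 p.2)
  refine ⟨s, hs, Matrix.of fun a b => y (a, b), ?_⟩
  ext a b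
  exact hy (a, b)

theorem matrix_ker (h : LocLike φ M) {m n : Type*} [Finite m] [Finite n] (W : Matrix m n R)
    (hW : W.map φ = 0) : ∃ s ∈ M, s • W = 0 := by
  obtain ⟨s, hs, hy⟩ := h.ker_finite (fun p : m × n => W p.1 p.2)
    (fun p => congrFun (congrFun hW p.1) p.2)
  refine ⟨s, hs, ?_⟩
  ext a b
  exact hy (a, b)

/-- `LocLike` passes to polynomial rings. -/
theorem polynomial (h : LocLike φ M) :
    LocLike (Polynomial.mapRingHom φ) (M.map (Polynomial.C : R →+* R[X])) where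
  unit s hs := by
    obtain ⟨s, hs, rfl⟩ := hs
    simp only [Polynomial.coe_mapRingHom, Polynomial.map_C]
    exact (h.unit s hs).map Polynomial.C
  surj p := by
    induction p using Polynomial.induction_on' with
    | add p q hp hq =>
      obtain ⟨s₁, hs₁, y₁, h₁⟩ := hp
      obtain ⟨s₂, hs₂, y₂, h₂⟩ := hq
      refine ⟨s₁ * s₂, Submonoid.mul_mem _ hs₁ hs₂, s₂ * y₁ + s₁ * y₂, ?_⟩
      rw [map_add, map_mul, map_mul, h₁, h₂, map_mul]
      ring
    | monomial k a =>
      obtain ⟨s, hs, y, hy⟩ := h.surj a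
      refine ⟨Polynomial.C s, ⟨s, hs, rfl⟩, Polynomial.monomial k y, ?_⟩
      simp only [Polynomial.coe_mapRingHom, Polynomial.map_monomial, Polynomial.map_C, hy,
        Polynomial.C_mul_monomial]
  ker p hp := by
    classical
    have hcoeff : ∀ i : p.support, φ (p.coeff i) = 0 := by
      intro i
      have := congrArg (fun q => Polynomial.coeff q i) hp
      simpa using this
    obtain ⟨s, hs, hsy⟩ := h.ker_finite (fun i : p.support => p.coeff i) hcoeff
    refine ⟨Polynomial.C s, ⟨s, hs, rfl⟩, ?_⟩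
    ext i
    rw [Polynomial.coeff_C_mul, Polynomial.coeff_zero]
    by_cases hi : i ∈ p.support
    · exact hsy ⟨i, hi⟩
    · rw [Polynomial.notMem_support_iff.1 hi, mul_zero]

end LocLike

section Abstract

variable {𝓡 𝓡' : Type*} [Ring 𝓡] [Ring 𝓡']

/-- **Quillen's lemma, abstract form.** -/
theorem abstract_quillen (lam : 𝓡 →+* 𝓡') (f z e : 𝓡)
    (hfc : ∀ x, Commute f x) (hzc : ∀ x, Commute z x)
    (σ : ℕ → 𝓡 →+* 𝓡) (σ' : ℕ → 𝓡' →+* 𝓡')
    (hσ : ∀ k x, lam (σ k x) = σ' k (lam x))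
    (hσz : ∀ k, σ k z = f ^ k * z) (hσf : ∀ k, σ k f = f) (hσe : ∀ k, σ k e = e)
    (hσadd : ∀ j k x, σ' j (σ' k x) = σ' (j + k) x)
    (L1 : ∀ ξ : 𝓡', ∃ (k : ℕ) (Ψ : 𝓡), lam Ψ = lam f ^ k * ξ)
    (L2 : ∀ w : 𝓡, lam w = 0 → ∃ r : ℕ, f ^ r * w = 0)
    (hzreg : ∀ w : 𝓡', lam z * w = 0 → w = 0)
    (Ξ Ξ' : 𝓡') (h1 : (1 + lam z * Ξ) * (1 + lam z * Ξ') = 1)
    (h2 : (1 + lam z * Ξ') * (1 + lam z * Ξ) = 1) (hc : Commute (lam e) Ξ) :
    ∃ (k : ℕ) (ψ ψ' : 𝓡), ψ * ψ' = 1 ∧ ψ' * ψ = 1 ∧ Commute e ψ ∧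
      lam ψ = σ' k (1 + lam z * Ξ) := by
  -- a common exponent
  obtain ⟨k₁, Ψ₁, hΨ₁⟩ := L1 Ξ
  obtain ⟨k₂, Ψ₂, hΨ₂⟩ := L1 Ξ'
  obtain ⟨k, hk⟩ : ∃ k, k = k₁ + k₂ := ⟨_, rfl⟩
  have hΨ : lam (f ^ k₂ * Ψ₁) = lam f ^ k * Ξ := by
    rw [map_mul, map_pow, hΨ₁, ← mul_assoc, ← pow_add, hk, add_comm]
  have hΨ' : lam (f ^ k₁ * Ψ₂) = lam f ^ k * Ξ' := by
    rw [map_mul, map_pow, hΨ₂, ← mul_assoc, ← pow_add, hk]
  obtain ⟨A, hA⟩ : ∃ A, A = σ k (f ^ k₂ * Ψ₁) := ⟨_, rfl⟩
  obtain ⟨B, hB⟩ : ∃ B, B = σ k (f ^ k₁ * Ψ₂) := ⟨_, rfl⟩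
  have hσlamf : ∀ j, σ' j (lam f) = lam f := fun j => by rw [← hσ, hσf]
  have hlamzf : ∀ j : ℕ, lam z * lam f ^ j = lam f ^ j * lam z := by
    intro j
    rw [← map_pow, ← map_mul, ← map_mul, (hzc (f ^ j)).eq]
  have key : ∀ (Θ : 𝓡') (P : 𝓡), lam P = lam f ^ k * Θ →
      lam (1 + z * σ k P) = σ' k (1 + lam z * Θ) := by
    intro Θ P hP
    rw [map_add, map_one, map_mul, hσ, hP, map_add, map_one, map_mul, map_mul, map_pow, hσlamf,
      ← hσ k z, hσz, map_mul, map_pow, ← mul_assoc, hlamzf, mul_assoc]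
  have hlamψ₁ : lam (1 + z * A) = σ' k (1 + lam z * Ξ) := by rw [hA]; exact key Ξ _ hΨ
  have hlamψ₁' : lam (1 + z * B) = σ' k (1 + lam z * Ξ') := by rw [hB]; exact key Ξ' _ hΨ'
  -- the products
  have hprod : (1 + z * A) * (1 + z * B) = 1 + z * (B + A + A * (z * B)) := by noncomm_ring
  have hprod' : (1 + z * B) * (1 + z * A) = 1 + z * (A + B + B * (z * A)) := by noncomm_ring
  have hW : lam (B + A + A * (z * B)) = 0 := by
    apply hzreg
    have : lam ((1 + z * A) * (1 + z * B)) = 1 := by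
      rw [map_mul, hlamψ₁, hlamψ₁', ← map_mul, h1, map_one]
    rw [hprod, map_add, map_one, map_mul] at this
    exact add_eq_left.1 this
  have hW' : lam (A + B + B * (z * A)) = 0 := by
    apply hzreg
    have : lam ((1 + z * B) * (1 + z * A)) = 1 := by
      rw [map_mul, hlamψ₁, hlamψ₁', ← map_mul, h2, map_one]
    rw [hprod', map_add, map_one, map_mul] at this
    exact add_eq_left.1 this
  -- commutation with `e`
  have hcomm : lam (A * e - e * A) = 0 := by
    apply hzreg
    have hΦe : Commute (lam e) (1 + lam z * Ξ) := by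
      refine (Commute.one_right _).add_right ?_
      have : Commute (lam e) (lam z) := by
        show lam e * lam z = lam z * lam e
        rw [← map_mul, ← map_mul, (hzc e).eq]
      exact this.mul_right hc
    have hσe' : σ' k (lam e) = lam e := by rw [← hσ, hσe]
    have h3 : Commute (lam e) (lam (1 + z * A)) := by
      rw [hlamψ₁, ← hσe']
      exact hΦe.map (σ' k)
    have h4 : z * (A * e - e * A) = (1 + z * A) * e - e * (1 + z * A) := by
      have := (hzc e).eq
      rw [mul_sub, add_mul, mul_add, one_mul, mul_one, mul_assoc, ← mul_assoc z e A, this,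
        mul_assoc]
      abel
    rw [← map_mul, h4, map_sub, map_mul, map_mul, h3.eq, sub_self]
  obtain ⟨r₁, hr₁⟩ := L2 _ hW
  obtain ⟨r₂, hr₂⟩ := L2 _ hW'
  obtain ⟨r₃, hr₃⟩ := L2 _ hcomm
  obtain ⟨r, hr⟩ : ∃ r, r = r₁ + r₂ + r₃ := ⟨_, rfl⟩
  have hkill : ∀ (w : 𝓡) (j : ℕ), j ≤ r → f ^ j * w = 0 → σ r (z * w) = 0 := by
    intro w j hj hw
    have h5 : f ^ r * w = 0 := by
      rw [← Nat.sub_add_cancel hj, pow_add, mul_assoc, hw, mul_zero]
    have h6 : f ^ r * σ r w = σ r (f ^ r * w) := by rw [map_mul, map_pow, hσf]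
    rw [map_mul, hσz, ← (hzc (f ^ r)).eq, mul_assoc, h6, h5, map_zero, mul_zero]
  refine ⟨r + k, σ r (1 + z * A), σ r (1 + z * B), ?_, ?_, ?_, ?_⟩
  · rw [← map_mul, hprod, map_add, map_one, hkill _ r₁ (by omega) hr₁, add_zero]
  · rw [← map_mul, hprod', map_add, map_one, hkill _ r₂ (by omega) hr₂, add_zero]
  · show e * σ r (1 + z * A) = σ r (1 + z * A) * e
    have h7 : σ r (1 + z * A) * e - e * σ r (1 + z * A) = σ r (z * (A * e - e * A)) := by
      have h4 : z * (A * e - e * A) = (1 + z * A) * e - e * (1 + z * A) := by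
        have := (hzc e).eq
        rw [mul_sub, add_mul, mul_add, one_mul, mul_one, mul_assoc, ← mul_assoc z e A, this,
          mul_assoc]
        abel
      rw [h4, map_sub, map_mul, map_mul, hσe]
    rw [hkill _ r₃ (by omega) hr₃, sub_eq_zero] at h7
    exact h7.symm
  · rw [hσ, hlamψ₁, hσadd]

end Abstract

section Concrete

variable {A S : Type*} [CommRing A] [CommRing S] {n : Type*} [Fintype n] [DecidableEq n]

/-- `t ↦ c t`. -/
noncomputable def scaleHom (c : S) : S[X] →+* S[X] :=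
  Polynomial.compRingHom (Polynomial.C c * X)

/-- `z ↦ c z` on `S[t][z]`. -/
noncomputable def zscale (c : S) : S[X][X] →+* S[X][X] :=
  Polynomial.compRingHom (Polynomial.C (Polynomial.C c) * X)

/-- `t ↦ (x₀ + z) t`. -/
noncomputable def alphaHom (x₀ : S) : S[X] →+* S[X][X] :=
  Polynomial.eval₂RingHom ((Polynomial.C : S[X] →+* S[X][X]).comp Polynomial.C)
    ((Polynomial.C (Polynomial.C x₀) + X) * Polynomial.C X)

/-- `t ↦ x₀ t`, constant in `z`. -/
noncomputable def betaHom (x₀ : S) : S[X] →+* S[X][X] :=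
  (Polynomial.C : S[X] →+* S[X][X]).comp (scaleHom x₀)

/-- `z ↦ y`. -/
noncomputable def zeval (y : S) : S[X][X] →+* S[X] := Polynomial.evalRingHom (Polynomial.C y)

theorem scaleHom_C (c a : S) : scaleHom c (Polynomial.C a) = Polynomial.C a := by
  simp [scaleHom, Polynomial.coe_compRingHom_apply]

theorem scaleHom_X (c : S) : scaleHom c X = Polynomial.C c * X := by
  simp [scaleHom, Polynomial.coe_compRingHom_apply]

theorem zeval_zscale_alpha (x₀ c y : S) :
    (zeval y).comp ((zscale c).comp (alphaHom x₀)) = scaleHom (x₀ + c * y) := by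
  refine Polynomial.ringHom_ext (fun a => ?_) ?_
  · simp [zeval, zscale, alphaHom, scaleHom, Polynomial.coe_compRingHom_apply]
  · simp [zeval, zscale, alphaHom, scaleHom, Polynomial.coe_compRingHom_apply]

theorem zeval_zscale_beta (x₀ c y : S) :
    (zeval y).comp ((zscale c).comp (betaHom x₀)) = scaleHom x₀ := by
  refine Polynomial.ringHom_ext (fun a => ?_) ?_
  · simp [zeval, zscale, betaHom, scaleHom, Polynomial.coe_compRingHom_apply]
  · simp [zeval, zscale, betaHom, scaleHom, Polynomial.coe_compRingHom_apply]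

theorem zeval_zero_alpha (x₀ : S) : (zeval 0).comp (alphaHom x₀) = scaleHom x₀ := by
  refine Polynomial.ringHom_ext (fun a => ?_) ?_
  · simp [zeval, alphaHom, scaleHom, Polynomial.coe_compRingHom_apply]
  · simp [zeval, alphaHom, scaleHom, Polynomial.coe_compRingHom_apply]

theorem zeval_zero_beta (x₀ : S) : (zeval 0).comp (betaHom x₀) = scaleHom x₀ := by
  refine Polynomial.ringHom_ext (fun a => ?_) ?_
  · simp [zeval, betaHom, scaleHom, Polynomial.coe_compRingHom_apply]
  · simp [zeval, betaHom, scaleHom, Polynomial.coe_compRingHom_apply]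

theorem map_comp_zeval (φ : A →+* S) (y : A) :
    (Polynomial.mapRingHom φ).comp (zeval y) =
      (zeval (φ y)).comp (Polynomial.mapRingHom (Polynomial.mapRingHom φ)) := by
  refine Polynomial.ringHom_ext (fun a => ?_) ?_
  · simp [zeval]
  · simp [zeval]

theorem map_comp_zscale (φ : A →+* S) (c : A) :
    (Polynomial.mapRingHom (Polynomial.mapRingHom φ)).comp (zscale c) =
      (zscale (φ c)).comp (Polynomial.mapRingHom (Polynomial.mapRingHom φ)) := by
  refine Polynomial.ringHom_ext (fun a => ?_) ?_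
  · simp [zscale, Polynomial.coe_compRingHom_apply]
  · simp [zscale, Polynomial.coe_compRingHom_apply]

theorem zscale_zscale (c c' : S) : (zscale c).comp (zscale c') = zscale (c' * c) := by
  refine Polynomial.ringHom_ext (fun a => ?_) ?_
  · simp [zscale, Polynomial.coe_compRingHom_apply]
  · simp [zscale, Polynomial.coe_compRingHom_apply, mul_assoc]

theorem zscale_C (c : S) (p : S[X]) : zscale c (Polynomial.C p) = Polynomial.C p := by
  simp [zscale, Polynomial.coe_compRingHom_apply]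

theorem zscale_X (c : S) : zscale c X = Polynomial.C (Polynomial.C c) * X := by
  simp [zscale, Polynomial.coe_compRingHom_apply]

theorem mapMatrix_scalar {α β : Type*} [Semiring α] [Semiring β] (g : α →+* β) (r : α) :
    g.mapMatrix (Matrix.scalar n r) = Matrix.scalar n (g r) := by
  ext a b
  simp only [RingHom.mapMatrix_apply, Matrix.map_apply, Matrix.scalar_apply,
    Matrix.diagonal_apply]
  split_ifs <;> simp

end Concrete

section QuillenLift

variable {A S : Type*} [CommRing A] [CommRing S] {n : Type*} [Fintype n] [DecidableEq n]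

theorem powers_map_C_C {f : A} {s : A[X][X]}
    (hs : s ∈ ((Submonoid.powers f).map (Polynomial.C : A →+* A[X])).map
      (Polynomial.C : A[X] →+* A[X][X])) :
    ∃ k : ℕ, s = Polynomial.C (Polynomial.C (f ^ k)) := by
  obtain ⟨_, ⟨_, ⟨k, rfl⟩, rfl⟩, rfl⟩ := hs
  exact ⟨k, rfl⟩

/-- **Quillen's lemma** (matrix form). -/
theorem quillen_lift (φ : A →+* S) (f : A) (hφ : LocLike φ (Submonoid.powers f))
    (e₀ : Matrix n n A) (θ θ' : Matrix n n S[X]) (h1 : θ * θ' = 1) (h2 : θ' * θ = 1)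
    (hc : Commute (e₀.map ((Polynomial.C : S →+* S[X]).comp φ)) θ) (x₀ : A) :
    ∃ k : ℕ, ∀ y : A, ∃ ψ ψ' : Matrix n n A[X], ψ * ψ' = 1 ∧ ψ' * ψ = 1 ∧
      Commute (e₀.map (Polynomial.C : A →+* A[X])) ψ ∧
      ψ.map (Polynomial.mapRingHom φ) =
        θ.map (scaleHom (φ (x₀ + f ^ k * y))) * θ'.map (scaleHom (φ x₀)) := by
  classical
  -- the rings and maps
  let lam : Matrix n n A[X][X] →+* Matrix n n S[X][X] :=
    (Polynomial.mapRingHom (Polynomial.mapRingHom φ)).mapMatrix
  let fm : Matrix n n A[X][X] := Matrix.scalar n (Polynomial.C (Polynomial.C f))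
  let zm : Matrix n n A[X][X] := Matrix.scalar n X
  let e : Matrix n n A[X][X] :=
    ((Polynomial.C : A[X] →+* A[X][X]).comp Polynomial.C).mapMatrix e₀
  let σ : ℕ → Matrix n n A[X][X] →+* Matrix n n A[X][X] := fun k => (zscale (f ^ k)).mapMatrix
  let σ' : ℕ → Matrix n n S[X][X] →+* Matrix n n S[X][X] :=
    fun k => (zscale (φ f ^ k)).mapMatrix
  have hfc : ∀ x, Commute fm x := fun x => Matrix.scalar_commute _ (fun _ => Commute.all _ _) x
  have hzc : ∀ x, Commute zm x := fun x => Matrix.scalar_commute _ (fun _ => Commute.all _ _) x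
  have hσ : ∀ k x, lam (σ k x) = σ' k (lam x) := by
    intro k x
    show ((Polynomial.mapRingHom (Polynomial.mapRingHom φ)).mapMatrix.comp
      (zscale (f ^ k)).mapMatrix) x = ((zscale (φ f ^ k)).mapMatrix.comp
      (Polynomial.mapRingHom (Polynomial.mapRingHom φ)).mapMatrix) x
    rw [RingHom.mapMatrix_comp, RingHom.mapMatrix_comp, map_comp_zscale, map_pow]
  have hfmpow : ∀ k : ℕ, fm ^ k = Matrix.scalar n (Polynomial.C (Polynomial.C (f ^ k))) := by
    intro k
    show (Matrix.scalar n (Polynomial.C (Polynomial.C f))) ^ k = _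
    rw [← map_pow, ← map_pow, ← map_pow]
  have hσz : ∀ k, σ k zm = fm ^ k * zm := by
    intro k
    show (zscale (f ^ k)).mapMatrix (Matrix.scalar n X) = _
    rw [mapMatrix_scalar, zscale_X, hfmpow, map_mul]
  have hσf : ∀ k, σ k fm = fm := by
    intro k
    show (zscale (f ^ k)).mapMatrix (Matrix.scalar n _) = _
    rw [mapMatrix_scalar, zscale_C]
  have hσe : ∀ k, σ k e = e := by
    intro k
    show ((zscale (f ^ k)).mapMatrix.comp
      ((Polynomial.C : A[X] →+* A[X][X]).comp Polynomial.C).mapMatrix) e₀ = _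
    rw [RingHom.mapMatrix_comp]
    have : (zscale (f ^ k)).comp ((Polynomial.C : A[X] →+* A[X][X]).comp Polynomial.C) =
        (Polynomial.C : A[X] →+* A[X][X]).comp Polynomial.C :=
      RingHom.ext fun a => by simp [zscale_C]
    rw [this]
  have hσadd : ∀ j k x, σ' j (σ' k x) = σ' (j + k) x := by
    intro j k x
    show ((zscale (φ f ^ j)).mapMatrix.comp (zscale (φ f ^ k)).mapMatrix) x = _
    rw [RingHom.mapMatrix_comp, zscale_zscale, ← pow_add, add_comm]
  have hlamfm : ∀ k : ℕ, lam fm ^ k =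
      Matrix.scalar n (Polynomial.C (Polynomial.C (φ (f ^ k)))) := by
    intro k
    rw [← map_pow, hfmpow]
    show (Polynomial.mapRingHom (Polynomial.mapRingHom φ)).mapMatrix (Matrix.scalar n _) = _
    rw [mapMatrix_scalar]
    simp
  have hLL := hφ.polynomial.polynomial
  have L1 : ∀ ξ : Matrix n n S[X][X], ∃ (k : ℕ) (Ψ : Matrix n n A[X][X]),
      lam Ψ = lam fm ^ k * ξ := by
    intro ξ
    obtain ⟨s, hs, W, hW⟩ := hLL.matrix_surj ξ
    obtain ⟨k, rfl⟩ := powers_map_C_C hs
    refine ⟨k, W, ?_⟩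
    show W.map _ = _
    rw [hW, hlamfm, Matrix.smul_eq_diagonal_mul, Matrix.scalar_apply]
    simp
  have L2 : ∀ w : Matrix n n A[X][X], lam w = 0 → ∃ r : ℕ, fm ^ r * w = 0 := by
    intro w hw
    obtain ⟨s, hs, hsw⟩ := hLL.matrix_ker w hw
    obtain ⟨k, rfl⟩ := powers_map_C_C hs
    refine ⟨k, ?_⟩
    rw [hfmpow, Matrix.scalar_apply, ← Matrix.smul_eq_diagonal_mul]
    exact hsw
  have hlamz : lam zm = Matrix.scalar n X := by
    show (Polynomial.mapRingHom (Polynomial.mapRingHom φ)).mapMatrix (Matrix.scalar n X) = _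
    rw [mapMatrix_scalar]
    simp
  have hXsmul : ∀ w : Matrix n n S[X][X], lam zm * w = (X : S[X][X]) • w := by
    intro w
    rw [hlamz, Matrix.scalar_apply, ← Matrix.smul_eq_diagonal_mul]
  have hzreg : ∀ w : Matrix n n S[X][X], lam zm * w = 0 → w = 0 := by
    intro w hw
    rw [hXsmul] at hw
    refine Matrix.ext fun a b => ?_
    have := congrFun (congrFun hw a) b
    simp only [Matrix.smul_apply, smul_eq_mul, Matrix.zero_apply] at this
    refine (Polynomial.monic_X.isRegular.left) ?_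
    show X * w a b = X * (0 : Matrix n n S[X][X]) a b
    rw [this, Matrix.zero_apply, mul_zero]
  -- the matrix Φ
  obtain ⟨x₀', hx₀'⟩ : ∃ x₀', x₀' = φ x₀ := ⟨_, rfl⟩
  let Φ : Matrix n n S[X][X] := (alphaHom x₀').mapMatrix θ * (betaHom x₀').mapMatrix θ'
  let Φ' : Matrix n n S[X][X] := (betaHom x₀').mapMatrix θ * (alphaHom x₀').mapMatrix θ'
  have hΦΦ' : Φ * Φ' = 1 := by
    show (alphaHom x₀').mapMatrix θ * (betaHom x₀').mapMatrix θ' *
      ((betaHom x₀').mapMatrix θ * (alphaHom x₀').mapMatrix θ') = 1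
    rw [mul_assoc, ← mul_assoc ((betaHom x₀').mapMatrix θ'), ← map_mul, h2, map_one, one_mul,
      ← map_mul, h1, map_one]
  have hΦ'Φ : Φ' * Φ = 1 := by
    show (betaHom x₀').mapMatrix θ * (alphaHom x₀').mapMatrix θ' *
      ((alphaHom x₀').mapMatrix θ * (betaHom x₀').mapMatrix θ') = 1
    rw [mul_assoc, ← mul_assoc ((alphaHom x₀').mapMatrix θ'), ← map_mul, h2, map_one, one_mul,
      ← map_mul, h1, map_one]
  have hev0Φ : (zeval 0).mapMatrix Φ = 1 := by
    show (zeval 0).mapMatrix ((alphaHom x₀').mapMatrix θ * (betaHom x₀').mapMatrix θ') = 1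
    rw [map_mul, ← RingHom.comp_apply, ← RingHom.comp_apply, RingHom.mapMatrix_comp,
      RingHom.mapMatrix_comp, zeval_zero_alpha, zeval_zero_beta, ← map_mul, h1, map_one]
  have hev0Φ' : (zeval 0).mapMatrix Φ' = 1 := by
    show (zeval 0).mapMatrix ((betaHom x₀').mapMatrix θ * (alphaHom x₀').mapMatrix θ') = 1
    rw [map_mul, ← RingHom.comp_apply, ← RingHom.comp_apply, RingHom.mapMatrix_comp,
      RingHom.mapMatrix_comp, zeval_zero_alpha, zeval_zero_beta, ← map_mul, h1, map_one]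
  have hdiv : ∀ Ψ : Matrix n n S[X][X], (zeval 0).mapMatrix Ψ = 1 →
      Ψ = 1 + lam zm * (Ψ - 1).map Polynomial.divX := by
    intro Ψ hΨ
    rw [hXsmul]
    refine Matrix.ext fun a b => ?_
    have h3 := congrFun (congrFun hΨ a) b
    simp only [RingHom.mapMatrix_apply, Matrix.map_apply, zeval, Polynomial.coe_evalRingHom] at h3
    have h4 : ((Ψ - 1) a b).coeff 0 = 0 := by
      rw [Polynomial.coeff_zero_eq_eval_zero, Matrix.sub_apply, Polynomial.eval_sub]
      have h5 : Polynomial.eval (0 : S[X]) ((1 : Matrix n n S[X][X]) a b) = (1 : Matrix n n S[X]) a b := by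
        simp only [Matrix.one_apply]
        split_ifs <;> simp
      rw [h5, ← h3]
      simp
    have h6 := Polynomial.X_mul_divX_add ((Ψ - 1) a b)
    rw [h4, map_zero, add_zero] at h6
    simp only [Matrix.add_apply, Matrix.smul_apply, Matrix.map_apply, smul_eq_mul, h6]
    simp
  obtain ⟨Ξ, hΞ⟩ : ∃ Ξ, Ξ = (Φ - 1).map Polynomial.divX := ⟨_, rfl⟩
  obtain ⟨Ξ', hΞ'⟩ : ∃ Ξ', Ξ' = (Φ' - 1).map Polynomial.divX := ⟨_, rfl⟩
  have hΦeq : Φ = 1 + lam zm * Ξ := by rw [hΞ]; exact hdiv Φ hev0Φ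
  have hΦ'eq : Φ' = 1 + lam zm * Ξ' := by rw [hΞ']; exact hdiv Φ' hev0Φ'
  -- commutation
  have hlame : lam e = e₀.map ((Polynomial.C : S[X] →+* S[X][X]).comp
      ((Polynomial.C : S →+* S[X]).comp φ)) := by
    show ((Polynomial.mapRingHom (Polynomial.mapRingHom φ)).mapMatrix.comp
      ((Polynomial.C : A[X] →+* A[X][X]).comp Polynomial.C).mapMatrix) e₀ = _
    rw [RingHom.mapMatrix_comp, RingHom.mapMatrix_apply]
    congr 1
    funext a
    simp
  have hθ'c : Commute (e₀.map ((Polynomial.C : S →+* S[X]).comp φ)) θ' := by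
    have : θ' * e₀.map ((Polynomial.C : S →+* S[X]).comp φ) * (θ * θ') =
        (θ' * θ) * e₀.map ((Polynomial.C : S →+* S[X]).comp φ) * θ' := by
      rw [mul_assoc θ' θ, ← hc.eq]; simp only [mul_assoc]
    rw [h1, h2, mul_one, one_mul] at this
    exact this.symm
  have halphae : (alphaHom x₀').mapMatrix (e₀.map ((Polynomial.C : S →+* S[X]).comp φ)) =
      lam e := by
    rw [hlame, RingHom.mapMatrix_apply, Matrix.map_map]
    congr 1
    funext a
    simp [alphaHom]
  have hbetae : (betaHom x₀').mapMatrix (e₀.map ((Polynomial.C : S →+* S[X]).comp φ)) =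
      lam e := by
    rw [hlame, RingHom.mapMatrix_apply, Matrix.map_map]
    congr 1
    funext a
    simp [betaHom, scaleHom_C]
  have hΦc : Commute (lam e) Φ := by
    show Commute (lam e) ((alphaHom x₀').mapMatrix θ * (betaHom x₀').mapMatrix θ')
    refine Commute.mul_right ?_ ?_
    · rw [← halphae]; exact hc.map _
    · rw [← hbetae]; exact hθ'c.map _
  have hΞc : Commute (lam e) Ξ := by
    have h3 : Commute (lam e) (lam zm * Ξ) := by
      have : lam zm * Ξ = Φ - 1 := by rw [hΦeq]; abel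
      rw [this]
      exact hΦc.sub_right (Commute.one_right _)
    have h4 : lam zm * (lam e * Ξ - Ξ * lam e) = 0 := by
      have h5 : Commute (lam zm) (lam e) := (hzc e).map lam
      rw [mul_sub, ← mul_assoc, h5.eq, mul_assoc, h3.eq, mul_assoc, sub_self]
    exact sub_eq_zero.1 (hzreg _ h4)
  obtain ⟨k, ψ, ψ', hψ1, hψ2, hψc, hψ⟩ := abstract_quillen lam fm zm e hfc hzc σ σ' hσ hσz hσf hσe
    hσadd L1 L2 hzreg Ξ Ξ' (by rw [← hΦeq, ← hΦ'eq]; exact hΦΦ') (by rw [← hΦeq, ← hΦ'eq]; exact hΦ'Φ) hΞc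
  rw [← hΦeq] at hψ
  refine ⟨k, fun y => ⟨(zeval y).mapMatrix ψ, (zeval y).mapMatrix ψ', ?_, ?_, ?_, ?_⟩⟩
  · rw [← map_mul, hψ1, map_one]
  · rw [← map_mul, hψ2, map_one]
  · have h3 : (zeval y).mapMatrix e = e₀.map (Polynomial.C : A →+* A[X]) := by
      show ((zeval y).mapMatrix.comp
        ((Polynomial.C : A[X] →+* A[X][X]).comp Polynomial.C).mapMatrix) e₀ = _
      rw [RingHom.mapMatrix_comp, RingHom.mapMatrix_apply]
      congr 1
      funext a
      simp [zeval]
    rw [← h3]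
    exact hψc.map _
  · have h3 : ((zeval y).mapMatrix ψ).map (Polynomial.mapRingHom φ) =
        (zeval (φ y)).mapMatrix (lam ψ) := by
      show ((Polynomial.mapRingHom φ).mapMatrix.comp (zeval y).mapMatrix) ψ =
        ((zeval (φ y)).mapMatrix.comp
          (Polynomial.mapRingHom (Polynomial.mapRingHom φ)).mapMatrix) ψ
      rw [RingHom.mapMatrix_comp, RingHom.mapMatrix_comp, map_comp_zeval]
    rw [h3, hψ]
    show (zeval (φ y)).mapMatrix ((zscale (φ f ^ k)).mapMatrix
      ((alphaHom x₀').mapMatrix θ * (betaHom x₀').mapMatrix θ')) = _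
    have ha : ((zeval (φ y)).comp (zscale (φ f ^ k))).comp (alphaHom x₀') =
        scaleHom (φ (x₀ + f ^ k * y)) := by
      rw [RingHom.comp_assoc, zeval_zscale_alpha, hx₀', map_add, map_mul, map_pow]
    have hb : ((zeval (φ y)).comp (zscale (φ f ^ k))).comp (betaHom x₀') = scaleHom (φ x₀) := by
      rw [RingHom.comp_assoc, zeval_zscale_beta, hx₀']
    have key : ∀ (g : S[X] →+* S[X][X]) (M : Matrix n n S[X]),
        (zeval (φ y)).mapMatrix ((zscale (φ f ^ k)).mapMatrix (g.mapMatrix M)) =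
          (((zeval (φ y)).comp (zscale (φ f ^ k))).comp g).mapMatrix M := by
      intro g M
      simp only [RingHom.mapMatrix_apply, Matrix.map_map]
      rfl
    rw [map_mul, map_mul, key, key, ha, hb]
    rfl

end QuillenLift

end Groth.Agent.Lib.Seat99.HQ
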