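import Mathlib

/-!
# A residue-type lemma for Kähler differentials (seat 99)

`mul_mem_sq_of_smul_D_eq`: if `O ⧸ m` is formally smooth over `k`, `π ∈ m` and
`c • dπ = π • ω` in `Ω[O/k]`, then `c * π ∈ m²`.
-/

set_option autoImplicit false
universe u

namespace Groth.Agent.Lib.Seat99.LogDiff

open KaehlerDifferential IsLocalRing

theorem mul_mem_sq_of_smul_D_eq {k O : Type u} [CommRing k] [CommRing O] [Algebra k O]
    (m : Ideal O) [Algebra.FormallySmooth k (O ⧸ m)] (π : O) (hπ : π ∈ m) (c : O)
    (ω : Ω[O⁄k]) (h : c • D k O π = π • ω) : c * π ∈ m ^ 2 := by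
  let B := O ⧸ m ^ 2
  have hle : m ^ 2 ≤ m := Ideal.pow_le_self two_ne_zero
  let g : B →ₐ[k] O ⧸ m := Ideal.Quotient.factorₐ k hle
  have hg : Function.Surjective g := Ideal.Quotient.factor_surjective hle
  let I : Ideal B := RingHom.ker (g : B →+* O ⧸ m)
  have hI_le : I ≤ m.map (Ideal.Quotient.mk (m ^ 2)) := by
    intro x hx
    obtain ⟨y, rfl⟩ := Ideal.Quotient.mk_surjective x
    have : (Ideal.Quotient.mk m) y = 0 := hx
    rw [Ideal.Quotient.eq_zero_iff_mem] at this
    exact Ideal.mem_map_of_mem _ this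
  have hI : I ^ 2 = ⊥ := by
    rw [eq_bot_iff]
    refine (Ideal.pow_right_mono hI_le 2).trans ?_
    rw [← Ideal.map_pow, Ideal.map_quotient_self]
  have hnil : IsNilpotent I := ⟨2, hI⟩
  let σ : (O ⧸ m) →ₐ[k] B :=
    Algebra.FormallySmooth.liftOfSurjective (AlgHom.id k (O ⧸ m)) g hg hnil
  have hσ : ∀ x, g (σ x) = x := fun x =>
    Algebra.FormallySmooth.liftOfSurjective_apply (AlgHom.id k (O ⧸ m)) g hg hnil x
  let f : O →ₐ[k] B := σ.comp (Ideal.Quotient.mkₐ k m)
  have e : (Ideal.Quotient.mkₐ k I).comp f = IsScalarTower.toAlgHom k O (B ⧸ I) := by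
    ext x
    change Ideal.Quotient.mk I (f x) = Ideal.Quotient.mk I (algebraMap O B x)
    rw [Ideal.Quotient.eq]
    change g (f x - algebraMap O B x) = 0
    rw [map_sub]
    change g (σ (Ideal.Quotient.mk m x)) - Ideal.Quotient.mk m x = 0
    rw [hσ, sub_self]
  let D' : Derivation k O I := derivationToSquareZeroOfLift I hI f e
  have hD' : ∀ x, ((D' x : I) : B) = f x - algebraMap O B x := fun x =>
    derivationToSquareZeroOfLift_apply I hI f e x
  let L : Ω[O⁄k] →ₗ[O] I := D'.liftKaehlerDifferential
  have hL : ∀ x, L (D k O x) = D' x := fun x => Derivation.liftKaehlerDifferential_comp_D D' x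
  have h1 := congrArg L h
  rw [map_smul, map_smul, hL] at h1
  have h2 : ((c • D' π : I) : B) = ((π • L ω : I) : B) := congrArg Subtype.val h1
  rw [Submodule.coe_smul_of_tower, Submodule.coe_smul_of_tower, hD'] at h2
  -- the right hand side vanishes
  have hr : π • ((L ω : I) : B) = 0 := by
    have hπI : algebraMap O B π ∈ I := by
      change g (Ideal.Quotient.mk (m ^ 2) π) = 0
      change Ideal.Quotient.mk m π = 0
      exact Ideal.Quotient.eq_zero_iff_mem.mpr hπ
    have : algebraMap O B π * ((L ω : I) : B) ∈ I * I := Ideal.mul_mem_mul hπI (L ω).2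
    have hII : I * I = ⊥ := (sq I).symm.trans hI
    rw [hII, Ideal.mem_bot] at this
    rw [Algebra.smul_def]
    exact this
  rw [hr] at h2
  have hfπ : f π = 0 := by
    change σ (Ideal.Quotient.mk m π) = 0
    rw [Ideal.Quotient.eq_zero_iff_mem.mpr hπ, map_zero]
  rw [hfπ, zero_sub, smul_neg, neg_eq_zero, Algebra.smul_def] at h2
  have h3 : Ideal.Quotient.mk (m ^ 2) (c * π) = 0 := by
    rw [map_mul]
    exact h2
  exact Ideal.Quotient.eq_zero_iff_mem.mp h3

theorem residue_lemma {k R : Type u} [Field k] [CharZero k] [CommRing R] [IsDomain R] [Algebra k R]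
    [Algebra.EssFiniteType k R] (π : R) (hπ : Prime π) (a : ℤ) (s : R) (hs : ¬ π ∣ s)
    (ω : Ω[R⁄k]) (h : (s * (a : R)) • D k R π = π • ω) : a = 0 := by
  by_contra ha
  have hp : (Ideal.span {π}).IsPrime := (Ideal.span_singleton_prime hπ.ne_zero).mpr hπ
  let p : Ideal R := Ideal.span {π}
  let O := Localization.AtPrime p
  let m : Ideal O := maximalIdeal O
  have hinj : Function.Injective (algebraMap R O) :=
    IsLocalization.injective O (Ideal.primeCompl_le_nonZeroDivisors p)
  have : IsDomain O := IsLocalization.isDomain_of_le_nonZeroDivisors O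
    (Ideal.primeCompl_le_nonZeroDivisors p)
  have hess1 : Algebra.EssFiniteType R O := Algebra.EssFiniteType.of_isLocalization O p.primeCompl
  have hess2 : Algebra.EssFiniteType k O := Algebra.EssFiniteType.comp k R O
  have hess3 : Algebra.EssFiniteType O (O ⧸ m) := inferInstance
  have hess4 : Algebra.EssFiniteType k (O ⧸ m) := Algebra.EssFiniteType.comp k O (O ⧸ m)
  have hfs : Algebra.FormallySmooth k (O ⧸ m) := by
    let _ : Field (O ⧸ m) := Ideal.Quotient.field m
    exact Algebra.FormallySmooth.of_perfectField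
  -- transport the equation
  have h1 := congrArg (KaehlerDifferential.map k k R O) h
  rw [map_smul, map_smul, KaehlerDifferential.map_D, ← algebraMap_smul O (s * (a : R)),
    ← algebraMap_smul O π] at h1
  have hπm : algebraMap R O π ∈ m := by
    change _ ∈ maximalIdeal O
    rw [← IsLocalization.AtPrime.map_eq_maximalIdeal p O]
    exact Ideal.mem_map_of_mem _ (Ideal.subset_span rfl)
  have h2 := mul_mem_sq_of_smul_D_eq m (algebraMap R O π) hπm (algebraMap R O (s * (a : R))) _ h1
  have hm : m = Ideal.span {algebraMap R O π} := by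
    change maximalIdeal O = _
    rw [← IsLocalization.AtPrime.map_eq_maximalIdeal p O, Ideal.map_span, Set.image_singleton]
  rw [hm, Ideal.span_singleton_pow, Ideal.mem_span_singleton] at h2
  obtain ⟨t, ht⟩ := h2
  have hπ0 : algebraMap R O π ≠ 0 := by
    rw [Ne, map_eq_zero_iff _ hinj]
    exact hπ.ne_zero
  have h3 : algebraMap R O (s * (a : R)) = algebraMap R O π * t := by
    apply mul_right_cancel₀ hπ0
    rw [ht]
    ring
  -- but the left side is a unit
  have hu : IsUnit (algebraMap R O (s * (a : R))) := by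
    rw [map_mul]
    refine IsUnit.mul ?_ ?_
    · exact IsLocalization.map_units O (⟨s, fun hmem => hs (Ideal.mem_span_singleton.mp hmem)⟩ :
        p.primeCompl)
    · have hak : IsUnit ((a : k)) := by
        rw [isUnit_iff_ne_zero]
        exact_mod_cast ha
      have : (a : R) = algebraMap k R (a : k) := by simp
      rw [this]
      exact (hak.map (algebraMap k R)).map (algebraMap R O)
  have hmem : algebraMap R O (s * (a : R)) ∈ m := by
    rw [hm, Ideal.mem_span_singleton]
    exact ⟨t, h3⟩
  exact (IsLocalRing.mem_maximalIdeal _).mp hmem hu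


end Groth.Agent.Lib.Seat99.LogDiff
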