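import Groth.Agent.Lib.Seat99LogDiffA

/-!
# Logarithmic differentials over a factorial smooth local ring (seat 99)
-/

set_option autoImplicit false
set_option linter.unusedSectionVars false
universe u

namespace Groth.Agent.Lib.Seat99.LogDiff

open KaehlerDifferential

section dlog

variable (k : Type u) {K : Type u} [CommRing k] [Field K] [Algebra k K]

/-- The logarithmic differential. -/
noncomputable def dlog (x : K) : Ω[K⁄k] := x⁻¹ • D k K x

theorem dlog_mul {x y : K} (hx : x ≠ 0) (hy : y ≠ 0) : dlog k (x * y) = dlog k x + dlog k y := by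
  unfold dlog
  rw [Derivation.leibniz, smul_add, smul_smul, smul_smul, mul_inv, add_comm]
  congr 1
  · rw [mul_assoc, inv_mul_cancel₀ hy, mul_one]
  · rw [mul_comm x⁻¹, mul_assoc, inv_mul_cancel₀ hx, mul_one]

theorem dlog_one : dlog k (1 : K) = 0 := by
  unfold dlog
  simp

/-- `dlog` as a monoid homomorphism on units. -/
noncomputable def dlogHom : Kˣ →* Multiplicative (Ω[K⁄k]) where
  toFun x := Multiplicative.ofAdd (dlog k (x : K))
  map_one' := by simp [dlog_one]
  map_mul' x y := by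
    rw [Units.val_mul, dlog_mul k x.ne_zero y.ne_zero]
    rfl

theorem dlogHom_apply (x : Kˣ) : Multiplicative.toAdd (dlogHom k x) = dlog k (x : K) := rfl

end dlog

section RegAt

variable {k R K : Type u} [Field k] [CommRing R] [IsDomain R] [Algebra k R]
  [Field K] [Algebra R K] [IsFractionRing R K] [Algebra k K] [IsScalarTower k R K]

/-- A form on `K` is regular at the prime `π` of `R` when a multiple by an element prime to `π`
comes from `R`. -/
def RegAt (k : Type u) [Field k] [Algebra k R] [Algebra k K] [IsScalarTower k R K]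
    (π : R) (θ : Ω[K⁄k]) : Prop :=
  ∃ s : R, ¬ π ∣ s ∧ ∃ ω : Ω[R⁄k], algebraMap R K s • θ = KaehlerDifferential.map k k R K ω

variable {π : R} (hπ : Prime π)

include hπ

theorem regAt_map (ω : Ω[R⁄k]) : RegAt k π (KaehlerDifferential.map k k R K ω) :=
  ⟨1, hπ.not_dvd_one, ω, by rw [map_one, one_smul]⟩

theorem regAt_add {θ₁ θ₂ : Ω[K⁄k]} (h₁ : RegAt k π θ₁) (h₂ : RegAt k π θ₂) :
    RegAt k π (θ₁ + θ₂) := by
  obtain ⟨s₁, hs₁, ω₁, e₁⟩ := h₁
  obtain ⟨s₂, hs₂, ω₂, e₂⟩ := h₂
  refine ⟨s₁ * s₂, fun h => (hπ.dvd_or_dvd h).elim hs₁ hs₂, s₂ • ω₁ + s₁ • ω₂, ?_⟩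
  rw [map_add, map_smul, map_smul, ← e₁, ← e₂, smul_add, map_mul, ← algebraMap_smul K s₂,
    ← algebraMap_smul K s₁, smul_smul, smul_smul, mul_comm (algebraMap R K s₂)]

theorem regAt_smul {θ : Ω[K⁄k]} (r : R) (h : RegAt k π θ) : RegAt k π (algebraMap R K r • θ) := by
  obtain ⟨s, hs, ω, e⟩ := h
  refine ⟨s, hs, r • ω, ?_⟩
  rw [map_smul, ← e, ← algebraMap_smul K r, smul_smul, smul_smul, mul_comm]

theorem regAt_neg {θ : Ω[K⁄k]} (h : RegAt k π θ) : RegAt k π (-θ) := by
  have := regAt_smul hπ (-1 : R) h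
  simpa using this

theorem regAt_sub {θ₁ θ₂ : Ω[K⁄k]} (h₁ : RegAt k π θ₁) (h₂ : RegAt k π θ₂) :
    RegAt k π (θ₁ - θ₂) := by
  rw [sub_eq_add_neg]
  exact regAt_add hπ h₁ (regAt_neg hπ h₂)

theorem regAt_inv_smul {θ : Ω[K⁄k]} (t : R) (ht : ¬ π ∣ t) (h : RegAt k π θ) :
    RegAt k π ((algebraMap R K t)⁻¹ • θ) := by
  obtain ⟨s, hs, ω, e⟩ := h
  have ht0 : algebraMap R K t ≠ 0 := by
    rw [Ne, map_eq_zero_iff _ (IsFractionRing.injective R K)]
    rintro rfl
    exact ht (dvd_zero π)
  refine ⟨s * t, fun h => (hπ.dvd_or_dvd h).elim hs ht, ω, ?_⟩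
  rw [← e, map_mul, smul_smul, mul_assoc, mul_inv_cancel₀ ht0, mul_one]

theorem regAt_dlog (x : R) (hx : ¬ π ∣ x) : RegAt k π (dlog k (algebraMap R K x)) := by
  unfold dlog
  refine regAt_inv_smul hπ x hx ?_
  rw [← KaehlerDifferential.map_D k k R K]
  exact regAt_map hπ _

theorem regAt_sum {ι : Type*} (s : Finset ι) (θ : ι → Ω[K⁄k]) (h : ∀ i ∈ s, RegAt k π (θ i)) :
    RegAt k π (∑ i ∈ s, θ i) := by
  classical
  induction s using Finset.induction_on with
  | empty =>
    rw [Finset.sum_empty]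
    have := regAt_map (k := k) (K := K) hπ (0 : Ω[R⁄k])
    rwa [map_zero] at this
  | insert a s ha ih =>
    rw [Finset.sum_insert ha]
    exact regAt_add hπ (h a (Finset.mem_insert_self a s))
      (ih fun i hi => h i (Finset.mem_insert_of_mem hi))

end RegAt

section Key

variable {k R K : Type u} [Field k] [CharZero k] [CommRing R] [IsDomain R] [Algebra k R]
  [Algebra.EssFiniteType k R] [Algebra.FormallySmooth k R]
  [Field K] [Algebra R K] [IsFractionRing R K] [Algebra k K] [IsScalarTower k R K]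

theorem map_injective : Function.Injective (KaehlerDifferential.map k k R K) := by
  have hloc : IsLocalizedModule (nonZeroDivisors R) (KaehlerDifferential.map k k R K) :=
    KaehlerDifferential.isLocalizedModule_map k R K (nonZeroDivisors R)
  rw [← LinearMap.ker_eq_bot, LinearMap.ker_eq_bot']
  intro x hx
  obtain ⟨s, hs⟩ := (IsLocalizedModule.eq_zero_iff (nonZeroDivisors R) _).mp hx
  have hreg' : IsSMulRegular Ω[R⁄k] (s : R) := Module.Flat.isSMulRegular_of_nonZeroDivisors s.2
  apply hreg'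
  change (s : R) • x = (s : R) • (0 : Ω[R⁄k])
  rw [smul_zero]
  exact hs

theorem eq_zero_of_regAt_zsmul_dlog {π : R} (hπ : Prime π) (a : ℤ)
    (h : RegAt k π (a • dlog k (algebraMap R K π))) : a = 0 := by
  obtain ⟨s, hs, ω, e⟩ := h
  have hπ0 : algebraMap R K π ≠ 0 := by
    rw [Ne, map_eq_zero_iff _ (IsFractionRing.injective R K)]
    exact hπ.ne_zero
  refine residue_lemma (k := k) π hπ a s hs ω ?_
  apply map_injective (k := k) (R := R) (K := K)
  rw [map_smul, map_smul, KaehlerDifferential.map_D, ← e, ← algebraMap_smul K (s * (a : R)),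
    ← algebraMap_smul K π]
  unfold dlog
  rw [← Int.cast_smul_eq_zsmul K a, smul_smul, smul_smul, smul_smul, map_mul, map_intCast]
  congr 1
  field_simp

end Key

end Groth.Agent.Lib.Seat99.LogDiff
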