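import Groth.Agent.Lib.Seat99LogDiffB

/-!
# Logarithmic differentials over a factorial smooth local ring: main theorem (seat 99)
-/

set_option autoImplicit false
set_option linter.unusedSectionVars false
universe u

namespace Groth.Agent.Lib.Seat99.LogDiff

open KaehlerDifferential

section dlogmore

variable (k : Type u) {K : Type u} [CommRing k] [Field K] [Algebra k K]

theorem dlog_pow {x : K} (hx : x ≠ 0) (n : ℕ) : dlog k (x ^ n) = n • dlog k x := by
  induction n with
  | zero => simp [dlog_one]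
  | succ n ih => rw [pow_succ, dlog_mul k (pow_ne_zero n hx) hx, ih, succ_nsmul]

theorem dlog_div {x y : K} (hx : x ≠ 0) (hy : y ≠ 0) : dlog k (x / y) = dlog k x - dlog k y := by
  have h := dlog_mul k (div_ne_zero hx hy) hy
  rw [div_mul_cancel₀ x hy] at h
  rw [h, add_sub_cancel_right]

theorem dlog_prod_pow {ι : Type*} (s : Finset ι) (a : ι → K) (ha : ∀ i, a i ≠ 0) (e : ι → ℕ) :
    dlog k (∏ i ∈ s, a i ^ e i) = ∑ i ∈ s, e i • dlog k (a i) := by
  classical
  induction s using Finset.induction_on with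
  | empty => simp [dlog_one]
  | insert j s hj ih =>
    rw [Finset.prod_insert hj, Finset.sum_insert hj,
      dlog_mul k (pow_ne_zero _ (ha j)) (Finset.prod_ne_zero_iff.mpr fun i _ => pow_ne_zero _ (ha i)),
      ih, dlog_pow k (ha j)]

end dlogmore

section UFD

variable {R : Type u} [CommRing R] [IsDomain R] [UniqueFactorizationMonoid R] {r : ℕ}
  (f : Fin r → R)

theorem exists_monomial (z : R) (hz : z ≠ 0)
    (h : ∀ π, Prime π → π ∣ z → ∃ i, Associated π (f i)) :
    ∃ (u : Rˣ) (e : Fin r → ℕ), z = u * ∏ i, f i ^ e i := by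
  classical
  revert hz h
  refine UniqueFactorizationMonoid.induction_on_prime z ?_ ?_ ?_
  · intro hz
    exact absurd rfl hz
  · intro x hx _ _
    exact ⟨hx.unit, fun _ => 0, by simp⟩
  · intro a p ha hp ih _ h
    obtain ⟨u, e, he⟩ := ih ha (fun π hπ hdvd => h π hπ (dvd_mul_of_dvd_right hdvd p))
    obtain ⟨j, hj⟩ := h p hp (dvd_mul_right p a)
    obtain ⟨w, hw⟩ := hj.symm
    -- `f j * w = p`
    refine ⟨w * u, fun i => e i + if i = j then 1 else 0, ?_⟩
    have hprod : ∏ i, f i ^ (e i + if i = j then 1 else 0) = (∏ i, f i ^ e i) * f j := by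
      simp only [pow_add, Finset.prod_mul_distrib]
      congr 1
      simp [pow_ite, Finset.prod_ite_eq']
    rw [hprod, ← hw, he, Units.val_mul]
    ring

end UFD

section Main

variable {k R K : Type u} [Field k] [CharZero k] [CommRing R] [IsDomain R] [Algebra k R]
  [Algebra.EssFiniteType k R] [Algebra.FormallySmooth k R]
  [Field K] [Algebra R K] [IsFractionRing R K] [Algebra k K] [IsScalarTower k R K]
  [UniqueFactorizationMonoid R] {r : ℕ} (f : Fin r → R)

/-- Claim A: prime factors of a reduced numerator are among the `f i`. -/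
theorem assoc_of_dvd_num (x y : R) (hx : x ≠ 0) (hy : y ≠ 0) (hrel : IsRelPrime x y)
    (θ : Ω[K⁄k]) (hθ : dlog k (algebraMap R K x / algebraMap R K y) = θ)
    (hreg : ∀ π, Prime π → (∀ i, ¬ Associated π (f i)) → RegAt k π θ)
    (π : R) (hπ : Prime π) (hdvd : π ∣ x) : ∃ i, Associated π (f i) := by
  by_contra hcon
  push Not at hcon
  have hθreg := hreg π hπ hcon
  have hndy : ¬ π ∣ y := fun h => hπ.not_isUnit (hrel hdvd h)
  obtain ⟨n, x', hx', hxeq⟩ := WfDvdMonoid.max_power_factor hx hπ.irreducible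
  have hinj := IsFractionRing.injective R K
  have hπK : algebraMap R K π ≠ 0 := by
    rw [Ne, map_eq_zero_iff _ hinj]; exact hπ.ne_zero
  have hyK : algebraMap R K y ≠ 0 := by
    rw [Ne, map_eq_zero_iff _ hinj]; exact hy
  have hx'0 : x' ≠ 0 := by
    rintro rfl
    exact hx' (dvd_zero π)
  have hx'K : algebraMap R K x' ≠ 0 := by
    rw [Ne, map_eq_zero_iff _ hinj]; exact hx'0
  have hxK : algebraMap R K x ≠ 0 := by
    rw [Ne, map_eq_zero_iff _ hinj]; exact hx
  have h1 : dlog k (algebraMap R K x / algebraMap R K y) =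
      n • dlog k (algebraMap R K π) + dlog k (algebraMap R K x') - dlog k (algebraMap R K y) := by
    rw [dlog_div k hxK hyK]
    congr 1
    rw [hxeq, map_mul, map_pow, dlog_mul k (pow_ne_zero n hπK) hx'K, dlog_pow k hπK]
  have h2 : ((n : ℤ)) • dlog k (algebraMap R K π) =
      θ - dlog k (algebraMap R K x') + dlog k (algebraMap R K y) := by
    rw [← hθ, h1, natCast_zsmul]
    abel
  have h3 : RegAt k π (((n : ℤ)) • dlog k (algebraMap R K π)) := by
    rw [h2]
    exact regAt_add hπ (regAt_sub hπ hθreg (regAt_dlog hπ x' hx')) (regAt_dlog hπ y hndy)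
  have h4 := eq_zero_of_regAt_zsmul_dlog hπ (n : ℤ) h3
  have hn : n = 0 := by exact_mod_cast h4
  rw [hn, pow_zero, one_mul] at hxeq
  rw [hxeq] at hdvd
  exact hx' hdvd

theorem main_generic (hf : ∀ i, Prime (f i)) (g : Kˣ) (η : Ω[R⁄k]) (c : Fin r → R)
    (h : (g : K)⁻¹ • D k K (g : K) =
      KaehlerDifferential.map k k R K η +
        ∑ i, (algebraMap R K (c i) * (algebraMap R K (f i))⁻¹) •
          D k K (algebraMap R K (f i))) :
    ∃ (v : Rˣ) (b : Fin r → ℤ),
      (g : K)⁻¹ • D k K (g : K) =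
        (algebraMap R K (v : R))⁻¹ • D k K (algebraMap R K (v : R)) +
          ∑ i, ((b i : K) * (algebraMap R K (f i))⁻¹) •
            D k K (algebraMap R K (f i)) := by
  classical
  have hinj := IsFractionRing.injective R K
  obtain ⟨x, y, hrel, hxy⟩ := IsFractionRing.exists_reduced_fraction (A := R) (K := K) (g : K)
  rw [IsFractionRing.mk'_eq_div] at hxy
  have hy0 : (y : R) ≠ 0 := nonZeroDivisors.ne_zero y.2
  have hyK : algebraMap R K (y : R) ≠ 0 := by
    rw [Ne, map_eq_zero_iff _ hinj]; exact hy0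
  have hx0 : x ≠ 0 := by
    rintro rfl
    rw [map_zero, zero_div] at hxy
    exact g.ne_zero hxy.symm
  have hxK : algebraMap R K x ≠ 0 := by
    rw [Ne, map_eq_zero_iff _ hinj]; exact hx0
  have hfK : ∀ i, algebraMap R K (f i) ≠ 0 := fun i => by
    rw [Ne, map_eq_zero_iff _ hinj]; exact (hf i).ne_zero
  set θ : Ω[K⁄k] := KaehlerDifferential.map k k R K η +
        ∑ i, (algebraMap R K (c i) * (algebraMap R K (f i))⁻¹) •
          D k K (algebraMap R K (f i)) with hθdef
  have hdg : dlog k (algebraMap R K x / algebraMap R K (y : R)) = θ := by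
    rw [hxy]
    exact h
  -- regularity of `θ` at primes not among the `f i`
  have hreg : ∀ π, Prime π → (∀ i, ¬ Associated π (f i)) → RegAt k π θ := by
    intro π hπ hna
    refine regAt_add hπ (regAt_map hπ η) (regAt_sum hπ _ _ fun i _ => ?_)
    have hnd : ¬ π ∣ f i := fun hd => hna i (hπ.associated_of_dvd (hf i) hd)
    have e1 : (algebraMap R K (c i) * (algebraMap R K (f i))⁻¹) • D k K (algebraMap R K (f i)) =
        (algebraMap R K (f i))⁻¹ • (algebraMap R K (c i) •
          KaehlerDifferential.map k k R K (D k R (f i))) := by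
      rw [KaehlerDifferential.map_D, smul_smul, mul_comm]
    rw [e1]
    exact regAt_inv_smul hπ (f i) hnd (regAt_smul hπ (c i) (regAt_map hπ _))
  have hregneg : ∀ π, Prime π → (∀ i, ¬ Associated π (f i)) → RegAt k π (-θ) :=
    fun π hπ hna => regAt_neg hπ (hreg π hπ hna)
  have hdg' : dlog k (algebraMap R K (y : R) / algebraMap R K x) = -θ := by
    rw [← hdg, dlog_div k hyK hxK, dlog_div k hxK hyK, neg_sub]
  have hA1 := assoc_of_dvd_num (k := k) (K := K) f x y hx0 hy0 hrel θ hdg hreg
  have hA2 := assoc_of_dvd_num (k := k) (K := K) f y x hy0 hx0 hrel.symm (-θ) hdg' hregneg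
  obtain ⟨u, e, hxe⟩ := exists_monomial f x hx0 hA1
  obtain ⟨u', e', hye⟩ := exists_monomial f (y : R) hy0 hA2
  refine ⟨u * u'⁻¹, fun i => (e i : ℤ) - (e' i : ℤ), ?_⟩
  have huK : algebraMap R K (u : R) ≠ 0 := by
    rw [Ne, map_eq_zero_iff _ hinj]; exact u.ne_zero
  have hu'K : algebraMap R K (u' : R) ≠ 0 := by
    rw [Ne, map_eq_zero_iff _ hinj]; exact u'.ne_zero
  have hpx : dlog k (algebraMap R K x) = dlog k (algebraMap R K (u : R)) +
      ∑ i, e i • dlog k (algebraMap R K (f i)) := by
    rw [hxe, map_mul, map_prod,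
      dlog_mul k huK (Finset.prod_ne_zero_iff.mpr fun i _ => by
        rw [map_pow]; exact pow_ne_zero _ (hfK i))]
    simp only [map_pow]
    rw [dlog_prod_pow k Finset.univ (fun i => algebraMap R K (f i)) hfK e]
  have hpy : dlog k (algebraMap R K (y : R)) = dlog k (algebraMap R K (u' : R)) +
      ∑ i, e' i • dlog k (algebraMap R K (f i)) := by
    rw [hye, map_mul, map_prod,
      dlog_mul k hu'K (Finset.prod_ne_zero_iff.mpr fun i _ => by
        rw [map_pow]; exact pow_ne_zero _ (hfK i))]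
    simp only [map_pow]
    rw [dlog_prod_pow k Finset.univ (fun i => algebraMap R K (f i)) hfK e']
  have hv : dlog k (algebraMap R K ((u * u'⁻¹ : Rˣ) : R)) =
      dlog k (algebraMap R K (u : R)) - dlog k (algebraMap R K (u' : R)) := by
    have hmul : algebraMap R K ((u * u'⁻¹ : Rˣ) : R) * algebraMap R K (u' : R) =
        algebraMap R K (u : R) := by
      rw [← map_mul, ← Units.val_mul, inv_mul_cancel_right]
    have hvK : algebraMap R K ((u * u'⁻¹ : Rˣ) : R) ≠ 0 := by
      rw [Ne, map_eq_zero_iff _ hinj]; exact (u * u'⁻¹).ne_zero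
    have := dlog_mul k hvK hu'K
    rw [hmul] at this
    rw [this, add_sub_cancel_right]
  change dlog k (g : K) = dlog k (algebraMap R K ((u * u'⁻¹ : Rˣ) : R)) + _
  rw [← hxy, dlog_div k hxK hyK, hpx, hpy, hv]
  have hsum : ∑ i, (((((e i : ℤ) - (e' i : ℤ) : ℤ)) : K) * (algebraMap R K (f i))⁻¹) •
      D k K (algebraMap R K (f i)) =
      ∑ i, e i • dlog k (algebraMap R K (f i)) - ∑ i, e' i • dlog k (algebraMap R K (f i)) := by
    rw [← Finset.sum_sub_distrib]
    refine Finset.sum_congr rfl fun i _ => ?_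
    unfold dlog
    rw [mul_smul, Int.cast_sub, sub_smul, Int.cast_natCast, Int.cast_natCast,
      Nat.cast_smul_eq_nsmul, Nat.cast_smul_eq_nsmul]
  rw [hsum]
  abel

end Main

end Groth.Agent.Lib.Seat99.LogDiff
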