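import Groth.Agent.Lib.Seat99ApproxLaurent
import Groth.Agent.S0497

/-!
# `R[t]_{(1+tR[t]) ∪ {t}}` as the localization of `R[s]` (`s = t⁻¹`) at the monic polynomials, and
ideals avoiding the special fibre over a Henselian local ring (seat 99)
-/

set_option linter.unusedSectionVars false
set_option linter.unusedVariables false
set_option linter.unusedSimpArgs false

open Polynomial

namespace Groth.Agent.Lib.Seat99.MonicLoc

open Groth.Agent.Lib.Seat99.Approx

universe u

section Basic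

variable {R : Type u} [CommRing R] {L : Type u} [CommRing L] [Algebra R[X] L]
  [IsLocalization (monoidT R) L] [Algebra R L] [IsScalarTower R R[X] L]
  (Ψ : R[X] →+* L) (hC : ∀ a : R, Ψ (C a) = algebraMap R L a)
  (hX : Ψ X * algebraMap R[X] L X = 1)

theorem iota_eq (p : R[X]) :
    algebraMap R[X] L p = eval₂ (algebraMap R L) (algebraMap R[X] L X) p := by
  have : (algebraMap R[X] L) = Polynomial.eval₂RingHom (algebraMap R L) (algebraMap R[X] L X) := by
    refine Polynomial.ringHom_ext (fun a => ?_) ?_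
    · rw [Polynomial.coe_eval₂RingHom, eval₂_C]
      exact (IsScalarTower.algebraMap_apply R R[X] L a).symm
    · rw [Polynomial.coe_eval₂RingHom, eval₂_X]
  exact congrArg (fun f => f p) this

include hC in
theorem psi_eq (p : R[X]) : Ψ p = eval₂ (algebraMap R L) (Ψ X) p := by
  have : Ψ = Polynomial.eval₂RingHom (algebraMap R L) (Ψ X) := by
    refine Polynomial.ringHom_ext (fun a => ?_) ?_
    · rw [Polynomial.coe_eval₂RingHom, eval₂_C, hC]
    · rw [Polynomial.coe_eval₂RingHom, eval₂_X]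
  exact congrArg (fun f => f p) this

include hC hX in
theorem psi_reflect (N : ℕ) (f : R[X]) (hf : f.natDegree ≤ N) :
    Ψ (reflect N f) * algebraMap R[X] L X ^ N = algebraMap R[X] L f := by
  letI : Invertible (algebraMap R[X] L X) := ⟨Ψ X, hX, by rw [mul_comm]; exact hX⟩
  rw [psi_eq Ψ hC, iota_eq f]
  exact eval₂_reflect_mul_pow (algebraMap R L) (algebraMap R[X] L X) N f hf

include hC hX in
theorem iota_reflect (N : ℕ) (f : R[X]) (hf : f.natDegree ≤ N) :
    algebraMap R[X] L (reflect N f) * Ψ X ^ N = Ψ f := by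
  letI : Invertible (Ψ X) := ⟨algebraMap R[X] L X, by rw [mul_comm]; exact hX, hX⟩
  rw [psi_eq Ψ hC f, iota_eq (reflect N f)]
  exact eval₂_reflect_mul_pow (algebraMap R L) (Ψ X) N f hf

theorem monoidT_le_nonZeroDivisors : monoidT R ≤ nonZeroDivisors R[X] := by
  refine Submonoid.closure_le.2 ?_
  rintro f (hf | hf)
  · rw [SetLike.mem_coe, mem_nonZeroDivisors_iff_right]
    intro w hw
    have h1 : IsUnit ((f : R[X]) : PowerSeries R) := by
      rw [PowerSeries.isUnit_iff_constantCoeff, ← PowerSeries.coeff_zero_eq_constantCoeff_apply,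
        Polynomial.coeff_coe]
      have : f.coeff 0 = 1 := hf
      rw [this]
      exact isUnit_one
    have h2 : ((w : R[X]) : PowerSeries R) * ((f : R[X]) : PowerSeries R) = 0 := by
      rw [← Polynomial.coe_mul, hw, Polynomial.coe_zero]
    have h3 : ((w : R[X]) : PowerSeries R) = 0 := by
      have := h1.mul_left_eq_zero.1 h2
      exact this
    exact_mod_cast h3
  · rw [Set.mem_singleton_iff] at hf
    rw [hf]
    exact Polynomial.X_mem_nonzeroDivisors

theorem iota_injective : Function.Injective (algebraMap R[X] L) :=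
  IsLocalization.injective L monoidT_le_nonZeroDivisors

include hX in
theorem isUnit_psi_X : IsUnit (Ψ X) := IsUnit.of_mul_eq_one _ hX

include hX in
theorem isUnit_iota_X : IsUnit (algebraMap R[X] L X) :=
  IsUnit.of_mul_eq_one _ (by rw [mul_comm]; exact hX)

include hC hX in
theorem psi_injective : Function.Injective Ψ := by
  rw [injective_iff_map_eq_zero]
  intro p hp
  have h1 := iota_reflect Ψ hC hX p.natDegree p le_rfl
  rw [hp] at h1
  have h2 : algebraMap R[X] L (reflect p.natDegree p) = 0 :=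
    ((isUnit_psi_X Ψ hX).pow _).mul_left_eq_zero.1 h1
  have h3 := iota_injective (L := L) (h2.trans (map_zero _).symm)
  exact reflect_eq_zero_iff.1 h3

include hC hX in
theorem isUnit_psi_monic {h : R[X]} (hh : h.Monic) : IsUnit (Ψ h) := by
  rw [← iota_reflect Ψ hC hX h.natDegree h le_rfl]
  refine IsUnit.mul ?_ ((isUnit_psi_X Ψ hX).pow _)
  have hmem : reflect h.natDegree h ∈ monoidT R := by
    refine mem_monoidT_of_coeff_zero ?_
    rw [coeff_reflect, revAt_zero]
    exact hh.coeff_natDegree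
  exact IsLocalization.map_units L ⟨_, hmem⟩

include hC hX in
/-- Every element of `L` is a fraction with monic denominator (in the `s`-coordinate). -/
theorem exists_repr (y : L) : ∃ p h : R[X], h.Monic ∧ y * Ψ h = Ψ p := by
  obtain ⟨⟨a, c⟩, hac⟩ := IsLocalization.surj (monoidT R) y
  obtain ⟨k, q, hkq, hq0⟩ := exists_eq_X_pow_mul_of_mem_monoidT c.2
  simp only at hac
  obtain ⟨N, hN⟩ : ∃ N, N = a.natDegree := ⟨_, rfl⟩
  obtain ⟨M, hM⟩ : ∃ M, M = max q.natDegree N := ⟨_, rfl⟩
  have hqM : q.natDegree ≤ M := hM ▸ le_max_left _ _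
  have hNM : N ≤ M := hM ▸ le_max_right _ _
  have hmonic : (reflect M q).Monic := by
    refine Polynomial.monic_of_natDegree_le_of_coeff_eq_one M ?_ ?_
    · refine (natDegree_reflect_le).trans ?_
      exact max_le le_rfl hqM
    · rw [coeff_reflect, revAt_le le_rfl, Nat.sub_self, hq0]
  refine ⟨reflect N a * X ^ (k + M - N), reflect M q, hmonic, ?_⟩
  have e1 := psi_reflect Ψ hC hX N a (hN ▸ le_rfl)
  have e2 := psi_reflect Ψ hC hX M q hqM
  have e3 : algebraMap R[X] L (c : R[X]) = algebraMap R[X] L X ^ k * algebraMap R[X] L q := by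
    rw [hkq, map_mul, map_pow]
  obtain ⟨τ, hτ⟩ : ∃ τ, τ = algebraMap R[X] L X := ⟨_, rfl⟩
  obtain ⟨σ, hσ⟩ : ∃ σ, σ = Ψ X := ⟨_, rfl⟩
  rw [← hτ] at e1 e2 e3 hX
  rw [← hσ] at hX
  rw [e3, ← e2, ← e1] at hac
  -- hac : y * (τ ^ k * (Ψ (reflect M q) * τ ^ M)) = Ψ (reflect N a) * τ ^ N
  have hpow : ∀ n : ℕ, σ ^ n * τ ^ n = 1 := fun n => by rw [← mul_pow, hX, one_pow]
  rw [map_mul, map_pow, ← hσ]
  have hsplit : k + M = N + (k + M - N) := by omega
  calc y * Ψ (reflect M q)
      = (y * (τ ^ k * (Ψ (reflect M q) * τ ^ M))) * σ ^ (k + M) := by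
        have : τ ^ k * (Ψ (reflect M q) * τ ^ M) * σ ^ (k + M) =
            Ψ (reflect M q) * (σ ^ (k + M) * τ ^ (k + M)) := by
          rw [pow_add τ]; ring
        rw [mul_assoc, this, hpow, mul_one]
    _ = Ψ (reflect N a) * τ ^ N * σ ^ (k + M) := by rw [hac]
    _ = Ψ (reflect N a) * σ ^ (k + M - N) := by
        have : τ ^ N * σ ^ (k + M) = (σ ^ N * τ ^ N) * σ ^ (k + M - N) := by
          rw [hsplit, pow_add σ]
          have : N + (k + M - N) - N = k + M - N := by omega
          rw [this]; ring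
        rw [mul_assoc, this, hpow, one_mul]

include hC hX in
/-- Elements of an extended ideal are fractions with numerator in the ideal and monic denominator. -/
theorem exists_repr_of_mem_map {I : Ideal R[X]} {y : L} (hy : y ∈ I.map Ψ) :
    ∃ h : R[X], h.Monic ∧ ∃ i ∈ I, y * Ψ h = Ψ i := by
  rw [Ideal.map] at hy
  induction hy using Submodule.span_induction with
  | mem x hx =>
    obtain ⟨i, hi, rfl⟩ := hx
    exact ⟨1, Polynomial.monic_one, i, hi, by rw [map_one, mul_one]⟩
  | zero => exact ⟨1, Polynomial.monic_one, 0, I.zero_mem, by rw [map_zero, zero_mul]⟩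
  | add x y _ _ hx hy =>
    obtain ⟨h₁, hm₁, i₁, hi₁, e₁⟩ := hx
    obtain ⟨h₂, hm₂, i₂, hi₂, e₂⟩ := hy
    refine ⟨h₁ * h₂, hm₁.mul hm₂, i₁ * h₂ + i₂ * h₁,
      I.add_mem (I.mul_mem_right _ hi₁) (I.mul_mem_right _ hi₂), ?_⟩
    rw [map_mul, map_add, map_mul, map_mul, ← e₁, ← e₂]
    ring
  | smul l x _ hx =>
    obtain ⟨h₁, hm₁, i₁, hi₁, e₁⟩ := hx
    obtain ⟨p, h₂, hm₂, e₂⟩ := exists_repr Ψ hC hX l
    refine ⟨h₂ * h₁, hm₂.mul hm₁, p * i₁, I.mul_mem_left _ hi₁, ?_⟩
    rw [smul_eq_mul, map_mul, map_mul, ← e₁, ← e₂]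
    ring

end Basic

section Ideals

variable {R : Type u} [CommRing R] [IsLocalRing R] {L : Type u} [CommRing L] [Algebra R[X] L]
  [IsLocalization (monoidT R) L] [Algebra R L] [IsScalarTower R R[X] L]
  (Ψ : R[X] →+* L) (hC : ∀ a : R, Ψ (C a) = algebraMap R L a)
  (hX : Ψ X * algebraMap R[X] L X = 1)

/-- Nakayama: an ideal comaximal with `𝔪[X]` is comaximal with every monic polynomial. -/
theorem exists_mul_sub_one_mem (I : Ideal R[X])
    (hI : I ⊔ (IsLocalRing.maximalIdeal R).map (Polynomial.C : R →+* R[X]) = ⊤)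
    {h : R[X]} (hh : h.Monic) : ∃ u : R[X], u * h - 1 ∈ I := by
  classical
  obtain ⟨K, hK⟩ : ∃ K : Ideal R[X], K = I ⊔ Ideal.span {h} := ⟨_, rfl⟩
  -- `R[X] ⧸ K` is a finite `R`-module
  haveI : Module.Finite R (AdjoinRoot h) := hh.finite_adjoinRoot
  have hle : Ideal.span {h} ≤ K := hK ▸ le_sup_right
  let π : AdjoinRoot h →ₐ[R] (R[X] ⧸ K) := Ideal.Quotient.factorₐ R hle
  have hπ : Function.Surjective π := Ideal.Quotient.factor_surjective hle
  haveI : Module.Finite R (R[X] ⧸ K) := Module.Finite.of_surjective π.toLinearMap hπ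
  -- `𝔪 • ⊤ = ⊤`
  have hmem : ∀ z ∈ (IsLocalRing.maximalIdeal R).map (Polynomial.C : R →+* R[X]), ∀ p : R[X],
      (Ideal.Quotient.mk K (p * z)) ∈
        (IsLocalRing.maximalIdeal R) • (⊤ : Submodule R (R[X] ⧸ K)) := by
    intro z hz
    rw [Ideal.map] at hz
    induction hz using Submodule.span_induction with
    | mem x hx =>
      obtain ⟨a, ha, rfl⟩ := hx
      intro p
      have : Ideal.Quotient.mk K (p * C a) = a • Ideal.Quotient.mk K p := by
        rw [mul_comm, ← Polynomial.smul_eq_C_mul]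
        rfl
      rw [this]
      exact Submodule.smul_mem_smul ha Submodule.mem_top
    | zero =>
      intro p
      rw [mul_zero, map_zero]
      exact Submodule.zero_mem _
    | add x y _ _ hx hy =>
      intro p
      rw [mul_add, map_add]
      exact Submodule.add_mem _ (hx p) (hy p)
    | smul r x _ hx =>
      intro p
      rw [smul_eq_mul, ← mul_assoc]
      exact hx (p * r)
  have htop : (⊤ : Submodule R (R[X] ⧸ K)) ≤
      (IsLocalRing.maximalIdeal R) • (⊤ : Submodule R (R[X] ⧸ K)) := by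
    rintro q -
    obtain ⟨p, rfl⟩ := Ideal.Quotient.mk_surjective q
    have h1 : (1 : R[X]) ∈ I ⊔ (IsLocalRing.maximalIdeal R).map (Polynomial.C : R →+* R[X]) := by
      rw [hI]; trivial
    obtain ⟨i, hi, z, hz, hiz⟩ := Submodule.mem_sup.1 h1
    have h2 : Ideal.Quotient.mk K p = Ideal.Quotient.mk K (p * z) := by
      rw [← sub_eq_zero, ← map_sub, Ideal.Quotient.eq_zero_iff_mem]
      have : p - p * z = p * i := by linear_combination (-p) * hiz
      rw [this, hK]
      exact Ideal.mul_mem_left _ _ (Ideal.mem_sup_left hi)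
    rw [h2]
    exact hmem z hz p
  have hbot : (⊤ : Submodule R (R[X] ⧸ K)) = ⊥ :=
    Submodule.eq_bot_of_le_smul_of_le_jacobson_bot (IsLocalRing.maximalIdeal R) ⊤
      Module.Finite.fg_top htop (IsLocalRing.maximalIdeal_le_jacobson _)
  have h1 : (Ideal.Quotient.mk K (1 : R[X])) = 0 := by
    have : (Ideal.Quotient.mk K (1 : R[X])) ∈ (⊤ : Submodule R (R[X] ⧸ K)) := Submodule.mem_top
    rw [hbot] at this
    exact this
  rw [Ideal.Quotient.eq_zero_iff_mem, hK] at h1
  obtain ⟨i, hi, z, hz, hiz⟩ := Submodule.mem_sup.1 h1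
  obtain ⟨u, rfl⟩ := Ideal.mem_span_singleton'.1 hz
  refine ⟨u, ?_⟩
  have : u * h - 1 = -i := by linear_combination hiz
  rw [this]
  exact I.neg_mem hi

include hC hX in
/-- Contraction of the extension of an ideal comaximal with the special fibre. -/
theorem comap_map_eq (I : Ideal R[X])
    (hI : I ⊔ (IsLocalRing.maximalIdeal R).map (Polynomial.C : R →+* R[X]) = ⊤) :
    (I.map Ψ).comap Ψ = I := by
  refine le_antisymm ?_ Ideal.le_comap_map
  intro p hp
  obtain ⟨h, hm, i, hi, e⟩ := exists_repr_of_mem_map Ψ hC hX (Ideal.mem_comap.1 hp)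
  rw [← map_mul] at e
  have e' : p * h = i := psi_injective Ψ hC hX e
  obtain ⟨u, hu⟩ := exists_mul_sub_one_mem I hI hm
  have : p = u * i - p * (u * h - 1) := by rw [← e']; ring
  rw [this]
  exact I.sub_mem (I.mul_mem_left _ hi) (I.mul_mem_left _ hu)

include hC in
theorem map_sup_eq_top (I : Ideal R[X])
    (hI : I ⊔ (IsLocalRing.maximalIdeal R).map (Polynomial.C : R →+* R[X]) = ⊤) :
    I.map Ψ ⊔ (IsLocalRing.maximalIdeal R).map (algebraMap R L) = ⊤ := by
  have h1 : ((IsLocalRing.maximalIdeal R).map (Polynomial.C : R →+* R[X])).map Ψ =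
      (IsLocalRing.maximalIdeal R).map (algebraMap R L) := by
    rw [Ideal.map_map]
    congr 1
    exact RingHom.ext hC
  rw [← h1, ← Ideal.map_sup, hI, Ideal.map_top]

include hC hX in
theorem quotientMap_bijective (I : Ideal R[X])
    (hI : I ⊔ (IsLocalRing.maximalIdeal R).map (Polynomial.C : R →+* R[X]) = ⊤) :
    Function.Bijective (Ideal.quotientMap (I.map Ψ) Ψ Ideal.le_comap_map) := by
  constructor
  · refine Ideal.quotientMap_injective' ?_
    rw [comap_map_eq Ψ hC hX I hI]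
  · intro y'
    obtain ⟨y, rfl⟩ := Ideal.Quotient.mk_surjective y'
    obtain ⟨p, h, hm, e⟩ := exists_repr Ψ hC hX y
    obtain ⟨u, hu⟩ := exists_mul_sub_one_mem I hI hm
    refine ⟨Ideal.Quotient.mk I (p * u), ?_⟩
    rw [Ideal.quotientMap_mk, Ideal.Quotient.eq]
    have : Ψ (p * u) - y = y * Ψ (u * h - 1) := by
      rw [map_mul, ← e, map_sub, map_mul, map_one]; ring
    rw [this]
    exact Ideal.mul_mem_left _ _ (Ideal.mem_map_of_mem Ψ hu)

include hC hX in
theorem map_comap_eq (J : Ideal L) : (J.comap Ψ).map Ψ = J := by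
  refine le_antisymm Ideal.map_comap_le ?_
  intro y hy
  obtain ⟨p, h, hm, e⟩ := exists_repr Ψ hC hX y
  have hp : p ∈ J.comap Ψ := by
    rw [Ideal.mem_comap, ← e]
    exact J.mul_mem_right _ hy
  obtain ⟨v, hv⟩ := (isUnit_psi_monic Ψ hC hX hm).exists_right_inv
  have : y = Ψ p * v := by rw [← e, mul_assoc, hv, mul_one]
  rw [this]
  exact Ideal.mul_mem_right _ _ (Ideal.mem_map_of_mem Ψ hp)

end Ideals

section Hensel

variable {R : Type u} [CommRing R] [HenselianLocalRing R] {L : Type u} [CommRing L]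
  [Algebra R[X] L] [IsLocalization (monoidT R) L] [Algebra R L] [IsScalarTower R R[X] L]
  (Ψ : R[X] →+* L) (hC : ∀ a : R, Ψ (C a) = algebraMap R L a)
  (hX : Ψ X * algebraMap R[X] L X = 1)

include hC hX in
theorem comap_sup_eq_top (J : Ideal L)
    (hJ : J ⊔ (IsLocalRing.maximalIdeal R).map (algebraMap R L) = ⊤) :
    J.comap Ψ ⊔ (IsLocalRing.maximalIdeal R).map (Polynomial.C : R →+* R[X]) = ⊤ := by
  have h1 : ((IsLocalRing.maximalIdeal R).map (Polynomial.C : R →+* R[X])).map Ψ =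
      (IsLocalRing.maximalIdeal R).map (algebraMap R L) := by
    rw [Ideal.map_map]
    congr 1
    exact RingHom.ext hC
  have h2 : (1 : L) ∈ J ⊔ (IsLocalRing.maximalIdeal R).map (algebraMap R L) := by
    rw [hJ]; trivial
  obtain ⟨j, hj, z, hz, hjz⟩ := Submodule.mem_sup.1 h2
  rw [← h1] at hz
  obtain ⟨h₂, hm₂, w, hw, e₂⟩ := exists_repr_of_mem_map Ψ hC hX hz
  obtain ⟨p₁, h₁, hm₁, e₁⟩ := exists_repr Ψ hC hX j
  -- `h₁ h₂ = p₁ h₂ + w h₁`
  have e3 : h₁ * h₂ = p₁ * h₂ + w * h₁ := by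
    apply psi_injective Ψ hC hX
    rw [map_add, map_mul, map_mul, map_mul, ← e₁, ← e₂]
    have : Ψ h₁ * Ψ h₂ = (j + z) * (Ψ h₁ * Ψ h₂) := by rw [hjz, one_mul]
    rw [this]; ring
  obtain ⟨p₀, hp₀⟩ : ∃ p₀, p₀ = p₁ * h₂ := ⟨_, rfl⟩
  have hp₀J : p₀ ∈ J.comap Ψ := by
    rw [Ideal.mem_comap, hp₀, map_mul, ← e₁]
    exact J.mul_mem_right _ (J.mul_mem_right _ hj)
  have hres : Polynomial.map (IsLocalRing.residue R) p₀ =
      Polynomial.map (IsLocalRing.residue R) (h₁ * h₂) * 1 := by
    rw [mul_one, e3, ← hp₀, Polynomial.map_add]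
    have : Polynomial.map (IsLocalRing.residue R) (w * h₁) = 0 := by
      rw [Polynomial.map_mul]
      have hw0 : Polynomial.map (IsLocalRing.residue R) w = 0 := by
        rw [Ideal.mem_map_C_iff] at hw
        ext k
        rw [Polynomial.coeff_map, Polynomial.coeff_zero]
        exact (IsLocalRing.residue_eq_zero_iff _).2 (hw k)
      rw [hw0, zero_mul]
    rw [this, add_zero]
  obtain ⟨g, h', hfac, hgm, hg, hh'⟩ := Groth.Agent.S0497.result R p₀ _ 1
    ((hm₁.mul hm₂).map _) isCoprime_one_right hres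
  have hh'J : h' ∈ J.comap Ψ := by
    obtain ⟨v, hv⟩ := (isUnit_psi_monic Ψ hC hX hgm).exists_left_inv
    have : Ψ h' = v * Ψ p₀ := by rw [hfac, map_mul, ← mul_assoc, hv, one_mul]
    rw [Ideal.mem_comap, this]
    exact J.mul_mem_left _ hp₀J
  have hh'm : h' - 1 ∈ (IsLocalRing.maximalIdeal R).map (Polynomial.C : R →+* R[X]) := by
    rw [Ideal.mem_map_C_iff]
    intro k
    have := congrArg (fun q => Polynomial.coeff q k) hh'
    simp only [Polynomial.coeff_map] at this
    rw [← IsLocalRing.residue_eq_zero_iff, Polynomial.coeff_sub, map_sub, this]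
    simp [Polynomial.coeff_one]
  rw [Ideal.eq_top_iff_one]
  have : (1 : R[X]) = h' - (h' - 1) := by ring
  rw [this]
  exact Ideal.sub_mem _ (Ideal.mem_sup_left hh'J) (Ideal.mem_sup_right hh'm)

end Hensel

end Groth.Agent.Lib.Seat99.MonicLoc
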