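import Groth.Agent.Lib.Helper4NormGlobal
import Groth.Agent.Lib.Helper4EtNormalSch
import Groth.Agent.Lib.Helper23Coprod

set_option autoImplicit false
universe u
open CategoryTheory CategoryTheory.Limits AlgebraicGeometry TopologicalSpace

namespace Groth.Agent.Lib.Seat99.NormDescent

/-- Normality passes to open subschemes. -/
theorem isNormalScheme_of_isOpenImmersion {U X : Scheme.{u}} (j : U ⟶ X) [IsOpenImmersion j]
    (hX : Pi1.IsNormalScheme X) : Pi1.IsNormalScheme U := by
  intro u
  let e : X.presheaf.stalk (j u) ≃+* U.presheaf.stalk u :=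
    (asIso (j.stalkMap u)).commRingCatIsoToRingEquiv
  obtain ⟨h1, h2⟩ := hX (j u)
  exact ⟨e.symm.toMulEquiv.isDomain, IsIntegrallyClosed.of_equiv e⟩

/-- A scheme whose ring of global sections is a domain and whose stalks are reduced is
connected. -/
theorem connectedSpace_of_isDomain (W : Scheme.{u}) [IsReduced W] [IsDomain Γ(W, ⊤)] :
    ConnectedSpace W := by
  have hne : Nonempty W := by
    by_contra h
    rw [not_nonempty_iff] at h
    have : Subsingleton Γ(W, ⊤) := by
      have : (⊤ : W.Opens) = ⊥ := by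
        ext x; exact (h.false x).elim
      rw [this]; infer_instance
    exact not_subsingleton Γ(W, ⊤) this
  refine @ConnectedSpace.mk _ _ ?_ hne
  rw [preconnectedSpace_iff_clopen]
  intro S hS
  let U₁ : W.Opens := ⟨S, hS.isOpen⟩
  let U₂ : W.Opens := ⟨Sᶜ, hS.compl.isOpen⟩
  have hcov : U₁ ⊔ U₂ = ⊤ := by
    ext x; simp [U₁, U₂]
  have hdisj : U₁ ⊓ U₂ = ⊥ := by
    ext x; simp [U₁, U₂]
  obtain ⟨e, he1, he2⟩ := Groth.Agent.Lib.Helper23.Coprod.exists_idempotent_of_disjoint_cover
    U₁ U₂ hcov hdisj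
  have hmul : e * (1 - e) = 0 := by
    rw [← AlgebraicGeometry.basicOpen_eq_bot_iff, Scheme.basicOpen_mul, he1, he2, hdisj]
  rcases mul_eq_zero.mp hmul with h | h
  · left
    have : U₁ = ⊥ := by rw [← he1, h, Scheme.basicOpen_zero]
    simpa [U₁] using congrArg (fun V : W.Opens => (V : Set W)) this
  · right
    have : U₂ = ⊥ := by rw [← he2, h, Scheme.basicOpen_zero]
    have h3 : Sᶜ = ∅ := by simpa [U₂] using congrArg (fun V : W.Opens => (V : Set W)) this
    exact Set.compl_empty_iff.mp h3

/-- Sections over a quasi-compact open `W` of a locally Noetherian normal scheme form an integrally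
closed domain as soon as they form a domain. -/
theorem isIntegrallyClosed_sections_of_isDomain (T : Scheme.{u}) [IsLocallyNoetherian T]
    (hT : Pi1.IsNormalScheme T) (W : T.Opens) (hW : IsCompact (W : Set T)) [IsDomain Γ(T, W)] :
    IsIntegrallyClosed Γ(T, W) := by
  have hN : Pi1.IsNormalScheme W.toScheme := isNormalScheme_of_isOpenImmersion W.ι hT
  have : ∀ w : W.toScheme, _root_.IsReduced (W.toScheme.presheaf.stalk w) := fun w => by
    have := (hN w).1
    infer_instance
  have : IsReduced W.toScheme := isReduced_of_isReduced_stalk _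
  let e : Γ(W.toScheme, ⊤) ≃+* Γ(T, W) := W.topIso.commRingCatIsoToRingEquiv
  have : IsDomain Γ(W.toScheme, ⊤) := e.toMulEquiv.isDomain
  have : ConnectedSpace W.toScheme := connectedSpace_of_isDomain W.toScheme
  have : CompactSpace W.toScheme := isCompact_iff_compactSpace.mp hW
  have : IsNoetherian W.toScheme := ⟨⟩
  have : IrreducibleSpace W.toScheme :=
    Groth.Agent.Lib.Helper4.EtNormalSch.irreducibleSpace_of_connected (fun t => (hN t).1)
      finite_irreducibleComponents_of_isNoetherian
  have : IsIntegral W.toScheme := isIntegral_of_irreducibleSpace_of_isReduced _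
  have hne : Nonempty (⊤ : W.toScheme.Opens) := ⟨⟨Classical.arbitrary _, trivial⟩⟩
  have hcl := Groth.Agent.Lib.Helper4.NormGlobal.isIntegrallyClosedIn_top_functionField
    W.toScheme hN
  have hinj : Function.Injective (algebraMap Γ(W.toScheme, ⊤) W.toScheme.functionField) :=
    W.toScheme.germToFunctionField_injective ⊤
  have : FaithfulSMul Γ(W.toScheme, ⊤) W.toScheme.functionField :=
    (faithfulSMul_iff_algebraMap_injective _ _).mpr hinj
  have : IsIntegrallyClosed Γ(W.toScheme, ⊤) :=
    IsIntegrallyClosed.of_isIntegrallyClosedIn _ W.toScheme.functionField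
  exact IsIntegrallyClosed.of_equiv e

/-- **Descent of normality** along a quasi-compact morphism `f : Xt ⟶ X` with `O_X ≅ f_* O_Xt`,
where `Xt` is locally Noetherian and normal and `X` is integral. -/
theorem isNormalScheme_of_app_isIso {X Xt : Scheme.{u}} [IsIntegral X] [IsLocallyNoetherian Xt]
    (f : Xt ⟶ X) [QuasiCompact f] (hfib : ∀ V : X.Opens, IsIso (f.app V))
    (hXt : Pi1.IsNormalScheme Xt) : Pi1.IsNormalScheme X := by
  intro x
  refine ⟨inferInstance, ?_⟩
  obtain ⟨_, ⟨V, hV, rfl⟩, hxV, -⟩ := X.isBasis_affineOpens.exists_subset_of_mem_open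
    (Set.mem_univ x) isOpen_univ
  have : Nonempty V := ⟨⟨x, hxV⟩⟩
  have : IsDomain Γ(X, V) := IsIntegral.component_integral V
  have := hfib V
  let e : Γ(X, V) ≃+* Γ(Xt, f ⁻¹ᵁ V) := (asIso (f.app V)).commRingCatIsoToRingEquiv
  have : IsDomain Γ(Xt, f ⁻¹ᵁ V) := e.symm.toMulEquiv.isDomain
  have hc : IsCompact ((f ⁻¹ᵁ V : Xt.Opens) : Set Xt) :=
    QuasiCompact.isCompact_preimage (f := f) _ V.isOpen hV.isCompact
  have := isIntegrallyClosed_sections_of_isDomain Xt hXt (f ⁻¹ᵁ V) hc
  have : IsIntegrallyClosed Γ(X, V) := IsIntegrallyClosed.of_equiv e.symm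
  let _ := X.presheaf.algebra_section_stalk (⟨x, hxV⟩ : V)
  have := hV.isLocalization_stalk ⟨x, hxV⟩
  exact isIntegrallyClosed_of_isLocalization _ (hV.primeIdealOf ⟨x, hxV⟩).asIdeal.primeCompl
    (Ideal.primeCompl_le_nonZeroDivisors _)

end Groth.Agent.Lib.Seat99.NormDescent
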