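import Mathlib

/-!
# Picard group of a polynomial ring over a product of valuation rings (seat 99)

* `isGCDMonoid_mvPolynomial_fin`: `MvPolynomial (Fin n) V` is a GCD domain for a GCD domain `V`.
* `exists_assemble`: a family of polynomials over the factors `R i` of bounded total degree comes
  from a polynomial over `∀ i, R i`.
* `free_of_invertible`: if all `MvPolynomial (Fin n) (R i)` (`R i` domains) have trivial Picard
  group then every invertible module over `MvPolynomial (Fin n) (∀ i, R i)` is free.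
-/

set_option linter.unusedSectionVars false
set_option linter.unusedVariables false
set_option linter.unusedSimpArgs false

open MvPolynomial TensorProduct

universe u

namespace Groth.Agent.Lib.Seat99.PicPi

theorem isGCDMonoid_of_mulEquiv {α β : Type*} [CommMonoidWithZero α] [CommMonoidWithZero β]
    (e : α ≃* β) [h : IsGCDMonoid α] : IsGCDMonoid β := by
  obtain ⟨hc, hg⟩ := isGCDMonoid_iff_exists_gcd.1 h
  refine isGCDMonoid_iff_exists_gcd.2 ⟨?_, fun a b => ?_⟩
  · have : IsCancelMulZero β := e.symm.injective.isCancelMulZero e.symm.toMonoidWithZeroHom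
      (by simp) (by simp)
    exact this
  · obtain ⟨c, hcd⟩ := hg (e.symm a) (e.symm b)
    refine ⟨e c, fun d => ?_⟩
    have h1 := hcd (e.symm d)
    rw [map_dvd_iff e.symm, map_dvd_iff e.symm] at h1
    rw [h1, ← map_dvd_iff e, e.apply_symm_apply]

theorem isGCDMonoid_mvPolynomial_fin (V : Type u) [CommRing V] [IsDomain V] [IsGCDMonoid V] (n : ℕ) :
    IsGCDMonoid (MvPolynomial (Fin n) V) := by
  induction n with
  | zero => exact isGCDMonoid_of_mulEquiv (MvPolynomial.isEmptyAlgEquiv V (Fin 0)).symm.toMulEquiv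
  | succ n ih =>
    exact isGCDMonoid_of_mulEquiv (MvPolynomial.finSuccEquiv V n).symm.toMulEquiv


section Assemble

variable {ι : Type u} (R : ι → Type u) [∀ i, CommRing (R i)] (n : ℕ)

/-- projection to the `i`-th factor. -/
noncomputable def proj (i : ι) : MvPolynomial (Fin n) (∀ i, R i) →+* MvPolynomial (Fin n) (R i) :=
  MvPolynomial.map (Pi.evalRingHom R i)

theorem coeff_proj (i : ι) (f : MvPolynomial (Fin n) (∀ i, R i)) (μ : Fin n →₀ ℕ) :
    coeff μ (proj R n i f) = coeff μ f i := by
  simp [proj, MvPolynomial.coeff_map]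

theorem proj_ext {f g : MvPolynomial (Fin n) (∀ i, R i)} (h : ∀ i, proj R n i f = proj R n i g) :
    f = g := by
  ext μ i
  rw [← coeff_proj, ← coeff_proj, h]

theorem totalDegree_proj_le (i : ι) (f : MvPolynomial (Fin n) (∀ i, R i)) :
    (proj R n i f).totalDegree ≤ f.totalDegree := by
  unfold proj totalDegree
  exact Finset.sup_mono (support_map_subset _ _)

theorem exists_assemble (D : ℕ) (f : ∀ i, MvPolynomial (Fin n) (R i))
    (hf : ∀ i, (f i).totalDegree ≤ D) :
    ∃ F : MvPolynomial (Fin n) (∀ i, R i), ∀ i, proj R n i F = f i := by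
  classical
  let s : Finset (Fin n →₀ ℕ) :=
    (Fintype.piFinset fun _ : Fin n => Finset.range (D + 1)).map
      Finsupp.equivFunOnFinite.symm.toEmbedding
  have hs : ∀ i, (f i).support ⊆ s := by
    intro i μ hμ
    simp only [s, Finset.mem_map, Fintype.mem_piFinset, Finset.mem_range,
      Equiv.coe_toEmbedding]
    refine ⟨μ, fun j => ?_, by ext; simp⟩
    have h1 := le_totalDegree hμ
    have h2 : μ j ≤ μ.sum fun _ e => e := by
      by_cases hj : j ∈ μ.support
      · exact Finset.single_le_sum (f := fun a => μ a) (fun _ _ => Nat.zero_le _) hj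
      · rw [Finsupp.notMem_support_iff] at hj
        rw [hj]; exact Nat.zero_le _
    have := hf i
    omega
  refine ⟨∑ μ ∈ s, monomial μ (fun i => coeff μ (f i)), fun i => ?_⟩
  rw [map_sum]
  have h1 : ∀ μ ∈ s, proj R n i (monomial μ (fun i => coeff μ (f i))) =
      monomial μ (coeff μ (f i)) := by
    intro μ _
    simp [proj, MvPolynomial.map_monomial]
  rw [Finset.sum_congr rfl h1]
  conv_rhs => rw [(f i).as_sum]
  symm
  apply Finset.sum_subset (hs i)
  intro μ _ hμ
  rw [MvPolynomial.notMem_support_iff] at hμ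
  rw [hμ, map_zero]

end Assemble


section Key

variable {S T : Type u} [CommRing S] [CommRing T] [Nontrivial T] [Algebra S T]
  {M : Type u} [AddCommGroup M] [Module S M] {m : ℕ}
  (ι' : M →ₗ[S] (Fin m → S)) (ρ : (Fin m → S) →ₗ[S] M) (h : ρ ∘ₗ ι' = LinearMap.id)
  (φ : T ≃ₗ[T] T ⊗[S] M)

include h φ in
theorem key :
    ∃ (c : M → T) (v : Fin m → T), (∃ k, v k ≠ 0) ∧
      (∀ u k, algebraMap S T (ι' u k) = c u * v k) ∧
      (∀ W : Fin m → S, (∀ k, algebraMap S T (W k) = v k) → c (ρ W) = 1) ∧
      (∃ l, c (ρ (Pi.single l 1)) ≠ 0) := by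
  classical
  let P := TensorProduct.piScalarRight S T T (Fin m)
  let ιT : T ⊗[S] M →ₗ[T] (Fin m → T) := P.toLinearMap ∘ₗ ι'.baseChange T
  let ρT : (Fin m → T) →ₗ[T] T ⊗[S] M := ρ.baseChange T ∘ₗ P.symm.toLinearMap
  have hρι : ∀ x, ρT (ιT x) = x := by
    intro x
    simp only [ρT, ιT, LinearMap.comp_apply, LinearEquiv.coe_coe, LinearEquiv.symm_apply_apply]
    rw [← LinearMap.comp_apply, ← LinearMap.baseChange_comp, h, LinearMap.baseChange_id]
    rfl
  have hι1 : ∀ u k, ιT (1 ⊗ₜ u) k = algebraMap S T (ι' u k) := by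
    intro u k
    simp [ιT, P, Algebra.algebraMap_eq_smul_one]
  have hρ1 : ∀ W : Fin m → S, ρT (fun k => algebraMap S T (W k)) = 1 ⊗ₜ ρ W := by
    intro W
    have : (fun k => algebraMap S T (W k)) = P (1 ⊗ₜ W) := by
      ext k
      simp [P, Algebra.algebraMap_eq_smul_one]
    rw [this]
    simp [ρT]
  let g : T ⊗[S] M := φ 1
  let c : M → T := fun u => φ.symm (1 ⊗ₜ u)
  have hc : ∀ u, (1 : T) ⊗ₜ[S] u = c u • g := by
    intro u
    simp only [c, g]
    rw [← map_smul, smul_eq_mul, mul_one, LinearEquiv.apply_symm_apply]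
  have hg : g ≠ 0 := by
    simp only [g]
    intro h0
    exact one_ne_zero (φ.injective (h0.trans (map_zero φ).symm))
  let v : Fin m → T := ιT g
  have hv : v ≠ 0 := by
    intro h0
    apply hg
    rw [← hρι g]
    show ρT v = 0
    rw [h0, map_zero]
  refine ⟨c, v, ?_, ?_, ?_, ?_⟩
  · by_contra hk
    push Not at hk
    exact hv (funext hk)
  · intro u k
    rw [← hι1, hc u, map_smul]
    rfl
  · intro W hW
    have h1 : (1 : T) ⊗ₜ[S] ρ W = g := by
      rw [← hρ1, ← hρι g]
      congr 1
      funext k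
      exact hW k
    simp only [c]
    rw [h1]
    simp [g]
  · by_contra hl
    push Not at hl
    apply hg
    rw [← hρι g]
    have : ρT = 0 := by
      apply LinearMap.pi_ext
      intro l t
      have h2 : (Pi.single l t : Fin m → T) = t • (fun k => algebraMap S T ((Pi.single l 1 : Fin m → S) k)) := by
        ext k
        by_cases hkl : k = l
        · subst hkl; simp
        · simp [Pi.single_eq_of_ne hkl]
      rw [h2, map_smul, hρ1, hc, hl l]
      simp
    rw [this]
    rfl

end Key


section Main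

variable {ι : Type u} (R : ι → Type u) [∀ i, CommRing (R i)] [∀ i, IsDomain (R i)] (n : ℕ)

theorem free_of_invertible
    (hPic : ∀ i, Subsingleton (CommRing.Pic (MvPolynomial (Fin n) (R i))))
    (M : Type u) [AddCommGroup M] [Module (MvPolynomial (Fin n) (∀ i, R i)) M]
    [Module.Invertible (MvPolynomial (Fin n) (∀ i, R i)) M] :
    Module.Free (MvPolynomial (Fin n) (∀ i, R i)) M := by
  classical
  obtain ⟨m, ρ, hρ⟩ := Module.Finite.exists_fin' (MvPolynomial (Fin n) (∀ i, R i)) M
  obtain ⟨ι', h⟩ := Module.projective_lifting_property ρ LinearMap.id hρ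
  -- per-index data
  have hkey : ∀ i, ∃ (c : M → MvPolynomial (Fin n) (R i))
      (v : Fin m → MvPolynomial (Fin n) (R i)),
      (∃ k, v k ≠ 0) ∧ (∀ u k, proj R n i (ι' u k) = c u * v k) ∧
      (∀ W : Fin m → MvPolynomial (Fin n) (∀ i, R i),
        (∀ k, proj R n i (W k) = v k) → c (ρ W) = 1) ∧
      (∃ l, c (ρ (Pi.single l 1)) ≠ 0) := by
    intro i
    letI : Algebra (MvPolynomial (Fin n) (∀ i, R i)) (MvPolynomial (Fin n) (R i)) :=
      (proj R n i).toAlgebra
    haveI := hPic i
    have hfree : Module.Free (MvPolynomial (Fin n) (R i))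
        (MvPolynomial (Fin n) (R i) ⊗[MvPolynomial (Fin n) (∀ i, R i)] M) := inferInstance
    obtain ⟨e⟩ := Module.Invertible.free_iff_linearEquiv.1 hfree
    exact key ι' ρ h e.symm
  choose c v hv hrel hone hl using hkey
  -- degree bound for `v`
  let d : ℕ := Finset.univ.sup fun kl : Fin m × Fin m =>
    (ι' (ρ (Pi.single kl.2 1)) kl.1).totalDegree
  have hvdeg : ∀ i k, (v i k).totalDegree ≤ d := by
    intro i k
    obtain ⟨l, hl⟩ := hl i
    by_cases hvk : v i k = 0
    · rw [hvk]; simp
    have h1 := hrel i (ρ (Pi.single l 1)) k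
    have h2 := totalDegree_mul_of_isDomain hl hvk
    have h3 := totalDegree_proj_le R n i (ι' (ρ (Pi.single l 1)) k)
    have h4 : (ι' (ρ (Pi.single l 1)) k).totalDegree ≤ d :=
      Finset.le_sup (f := fun kl : Fin m × Fin m =>
        (ι' (ρ (Pi.single kl.2 1)) kl.1).totalDegree) (Finset.mem_univ (k, l))
    rw [h1, h2] at h3
    omega
  -- assemble `V`
  have hV : ∀ k, ∃ Vk : MvPolynomial (Fin n) (∀ i, R i), ∀ i, proj R n i Vk = v i k :=
    fun k => exists_assemble R n d (fun i => v i k) (fun i => hvdeg i k)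
  choose V hV using hV
  let w : M := ρ V
  have hcw : ∀ i, c i w = 1 := fun i => hone i V (fun k => hV k i)
  have hw : ∀ i k, proj R n i (ι' w k) = v i k := by
    intro i k; rw [hrel, hcw, one_mul]
  have hι'inj : Function.Injective ι' := by
    intro x y hxy
    have := congrArg ρ hxy
    rwa [← LinearMap.comp_apply, ← LinearMap.comp_apply, h] at this
  refine Module.Free.of_equiv (LinearEquiv.ofBijective (LinearMap.toSpanSingleton _ M w) ⟨?_, ?_⟩)
  · -- injective
    rw [injective_iff_map_eq_zero]
    intro s hs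
    apply proj_ext R n
    intro i
    rw [map_zero]
    obtain ⟨k, hk⟩ := hv i
    have h1 : ι' (s • w) k = s * ι' w k := by simp
    have h2 : proj R n i (ι' (s • w) k) = 0 := by
      rw [show s • w = 0 from hs]; simp
    rw [h1, map_mul, hw] at h2
    exact (mul_eq_zero.1 h2).resolve_right hk
  · -- surjective
    intro u
    have hcdeg : ∀ i, (c i u).totalDegree ≤ Finset.univ.sup fun k => (ι' u k).totalDegree := by
      intro i
      obtain ⟨k, hk⟩ := hv i
      by_cases hcu : c i u = 0
      · rw [hcu]; simp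
      have h1 := hrel i u k
      have h2 := totalDegree_mul_of_isDomain hcu hk
      have h3 := totalDegree_proj_le R n i (ι' u k)
      have h4 : (ι' u k).totalDegree ≤ Finset.univ.sup fun k => (ι' u k).totalDegree :=
        Finset.le_sup (f := fun k => (ι' u k).totalDegree) (Finset.mem_univ k)
      rw [h1, h2] at h3
      omega
    obtain ⟨C, hC⟩ := exists_assemble R n _ (fun i => c i u) hcdeg
    refine ⟨C, ?_⟩
    apply hι'inj
    funext k
    apply proj_ext R n
    intro i
    show proj R n i (ι' (C • w) k) = _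
    rw [map_smul, Pi.smul_apply, smul_eq_mul, map_mul, hC, hw, hrel]

theorem subsingleton_pic (V : ι → Type u) [∀ i, CommRing (V i)] [∀ i, IsDomain (V i)]
    [∀ i, ValuationRing (V i)] (n : ℕ) :
    Subsingleton (CommRing.Pic (MvPolynomial (Fin n) (∀ i, V i))) := by
  rw [CommRing.Pic.subsingleton_iff]
  intro M _ _ _
  refine free_of_invertible V n (fun i => ?_) M
  have := isGCDMonoid_mvPolynomial_fin (V i) n
  infer_instance

end Main

end Groth.Agent.Lib.Seat99.PicPi
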