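import Mathlib
import Groth.Agent.Lib.Helper13Vasc2

/-!
# Vasconcelos: regular sequences generating a free direct summand of the conormal module (seat 99)

Let `S` be a Noetherian local ring and `J` a proper ideal of finite projective dimension.  If
`x₁, …, x_r ∈ J` admit "dual" functionals `ψ_i : J → S/J` (`ψ_i x_j = δ_ij`) — which is the case when
their classes are a basis of a free direct summand of `J/J²` — then there is a regular sequence
`y₁, …, y_r ∈ J` with `(y) + J² = (x) + J²`.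
-/

set_option autoImplicit false
universe u
open CategoryTheory IsLocalRing
open scoped Pointwise

namespace Groth.Agent.Lib.Seat99.VascSummand

open Groth.Agent.Helper13Vasc

variable {S : Type u} [CommRing S]

/-- a functional `J → S/J` kills `J²`. -/
theorem functional_sq (J : Ideal S) (ψ : ↥J →ₗ[S] S ⧸ J) (a : S) (ha : a ∈ J)
    (ha2 : a ∈ J ^ 2) : ψ ⟨a, ha⟩ = 0 := by
  have hle : J ^ 2 ≤ (LinearMap.ker ψ).map J.subtype := by
    rw [pow_two, Ideal.mul_le]
    intro r hr s hs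
    refine ⟨r • ⟨s, hs⟩, ?_, rfl⟩
    rw [SetLike.mem_coe, LinearMap.mem_ker, map_smul]
    obtain ⟨t, ht⟩ := Ideal.Quotient.mk_surjective (ψ ⟨s, hs⟩)
    rw [← ht]
    show Ideal.Quotient.mk J (r * t) = 0
    exact Ideal.Quotient.eq_zero_iff_mem.2 (J.mul_mem_right _ hr)
  obtain ⟨z, hz, hza⟩ := hle ha2
  have : z = ⟨a, ha⟩ := Subtype.ext hza
  rw [← this]
  exact hz

/-- `y` regular and `rs` weakly regular modulo `y` gives `y :: rs` weakly regular. -/
theorem isWeaklyRegular_cons_of_quotient (y : S) (rs : List S) (hy : IsSMulRegular S y)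
    (h : RingTheory.Sequence.IsWeaklyRegular (S ⧸ Ideal.span {y})
      (rs.map (Ideal.Quotient.mk (Ideal.span {y})))) :
    RingTheory.Sequence.IsWeaklyRegular S (y :: rs) := by
  rw [RingTheory.Sequence.isWeaklyRegular_cons_iff]
  refine ⟨hy, ?_⟩
  have h1 : (y • (⊤ : Submodule S S)) = Ideal.span {y} := by
    rw [← Submodule.ideal_span_singleton_smul, smul_eq_mul, Ideal.mul_top]
  have e : QuotSMulTop y S ≃ₗ[S] (S ⧸ Ideal.span {y}) := Submodule.quotEquivOfEq _ _ h1
  rw [e.isWeaklyRegular_congr]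
  rw [← Ideal.Quotient.algebraMap_eq] at h
  exact (RingTheory.Sequence.isWeaklyRegular_map_algebraMap_iff (S ⧸ Ideal.span {y})
    (S ⧸ Ideal.span {y}) rs).1 h

/-- A functional `ψ : J → S/J` killing `y ∈ J` descends to the image of `J` in `S/(y)`. -/
theorem exists_functional_quot (J : Ideal S) (y : S) (hy : y ∈ J)
    (ψ : ↥J →ₗ[S] S ⧸ J) (hψ : ψ ⟨y, hy⟩ = 0) :
    ∃ ψ' : ↥(J.map (Ideal.Quotient.mk (Ideal.span {y}))) →ₗ[S ⧸ Ideal.span {y}]
        ((S ⧸ Ideal.span {y}) ⧸ J.map (Ideal.Quotient.mk (Ideal.span {y}))),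
      ∀ (a : S) (ha : a ∈ J) (c : S), ψ ⟨a, ha⟩ = Ideal.Quotient.mk J c →
        ψ' ⟨Ideal.Quotient.mk _ a, Ideal.mem_map_of_mem _ ha⟩ =
          Ideal.Quotient.mk _ (Ideal.Quotient.mk _ c) := by
  have hsq : Function.Surjective (algebraMap S (S ⧸ Ideal.span {y})) :=
    Ideal.Quotient.mk_surjective
  let ρ : ↥J →ₗ[S] ↥(J.map (Ideal.Quotient.mk (Ideal.span {y}))) :=
    { toFun := fun z => ⟨Ideal.Quotient.mk _ (z : S), Ideal.mem_map_of_mem _ z.2⟩
      map_add' := fun a b => Subtype.ext (map_add _ _ _)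
      map_smul' := fun c a => Subtype.ext (by
        show Ideal.Quotient.mk (Ideal.span {y}) (c * (a : S)) =
          c • Ideal.Quotient.mk (Ideal.span {y}) (a : S)
        rw [Algebra.smul_def, map_mul]
        rfl) }
  have hρ : Function.Surjective ρ := by
    rintro ⟨b, hb⟩
    obtain ⟨z, hz, rfl⟩ := (Ideal.mem_map_iff_of_surjective _ Ideal.Quotient.mk_surjective).1 hb
    exact ⟨⟨z, hz⟩, rfl⟩
  let φ : (S ⧸ J) →ₗ[S]
      ((S ⧸ Ideal.span {y}) ⧸ J.map (Ideal.Quotient.mk (Ideal.span {y}))) :=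
    Submodule.liftQ J (Algebra.linearMap S _) (by
      intro s hs
      rw [LinearMap.mem_ker, Algebra.linearMap_apply]
      show Ideal.Quotient.mk _ (Ideal.Quotient.mk _ s) = 0
      exact Ideal.Quotient.eq_zero_iff_mem.2 (Ideal.mem_map_of_mem _ hs))
  have hker : LinearMap.ker ρ ≤ LinearMap.ker (φ ∘ₗ ψ) := by
    intro z hz
    rw [LinearMap.mem_ker] at hz
    have hz' : Ideal.Quotient.mk (Ideal.span {y}) (z : S) = 0 := congr_arg Subtype.val hz
    rw [Ideal.Quotient.eq_zero_iff_mem, Ideal.mem_span_singleton'] at hz'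
    obtain ⟨s, hs⟩ := hz'
    have : z = s • (⟨y, hy⟩ : ↥J) := Subtype.ext hs.symm
    rw [LinearMap.mem_ker, this, map_smul, LinearMap.comp_apply, hψ, map_zero, smul_zero]
  let ψ₀ : ↥(J.map (Ideal.Quotient.mk (Ideal.span {y}))) →ₗ[S]
      ((S ⧸ Ideal.span {y}) ⧸ J.map (Ideal.Quotient.mk (Ideal.span {y}))) :=
    (Submodule.liftQ _ (φ ∘ₗ ψ) hker) ∘ₗ (ρ.quotKerEquivOfSurjective hρ).symm.toLinearMap
  have hψ₀ : ∀ z, ψ₀ (ρ z) = φ (ψ z) := by
    intro z
    show Submodule.liftQ _ (φ ∘ₗ ψ) hker ((ρ.quotKerEquivOfSurjective hρ).symm (ρ z)) = φ (ψ z)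
    have : (ρ.quotKerEquivOfSurjective hρ).symm (ρ z) = Submodule.Quotient.mk z := by
      rw [LinearEquiv.symm_apply_eq]
      rfl
    rw [this]
    rfl
  refine ⟨ψ₀.extendScalarsOfSurjective hsq, ?_⟩
  intro a ha c hc
  show ψ₀ (ρ ⟨a, ha⟩) = _
  rw [hψ₀, hc]
  rfl

/-- prime avoidance: if `x₀ ∈ J ∖ J²` and `J` contains a regular element, then some
`c * x₀ + z` with `c` a unit and `z ∈ J²` is regular. -/
theorem exists_regular_combination [IsLocalRing S] [IsNoetherianRing S] (J : Ideal S)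
    (x₀ : S) (hx₀sq : x₀ ∉ J ^ 2) (y₀ : S) (hy₀J : y₀ ∈ J) (hy₀reg : IsSMulRegular S y₀) :
    ∃ c z : S, IsUnit c ∧ z ∈ J ^ 2 ∧ IsSMulRegular S (c * x₀ + z) := by
  classical
  have hex : ∃ x ∈ Ideal.span {x₀} ⊔ J ^ 2,
      x ∉ maximalIdeal S * Ideal.span {x₀} ⊔ J ^ 2 ∧ IsSMulRegular S x := by
    by_contra hcon
    push Not at hcon
    have hfin : (associatedPrimes S S).Finite := associatedPrimes.finite S S
    let T : Finset (Ideal S) :=
      insert (maximalIdeal S * Ideal.span {x₀} ⊔ J ^ 2) hfin.toFinset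
    have hsub : ((Ideal.span {x₀} ⊔ J ^ 2 : Ideal S) : Set S) ⊆
        ⋃ i ∈ (↑T : Set (Ideal S)), ((id i : Ideal S) : Set S) := by
      intro x hx
      by_cases hx2 : x ∈ maximalIdeal S * Ideal.span {x₀} ⊔ J ^ 2
      · refine Set.mem_biUnion
          (x := maximalIdeal S * Ideal.span {x₀} ⊔ J ^ 2) ?_ hx2
        exact Finset.mem_coe.mpr (Finset.mem_insert_self _ _)
      · have hnr := hcon x hx hx2
        have : x ∈ ⋃ p ∈ associatedPrimes S S, (p : Set S) := by
          rw [biUnion_associatedPrimes_eq_compl_regular]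
          exact hnr
        obtain ⟨p, hp, hxp⟩ := Set.mem_iUnion₂.mp this
        refine Set.mem_biUnion (x := p) ?_ hxp
        exact Finset.mem_coe.mpr
          (Finset.mem_insert_of_mem ((Set.Finite.mem_toFinset _).mpr hp))
    rw [Ideal.subset_union_prime (maximalIdeal S * Ideal.span {x₀} ⊔ J ^ 2)
      (maximalIdeal S * Ideal.span {x₀} ⊔ J ^ 2)] at hsub
    · obtain ⟨i, hi, hle⟩ := hsub
      rw [Finset.mem_insert] at hi
      rcases hi with rfl | hi
      · -- `x₀ ∈ 𝔪 x₀ + J²`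
        have h1 : x₀ ∈ maximalIdeal S * Ideal.span {x₀} ⊔ J ^ 2 :=
          hle (Ideal.mem_sup_left (Ideal.mem_span_singleton_self x₀))
        obtain ⟨z, hz, y, hy, hzy⟩ := Submodule.mem_sup.1 h1
        obtain ⟨m, hm, rfl⟩ := Ideal.mem_mul_span_singleton.1 hz
        have hunit : IsUnit (1 - m) := by
          by_contra hnu
          have h2 : 1 - m ∈ maximalIdeal S := (IsLocalRing.mem_maximalIdeal _).2 hnu
          have h3 : (1 : S) ∈ maximalIdeal S := by
            have := Ideal.add_mem _ h2 hm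
            simp at this
          exact (maximalIdeal.isMaximal S).ne_top ((Ideal.eq_top_iff_one _).2 h3)
        obtain ⟨u, hu⟩ := hunit
        apply hx₀sq
        have h4 : (1 - m) * x₀ = y := by
          linear_combination (-1 : S) * hzy
        have h5 : x₀ = (↑u⁻¹ : S) * y := by
          rw [← h4, ← hu, ← mul_assoc, Units.inv_mul, one_mul]
        rw [h5]
        exact Ideal.mul_mem_left _ _ hy
      · rw [Set.Finite.mem_toFinset] at hi
        have hprime : (id i : Ideal S).IsPrime := hi.isPrime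
        have h1 : J ^ 2 ≤ id i := le_trans le_sup_right hle
        have h2 : J ≤ id i := hprime.le_of_pow_le h1
        have : y₀ ∈ ⋃ p ∈ associatedPrimes S S, (p : Set S) :=
          Set.mem_biUnion hi (h2 hy₀J)
        rw [biUnion_associatedPrimes_eq_compl_regular] at this
        exact this hy₀reg
    · intro i hi hne _
      rw [Finset.mem_insert] at hi
      rcases hi with rfl | hi
      · exact absurd rfl hne
      · rw [Set.Finite.mem_toFinset] at hi
        exact hi.isPrime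
  obtain ⟨x, hxF, hxF', hxreg⟩ := hex
  obtain ⟨z, hz, y, hy, hzy⟩ := Submodule.mem_sup.1 hxF
  obtain ⟨c, rfl⟩ := Ideal.mem_span_singleton'.1 hz
  have hcunit : IsUnit c := by
    by_contra hnu
    apply hxF'
    rw [← hzy]
    refine Ideal.add_mem _ (Ideal.mem_sup_left ?_) (Ideal.mem_sup_right hy)
    exact Ideal.mul_mem_mul ((IsLocalRing.mem_maximalIdeal _).2 hnu)
      (Ideal.mem_span_singleton_self x₀)
  refine ⟨c, y, hcunit, hy, ?_⟩
  rw [hzy]
  exact hxreg

open Groth.Agent.Lib.Helper28 Groth.Agent.Lib.Helper21.PdLoc in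
/-- **Vasconcelos**: elements `x i ∈ J` with dual functionals `ψ i : J → S/J` can be replaced, modulo
`J²`, by a regular sequence. -/
theorem exists_regular_of_functionals (r : ℕ) :
    ∀ (S : Type u) [CommRing S] [IsLocalRing S] [IsNoetherianRing S] (J : Ideal S),
      J ≤ maximalIdeal S →
      (∃ n, HasProjectiveDimensionLT (ModuleCat.of S ↥J) n) →
      ∀ (x : Fin r → S) (hx : ∀ i, x i ∈ J) (ψ : Fin r → (↥J →ₗ[S] S ⧸ J)),
      (∀ i j, ψ i ⟨x j, hx j⟩ = if i = j then 1 else 0) →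
      ∃ y : Fin r → S, (∀ i, y i ∈ J) ∧ RingTheory.Sequence.IsWeaklyRegular S (List.ofFn y) ∧
        Ideal.span (Set.range y) ⊔ J ^ 2 = Ideal.span (Set.range x) ⊔ J ^ 2 := by
  induction r with
  | zero =>
    intro S _ _ _ J hJ hpd x hx ψ hψ
    refine ⟨x, hx, ?_, rfl⟩
    rw [List.ofFn_zero]
    exact RingTheory.Sequence.IsWeaklyRegular.nil S S
  | succ r ih =>
    intro S _ _ _ J hJ hpd x hx ψ hψ
    classical
    obtain ⟨n, hn⟩ := hpd
    have hn1 : HasProjectiveDimensionLT (ModuleCat.of S ↥J) (n + 1) :=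
      hasProjectiveDimensionLT_of_ge _ n (n + 1) (Nat.le_succ n)
    have hJtop : J ≠ ⊤ := fun h => (maximalIdeal.isMaximal S).ne_top (top_le_iff.1 (h ▸ hJ))
    have : Nontrivial (S ⧸ J) := Ideal.Quotient.nontrivial_iff.2 hJtop
    have hx₀sq : x 0 ∉ J ^ 2 := by
      intro h
      have h0 := functional_sq J (ψ 0) (x 0) (hx 0) h
      rw [hψ 0 0, if_pos rfl] at h0
      exact one_ne_zero h0
    have hJ0 : J ≠ ⊥ := by
      intro h0
      apply hx₀sq
      have : x 0 = 0 := by
        have := hx 0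
        rw [h0] at this
        exact this
      rw [this]
      exact Ideal.zero_mem _
    have hpdq : HasProjectiveDimensionLT (ModuleCat.of S (S ⧸ J)) (n + 1 + 1) :=
      (pdLT_succ_iff_of_ses J.subtype (Submodule.mkQ J)
        (Submodule.injective_subtype _) (Submodule.mkQ_surjective _)
        (LinearMap.exact_subtype_mkQ _) n).mpr hn1
    obtain ⟨y₀', hy₀'J, hy₀'reg⟩ := exists_isSMulRegular_mem J hJ0 (n + 1) hpdq
    obtain ⟨c, z, hc, hz, hreg⟩ := exists_regular_combination J (x 0) hx₀sq y₀' hy₀'J hy₀'reg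
    obtain ⟨u, rfl⟩ := hc
    obtain ⟨y₀, hy₀def⟩ : ∃ y₀, y₀ = (u : S) * x 0 + z := ⟨_, rfl⟩
    rw [← hy₀def] at hreg
    have hzJ : z ∈ J := Ideal.pow_le_self (by norm_num) hz
    have hy₀J : y₀ ∈ J := by
      rw [hy₀def]
      exact Ideal.add_mem _ (Ideal.mul_mem_left _ _ (hx 0)) hzJ
    -- values of the functionals on `y₀`
    have hval : ∀ i, ψ i ⟨y₀, hy₀J⟩ = (u : S) • ψ i ⟨x 0, hx 0⟩ := by
      intro i
      have h2 : (⟨y₀, hy₀J⟩ : J) = (u : S) • ⟨x 0, hx 0⟩ + ⟨z, hzJ⟩ := Subtype.ext hy₀def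
      rw [h2, map_add, map_smul, functional_sq J (ψ i) z hzJ hz, add_zero]
    have hψ0 : ((↑u⁻¹ : S) • ψ 0) ⟨y₀, hy₀J⟩ = 1 := by
      rw [LinearMap.smul_apply, hval, hψ 0 0, if_pos rfl, smul_smul, Units.inv_mul, one_smul]
    have hψs : ∀ i : Fin r, ψ i.succ ⟨y₀, hy₀J⟩ = 0 := by
      intro i
      rw [hval, hψ, if_neg (Fin.succ_ne_zero i), smul_zero]
    -- the quotient ring
    have hne : Ideal.span {y₀} ≠ ⊤ := by
      intro h
      have h1 : Ideal.span {y₀} ≤ maximalIdeal S :=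
        (Ideal.span_singleton_le_iff_mem _).2 (hJ hy₀J)
      exact (maximalIdeal.isMaximal S).ne_top (top_le_iff.1 (h ▸ h1))
    have : IsLocalRing (S ⧸ Ideal.span {y₀}) := Groth.Agent.Lib.Helper5.isLocalRing_quotient hne
    have hJ' : J.map (Ideal.Quotient.mk (Ideal.span {y₀})) ≤
        maximalIdeal (S ⧸ Ideal.span {y₀}) := by
      rw [Ideal.map_le_iff_le_comap]
      intro w hw
      rw [Ideal.mem_comap]
      exact (Groth.Agent.Lib.Helper5.mk_mem_maximalIdeal_quotient_iff _ w).2 (hJ hw)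
    have hpd' : ∃ n, HasProjectiveDimensionLT (ModuleCat.of (S ⧸ Ideal.span {y₀})
        ↥(J.map (Ideal.Quotient.mk (Ideal.span {y₀})))) n := by
      obtain ⟨i, ρ, hri⟩ := exists_retract_quotSMulTop J y₀ hy₀J ((↑u⁻¹ : S) • ψ 0) hψ0
      have hJreg : IsSMulRegular ↥J y₀ := hreg.submodule J y₀
      have h2 := hasProjectiveDimensionLT_quotSMulTop y₀ hreg n ↥J hJreg hn1
      exact ⟨n + 1, hasProjectiveDimensionLT_of_retract i ρ hri (n + 1) h2⟩
    -- the descended functionals
    choose ψ' hψ' using fun i : Fin r => exists_functional_quot J y₀ hy₀J (ψ i.succ) (hψs i)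
    have hx' : ∀ i : Fin r, Ideal.Quotient.mk (Ideal.span {y₀}) (x i.succ) ∈
        J.map (Ideal.Quotient.mk (Ideal.span {y₀})) :=
      fun i => Ideal.mem_map_of_mem _ (hx i.succ)
    obtain ⟨ybar, hybarJ, hybarreg, hybarspan⟩ := ih (S ⧸ Ideal.span {y₀})
      (J.map (Ideal.Quotient.mk (Ideal.span {y₀}))) hJ' hpd'
      (fun i => Ideal.Quotient.mk (Ideal.span {y₀}) (x i.succ)) hx' ψ' (by
        intro i j
        by_cases hij : i = j
        · subst hij
          rw [if_pos rfl, hψ' i (x i.succ) (hx i.succ) 1]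
          · rw [map_one, map_one]
          · rw [hψ, if_pos rfl, map_one]
        · rw [if_neg hij, hψ' i (x j.succ) (hx j.succ) 0]
          · rw [map_zero, map_zero]
          · rw [hψ, if_neg (fun h => hij (Fin.succ_injective _ h)), map_zero])
    -- lift
    have hlift : ∀ i : Fin r, ∃ w ∈ J, Ideal.Quotient.mk (Ideal.span {y₀}) w = ybar i := fun i =>
      (Ideal.mem_map_iff_of_surjective _ Ideal.Quotient.mk_surjective).1 (hybarJ i)
    choose y' hy'J hy' using hlift
    have hcomp : (⇑(Ideal.Quotient.mk (Ideal.span {y₀})) ∘ y') = ybar := funext hy'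
    refine ⟨Fin.cons y₀ y', ?_, ?_, ?_⟩
    · intro i
      refine Fin.cases ?_ (fun i => ?_) i
      · rw [Fin.cons_zero]; exact hy₀J
      · rw [Fin.cons_succ]; exact hy'J i
    · rw [List.ofFn_succ]
      simp only [Fin.cons_zero, Fin.cons_succ]
      apply isWeaklyRegular_cons_of_quotient y₀ _ hreg
      rw [List.map_ofFn, hcomp]
      exact hybarreg
    · -- the span equality
      have hmem : ∀ (K : Ideal S) (w : S), Ideal.Quotient.mk (Ideal.span {y₀}) w ∈
          K.map (Ideal.Quotient.mk (Ideal.span {y₀})) → w ∈ K ⊔ Ideal.span {y₀} := by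
        intro K w hw
        have h1 : w ∈ (K.map (Ideal.Quotient.mk (Ideal.span {y₀}))).comap
            (Ideal.Quotient.mk (Ideal.span {y₀})) := hw
        rw [Ideal.comap_map_of_surjective _ Ideal.Quotient.mk_surjective,
          ← RingHom.ker_eq_comap_bot, Ideal.mk_ker] at h1
        exact h1
      have hmapx : (Ideal.span (Set.range fun i : Fin r => x i.succ) ⊔ J ^ 2).map
          (Ideal.Quotient.mk (Ideal.span {y₀})) =
          Ideal.span (Set.range fun i : Fin r => Ideal.Quotient.mk (Ideal.span {y₀}) (x i.succ)) ⊔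
            (J.map (Ideal.Quotient.mk (Ideal.span {y₀}))) ^ 2 := by
        rw [Ideal.map_sup, Ideal.map_span, Ideal.map_pow, ← Set.range_comp]
        rfl
      have hmapy : (Ideal.span (Set.range y') ⊔ J ^ 2).map
          (Ideal.Quotient.mk (Ideal.span {y₀})) =
          Ideal.span (Set.range ybar) ⊔ (J.map (Ideal.Quotient.mk (Ideal.span {y₀}))) ^ 2 := by
        rw [Ideal.map_sup, Ideal.map_span, Ideal.map_pow, ← Set.range_comp, hcomp]
      have hy₀A : y₀ ∈ Ideal.span (Set.range (Fin.cons y₀ y' : Fin (r + 1) → S)) ⊔ J ^ 2 :=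
        Ideal.mem_sup_left (Ideal.subset_span ⟨0, Fin.cons_zero _ _⟩)
      have hy₀B : y₀ ∈ Ideal.span (Set.range x) ⊔ J ^ 2 := by
        rw [hy₀def]
        exact Ideal.add_mem _ (Ideal.mem_sup_left (Ideal.mul_mem_left _ _
          (Ideal.subset_span ⟨0, rfl⟩))) (Ideal.mem_sup_right hz)
      apply le_antisymm
      · refine sup_le ?_ le_sup_right
        rw [Ideal.span_le]
        rintro _ ⟨i, rfl⟩
        refine Fin.cases ?_ (fun k => ?_) i
        · rw [Fin.cons_zero]; exact hy₀B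
        · rw [Fin.cons_succ]
          have h1 : Ideal.Quotient.mk (Ideal.span {y₀}) (y' k) ∈
              (Ideal.span (Set.range fun i : Fin r => x i.succ) ⊔ J ^ 2).map
                (Ideal.Quotient.mk (Ideal.span {y₀})) := by
            rw [hmapx, ← hybarspan, hy' k]
            exact Ideal.mem_sup_left (Ideal.subset_span ⟨k, rfl⟩)
          have h2 := hmem _ _ h1
          have hle : Ideal.span (Set.range fun i : Fin r => x i.succ) ⊔ J ^ 2 ⊔ Ideal.span {y₀} ≤
              Ideal.span (Set.range x) ⊔ J ^ 2 := by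
            refine sup_le (sup_le ?_ le_sup_right) ?_
            · rw [Ideal.span_le]
              rintro _ ⟨j, rfl⟩
              exact Ideal.mem_sup_left (Ideal.subset_span ⟨j.succ, rfl⟩)
            · exact (Ideal.span_singleton_le_iff_mem _).2 hy₀B
          exact hle h2
      · refine sup_le ?_ le_sup_right
        rw [Ideal.span_le]
        rintro _ ⟨i, rfl⟩
        refine Fin.cases ?_ (fun k => ?_) i
        · have : x 0 = (↑u⁻¹ : S) * (y₀ - z) := by
            rw [hy₀def, add_sub_cancel_right, ← mul_assoc, Units.inv_mul, one_mul]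
          rw [SetLike.mem_coe, this]
          exact Ideal.mul_mem_left _ _ (Ideal.sub_mem _ hy₀A (Ideal.mem_sup_right hz))
        · have h1 : Ideal.Quotient.mk (Ideal.span {y₀}) (x k.succ) ∈
              (Ideal.span (Set.range y') ⊔ J ^ 2).map
                (Ideal.Quotient.mk (Ideal.span {y₀})) := by
            rw [hmapy, hybarspan]
            exact Ideal.mem_sup_left (Ideal.subset_span ⟨k, rfl⟩)
          have h2 := hmem _ _ h1
          have hle : Ideal.span (Set.range y') ⊔ J ^ 2 ⊔ Ideal.span {y₀} ≤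
              Ideal.span (Set.range (Fin.cons y₀ y' : Fin (r + 1) → S)) ⊔ J ^ 2 := by
            refine sup_le (sup_le ?_ le_sup_right) ?_
            · rw [Ideal.span_le]
              rintro _ ⟨j, rfl⟩
              exact Ideal.mem_sup_left (Ideal.subset_span ⟨j.succ, Fin.cons_succ _ _ _⟩)
            · exact (Ideal.span_singleton_le_iff_mem _).2 hy₀A
          exact hle h2

/-- comparing spans in the conormal module. -/
theorem span_toCotangent_le (I : Ideal S) {r : ℕ} (w w' : Fin r → S) (hw : ∀ i, w i ∈ I)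
    (hw' : ∀ i, w' i ∈ I)
    (h : Ideal.span (Set.range w) ≤ Ideal.span (Set.range w') ⊔ I ^ 2) :
    Submodule.span (S ⧸ I) (Set.range fun i => I.toCotangent ⟨w i, hw i⟩) ≤
      Submodule.span (S ⧸ I) (Set.range fun i => I.toCotangent ⟨w' i, hw' i⟩) := by
  rw [Submodule.span_le]
  rintro _ ⟨i, rfl⟩
  have h1 : w i ∈ Ideal.span (Set.range w') ⊔ I ^ 2 := h (Ideal.subset_span ⟨i, rfl⟩)
  obtain ⟨a, ha, z, hz, haz⟩ := Submodule.mem_sup.1 h1
  obtain ⟨c, hc⟩ := Ideal.mem_span_range_iff_exists_fun.1 ha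
  have hzI : z ∈ I := Ideal.pow_le_self two_ne_zero hz
  have h2 : (⟨w i, hw i⟩ : I) = ∑ j, c j • (⟨w' j, hw' j⟩ : I) + ⟨z, hzI⟩ := by
    apply Subtype.ext
    simp [← haz, ← hc]
  show I.toCotangent ⟨w i, hw i⟩ ∈ Submodule.span (S ⧸ I) _
  rw [h2, map_add, map_sum, (Ideal.toCotangent_eq_zero I ⟨z, hzI⟩).2 hz, add_zero]
  refine Submodule.sum_mem _ fun j _ => ?_
  rw [map_smul]
  have h3 : c j • I.toCotangent ⟨w' j, hw' j⟩ =
      Ideal.Quotient.mk I (c j) • I.toCotangent ⟨w' j, hw' j⟩ := rfl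
  rw [h3]
  exact Submodule.smul_mem _ _ (Submodule.subset_span ⟨j, rfl⟩)

end Groth.Agent.Lib.Seat99.VascSummand
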