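import Mathlib
import Groth.Agent.Lib.Seat99VascSummand
import Groth.Agent.Lib.Helper13Vasc4

/-!
# Quotients of a localized polynomial ring by a regular sequence (seat 99)

If `P = A[X₁, …, Xₙ]`, `I ⊆ P`, `f ∈ P` and `I P_f` is generated by a (weakly) regular sequence of
`P_f` and proper, then `(P/I)_f ≅ A[X₀, …, Xₙ]/(X₀ f - 1, p₁, …, p_d)` and the latter sequence is
regular in the polynomial ring in one more variable.
-/

set_option autoImplicit false
universe u

namespace Groth.Agent.Lib.Seat99.RegAway
open Polynomial

variable {P : Type u} [CommRing P]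

theorem isSMulRegular_C_mul_X_sub_one (f : P) : IsSMulRegular P[X] (C f * X - 1) := by
  intro F G hFG
  have h : (C f * X - 1) * (F - G) = 0 := by
    simp only [smul_eq_mul] at hFG
    rw [mul_sub, hFG, sub_self]
  suffices hH : F - G = 0 from sub_eq_zero.1 hH
  generalize F - G = H at h
  ext k
  rw [coeff_zero]
  induction k with
  | zero =>
    have := congrArg (fun q => coeff q 0) h
    simp only [sub_mul, one_mul, coeff_sub, mul_assoc, coeff_C_mul, coeff_X_mul_zero, mul_zero,
      zero_sub, coeff_zero, neg_eq_zero] at this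
    exact this
  | succ k ih =>
    have := congrArg (fun q => coeff q (k + 1)) h
    simp only [sub_mul, one_mul, coeff_sub, mul_assoc, coeff_C_mul, coeff_X_mul, ih, mul_zero,
      zero_sub, coeff_zero, neg_eq_zero] at this
    exact this

/-- the evaluation `P[X] → P_f`, `X ↦ 1/f`. -/
noncomputable def theta (f : P) : P[X] →ₐ[P] Localization.Away f :=
  ((Localization.awayEquivAdjoin f).symm : AdjoinRoot (C f * X - 1) →ₐ[P] Localization.Away f).comp
    (AdjoinRoot.mkₐ (C f * X - 1))

theorem theta_surjective (f : P) : Function.Surjective (theta f) := by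
  intro s
  obtain ⟨F, hF⟩ := AdjoinRoot.mk_surjective (Localization.awayEquivAdjoin f s)
  refine ⟨F, ?_⟩
  show (Localization.awayEquivAdjoin f).symm (AdjoinRoot.mk _ F) = s
  rw [hF, AlgEquiv.symm_apply_apply]

theorem ker_theta (f : P) : RingHom.ker (theta f).toRingHom = Ideal.span {C f * X - 1} := by
  ext F
  rw [RingHom.mem_ker]
  show (Localization.awayEquivAdjoin f).symm (AdjoinRoot.mk _ F) = 0 ↔ _
  rw [map_eq_zero_iff _ (Localization.awayEquivAdjoin f).symm.injective,
    AdjoinRoot.mk_eq_zero, Ideal.mem_span_singleton]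

theorem theta_C (f : P) (p : P) : theta f (C p) = algebraMap P (Localization.Away f) p := by
  have : (C p : P[X]) = algebraMap P P[X] p := rfl
  rw [this, AlgHom.commutes]

/-- weak regularity of `(fX - 1, p₁, …, p_d)` in `P[X]`. -/
theorem isWeaklyRegular_cons_C (f : P) (l₀ : List P)
    (h : RingTheory.Sequence.IsWeaklyRegular (Localization.Away f)
      (l₀.map (algebraMap P (Localization.Away f)))) :
    RingTheory.Sequence.IsWeaklyRegular P[X] ((C f * X - 1) :: l₀.map C) := by
  apply VascSummand.isWeaklyRegular_cons_of_quotient _ _ (isSMulRegular_C_mul_X_sub_one f)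
  let e : Localization.Away f ≃ₐ[P] AdjoinRoot (C f * X - 1) := Localization.awayEquivAdjoin f
  have h2 : RingTheory.Sequence.IsWeaklyRegular (AdjoinRoot (C f * X - 1))
      ((l₀.map C).map (AdjoinRoot.mk (C f * X - 1))) := by
    refine (AddEquiv.isWeaklyRegular_congr (e := e.toAddEquiv) ?_).1 h
    rw [List.forall₂_map_left_iff, List.forall₂_map_right_iff, List.forall₂_map_right_iff]
    refine List.forall₂_same.mpr fun p _ x => ?_
    show e (algebraMap P _ p • x) = AdjoinRoot.mk _ (C p) • e x
    rw [smul_eq_mul, smul_eq_mul, map_mul, AlgEquiv.commutes]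
    rfl
  exact h2

theorem ker_mk_comp_theta (f : P) (l₀ : List P) :
    RingHom.ker ((Ideal.Quotient.mk (Ideal.ofList (l₀.map (algebraMap P (Localization.Away f))))).comp
      (theta f).toRingHom) = Ideal.ofList ((C f * X - 1) :: l₀.map C) := by
  rw [← RingHom.comap_ker, Ideal.mk_ker]
  have h1 : Ideal.ofList (l₀.map (algebraMap P (Localization.Away f))) =
      (Ideal.ofList (l₀.map C)).map (theta f).toRingHom := by
    rw [Ideal.map_ofList, List.map_map]
    congr 1
    apply List.map_congr_left
    intro p _
    exact (theta_C f p).symm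
  rw [h1, Ideal.comap_map_of_surjective (theta f).toRingHom (theta_surjective f),
    ← RingHom.ker_eq_comap_bot,
    ker_theta, Ideal.ofList_cons, sup_comm]

/-- clearing denominators in a list of elements of `P_f`. -/
theorem exists_clear_denominators (f : P) (l : List (Localization.Away f)) :
    ∃ l₀ : List P, List.Forall₂ (fun (t t' : Localization.Away f) => ∃ u : (Localization.Away f)ˣ,
      t' = t * (u : Localization.Away f)) l (l₀.map (algebraMap P (Localization.Away f))) := by
  induction l with
  | nil => exact ⟨[], List.Forall₂.nil⟩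
  | cons s l ih =>
    obtain ⟨l₀, hl₀⟩ := ih
    obtain ⟨k, a, ha⟩ := IsLocalization.Away.surj f s
    obtain ⟨u, hu⟩ := IsLocalization.Away.algebraMap_pow_isUnit (S := Localization.Away f) f k
    refine ⟨a :: l₀, ?_⟩
    rw [List.map_cons]
    refine List.Forall₂.cons ⟨u, ?_⟩ hl₀
    rw [hu, ← ha]

open RingTheory.Sequence in
/-- ring-level form: if `I P_f` is generated by a weakly regular sequence and is proper, then
`(P/I)_f` is a quotient of `A[X₀, …, Xₙ]` by a regular sequence. -/
theorem exists_regular_presentation {A : Type u} [CommRing A] (n : ℕ)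
    (I : Ideal (MvPolynomial (Fin n) A)) (f : MvPolynomial (Fin n) A)
    (l : List (Localization.Away f)) (hl : IsWeaklyRegular (Localization.Away f) l)
    (hspan : I.map (algebraMap (MvPolynomial (Fin n) A) (Localization.Away f)) = Ideal.ofList l)
    (hne : I.map (algebraMap (MvPolynomial (Fin n) A) (Localization.Away f)) ≠ ⊤) :
    ∃ (d : ℕ) (Pf : Fin d → MvPolynomial (Fin (n + 1)) A),
      IsRegular (MvPolynomial (Fin (n + 1)) A) (List.ofFn Pf) ∧
      Nonempty (Localization.Away (Ideal.Quotient.mk I f) ≃ₐ[A]
        (MvPolynomial (Fin (n + 1)) A ⧸ Ideal.ofList (List.ofFn Pf))) := by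
  obtain ⟨l₀, hl₀⟩ := exists_clear_denominators f l
  have hreg₀ : IsWeaklyRegular (Localization.Away f)
      (l₀.map (algebraMap (MvPolynomial (Fin n) A) (Localization.Away f))) :=
    Groth.Agent.Helper13Vasc.isWeaklyRegular_of_forall₂_units hl₀ hl
  have hspan₀ : Ideal.ofList (l₀.map (algebraMap (MvPolynomial (Fin n) A) (Localization.Away f))) =
      I.map (algebraMap (MvPolynomial (Fin n) A) (Localization.Away f)) := by
    rw [hspan]
    exact Groth.Agent.Helper13Vasc.ofList_eq_of_forall₂_units hl₀
  -- the sequence in `P[X]`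
  set L : List (MvPolynomial (Fin n) A)[X] := (C f * X - 1) :: l₀.map C with hL
  have hLreg : IsWeaklyRegular (MvPolynomial (Fin n) A)[X] L := isWeaklyRegular_cons_C f l₀ hreg₀
  -- the quotient map `ψ : P[X] → P_f / I P_f`
  let ψ : (MvPolynomial (Fin n) A)[X] →ₐ[MvPolynomial (Fin n) A]
      (Localization.Away f ⧸ I.map (algebraMap (MvPolynomial (Fin n) A) (Localization.Away f))) :=
    (Ideal.Quotient.mkₐ (MvPolynomial (Fin n) A)
      (I.map (algebraMap (MvPolynomial (Fin n) A) (Localization.Away f)))).comp (theta f)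
  have hψsurj : Function.Surjective ψ :=
    (Ideal.Quotient.mkₐ_surjective (MvPolynomial (Fin n) A) _).comp (theta_surjective f)
  have hψker : RingHom.ker ψ = Ideal.ofList L := by
    have := ker_mk_comp_theta f l₀
    rw [hspan₀] at this
    rw [← this]
    rfl
  let e₁ : ((MvPolynomial (Fin n) A)[X] ⧸ Ideal.ofList L) ≃ₐ[MvPolynomial (Fin n) A]
      (Localization.Away f ⧸ I.map (algebraMap (MvPolynomial (Fin n) A) (Localization.Away f))) :=
    (Ideal.quotientEquivAlgOfEq _ hψker.symm).trans (Ideal.quotientKerAlgEquivOfSurjective hψsurj)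
  have hLtop : Ideal.ofList L ≠ ⊤ := by
    intro htop
    apply hne
    have h1 : Subsingleton ((MvPolynomial (Fin n) A)[X] ⧸ Ideal.ofList L) :=
      Ideal.Quotient.subsingleton_iff.2 htop
    have h2 : Subsingleton (Localization.Away f ⧸ I.map (algebraMap (MvPolynomial (Fin n) A) (Localization.Away f))) :=
      e₁.symm.toEquiv.subsingleton
    exact Ideal.Quotient.subsingleton_iff.1 h2
  have hLR : IsRegular (MvPolynomial (Fin n) A)[X] L := ⟨hLreg, by
    rw [smul_eq_mul, Ideal.mul_top]
    exact fun h => hLtop h.symm⟩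
  -- transport to `A[X₀, …, Xₙ]`
  let σ : MvPolynomial (Fin (n + 1)) A ≃ₐ[A] (MvPolynomial (Fin n) A)[X] :=
    MvPolynomial.finSuccEquiv A n
  have hL'R : IsRegular (MvPolynomial (Fin (n + 1)) A) (L.map σ.symm) := by
    refine (AddEquiv.isRegular_congr (e := σ.symm.toAddEquiv) ?_).1 hLR
    rw [List.forall₂_map_right_iff]
    exact List.forall₂_same.mpr fun r _ x => map_mul σ.symm r x
  have hmap : Ideal.ofList L = (Ideal.ofList (L.map σ.symm)).map (σ : _ →+* _) := by
    rw [Ideal.map_ofList, List.map_map]
    congr 1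
    symm
    conv_rhs => rw [← List.map_id L]
    apply List.map_congr_left
    intro p _
    exact σ.apply_symm_apply p
  let e₃ : (MvPolynomial (Fin (n + 1)) A ⧸ Ideal.ofList (L.map σ.symm)) ≃ₐ[A]
      ((MvPolynomial (Fin n) A)[X] ⧸ Ideal.ofList L) :=
    Ideal.quotientEquivAlg _ _ σ hmap
  refine ⟨(L.map σ.symm).length, (L.map σ.symm).get, ?_, ?_⟩
  · rw [List.ofFn_get]
    exact hL'R
  · rw [List.ofFn_get]
    have : IsLocalization (Submonoid.powers (Ideal.Quotient.mk I f))
        (Localization.Away f ⧸ I.map (algebraMap (MvPolynomial (Fin n) A) (Localization.Away f))) := by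
      have h3 : IsLocalization (Algebra.algebraMapSubmonoid (MvPolynomial (Fin n) A ⧸ I)
          (Submonoid.powers f))
          (Localization.Away f ⧸ I.map (algebraMap (MvPolynomial (Fin n) A) (Localization.Away f))) := inferInstance
      rwa [Algebra.algebraMapSubmonoid_powers] at h3
    have : IsScalarTower A (MvPolynomial (Fin n) A ⧸ I)
        (Localization.Away f ⧸ I.map (algebraMap (MvPolynomial (Fin n) A) (Localization.Away f))) :=
      IsScalarTower.of_algebraMap_eq (R := A) (S := MvPolynomial (Fin n) A ⧸ I)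
        (A := Localization.Away f ⧸
          I.map (algebraMap (MvPolynomial (Fin n) A) (Localization.Away f))) (fun a => by
          rw [IsScalarTower.algebraMap_apply A (MvPolynomial (Fin n) A) (MvPolynomial (Fin n) A ⧸ I),
            IsScalarTower.algebraMap_apply A (Localization.Away f)
              (Localization.Away f ⧸
                I.map (algebraMap (MvPolynomial (Fin n) A) (Localization.Away f))),
            IsScalarTower.algebraMap_apply A (MvPolynomial (Fin n) A) (Localization.Away f)]
          rfl)
    let e₂ : Localization.Away (Ideal.Quotient.mk I f) ≃ₐ[MvPolynomial (Fin n) A ⧸ I]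
        (Localization.Away f ⧸ I.map (algebraMap (MvPolynomial (Fin n) A) (Localization.Away f))) :=
      IsLocalization.algEquiv (Submonoid.powers (Ideal.Quotient.mk I f)) _ _
    exact ⟨(e₂.restrictScalars A).trans (((e₁.restrictScalars A).symm).trans e₃.symm)⟩

end Groth.Agent.Lib.Seat99.RegAway
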