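import Mathlib

/-!
# Seidenberg's theorem: derivations extend to the normalization in characteristic zero (seat 99)

For a `k`-algebra `A` (`k` a field of characteristic zero) and a `k`-derivation `D` of `A`:
* `expHom D : A →+* A⟦X⟧`, `a ↦ ∑ Dⁿ(a)/n! Xⁿ` (general Leibniz rule `iterate_map_mul`);
* for a ring hom `Φ : A →+* A⟦X⟧` with constant coefficient the identity, its extension `phiQ` to
  a total ring of fractions `Q`, and the induced "derivation" `delta = coeff 1 ∘ phiQ`;
* `isIntegral_delta`: for `A` Noetherian, `delta` preserves the integral closure of `A` in `Q`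
  (via almost integral elements).
* `exists_derivation_integralClosure`: the extension to the normalization.
-/

set_option linter.unusedSectionVars false
set_option linter.unusedVariables false
set_option linter.unusedSimpArgs false

open Finset PowerSeries

universe u

namespace Groth.Agent.Lib.Seat99.Seidenberg

section Exp

open Nat

variable {k : Type u} [Field k] [CharZero k] {A : Type u} [CommRing A] [Algebra k A]

/-- The general Leibniz rule. -/
theorem iterate_map_mul (D : Derivation k A A) (n : ℕ) (a b : A) :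
    D^[n] (a * b) = ∑ ij ∈ antidiagonal n, n.choose ij.1 • (D^[ij.1] a * D^[ij.2] b) := by
  induction n with
  | zero => simp
  | succ n ih =>
    rw [sum_antidiagonal_choose_succ_nsmul (M := A) (fun i j => D^[i] a * D^[j] b) n]
    simp only [Function.iterate_succ_apply', ih, map_sum, map_nsmul, Derivation.leibniz, smul_add,
      sum_add_distrib, smul_eq_mul]
    refine congrArg₂ (· + ·) ?_ ?_
    · refine sum_congr rfl fun ⟨i, j⟩ hij ↦ ?_
      rfl
    · refine sum_congr rfl fun ⟨i, j⟩ hij ↦ ?_
      rw [n.choose_symm_of_eq_add (mem_antidiagonal.1 hij).symm, mul_comm]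

theorem iterate_zero (D : Derivation k A A) (n : ℕ) : D^[n] 0 = 0 := by
  induction n with
  | zero => rfl
  | succ n ih => rw [Function.iterate_succ_apply', ih, map_zero]

theorem iterate_add (D : Derivation k A A) (n : ℕ) (a b : A) : D^[n] (a + b) = D^[n] a + D^[n] b := by
  induction n with
  | zero => rfl
  | succ n ih => rw [Function.iterate_succ_apply', ih, map_add, ← Function.iterate_succ_apply' D,
      ← Function.iterate_succ_apply' D]

theorem iterate_one (D : Derivation k A A) (n : ℕ) (hn : n ≠ 0) : D^[n] 1 = 0 := by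
  obtain ⟨m, rfl⟩ := Nat.exists_eq_succ_of_ne_zero hn
  rw [Function.iterate_succ_apply, Derivation.map_one_eq_zero, iterate_zero]

/-- The exponential `a ↦ ∑ Dⁿ(a)/n! tⁿ`. -/
noncomputable def expHom (D : Derivation k A A) : A →+* PowerSeries A where
  toFun a := PowerSeries.mk fun n => ((n.factorial : k)⁻¹) • D^[n] a
  map_one' := by
    ext n
    rw [coeff_mk, coeff_one]
    split_ifs with h
    · subst h; simp
    · rw [iterate_one D n h, smul_zero]
  map_mul' a b := by
    ext n
    rw [coeff_mk, coeff_mul, iterate_map_mul, smul_sum]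
    refine sum_congr rfl fun ⟨i, j⟩ hij ↦ ?_
    rw [coeff_mk, coeff_mk, smul_mul_smul_comm]
    have hn : n = i + j := (mem_antidiagonal.1 hij).symm
    subst hn
    simp only
    rw [← Nat.cast_smul_eq_nsmul k, smul_smul]
    congr 1
    have h1 : ((i + j).choose i : k) * (i.factorial : k) * (j.factorial : k) = ((i + j).factorial : k) := by
      rw [Nat.choose_symm_add]
      exact_mod_cast Nat.add_choose_mul_factorial_mul_factorial i j
    have hi : (i.factorial : k) ≠ 0 := Nat.cast_ne_zero.2 (Nat.factorial_ne_zero i)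
    have hj : (j.factorial : k) ≠ 0 := Nat.cast_ne_zero.2 (Nat.factorial_ne_zero j)
    have hij' : ((i + j).factorial : k) ≠ 0 := Nat.cast_ne_zero.2 (Nat.factorial_ne_zero _)
    field_simp
    exact h1
  map_zero' := by
    ext n
    rw [coeff_mk, iterate_zero, smul_zero, map_zero]
  map_add' a b := by
    ext n
    rw [map_add, coeff_mk, coeff_mk, coeff_mk, iterate_add, smul_add]

theorem coeff_expHom (D : Derivation k A A) (a : A) (n : ℕ) :
    coeff n (expHom D a) = ((n.factorial : k)⁻¹) • D^[n] a := by
  simp only [expHom, RingHom.coe_mk, MonoidHom.coe_mk, OneHom.coe_mk, coeff_mk]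

theorem coeff_zero_expHom (D : Derivation k A A) (a : A) : coeff 0 (expHom D a) = a := by
  simp [coeff_expHom]

theorem coeff_one_expHom (D : Derivation k A A) (a : A) : coeff 1 (expHom D a) = D a := by
  simp [coeff_expHom]

end Exp

section Ext

variable {A : Type u} [CommRing A] {Q : Type u} [CommRing Q] [Algebra A Q]
  [IsLocalization (nonZeroDivisors A) Q]
  (Φ : A →+* PowerSeries A) (hΦ : ∀ a, constantCoeff (Φ a) = a)

include hΦ in
theorem isUnit_map_phi (s : nonZeroDivisors A) :
    IsUnit (((PowerSeries.map (algebraMap A Q)).comp Φ) s) := by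
  rw [PowerSeries.isUnit_iff_constantCoeff]
  simp only [RingHom.comp_apply]
  rw [← PowerSeries.coeff_zero_eq_constantCoeff_apply, PowerSeries.coeff_map,
    PowerSeries.coeff_zero_eq_constantCoeff_apply, hΦ]
  exact IsLocalization.map_units Q s

/-- extension of `Φ` to the total ring of fractions. -/
noncomputable def phiQ : Q →+* PowerSeries Q :=
  IsLocalization.lift (M := nonZeroDivisors A) (g := (PowerSeries.map (algebraMap A Q)).comp Φ)
    (isUnit_map_phi Φ hΦ)

theorem phiQ_algebraMap (a : A) :
    phiQ Φ hΦ (algebraMap A Q a) = PowerSeries.map (algebraMap A Q) (Φ a) := by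
  simp [phiQ, IsLocalization.lift_eq]

theorem constantCoeff_phiQ (x : Q) : constantCoeff (phiQ Φ hΦ x) = x := by
  have : (constantCoeff (R := Q)).comp (phiQ Φ hΦ) = RingHom.id Q := by
    apply IsLocalization.ringHom_ext (nonZeroDivisors A)
    ext a
    simp only [RingHom.comp_apply, phiQ_algebraMap, RingHom.id_apply]
    rw [← PowerSeries.coeff_zero_eq_constantCoeff_apply, PowerSeries.coeff_map,
      PowerSeries.coeff_zero_eq_constantCoeff_apply, hΦ]
  exact congrArg (fun f => f x) this

/-- the induced derivation, as a function. -/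
noncomputable def delta (x : Q) : Q := coeff 1 (phiQ Φ hΦ x)

theorem delta_add (x y : Q) : delta Φ hΦ (x + y) = delta Φ hΦ x + delta Φ hΦ y := by
  simp [delta]

theorem delta_mul (x y : Q) : delta Φ hΦ (x * y) = x * delta Φ hΦ y + y * delta Φ hΦ x := by
  simp only [delta, map_mul]
  rw [show (1 : ℕ) = 0 + 1 from rfl, PowerSeries.coeff_mul, Finset.Nat.sum_antidiagonal_succ,
    Finset.Nat.antidiagonal_zero, Finset.sum_singleton]
  simp only [PowerSeries.coeff_zero_eq_constantCoeff_apply, constantCoeff_phiQ, zero_add]
  ring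

theorem delta_algebraMap (a : A) :
    delta Φ hΦ (algebraMap A Q a) = algebraMap A Q (coeff 1 (Φ a)) := by
  simp [delta, phiQ_algebraMap]

end Ext


section AlmostIntegral

variable {A : Type u} [CommRing A] {Q : Type u} [CommRing Q] [Algebra A Q]
  [IsLocalization (nonZeroDivisors A) Q]

/-- an integral element of the total ring of fractions is almost integral. -/
theorem exists_mul_pow_mem_of_isIntegral {x : Q} (hx : IsIntegral A x) :
    ∃ c : nonZeroDivisors A, ∀ n : ℕ, ∃ a : A, algebraMap A Q c * x ^ n = algebraMap A Q a := by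
  classical
  obtain ⟨G, hG⟩ := hx.fg_adjoin_singleton
  obtain ⟨c, hc⟩ := IsLocalization.exist_integer_multiples_of_finset (nonZeroDivisors A) G
  refine ⟨c, fun n => ?_⟩
  have hmem : x ^ n ∈ Submodule.span A (G : Set Q) := by
    rw [hG]
    exact (Algebra.adjoin A {x}).pow_mem (Algebra.subset_adjoin (Set.mem_singleton x)) n
  have key : ∀ z ∈ Submodule.span A (G : Set Q), ∃ a : A, algebraMap A Q c * z = algebraMap A Q a := by
    intro z hz
    induction hz using Submodule.span_induction with
    | mem z hz =>
      obtain ⟨a, ha⟩ := hc z hz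
      exact ⟨a, by rw [ha, Algebra.smul_def]⟩
    | zero => exact ⟨0, by simp⟩
    | add z w _ _ hz hw =>
      obtain ⟨a, ha⟩ := hz
      obtain ⟨b, hb⟩ := hw
      exact ⟨a + b, by rw [mul_add, ha, hb, map_add]⟩
    | smul r z _ hz =>
      obtain ⟨a, ha⟩ := hz
      exact ⟨r * a, by rw [Algebra.smul_def, mul_left_comm, ha, map_mul]⟩
  exact key _ hmem

/-- over a Noetherian ring, an almost integral element of the total ring of fractions is
integral. -/
theorem isIntegral_of_forall_mul_pow_mem [IsNoetherianRing A] (c : nonZeroDivisors A) (y : Q)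
    (h : ∀ n : ℕ, ∃ a : A, algebraMap A Q c * y ^ n = algebraMap A Q a) : IsIntegral A y := by
  obtain ⟨u, hu⟩ := IsLocalization.map_units Q c
  -- the module `c⁻¹ A`
  let f : A →ₗ[A] Q := (LinearMap.mulLeft A ((u⁻¹ : Qˣ) : Q)).comp (Algebra.linearMap A Q)
  have hN : IsNoetherian A (LinearMap.range f) := isNoetherian_range f
  have hle : Subalgebra.toSubmodule (Algebra.adjoin A {y}) ≤ LinearMap.range f := by
    rw [Algebra.adjoin_eq_span, Submodule.span_le]
    intro z hz
    rw [SetLike.mem_coe, Submonoid.mem_closure_singleton] at hz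
    obtain ⟨n, rfl⟩ := hz
    obtain ⟨a, ha⟩ := h n
    refine ⟨a, ?_⟩
    simp only [f, LinearMap.comp_apply, Algebra.linearMap_apply, LinearMap.mulLeft_apply]
    rw [← ha, ← hu, ← mul_assoc, Units.inv_mul, one_mul]
  exact IsIntegral.of_mem_of_fg _ (isNoetherian_submodule.1 hN _ hle) y
    (Algebra.subset_adjoin (Set.mem_singleton y))

end AlmostIntegral


section Main

variable {A : Type u} [CommRing A] {Q : Type u} [CommRing Q] [Algebra A Q]
  [IsLocalization (nonZeroDivisors A) Q]
  (Φ : A →+* PowerSeries A) (hΦ : ∀ a, constantCoeff (Φ a) = a)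

theorem isIntegral_delta [IsNoetherianRing A] {x : Q} (hx : IsIntegral A x) :
    IsIntegral A (delta Φ hΦ x) := by
  obtain ⟨c, hc⟩ := exists_mul_pow_mem_of_isIntegral hx
  apply isIntegral_of_forall_mul_pow_mem (c * c) (delta Φ hΦ x)
  intro n
  let R : Subring (PowerSeries Q) := (PowerSeries.map (algebraMap A Q)).range
  let F : PowerSeries Q := phiQ Φ hΦ x
  have h1 : ∀ j : ℕ, phiQ Φ hΦ (algebraMap A Q c) * F ^ j ∈ R := by
    intro j
    obtain ⟨a, ha⟩ := hc j
    refine ⟨Φ a, ?_⟩
    rw [← phiQ_algebraMap Φ hΦ a, ← ha, map_mul, map_pow]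
  have h2 : ∀ j : ℕ, C (algebraMap A Q c) * (C x : PowerSeries Q) ^ j ∈ R := by
    intro j
    obtain ⟨a, ha⟩ := hc j
    refine ⟨C a, ?_⟩
    rw [PowerSeries.map_C, ← ha, map_mul, map_pow]
  have h3 : phiQ Φ hΦ (algebraMap A Q c) * C (algebraMap A Q c) * (F - C x) ^ n ∈ R := by
    rw [sub_pow, Finset.mul_sum]
    refine Subring.sum_mem _ fun m _ => ?_
    have e : phiQ Φ hΦ (algebraMap A Q c) * C (algebraMap A Q c) *
        ((-1) ^ (m + n) * F ^ m * (C x : PowerSeries Q) ^ (n - m) * (n.choose m : PowerSeries Q)) =
        (-1) ^ (m + n) * (n.choose m : PowerSeries Q) *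
          (phiQ Φ hΦ (algebraMap A Q c) * F ^ m) *
          (C (algebraMap A Q c) * (C x : PowerSeries Q) ^ (n - m)) := by ring
    rw [e]
    exact R.mul_mem (R.mul_mem (R.mul_mem (R.pow_mem (R.neg_mem R.one_mem) _)
      (natCast_mem R _)) (h1 m)) (h2 _)
  have hG : F - C x = X * PowerSeries.mk fun p => coeff (p + 1) F := by
    have := eq_X_mul_shift_add_const F
    rw [constantCoeff_phiQ] at this
    exact sub_eq_of_eq_add this
  obtain ⟨P, hP⟩ := h3
  refine ⟨coeff n P, ?_⟩
  have h4 := congrArg (coeff n) hP
  rw [PowerSeries.coeff_map] at h4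
  have e2 : phiQ Φ hΦ (algebraMap A Q c) * C (algebraMap A Q c) *
      (X * PowerSeries.mk fun p => coeff (p + 1) F) ^ n =
      X ^ n * (phiQ Φ hΦ (algebraMap A Q c) * (C (algebraMap A Q c) *
        (PowerSeries.mk fun p => coeff (p + 1) F) ^ n)) := by ring
  have h5 := coeff_X_pow_mul (phiQ Φ hΦ (algebraMap A Q c) * (C (algebraMap A Q c) *
    (PowerSeries.mk fun p => coeff (p + 1) F) ^ n)) n 0
  rw [zero_add] at h5
  rw [h4, hG, e2, h5]
  simp only [PowerSeries.coeff_zero_eq_constantCoeff_apply, map_mul, map_pow, constantCoeff_phiQ,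
    constantCoeff_C]
  rw [← PowerSeries.coeff_zero_eq_constantCoeff_apply, coeff_mk]
  simp only [zero_add, Submonoid.coe_mul, map_mul]
  rw [mul_assoc]
  rfl

end Main

section Final

variable {k : Type u} [Field k] [CharZero k] {A : Type u} [CommRing A] [Algebra k A]

theorem constantCoeff_expHom (D : Derivation k A A) (a : A) :
    constantCoeff (expHom D a) = a := by
  rw [← PowerSeries.coeff_zero_eq_constantCoeff_apply, coeff_zero_expHom]

/-- **Seidenberg**: a derivation of a Noetherian `ℚ`-algebra extends to its normalization (the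
integral closure in the total ring of fractions). -/
theorem exists_derivation_integralClosure [IsNoetherianRing A] (D : Derivation k A A) :
    ∃ D' : Derivation k ↥(integralClosure A (FractionRing A))
        ↥(integralClosure A (FractionRing A)),
      ∀ a : A, (D' (algebraMap A ↥(integralClosure A (FractionRing A)) a) : FractionRing A) =
        algebraMap A (FractionRing A) (D a) := by
  let Φ := expHom D
  have hΦ : ∀ a, constantCoeff (Φ a) = a := constantCoeff_expHom D
  have hδA : ∀ a : A, delta (Q := FractionRing A) Φ hΦ (algebraMap A (FractionRing A) a) =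
      algebraMap A (FractionRing A) (D a) := by
    intro a
    rw [delta_algebraMap, coeff_one_expHom]
  have hsmul : ∀ (r : k) (x : FractionRing A),
      delta Φ hΦ (r • x) = r • delta Φ hΦ x := by
    intro r x
    rw [Algebra.smul_def, Algebra.smul_def, delta_mul,
      IsScalarTower.algebraMap_apply k A (FractionRing A), hδA, Derivation.map_algebraMap,
      map_zero, mul_zero, add_zero]
  let lin : ↥(integralClosure A (FractionRing A)) →ₗ[k] ↥(integralClosure A (FractionRing A)) :=
    { toFun := fun x => ⟨delta Φ hΦ (x : FractionRing A), isIntegral_delta Φ hΦ x.2⟩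
      map_add' := fun x y => Subtype.ext (delta_add Φ hΦ _ _)
      map_smul' := fun r x => Subtype.ext (hsmul r _) }
  refine ⟨Derivation.mk' lin ?_, fun a => ?_⟩
  · intro x y
    apply Subtype.ext
    show delta Φ hΦ ((x : FractionRing A) * (y : FractionRing A)) = _
    rw [delta_mul]
    rfl
  · show delta Φ hΦ (algebraMap A (FractionRing A) a) = _
    exact hδA a

end Final

end Groth.Agent.Lib.Seat99.Seidenberg
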