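import Mathlib
import Groth.Prelude.Def_CycDet
import Groth.Agent.Lib.Seat9RelLen

/-!
# Determinants of finite length modules: basic lemmas on admissible tuples (seat 9)

`spanBefore` API, and the length count along an admissible tuple.
-/

set_option autoImplicit false
universe u v

namespace Groth.Agent.Lib.Seat9.DetBasic

open CycDet IsLocalRing Groth.Agent.Lib.Seat9.RelLen

variable {R : Type u} [CommRing R] [IsLocalRing R] {M : Type v} [AddCommGroup M] [Module R M]

theorem spanBefore_mono {l : ℕ} (e : Fin l → M) {i j : ℕ} (h : i ≤ j) :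
    spanBefore R M e i ≤ spanBefore R M e j :=
  Submodule.span_mono (Set.image_mono fun _ hk => lt_of_lt_of_le hk h)

theorem mem_spanBefore {l : ℕ} (e : Fin l → M) {k : Fin l} {j : ℕ} (h : (k : ℕ) < j) :
    e k ∈ spanBefore R M e j :=
  Submodule.subset_span ⟨k, h, rfl⟩

theorem spanBefore_zero {l : ℕ} (e : Fin l → M) : spanBefore R M e 0 = ⊥ := by
  simp [spanBefore]

theorem spanBefore_succ {l : ℕ} (e : Fin l → M) (i : Fin l) :
    spanBefore R M e ((i : ℕ) + 1) = spanBefore R M e i ⊔ Submodule.span R {e i} := by
  unfold spanBefore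
  rw [← Submodule.span_union]
  congr 1
  ext x
  simp only [Set.mem_image, Set.mem_ofPred_eq, Set.union_singleton, Set.mem_insert_iff]
  constructor
  · rintro ⟨k, hk, rfl⟩
    rcases Nat.lt_succ_iff_lt_or_eq.mp hk with h | h
    · exact Or.inr ⟨k, h, rfl⟩
    · left
      rw [Fin.ext h]
  · rintro (rfl | ⟨k, hk, rfl⟩)
    · exact ⟨i, Nat.lt_succ_self _, rfl⟩
    · exact ⟨k, Nat.lt_succ_of_lt hk, rfl⟩

theorem spanBefore_of_le {l : ℕ} (e : Fin l → M) {j : ℕ} (h : l ≤ j) :
    spanBefore R M e j = Submodule.span R (Set.range e) := by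
  unfold spanBefore
  congr 1
  ext x
  simp only [Set.mem_image, Set.mem_ofPred_eq, Set.mem_range]
  constructor
  · rintro ⟨k, -, rfl⟩
    exact ⟨k, rfl⟩
  · rintro ⟨k, rfl⟩
    exact ⟨k, lt_of_lt_of_le k.2 h, rfl⟩

theorem spanBefore_congr {l : ℕ} {e e' : Fin l → M} {j : ℕ}
    (h : ∀ k : Fin l, (k : ℕ) < j → e k = e' k) : spanBefore R M e j = spanBefore R M e' j := by
  unfold spanBefore
  congr 1
  ext x
  simp only [Set.mem_image, Set.mem_ofPred_eq]
  constructor
  · rintro ⟨k, hk, rfl⟩
    exact ⟨k, hk, (h k hk).symm⟩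
  · rintro ⟨k, hk, rfl⟩
    exact ⟨k, hk, h k hk⟩

/-- the length of the `j`-th step of the filtration attached to a tuple. -/
noncomputable def len {l : ℕ} (e : Fin l → M) (j : ℕ) : ℕ∞ :=
  Module.length R ↥(spanBefore R M e j)

theorem rl_bot (Q : Submodule R M) : rl ⊥ Q = Module.length R ↥Q := by
  unfold rl
  have h : (⊥ : Submodule R M).submoduleOf Q = ⊥ := by
    ext x
    simp only [Submodule.submoduleOf, Submodule.mem_comap, Submodule.subtype_apply,
      Submodule.mem_bot]
    exact ⟨fun h => Subtype.ext h, fun h => by rw [h]; rfl⟩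
  rw [h]
  exact (Submodule.quotEquivOfEqBot _ rfl).length_eq

theorem length_quot_maximalIdeal : Module.length R (R ⧸ maximalIdeal R) = 1 := by
  rw [Module.length_eq_one_iff, isSimpleModule_iff_isCoatom, ← Ideal.isMaximal_def]
  infer_instance

/-- one step of the filtration of an admissible tuple has length at most one. -/
theorem rl_step {l : ℕ} (e : Fin l → M) (he : IsAdmissible R M e) (i : Fin l)
    (hi : e i ∉ spanBefore R M e i) :
    rl (spanBefore R M e i) (spanBefore R M e ((i : ℕ) + 1)) = 1 := by
  rw [spanBefore_succ, rl_sup]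
  unfold rl
  rw [← length_quot_maximalIdeal (R := R)]
  symm
  let g : R →ₗ[R] ↥(Submodule.span R {e i}) :=
    LinearMap.toSpanSingleton R _ ⟨e i, Submodule.mem_span_singleton_self _⟩
  refine length_quot_eq_of_comap g _ _ ?_ ?_
  · -- the ideal of `r` with `r • e i ∈ spanBefore` is the maximal ideal
    have hle : maximalIdeal R ≤ ((spanBefore R M e i).submoduleOf (Submodule.span R {e i})).comap g := by
      intro r hr
      have h3 : ((g r : ↥(Submodule.span R {e i})) : M) ∈ spanBefore R M e i := by
        simpa [g] using he i r hr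
      exact h3
    refine ((IsLocalRing.maximalIdeal.isMaximal R).eq_of_le ?_ hle)
    intro htop
    apply hi
    have h1 : (1 : R) ∈ ((spanBefore R M e i).submoduleOf (Submodule.span R {e i})).comap g := by
      rw [htop]; trivial
    have h2 : ((g 1 : ↥(Submodule.span R {e i})) : M) ∈ spanBefore R M e i := h1
    simpa [g] using h2
  · rw [eq_top_iff]
    rintro ⟨x, hx⟩ -
    obtain ⟨r, rfl⟩ := Submodule.mem_span_singleton.mp hx
    refine Submodule.mem_sup_right ⟨r, ?_⟩
    ext
    simp [g]

theorem len_succ_of_notMem {l : ℕ} (e : Fin l → M) (he : IsAdmissible R M e) (i : Fin l)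
    (hi : e i ∉ spanBefore R M e i) : len (R := R) e ((i : ℕ) + 1) = len (R := R) e i + 1 := by
  unfold len
  rw [← rl_bot, ← rl_bot, rl_add ⊥ (spanBefore R M e i) _ bot_le (spanBefore_mono e (Nat.le_succ _)),
    rl_step e he i hi]

theorem spanBefore_succ_of_mem {l : ℕ} (e : Fin l → M) (i : Fin l)
    (hi : e i ∈ spanBefore R M e i) :
    spanBefore R M e ((i : ℕ) + 1) = spanBefore R M e i := by
  rw [spanBefore_succ, sup_eq_left, Submodule.span_singleton_le_iff_mem]
  exact hi

theorem len_succ_le {l : ℕ} (e : Fin l → M) (he : IsAdmissible R M e) (i : Fin l) :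
    len (R := R) e ((i : ℕ) + 1) ≤ len (R := R) e i + 1 := by
  by_cases hi : e i ∈ spanBefore R M e i
  · unfold len
    rw [spanBefore_succ_of_mem e i hi]
    exact le_self_add
  · rw [len_succ_of_notMem e he i hi]

theorem len_le {l : ℕ} (e : Fin l → M) (he : IsAdmissible R M e) :
    ∀ j : ℕ, j ≤ l → len (R := R) e j ≤ j
  | 0, _ => by
    unfold len
    rw [spanBefore_zero]
    simp
  | j + 1, hj => by
    have := len_succ_le e he ⟨j, hj⟩
    refine this.trans ?_
    push_cast
    exact add_le_add_left (len_le e he j (by omega)) 1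

/-- if some entry lies in the span of the earlier ones, the total length is smaller than `l`. -/
theorem len_lt_of_mem {l : ℕ} (e : Fin l → M) (he : IsAdmissible R M e) (a : Fin l)
    (ha : e a ∈ spanBefore R M e a) :
    ∀ j : ℕ, (a : ℕ) < j → j ≤ l → len (R := R) e j + 1 ≤ j
  | 0, h, _ => by omega
  | j + 1, h, hj => by
    rcases Nat.lt_succ_iff_lt_or_eq.mp h with h' | h'
    · have ih := len_lt_of_mem e he a ha j h' (by omega)
      have := len_succ_le e he ⟨j, hj⟩
      push_cast
      calc len (R := R) e (j + 1) + 1 ≤ (len (R := R) e j + 1) + 1 := add_le_add_left this 1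
        _ ≤ (j : ℕ∞) + 1 := add_le_add_left ih 1
    · have hja : (⟨j, hj⟩ : Fin l) = a := Fin.ext h'.symm
      have h1 : len (R := R) e (j + 1) = len (R := R) e j := by
        unfold len
        have := spanBefore_succ_of_mem e a ha
        rw [← hja] at this
        rw [this]
      rw [h1]
      push_cast
      exact add_le_add_left (len_le e he j (by omega)) 1

/-- if no entry lies in the span of the earlier ones, the `j`-th step has length `j`. -/
theorem len_eq_of_forall_notMem {l : ℕ} (e : Fin l → M) (he : IsAdmissible R M e)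
    (h : ∀ a : Fin l, e a ∉ spanBefore R M e a) :
    ∀ j : ℕ, j ≤ l → len (R := R) e j = j
  | 0, _ => by
    unfold len
    rw [spanBefore_zero]
    simp
  | j + 1, hj => by
    rw [len_succ_of_notMem e he ⟨j, hj⟩ (h _), len_eq_of_forall_notMem e he h j (by omega)]
    push_cast
    rfl

variable (R M) in
/-- a tuple generates the module. -/
def Generates {l : ℕ} (e : Fin l → M) : Prop := Submodule.span R (Set.range e) = ⊤

theorem len_top_of_generates {l : ℕ} (e : Fin l → M) (hg : Generates R M e) :
    len (R := R) e l = Module.length R M := by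
  unfold len
  rw [spanBefore_of_le e le_rfl, hg]
  exact Module.length_top

/-- A generating admissible tuple of the right length has no redundant entry. -/
theorem notMem_of_generates {l : ℕ} (e : Fin l → M) (he : IsAdmissible R M e)
    (hl : Module.length R M = l) (hg : Generates R M e) (a : Fin l) :
    e a ∉ spanBefore R M e a := by
  intro ha
  have h1 := len_lt_of_mem e he a ha l a.2 le_rfl
  rw [len_top_of_generates e hg, hl] at h1
  have : ((l + 1 : ℕ) : ℕ∞) ≤ (l : ℕ∞) := by exact_mod_cast h1
  have := Nat.cast_le.mp this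
  omega

/-- An admissible tuple of the right length without redundant entry generates. -/
theorem generates_of_forall_notMem {l : ℕ} (e : Fin l → M) (he : IsAdmissible R M e)
    (hl : Module.length R M = l) (h : ∀ a : Fin l, e a ∉ spanBefore R M e a) :
    Generates R M e := by
  have hfin : IsFiniteLength R M := by
    rw [← Module.length_ne_top_iff, hl]
    exact ENat.natCast_ne_top l
  rw [isFiniteLength_iff_isNoetherian_isArtinian] at hfin
  obtain ⟨_, _⟩ := hfin
  by_contra hne
  have hlt := Submodule.length_lt (R := R) (N := Submodule.span R (Set.range e)) hne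
  have h1 := len_eq_of_forall_notMem e he h l le_rfl
  unfold len at h1
  rw [spanBefore_of_le e le_rfl] at h1
  rw [h1, hl] at hlt
  exact lt_irrefl _ hlt

/-- A non generating admissible tuple of the right length has a redundant entry. -/
theorem exists_mem_of_not_generates {l : ℕ} (e : Fin l → M) (he : IsAdmissible R M e)
    (hl : Module.length R M = l) (hg : ¬ Generates R M e) :
    ∃ a : Fin l, e a ∈ spanBefore R M e a := by
  by_contra h
  push Not at h
  exact hg (generates_of_forall_notMem e he hl h)

end Groth.Agent.Lib.Seat9.DetBasic
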