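import Mathlib
import Groth.Prelude.Def_CycDet
import Groth.Agent.Lib.Seat9DetBasic

/-!
# Determinants of finite length modules: elementary moves on symbols (seat 9)

The class `symb e` of an admissible tuple in `DetOfLen`, the three relations, replacing an entry,
swapping adjacent entries, and the exchange argument showing that all symbols of generating
admissible tuples are proportional.
-/

set_option autoImplicit false
set_option linter.unusedSectionVars false
universe u v

namespace Groth.Agent.Lib.Seat9.DetMoves

open CycDet IsLocalRing Groth.Agent.Lib.Seat9.DetBasic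

variable {R : Type u} [CommRing R] [IsLocalRing R] {M : Type v} [AddCommGroup M] [Module R M]

/-- the class of an admissible tuple of any length. -/
noncomputable def symb {l : ℕ} (e : Adm R M l) : DetOfLen R M l :=
  Submodule.Quotient.mk (sym R M e)

theorem symb_relA {l : ℕ} (e : Adm R M l) (a : Fin l) (h : e.1 a ∈ spanBefore R M e.1 a) :
    symb e = 0 := by
  unfold symb
  rw [Submodule.Quotient.mk_eq_zero]
  exact Submodule.subset_span (Or.inl (Or.inl ⟨e, a, h, rfl⟩))

theorem symb_relB {l : ℕ} (e e' : Adm R M l) (a : Fin l) (c : Rˣ)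
    (h1 : ∀ j, j ≠ a → e.1 j = e'.1 j)
    (h2 : e.1 a - (c : R) • e'.1 a ∈ spanBefore R M e.1 a) :
    symb e = IsLocalRing.residue R (c : R) • symb e' := by
  unfold symb
  rw [← Submodule.Quotient.mk_smul, ← sub_eq_zero, ← Submodule.Quotient.mk_sub,
    Submodule.Quotient.mk_eq_zero]
  exact Submodule.subset_span (Or.inl (Or.inr ⟨e, e', a, c, h1, h2, rfl⟩))

theorem symb_relC {l : ℕ} (e e' : Adm R M l) (a b : Fin l) (hab : (b : ℕ) + 1 = (a : ℕ))
    (h : ∀ r ∈ maximalIdeal R, r • e.1 a ∈ spanBefore R M e.1 b)
    (he' : e'.1 = e.1 ∘ Equiv.swap a b) : symb e = - symb e' := by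
  unfold symb
  rw [eq_neg_iff_add_eq_zero, ← Submodule.Quotient.mk_add, Submodule.Quotient.mk_eq_zero]
  exact Submodule.subset_span (Or.inr ⟨e, e', a, b, hab, h, he', rfl⟩)

theorem symb_of_not_generates {l : ℕ} (hl : Module.length R M = l) (e : Adm R M l)
    (hg : ¬ Generates R M e.1) : symb e = 0 := by
  obtain ⟨a, ha⟩ := exists_mem_of_not_generates e.1 e.2 hl hg
  exact symb_relA e a ha

section Update

variable {l : ℕ} (e : Fin l → M) (i : Fin l) (h : M) (c : Rˣ)

theorem spanBefore_update (hc : e i - (c : R) • h ∈ spanBefore R M e i) :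
    ∀ k : ℕ, spanBefore R M (Function.update e i h) k = spanBefore R M e k := by
  have key : ∀ k : ℕ, k ≤ l → spanBefore R M (Function.update e i h) k = spanBefore R M e k := by
    intro k
    induction k with
    | zero => intro _; rw [spanBefore_zero, spanBefore_zero]
    | succ k ih =>
      intro hk
      have hk' : k < l := hk
      have h1 := spanBefore_succ (R := R) (Function.update e i h) ⟨k, hk'⟩
      have h2 := spanBefore_succ (R := R) e ⟨k, hk'⟩
      simp only at h1 h2
      rw [h1, h2, ih (by omega)]
      by_cases hki : (⟨k, hk'⟩ : Fin l) = i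
      · subst hki
        rw [Function.update_self]
        apply le_antisymm
        · refine sup_le le_sup_left ?_
          rw [Submodule.span_singleton_le_iff_mem]
          have : h = (↑(c⁻¹) : R) • (e ⟨k, hk'⟩) - (↑(c⁻¹) : R) • (e ⟨k, hk'⟩ - (c : R) • h) := by
            rw [smul_sub, smul_smul, Units.inv_mul, one_smul]
            abel
          rw [this]
          refine Submodule.sub_mem _ (Submodule.mem_sup_right
            (Submodule.smul_mem _ _ (Submodule.mem_span_singleton_self _)))
            (Submodule.mem_sup_left (Submodule.smul_mem _ _ hc))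
        · refine sup_le le_sup_left ?_
          rw [Submodule.span_singleton_le_iff_mem]
          have : e ⟨k, hk'⟩ = (e ⟨k, hk'⟩ - (c : R) • h) + (c : R) • h := by abel
          rw [this]
          exact Submodule.add_mem _ (Submodule.mem_sup_left hc) (Submodule.mem_sup_right
            (Submodule.smul_mem _ _ (Submodule.mem_span_singleton_self _)))
      · rw [Function.update_of_ne hki]
  intro k
  by_cases hk : k ≤ l
  · exact key k hk
  · rw [spanBefore_of_le _ (by omega : l ≤ k), ← spanBefore_of_le _ le_rfl, key l le_rfl,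
      spanBefore_of_le _ le_rfl, ← spanBefore_of_le e (by omega : l ≤ k)]

theorem isAdmissible_update (he : IsAdmissible R M e)
    (hc : e i - (c : R) • h ∈ spanBefore R M e i)
    (hh : ∀ r ∈ maximalIdeal R, r • h ∈ spanBefore R M e i) :
    IsAdmissible R M (Function.update e i h) := by
  intro k r hr
  rw [spanBefore_update e i h c hc]
  by_cases hki : k = i
  · subst hki
    rw [Function.update_self]
    exact hh r hr
  · rw [Function.update_of_ne hki]
    exact he k r hr

theorem generates_update (hc : e i - (c : R) • h ∈ spanBefore R M e i) (hg : Generates R M e) :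
    Generates R M (Function.update e i h) := by
  unfold Generates at hg ⊢
  rw [← spanBefore_of_le _ le_rfl, spanBefore_update e i h c hc, spanBefore_of_le _ le_rfl, hg]

end Update

section Swap

variable {l : ℕ} (e : Fin l → M) (a b : Fin l)

theorem swap_image_lt (hab : (b : ℕ) + 1 = (a : ℕ)) (k : ℕ) (hk : k ≠ (a : ℕ)) :
    (Equiv.swap a b) '' {x : Fin l | (x : ℕ) < k} = {x : Fin l | (x : ℕ) < k} := by
  have hiff : (a : ℕ) < k ↔ (b : ℕ) < k := by omega
  ext x
  simp only [Set.mem_image, Set.mem_ofPred_eq]
  constructor
  · rintro ⟨y, hy, rfl⟩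
    by_cases hya : y = a
    · subst hya
      rw [Equiv.swap_apply_left]
      exact hiff.mp hy
    · by_cases hyb : y = b
      · subst hyb
        rw [Equiv.swap_apply_right]
        exact hiff.mpr hy
      · rw [Equiv.swap_apply_of_ne_of_ne hya hyb]
        exact hy
  · intro hx
    refine ⟨Equiv.swap a b x, ?_, Equiv.swap_apply_self a b x⟩
    by_cases hxa : x = a
    · subst hxa
      rw [Equiv.swap_apply_left]
      exact hiff.mp hx
    · by_cases hxb : x = b
      · subst hxb
        rw [Equiv.swap_apply_right]
        exact hiff.mpr hx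
      · rw [Equiv.swap_apply_of_ne_of_ne hxa hxb]
        exact hx

theorem spanBefore_swap (hab : (b : ℕ) + 1 = (a : ℕ)) (k : ℕ) (hk : k ≠ (a : ℕ)) :
    spanBefore R M (e ∘ Equiv.swap a b) k = spanBefore R M e k := by
  unfold spanBefore
  rw [Set.image_comp, swap_image_lt a b hab k hk]

theorem isAdmissible_swap (he : IsAdmissible R M e) (hab : (b : ℕ) + 1 = (a : ℕ))
    (h : ∀ r ∈ maximalIdeal R, r • e a ∈ spanBefore R M e b) :
    IsAdmissible R M (e ∘ Equiv.swap a b) := by
  intro k r hr
  by_cases hka : k = a
  · subst hka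
    simp only [Function.comp_apply, Equiv.swap_apply_left]
    have h1 : spanBefore R M e b ≤ spanBefore R M (e ∘ Equiv.swap k b) k := by
      rw [← spanBefore_swap e k b hab b (by omega)]
      exact spanBefore_mono _ (by omega)
    exact h1 (he b r hr)
  · by_cases hkb : k = b
    · subst hkb
      simp only [Function.comp_apply, Equiv.swap_apply_right]
      rw [spanBefore_swap e a k hab k (by omega)]
      exact h r hr
    · simp only [Function.comp_apply, Equiv.swap_apply_of_ne_of_ne hka hkb]
      rw [spanBefore_swap e a b hab k (fun hk => hka (Fin.ext hk))]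
      exact he k r hr

theorem generates_swap (hg : Generates R M e) : Generates R M (e ∘ Equiv.swap a b) := by
  unfold Generates at hg ⊢
  rw [(Equiv.swap a b).surjective.range_comp]
  exact hg

end Swap

/-- existence of a pivot: the first step of the filtration containing `x`. -/
theorem pivot_exists {l : ℕ} (e : Fin l → M) (x : M) (j : ℕ) (hx' : x ∉ spanBefore R M e j) :
    ∀ k : ℕ, x ∈ spanBefore R M e k →
      ∃ i : Fin l, j ≤ (i : ℕ) ∧ (i : ℕ) < k ∧ x ∉ spanBefore R M e i ∧
        ∃ r : R, x - r • e i ∈ spanBefore R M e i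
  | 0, hx => by
    exfalso
    apply hx'
    rw [spanBefore_zero] at hx
    rw [(Submodule.mem_bot R).mp hx]
    exact Submodule.zero_mem _
  | k + 1, hx => by
    by_cases hxk : x ∈ spanBefore R M e k
    · obtain ⟨i, h1, h2, h3, h4⟩ := pivot_exists e x j hx' k hxk
      exact ⟨i, h1, by omega, h3, h4⟩
    · have hkl : k < l := by
        by_contra hkl
        apply hxk
        rw [spanBefore_of_le e (by omega : l ≤ k), ← spanBefore_of_le e (by omega : l ≤ k + 1)]
        exact hx
      have hs := spanBefore_succ (R := R) e ⟨k, hkl⟩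
      simp only at hs
      rw [hs] at hx
      obtain ⟨y, hy, z, hz, rfl⟩ := Submodule.mem_sup.mp hx
      obtain ⟨r, rfl⟩ := Submodule.mem_span_singleton.mp hz
      refine ⟨⟨k, hkl⟩, ?_, Nat.lt_succ_self k, hxk, r, ?_⟩
      · by_contra hjk
        apply hx'
        have : k + 1 ≤ j := by
          simp only at hjk
          omega
        refine spanBefore_mono e this ?_
        rw [hs]
        exact Submodule.add_mem _ (Submodule.mem_sup_left hy) (Submodule.mem_sup_right hz)
      · simpa using hy

/-- the coefficient at a pivot of an admissible tuple is a unit. -/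
theorem pivot_isUnit {l : ℕ} (e : Fin l → M) (he : IsAdmissible R M e) (x : M) (i : Fin l)
    (hx : x ∉ spanBefore R M e i) (r : R) (hr : x - r • e i ∈ spanBefore R M e i) : IsUnit r := by
  by_contra hu
  have hrm : r ∈ maximalIdeal R := (IsLocalRing.mem_maximalIdeal r).mpr hu
  apply hx
  have : x = (x - r • e i) + r • e i := by abel
  rw [this]
  exact Submodule.add_mem _ hr (he i r hrm)

section Exchange

variable {l : ℕ}

/-- moving the entry `h` from position `j + t` down to position `j` by adjacent swaps. -/
theorem move_down (h : M) (j : ℕ) :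
    ∀ (t : ℕ) (g : Adm R M l) (i : Fin l), j + t = (i : ℕ) → Generates R M g.1 → g.1 i = h →
      (∀ s ∈ maximalIdeal R, s • h ∈ spanBefore R M g.1 j) →
      ∃ (g' : Adm R M l) (jj : Fin l), (jj : ℕ) = j ∧ Generates R M g'.1 ∧
        (∀ k : Fin l, (k : ℕ) < j → g'.1 k = g.1 k) ∧ g'.1 jj = h ∧
        (symb g = symb g' ∨ symb g = - symb g')
  | 0, g, i, hi, hg, hgi, _ => ⟨g, i, by omega, hg, fun _ _ => rfl, hgi, Or.inl rfl⟩
  | t + 1, g, i, hi, hg, hgi, hh => by
    have hb : j + t < l := by have := i.2; omega
    let b : Fin l := ⟨j + t, hb⟩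
    have hab : (b : ℕ) + 1 = (i : ℕ) := by simp only [b]; omega
    have hcond : ∀ r ∈ maximalIdeal R, r • g.1 i ∈ spanBefore R M g.1 b := by
      intro r hr
      rw [hgi]
      exact spanBefore_mono g.1 (by simp only [b]; omega) (hh r hr)
    let g1 : Adm R M l := ⟨g.1 ∘ Equiv.swap i b, isAdmissible_swap g.1 i b g.2 hab hcond⟩
    have hsym : symb g = - symb g1 := symb_relC g g1 i b hab hcond rfl
    have hg1b : g1.1 b = h := by
      simp only [g1, Function.comp_apply, Equiv.swap_apply_right]
      exact hgi
    have hspan : spanBefore R M g1.1 j = spanBefore R M g.1 j :=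
      spanBefore_swap g.1 i b hab j (by omega)
    obtain ⟨g', jj, hjj, hg', hk, hgj, hs⟩ := move_down h j t g1 b (by simp only [b])
      (generates_swap g.1 i b hg) hg1b (by rw [hspan]; exact hh)
    refine ⟨g', jj, hjj, hg', ?_, hgj, ?_⟩
    · intro k hkj
      rw [hk k hkj]
      simp only [g1, Function.comp_apply]
      rw [Equiv.swap_apply_of_ne_of_ne]
      · intro hki; rw [hki] at hkj; omega
      · intro hkb; rw [hkb] at hkj; simp only [b] at hkj; omega
    · rcases hs with hs | hs
      · right; rw [hsym, hs]
      · left; rw [hsym, hs, neg_neg]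

/-- the exchange argument: symbols of generating admissible tuples are proportional. -/
theorem exchange (hl : Module.length R M = l) :
    ∀ (d j : ℕ), j + d = l → ∀ (e e' : Adm R M l), Generates R M e.1 → Generates R M e'.1 →
      (∀ k : Fin l, (k : ℕ) < j → e.1 k = e'.1 k) →
      ∃ u : ResidueField R, symb e = u • symb e'
  | 0, j, hj, e, e', _, _, hagree => by
    refine ⟨1, ?_⟩
    have : e = e' := Subtype.ext (funext fun k => hagree k (by have := k.2; omega))
    rw [this, one_smul]
  | d + 1, j, hj, e, e', hg, hg', hagree => by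
    have hjl : j < l := by omega
    let jj : Fin l := ⟨j, hjl⟩
    set h : M := e'.1 jj with hh
    have hspanj : spanBefore R M e.1 j = spanBefore R M e'.1 j := spanBefore_congr hagree
    have hnot : h ∉ spanBefore R M e.1 j := by
      rw [hspanj]
      exact notMem_of_generates e'.1 e'.2 hl hg' jj
    have hmem : h ∈ spanBefore R M e.1 l := by
      rw [spanBefore_of_le e.1 le_rfl, hg]
      trivial
    obtain ⟨i, hji, -, hni, r, hr⟩ := pivot_exists e.1 h j hnot l hmem
    have hunit := pivot_isUnit e.1 e.2 h i hni r hr
    obtain ⟨c0, rfl⟩ := hunit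
    let c : Rˣ := c0⁻¹
    have hc : e.1 i - (c : R) • h ∈ spanBefore R M e.1 i := by
      have h1 : e.1 i - (c : R) • h = - ((c : R) • (h - (c0 : R) • e.1 i)) := by
        rw [smul_sub, smul_smul]
        simp only [c, Units.inv_mul, one_smul]
        abel
      rw [h1]
      exact Submodule.neg_mem _ (Submodule.smul_mem _ _ hr)
    have hmh : ∀ s ∈ maximalIdeal R, s • h ∈ spanBefore R M e.1 j := by
      intro s hs
      rw [hspanj]
      exact e'.2 jj s hs
    have hmh' : ∀ s ∈ maximalIdeal R, s • h ∈ spanBefore R M e.1 i := fun s hs =>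
      spanBefore_mono e.1 hji (hmh s hs)
    let e1 : Adm R M l := ⟨Function.update e.1 i h, isAdmissible_update e.1 i h c e.2 hc hmh'⟩
    have hsym1 : symb e = IsLocalRing.residue R (c : R) • symb e1 := by
      refine symb_relB e e1 i c ?_ ?_
      · intro k hk
        simp only [e1]
        rw [Function.update_of_ne hk]
      · simp only [e1]
        rw [Function.update_self]
        exact hc
    have hg1 : Generates R M e1.1 := generates_update e.1 i h c hc hg
    have hspan1 : spanBefore R M e1.1 j = spanBefore R M e.1 j := spanBefore_update e.1 i h c hc j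
    obtain ⟨t, ht⟩ := Nat.exists_eq_add_of_le hji
    obtain ⟨e2, j2, hj2, hg2, hk2, he2j, hs2⟩ := move_down h j t e1 i ht.symm hg1
      (by simp only [e1]; rw [Function.update_self]) (by rw [hspan1]; exact hmh)
    have hj2' : j2 = jj := Fin.ext hj2
    subst hj2'
    have hagree2 : ∀ k : Fin l, (k : ℕ) < j + 1 → e2.1 k = e'.1 k := by
      intro k hk
      rcases Nat.lt_succ_iff_lt_or_eq.mp hk with hk' | hk'
      · rw [hk2 k hk']
        simp only [e1]
        rw [Function.update_of_ne, hagree k hk']
        intro hki
        rw [hki] at hk'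
        omega
      · have : k = jj := Fin.ext hk'
        rw [this, he2j]
    obtain ⟨u, hu⟩ := exchange hl d (j + 1) (by omega) e2 e' hg2 hg' hagree2
    rcases hs2 with hs2 | hs2
    · exact ⟨IsLocalRing.residue R (c : R) * u, by rw [hsym1, hs2, hu, smul_smul]⟩
    · exact ⟨- (IsLocalRing.residue R (c : R) * u), by
        rw [hsym1, hs2, hu, smul_neg, smul_smul, neg_smul]⟩

end Exchange

/-- all symbols lie on the line spanned by any symbol of a generating tuple. -/
theorem symb_mem_span {l : ℕ} (hl : Module.length R M = l) (e e' : Adm R M l)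
    (hg' : Generates R M e'.1) : ∃ u : ResidueField R, symb e = u • symb e' := by
  by_cases hg : Generates R M e.1
  · exact exchange hl l 0 (by omega) e e' hg hg' (fun k hk => by omega)
  · exact ⟨0, by rw [symb_of_not_generates hl e hg, zero_smul]⟩

/-- the symbols span `DetOfLen`. -/
theorem span_symb {l : ℕ} :
    Submodule.span (ResidueField R) (Set.range (symb (R := R) (M := M) (l := l))) = ⊤ := by
  rw [eq_top_iff]
  rintro x -
  obtain ⟨x, rfl⟩ := Submodule.mkQ_surjective _ x
  induction x using Finsupp.induction_linear with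
  | zero => simp
  | add x y hx hy =>
    rw [map_add]
    exact Submodule.add_mem _ hx hy
  | single e a =>
    have : (Finsupp.single e a : Free R M l) = a • sym R M e := by
      unfold sym
      rw [Finsupp.smul_single, smul_eq_mul, mul_one]
    rw [this, map_smul]
    exact Submodule.smul_mem _ _ (Submodule.subset_span ⟨e, rfl⟩)

theorem rank_detOfLen_le_one {l : ℕ} (hl : Module.length R M = l) :
    Module.rank (ResidueField R) (DetOfLen R M l) ≤ 1 := by
  rw [rank_le_one_iff]
  by_cases hex : ∃ e' : Adm R M l, Generates R M e'.1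
  · obtain ⟨e', hg'⟩ := hex
    refine ⟨symb e', fun v => ?_⟩
    have hv : v ∈ Submodule.span (ResidueField R)
        (Set.range (symb (R := R) (M := M) (l := l))) := by
      rw [span_symb]; trivial
    induction hv using Submodule.span_induction with
    | mem x hx =>
      obtain ⟨e, rfl⟩ := hx
      obtain ⟨u, hu⟩ := symb_mem_span hl e e' hg'
      exact ⟨u, hu.symm⟩
    | zero => exact ⟨0, zero_smul _ _⟩
    | add x y _ _ hx hy =>
      obtain ⟨a, rfl⟩ := hx
      obtain ⟨b, rfl⟩ := hy
      exact ⟨a + b, add_smul _ _ _⟩
    | smul a x _ hx =>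
      obtain ⟨b, rfl⟩ := hx
      exact ⟨a * b, mul_smul _ _ _⟩
  · push Not at hex
    refine ⟨0, fun v => ⟨0, ?_⟩⟩
    have hv : v ∈ Submodule.span (ResidueField R)
        (Set.range (symb (R := R) (M := M) (l := l))) := by
      rw [span_symb]; trivial
    rw [zero_smul]
    induction hv using Submodule.span_induction with
    | mem x hx =>
      obtain ⟨e, rfl⟩ := hx
      exact (symb_of_not_generates hl e (hex e)).symm
    | zero => rfl
    | add x y _ _ hx hy => rw [← hx, ← hy, add_zero]
    | smul a x _ hx => rw [← hx, smul_zero]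

end Groth.Agent.Lib.Seat9.DetMoves
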