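import Mathlib
import Groth.Prelude.Def_CycDet
import Groth.Agent.Lib.Seat9DetMoves

/-!
# Determinants of finite length modules: a nonzero functional (seat 9)

By induction on the length we construct a function on admissible tuples which respects the three
admissible relations and does not vanish on generating tuples.  Inductive step: fix `f ≠ 0` killed
by the maximal ideal, find the first step of the filtration of the tuple containing `f` (the
pivot), delete that entry and pass to `M / R f`.
-/

set_option autoImplicit false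
set_option linter.unusedSectionVars false
universe u v

namespace Groth.Agent.Lib.Seat9.DetFun

open CycDet IsLocalRing Groth.Agent.Lib.Seat9.DetBasic Groth.Agent.Lib.Seat9.DetMoves

variable {R : Type u} [CommRing R] [IsLocalRing R] {M : Type v} [AddCommGroup M] [Module R M]

/-- functions on admissible tuples respecting the admissible relations and nonvanishing on
generating tuples. -/
structure IsDetFun {l : ℕ} (D : Adm R M l → ResidueField R) : Prop where
  relA : ∀ (e : Adm R M l) (a : Fin l), e.1 a ∈ spanBefore R M e.1 a → D e = 0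
  relB : ∀ (e e' : Adm R M l) (a : Fin l) (c : Rˣ), (∀ j, j ≠ a → e.1 j = e'.1 j) →
    e.1 a - (c : R) • e'.1 a ∈ spanBefore R M e.1 a → D e = residue R (c : R) * D e'
  relC : ∀ (e e' : Adm R M l) (a b : Fin l), (b : ℕ) + 1 = (a : ℕ) →
    (∀ r ∈ maximalIdeal R, r • e.1 a ∈ spanBefore R M e.1 b) →
    e'.1 = e.1 ∘ Equiv.swap a b → D e + D e' = 0
  ne_zero : ∀ e : Adm R M l, Generates R M e.1 → D e ≠ 0

/-- a `IsDetFun` gives a linear functional on `DetOfLen` and so symbols of generating tuples are
nonzero. -/
theorem symb_ne_zero_of_isDetFun {l : ℕ} (D : Adm R M l → ResidueField R) (hD : IsDetFun D)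
    (e : Adm R M l) (hg : Generates R M e.1) : symb e ≠ 0 := by
  let φ : Free R M l →ₗ[ResidueField R] ResidueField R :=
    Finsupp.linearCombination (ResidueField R) D
  have hφ : ∀ e : Adm R M l, φ (sym R M e) = D e := by
    intro e
    simp [φ, sym, Finsupp.linearCombination_single]
  have hker : Submodule.span (ResidueField R) (relSet R M l) ≤ LinearMap.ker φ := by
    rw [Submodule.span_le]
    rintro x ((⟨e, a, h, rfl⟩ | ⟨e, e', a, c, h1, h2, rfl⟩) | ⟨e, e', a, b, hab, h, he', rfl⟩)
    · rw [SetLike.mem_coe, LinearMap.mem_ker, hφ, hD.relA e a h]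
    · rw [SetLike.mem_coe, LinearMap.mem_ker, map_sub, map_smul, hφ, hφ, hD.relB e e' a c h1 h2,
        smul_eq_mul, sub_self]
    · rw [SetLike.mem_coe, LinearMap.mem_ker, map_add, hφ, hφ, hD.relC e e' a b hab h he']
  intro h0
  apply hD.ne_zero e hg
  rw [← hφ]
  have : sym R M e ∈ Submodule.span (ResidueField R) (relSet R M l) := by
    unfold symb at h0
    rwa [Submodule.Quotient.mk_eq_zero] at h0
  exact hker this

section Step

variable (f : M)

/-- `(i, r)` is a pivot of the tuple `e` for `f`: the `i`-th step is the first one containing `f`,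
and `f ≡ r e_i` modulo the earlier entries. -/
def IsPivot {l : ℕ} (e : Fin l → M) (i : Fin l) (r : R) : Prop :=
  f ∉ spanBefore R M e i ∧ f - r • e i ∈ spanBefore R M e i

variable (R) in
/-- delete the `i`-th entry and project to `M / R f`. -/
def del {n : ℕ} (e : Fin (n + 1) → M) (i : Fin (n + 1)) : Fin n → M ⧸ Submodule.span R {f} :=
  fun p => Submodule.Quotient.mk (e (i.succAbove p))

variable {f}

theorem mk_f : (Submodule.Quotient.mk f : M ⧸ Submodule.span R {f}) = 0 := by
  rw [Submodule.Quotient.mk_eq_zero]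
  exact Submodule.mem_span_singleton_self f

theorem IsPivot.isUnit {l : ℕ} {e : Fin l → M} {i : Fin l} {r : R} (hp : IsPivot f e i r)
    (he : IsAdmissible R M e) : IsUnit r :=
  pivot_isUnit e he f i hp.1 r hp.2

theorem IsPivot.mem_succ {l : ℕ} {e : Fin l → M} {i : Fin l} {r : R} (hp : IsPivot f e i r) :
    f ∈ spanBefore R M e ((i : ℕ) + 1) := by
  have : f = (f - r • e i) + r • e i := by abel
  rw [this]
  exact Submodule.add_mem _ (spanBefore_mono e (Nat.le_succ _) hp.2)
    (Submodule.smul_mem _ _ (mem_spanBefore e (Nat.lt_succ_self _)))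

theorem IsPivot.unique {l : ℕ} {e : Fin l → M} {i i' : Fin l} {r r' : R}
    (hp : IsPivot f e i r) (hp' : IsPivot f e i' r') :
    i = i' ∧ residue R r = residue R r' := by
  have hii : i = i' := by
    apply Fin.ext
    by_contra hne
    rcases Nat.lt_or_gt_of_ne hne with h | h
    · exact hp'.1 (spanBefore_mono e h hp.mem_succ)
    · exact hp.1 (spanBefore_mono e h hp'.mem_succ)
  subst hii
  refine ⟨rfl, ?_⟩
  rw [← sub_eq_zero, ← map_sub, IsLocalRing.residue_eq_zero_iff]
  by_contra hu
  have hunit : IsUnit (r - r') := by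
    by_contra h
    exact hu ((IsLocalRing.mem_maximalIdeal _).mpr h)
  obtain ⟨u, hu'⟩ := hunit
  have h1 : (r - r') • e i ∈ spanBefore R M e i := by
    have : (r - r') • e i = (f - r' • e i) - (f - r • e i) := by
      rw [sub_smul]; abel
    rw [this]
    exact Submodule.sub_mem _ hp'.2 hp.2
  have h2 : e i ∈ spanBefore R M e i := by
    have : e i = (↑(u⁻¹) : R) • ((r - r') • e i) := by
      rw [smul_smul, ← hu', Units.inv_mul, one_smul]
    rw [this]
    exact Submodule.smul_mem _ _ h1
  apply hp.1
  have : f = (f - r • e i) + r • e i := by abel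
  rw [this]
  exact Submodule.add_mem _ hp.2 (Submodule.smul_mem _ _ h2)

theorem exists_pivot_iff {l : ℕ} (hf0 : f ≠ 0) (e : Fin l → M) :
    (∃ (i : Fin l) (r : R), IsPivot f e i r) ↔ f ∈ Submodule.span R (Set.range e) := by
  constructor
  · rintro ⟨i, r, hp⟩
    rw [← spanBefore_of_le e le_rfl]
    exact spanBefore_mono e i.2 hp.mem_succ
  · intro hf
    rw [← spanBefore_of_le e le_rfl] at hf
    have h0 : f ∉ spanBefore R M e 0 := by
      rw [spanBefore_zero, Submodule.mem_bot]
      exact hf0
    obtain ⟨i, -, -, h3, r, h4⟩ := pivot_exists e f 0 h0 l hf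
    exact ⟨i, r, h3, h4⟩

/-- the image of the pivot entry in the quotient lies in the image of the earlier span. -/
theorem IsPivot.mk_mem {l : ℕ} {e : Fin l → M} {i : Fin l} {r : R} (hp : IsPivot f e i r)
    (he : IsAdmissible R M e) :
    (Submodule.Quotient.mk (e i) : M ⧸ Submodule.span R {f}) ∈
      (spanBefore R M e i).map (Submodule.span R {f}).mkQ := by
  obtain ⟨u, rfl⟩ := hp.isUnit he
  refine ⟨- ((↑(u⁻¹) : R) • (f - (u : R) • e i)), ?_, ?_⟩
  · exact Submodule.neg_mem _ (Submodule.smul_mem _ _ hp.2)
  · simp only [Submodule.mkQ_apply, Submodule.Quotient.mk_neg, Submodule.Quotient.mk_smul,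
      Submodule.Quotient.mk_sub, mk_f, zero_sub, smul_neg, neg_neg, smul_smul, Units.inv_mul,
      one_smul]

theorem succAbove_image_lt {n : ℕ} (i : Fin (n + 1)) (p : Fin n) :
    i.succAbove '' {q : Fin n | (q : ℕ) < (p : ℕ)} =
      {k : Fin (n + 1) | k ≠ i ∧ (k : ℕ) < (i.succAbove p : ℕ)} := by
  ext k
  simp only [Set.mem_image, Set.mem_ofPred_eq]
  constructor
  · rintro ⟨q, hq, rfl⟩
    exact ⟨Fin.succAbove_ne i q, (Fin.strictMono_succAbove i) (Fin.lt_def.mpr hq)⟩
  · rintro ⟨hki, hk⟩
    obtain ⟨q, rfl⟩ := Fin.exists_succAbove_eq hki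
    exact ⟨q, (Fin.strictMono_succAbove i).lt_iff_lt.mp (Fin.lt_def.mpr hk), rfl⟩

theorem spanBefore_del {n : ℕ} {e : Fin (n + 1) → M} {i : Fin (n + 1)} {r : R}
    (hp : IsPivot f e i r) (he : IsAdmissible R M e) (p : Fin n) :
    spanBefore R (M ⧸ Submodule.span R {f}) (del R f e i) p =
      (spanBefore R M e (i.succAbove p)).map (Submodule.span R {f}).mkQ := by
  have h1 : spanBefore R (M ⧸ Submodule.span R {f}) (del R f e i) p =
      (Submodule.span R (e '' {k : Fin (n + 1) | k ≠ i ∧ (k : ℕ) < (i.succAbove p : ℕ)})).map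
        (Submodule.span R {f}).mkQ := by
    unfold spanBefore
    rw [Submodule.map_span, ← succAbove_image_lt, ← Set.image_comp, ← Set.image_comp]
    rfl
  rw [h1]
  apply le_antisymm
  · apply Submodule.map_mono
    apply Submodule.span_mono
    rintro _ ⟨k, ⟨-, hk⟩, rfl⟩
    exact ⟨k, hk, rfl⟩
  · rw [Submodule.map_le_iff_le_comap]
    unfold spanBefore
    rw [Submodule.span_le]
    rintro _ ⟨k, hk, rfl⟩
    by_cases hki : k = i
    · subst hki
      have h2 := hp.mk_mem he
      have h3 : (spanBefore R M e k).map (Submodule.span R {f}).mkQ ≤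
          (Submodule.span R (e '' {k' : Fin (n + 1) | k' ≠ k ∧
            (k' : ℕ) < (k.succAbove p : ℕ)})).map (Submodule.span R {f}).mkQ := by
        apply Submodule.map_mono
        apply Submodule.span_mono
        rintro _ ⟨k', hk', rfl⟩
        have hk'' : (k' : ℕ) < (k : ℕ) := hk'
        exact ⟨k', ⟨fun h => by rw [h] at hk''; exact lt_irrefl _ hk'', lt_trans hk'' hk⟩, rfl⟩
      exact h3 h2
    · exact Submodule.mem_map_of_mem (Submodule.subset_span ⟨k, ⟨hki, hk⟩, rfl⟩)

theorem isAdmissible_del {n : ℕ} {e : Fin (n + 1) → M} {i : Fin (n + 1)} {r : R}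
    (hp : IsPivot f e i r) (he : IsAdmissible R M e) :
    IsAdmissible R (M ⧸ Submodule.span R {f}) (del R f e i) := by
  intro p s hs
  rw [spanBefore_del hp he]
  exact ⟨s • e (i.succAbove p), he _ s hs, rfl⟩

theorem generates_del {n : ℕ} {e : Fin (n + 1) → M} {i : Fin (n + 1)} {r : R}
    (hp : IsPivot f e i r) (he : IsAdmissible R M e) (hg : Generates R M e) :
    Generates R (M ⧸ Submodule.span R {f}) (del R f e i) := by
  unfold Generates at hg ⊢
  have h1 : Submodule.span R (Set.range (del R f e i)) =
      (Submodule.span R (e '' {k : Fin (n + 1) | k ≠ i})).map (Submodule.span R {f}).mkQ := by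
    rw [Submodule.map_span]
    congr 1
    ext x
    simp only [Set.mem_range, Set.mem_image, Set.mem_ofPred_eq, del]
    constructor
    · rintro ⟨p, rfl⟩
      exact ⟨e (i.succAbove p), ⟨i.succAbove p, Fin.succAbove_ne i p, rfl⟩, rfl⟩
    · rintro ⟨_, ⟨k, hk, rfl⟩, rfl⟩
      obtain ⟨p, rfl⟩ := Fin.exists_succAbove_eq hk
      exact ⟨p, rfl⟩
  have htop : (⊤ : Submodule R (M ⧸ Submodule.span R {f})) =
      (⊤ : Submodule R M).map (Submodule.span R {f}).mkQ := by
    rw [Submodule.map_top, Submodule.range_mkQ]
  rw [h1, eq_top_iff, htop, ← hg, Submodule.map_le_iff_le_comap, Submodule.span_le]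
  rintro _ ⟨k, rfl⟩
  by_cases hki : k = i
  · subst hki
    have h2 := hp.mk_mem he
    have h3 : (spanBefore R M e k).map (Submodule.span R {f}).mkQ ≤
        (Submodule.span R (e '' {k' : Fin (n + 1) | k' ≠ k})).map (Submodule.span R {f}).mkQ := by
      apply Submodule.map_mono
      apply Submodule.span_mono
      rintro _ ⟨k', hk', rfl⟩
      have hk'' : (k' : ℕ) < (k : ℕ) := hk'
      exact ⟨k', fun h => by rw [h] at hk''; exact lt_irrefl _ hk'', rfl⟩
    exact h3 h2
  · exact Submodule.mem_map_of_mem (Submodule.subset_span ⟨k, hki, rfl⟩)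


section StepD

variable {n : ℕ} (D' : Adm R (M ⧸ Submodule.span R {f}) n → ResidueField R)

/-- the value of the new functional computed with a given pivot. -/
noncomputable def stepVal (e : Adm R M (n + 1)) (i : Fin (n + 1)) (r : R)
    (hp : IsPivot f e.1 i r) : ResidueField R :=
  (-1) ^ (i : ℕ) * (residue R r)⁻¹ * D' ⟨del R f e.1 i, isAdmissible_del hp e.2⟩

theorem stepVal_congr (e : Adm R M (n + 1)) {i i' : Fin (n + 1)} {r r' : R}
    (hp : IsPivot f e.1 i r) (hp' : IsPivot f e.1 i' r') :
    stepVal D' e i r hp = stepVal D' e i' r' hp' := by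
  obtain ⟨hi, hr⟩ := hp.unique hp'
  subst hi
  unfold stepVal
  rw [hr]

open Classical in
/-- the new functional. -/
noncomputable def stepD (e : Adm R M (n + 1)) : ResidueField R :=
  if h : ∃ (i : Fin (n + 1)) (r : R), IsPivot f e.1 i r then
    stepVal D' e h.choose h.choose_spec.choose h.choose_spec.choose_spec
  else 0

theorem stepD_eq (e : Adm R M (n + 1)) {i : Fin (n + 1)} {r : R} (hp : IsPivot f e.1 i r) :
    stepD D' e = stepVal D' e i r hp := by
  unfold stepD
  rw [dif_pos ⟨i, r, hp⟩]
  exact stepVal_congr D' e _ hp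

theorem stepD_eq_zero (e : Adm R M (n + 1)) (h : ¬ ∃ (i : Fin (n + 1)) (r : R), IsPivot f e.1 i r) :
    stepD D' e = 0 := by
  unfold stepD
  rw [dif_neg h]

variable {D'}

theorem stepD_relA (hD : IsDetFun D') (e : Adm R M (n + 1)) (a : Fin (n + 1))
    (ha : e.1 a ∈ spanBefore R M e.1 a) : stepD D' e = 0 := by
  by_cases h : ∃ (i : Fin (n + 1)) (r : R), IsPivot f e.1 i r
  · obtain ⟨i, r, hp⟩ := h
    rw [stepD_eq D' e hp]
    have hai : a ≠ i := by
      rintro rfl
      apply hp.1
      have : f = (f - r • e.1 a) + r • e.1 a := by abel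
      rw [this]
      exact Submodule.add_mem _ hp.2 (Submodule.smul_mem _ _ ha)
    obtain ⟨p, rfl⟩ := Fin.exists_succAbove_eq hai
    unfold stepVal
    rw [hD.relA ⟨del R f e.1 i, isAdmissible_del hp e.2⟩ p ?_, mul_zero]
    show del R f e.1 i p ∈ spanBefore R _ (del R f e.1 i) p
    rw [spanBefore_del hp e.2]
    exact ⟨e.1 (i.succAbove p), ha, rfl⟩
  · exact stepD_eq_zero D' e h

theorem stepD_relB (hf0 : f ≠ 0) (hD : IsDetFun D') (e e' : Adm R M (n + 1)) (a : Fin (n + 1))
    (c : Rˣ) (h1 : ∀ j, j ≠ a → e.1 j = e'.1 j)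
    (h2 : e.1 a - (c : R) • e'.1 a ∈ spanBefore R M e.1 a) :
    stepD D' e = residue R (c : R) * stepD D' e' := by
  have hupd : Function.update e.1 a (e'.1 a) = e'.1 := by
    funext j
    by_cases hj : j = a
    · subst hj; rw [Function.update_self]
    · rw [Function.update_of_ne hj, h1 j hj]
  have hspan : ∀ k : ℕ, spanBefore R M e'.1 k = spanBefore R M e.1 k := by
    intro k
    rw [← hupd]
    exact spanBefore_update e.1 a (e'.1 a) c h2 k
  by_cases h : ∃ (i : Fin (n + 1)) (r : R), IsPivot f e.1 i r
  · obtain ⟨i, r, hp⟩ := h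
    by_cases hia : i = a
    · subst hia
      -- the pivot entry changes
      have hp' : IsPivot f e'.1 i (r * (c : R)) := by
        refine ⟨by rw [hspan]; exact hp.1, ?_⟩
        rw [hspan]
        have : f - (r * (c : R)) • e'.1 i = (f - r • e.1 i) + r • (e.1 i - (c : R) • e'.1 i) := by
          rw [smul_sub, smul_smul]; abel
        rw [this]
        exact Submodule.add_mem _ hp.2 (Submodule.smul_mem _ _ h2)
      rw [stepD_eq D' e hp, stepD_eq D' e' hp']
      unfold stepVal
      have hdel : del R f e.1 i = del R f e'.1 i := by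
        funext p
        unfold del
        rw [h1 _ (Fin.succAbove_ne i p)]
      have hadm : (⟨del R f e.1 i, isAdmissible_del hp e.2⟩ : Adm R (M ⧸ Submodule.span R {f}) n) =
          ⟨del R f e'.1 i, isAdmissible_del hp' e'.2⟩ := Subtype.ext hdel
      rw [hadm, map_mul]
      have hc0 : residue R (c : R) ≠ 0 := by
        rw [ne_eq, residue_eq_zero_iff]
        exact fun h => (IsLocalRing.mem_maximalIdeal _).mp h c.isUnit
      field_simp
    · -- the pivot entry is unchanged
      have hp' : IsPivot f e'.1 i r := by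
        refine ⟨by rw [hspan]; exact hp.1, ?_⟩
        rw [hspan, ← h1 i hia]
        exact hp.2
      rw [stepD_eq D' e hp, stepD_eq D' e' hp']
      unfold stepVal
      obtain ⟨p, rfl⟩ := Fin.exists_succAbove_eq (Ne.symm hia)
      rw [hD.relB ⟨del R f e.1 i, isAdmissible_del hp e.2⟩ ⟨del R f e'.1 i, isAdmissible_del hp' e'.2⟩
        p c ?_ ?_]
      · ring
      · intro q hq
        show del R f e.1 i q = del R f e'.1 i q
        unfold del
        rw [h1]
        exact fun h => hq (Fin.succAbove_right_injective h)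
      · show del R f e.1 i p - (c : R) • del R f e'.1 i p ∈ spanBefore R _ (del R f e.1 i) p
        rw [spanBefore_del hp e.2]
        exact ⟨e.1 (i.succAbove p) - (c : R) • e'.1 (i.succAbove p), h2, rfl⟩
  · have h' : ¬ ∃ (i : Fin (n + 1)) (r : R), IsPivot f e'.1 i r := by
      rw [exists_pivot_iff hf0] at h ⊢
      rw [← spanBefore_of_le _ le_rfl] at h ⊢
      rw [hspan]
      exact h
    rw [stepD_eq_zero D' e h, stepD_eq_zero D' e' h', mul_zero]


theorem succAbove_val (i : Fin (n + 1)) (p : Fin n) :
    (i.succAbove p : ℕ) = if (p : ℕ) < (i : ℕ) then (p : ℕ) else (p : ℕ) + 1 := by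
  unfold Fin.succAbove
  split_ifs with h1 h2 h2
  · rfl
  · exfalso; exact h2 (by simpa [Fin.lt_def] using h1)
  · exfalso; exact h1 (by simpa [Fin.lt_def] using h2)
  · rfl

theorem swap_succAbove {a b : Fin (n + 1)} (hab : (b : ℕ) + 1 = (a : ℕ)) (q : Fin n) :
    Equiv.swap a b (a.succAbove q) = b.succAbove q := by
  have h1 := succAbove_val a q
  have h2 := succAbove_val b q
  by_cases hqb : (q : ℕ) = (b : ℕ)
  · have : a.succAbove q = b := by
      apply Fin.ext
      rw [h1, if_pos (by omega)]
      exact hqb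
    rw [this, Equiv.swap_apply_right]
    apply Fin.ext
    rw [h2, if_neg (by omega)]
    omega
  · rw [Equiv.swap_apply_of_ne_of_ne]
    · apply Fin.ext
      rw [h1, h2]
      split_ifs <;> omega
    · exact Fin.succAbove_ne a q
    · intro h
      have := congrArg Fin.val h
      rw [h1] at this
      split_ifs at this <;> omega

theorem swap_succAbove' {a b : Fin (n + 1)} (hab : (b : ℕ) + 1 = (a : ℕ)) (q : Fin n) :
    Equiv.swap a b (b.succAbove q) = a.succAbove q := by
  rw [← swap_succAbove hab q, Equiv.swap_apply_self]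

theorem stepD_relC (hf0 : f ≠ 0) (hD : IsDetFun D') (e e' : Adm R M (n + 1)) (a b : Fin (n + 1))
    (hab : (b : ℕ) + 1 = (a : ℕ))
    (hcond : ∀ r ∈ maximalIdeal R, r • e.1 a ∈ spanBefore R M e.1 b)
    (he' : e'.1 = e.1 ∘ Equiv.swap a b) : stepD D' e + stepD D' e' = 0 := by
  have hsp : ∀ k : ℕ, k ≠ (a : ℕ) → spanBefore R M e'.1 k = spanBefore R M e.1 k := by
    intro k hk
    rw [he']
    exact spanBefore_swap e.1 a b hab k hk
  have hea : e'.1 a = e.1 b := by rw [he']; simp
  have heb : e'.1 b = e.1 a := by rw [he']; simp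
  have hek : ∀ k, k ≠ a → k ≠ b → e'.1 k = e.1 k := by
    intro k h1 h2
    rw [he']
    simp [Equiv.swap_apply_of_ne_of_ne h1 h2]
  have hspa' : spanBefore R M e'.1 a = spanBefore R M e.1 b ⊔ Submodule.span R {e.1 a} := by
    have := spanBefore_succ (R := R) e'.1 b
    rw [hab, hsp b (by omega), heb] at this
    exact this
  have hspa : spanBefore R M e.1 a = spanBefore R M e.1 b ⊔ Submodule.span R {e.1 b} := by
    have := spanBefore_succ (R := R) e.1 b
    rw [hab] at this
    exact this
  have hba : spanBefore R M e.1 b ≤ spanBefore R M e.1 a := spanBefore_mono e.1 (by omega)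
  have hba' : spanBefore R M e.1 b ≤ spanBefore R M e'.1 a := by
    rw [hspa']; exact le_sup_left
  have hbn : (b : ℕ) < n := by have := a.2; omega
  let p : Fin n := ⟨b, hbn⟩
  have hpa : a.succAbove p = b := by
    apply Fin.ext
    rw [succAbove_val, if_pos (by simp only [p]; omega)]
  have hpb : b.succAbove p = a := by
    apply Fin.ext
    rw [succAbove_val, if_neg (by simp only [p]; omega)]
    simp only [p]; omega
  have hsign : ((-1 : ResidueField R)) ^ (a : ℕ) = - (-1) ^ (b : ℕ) := by
    rw [← hab, pow_succ]; ring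
  by_cases h : ∃ (i : Fin (n + 1)) (r : R), IsPivot f e.1 i r
  swap
  · have h' : ¬ ∃ (i : Fin (n + 1)) (r : R), IsPivot f e'.1 i r := by
      rw [exists_pivot_iff hf0] at h ⊢
      rw [he', (Equiv.swap a b).surjective.range_comp]
      exact h
    rw [stepD_eq_zero D' e h, stepD_eq_zero D' e' h', add_zero]
  obtain ⟨i, r, hp⟩ := h
  by_cases hia : i = a
  · subst hia
    by_cases hmem : f ∈ spanBefore R M e.1 b ⊔ Submodule.span R {e.1 i}
    · -- case 3a
      obtain ⟨y, hy, z, hz, hyz⟩ := Submodule.mem_sup.mp hmem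
      obtain ⟨r', rfl⟩ := Submodule.mem_span_singleton.mp hz
      have hfy : f - r' • e.1 i = y := by rw [← hyz]; abel
      have hp2 : IsPivot f e.1 i r' := ⟨hp.1, by rw [hfy]; exact hba hy⟩
      have hp' : IsPivot f e'.1 b r' := by
        refine ⟨by rw [hsp b (by omega)]; exact fun h => hp.1 (hba h), ?_⟩
        rw [hsp b (by omega), heb, hfy]
        exact hy
      rw [stepD_eq D' e hp2, stepD_eq D' e' hp']
      unfold stepVal
      have hdel : del R f e.1 i = del R f e'.1 b := by
        funext q
        unfold del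
        rw [he', Function.comp_apply, swap_succAbove' hab q]
      have hadm : (⟨del R f e.1 i, isAdmissible_del hp2 e.2⟩ :
          Adm R (M ⧸ Submodule.span R {f}) n) = ⟨del R f e'.1 b, isAdmissible_del hp' e'.2⟩ :=
        Subtype.ext hdel
      rw [hadm, hsign]
      ring
    · -- case 3b
      have h3 := hp.2
      rw [hspa] at h3
      obtain ⟨y, hy, z, hz, hyz⟩ := Submodule.mem_sup.mp h3
      obtain ⟨s, rfl⟩ := Submodule.mem_span_singleton.mp hz
      have hsu : IsUnit s := by
        by_contra hs
        apply hmem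
        have : f = (y + s • e.1 b) + r • e.1 i := by rw [hyz]; abel
        rw [this]
        exact Submodule.add_mem _ (Submodule.mem_sup_left (Submodule.add_mem _ hy
          (e.2 b s ((IsLocalRing.mem_maximalIdeal _).mpr hs))))
          (Submodule.mem_sup_right (Submodule.smul_mem _ _ (Submodule.mem_span_singleton_self _)))
      have hru : IsUnit r := hp.isUnit e.2
      obtain ⟨us, rfl⟩ := hsu
      obtain ⟨ur, rfl⟩ := hru
      have hp' : IsPivot f e'.1 i (us : R) := by
        refine ⟨by rw [hspa']; exact hmem, ?_⟩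
        rw [hspa', hea]
        have : f - (us : R) • e.1 b = y + (ur : R) • e.1 i := by
          have h5 : f = (y + (us : R) • e.1 b) + (ur : R) • e.1 i := by rw [hyz]; abel
          rw [h5]; abel
        rw [this]
        exact Submodule.add_mem _ (Submodule.mem_sup_left hy)
          (Submodule.mem_sup_right (Submodule.smul_mem _ _ (Submodule.mem_span_singleton_self _)))
      rw [stepD_eq D' e hp, stepD_eq D' e' hp']
      unfold stepVal
      let c : Rˣ := - (us⁻¹ * ur)
      have hB := hD.relB ⟨del R f e.1 i, isAdmissible_del hp e.2⟩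
        ⟨del R f e'.1 i, isAdmissible_del hp' e'.2⟩ p c ?_ ?_
      · rw [hB]
        have hcs : residue R ((c : Rˣ) : R) = - ((residue R (us : R))⁻¹ * residue R (ur : R)) := by
          simp only [c, Units.val_neg, Units.val_mul, map_neg, map_mul]
          congr 2
          apply eq_inv_of_mul_eq_one_left
          rw [← map_mul, Units.inv_mul, map_one]
        have hs0 : residue R (us : R) ≠ 0 := by
          rw [ne_eq, residue_eq_zero_iff]
          exact fun h => (IsLocalRing.mem_maximalIdeal _).mp h us.isUnit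
        have hr0 : residue R (ur : R) ≠ 0 := by
          rw [ne_eq, residue_eq_zero_iff]
          exact fun h => (IsLocalRing.mem_maximalIdeal _).mp h ur.isUnit
        rw [hcs]
        field_simp
        ring
      · intro q hq
        show del R f e.1 i q = del R f e'.1 i q
        unfold del
        rw [hek]
        · exact Fin.succAbove_ne i q
        · rw [← hpa]
          exact fun h => hq (Fin.succAbove_right_injective h)
      · show del R f e.1 i p - (c : R) • del R f e'.1 i p ∈ spanBefore R _ (del R f e.1 i) p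
        rw [spanBefore_del hp e.2, hpa]
        refine ⟨- ((↑(us⁻¹) : R) • y), Submodule.neg_mem _ (Submodule.smul_mem _ _ hy), ?_⟩
        unfold del
        rw [hpa, heb]
        have h5 : y = f - (us : R) • e.1 b - (ur : R) • e.1 i := by
          have h6 : f = (y + (us : R) • e.1 b) + (ur : R) • e.1 i := by rw [hyz]; abel
          rw [h6]; abel
        rw [h5]
        simp only [Submodule.mkQ_apply, Submodule.Quotient.mk_neg, Submodule.Quotient.mk_smul,
          Submodule.Quotient.mk_sub, mk_f, zero_sub, c, Units.val_neg, Units.val_mul, neg_smul,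
          smul_neg, smul_sub, smul_smul, Units.inv_mul, one_smul, neg_neg, sub_neg_eq_add, neg_sub]
        rw [mul_smul]
        simp only [smul_zero, neg_zero, zero_add, add_zero]
        abel
  by_cases hib : i = b
  · subst hib
    by_cases hmem : f ∈ spanBefore R M e.1 i ⊔ Submodule.span R {e.1 a}
    · -- case 2a : both values vanish
      obtain ⟨y, hy, z, hz, hyz⟩ := Submodule.mem_sup.mp hmem
      obtain ⟨r', rfl⟩ := Submodule.mem_span_singleton.mp hz
      have hfy : f - r' • e.1 a = y := by rw [← hyz]; abel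
      have hp' : IsPivot f e'.1 i r' := by
        refine ⟨by rw [hsp i (by omega)]; exact hp.1, ?_⟩
        rw [hsp i (by omega), heb, hfy]
        exact hy
      rw [stepD_eq D' e hp, stepD_eq D' e' hp']
      unfold stepVal
      rw [hD.relA ⟨del R f e.1 i, isAdmissible_del hp e.2⟩ p ?_,
        hD.relA ⟨del R f e'.1 i, isAdmissible_del hp' e'.2⟩ p ?_]
      · ring
      · show del R f e'.1 i p ∈ spanBefore R _ (del R f e'.1 i) p
        rw [spanBefore_del hp' e'.2, hpb]
        unfold del
        rw [hpb, hea]
        exact Submodule.map_mono hba' (hp.mk_mem e.2)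
      · show del R f e.1 i p ∈ spanBefore R _ (del R f e.1 i) p
        rw [spanBefore_del hp e.2, hpb]
        unfold del
        rw [hpb]
        have h7 := hp'.mk_mem e'.2
        rw [heb, hsp i (by omega)] at h7
        exact Submodule.map_mono hba h7
    · -- case 2b
      have hp' : IsPivot f e'.1 a r := by
        refine ⟨by rw [hspa']; exact hmem, ?_⟩
        rw [hea]
        exact hba' hp.2
      rw [stepD_eq D' e hp, stepD_eq D' e' hp']
      unfold stepVal
      have hdel : del R f e.1 i = del R f e'.1 a := by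
        funext q
        unfold del
        rw [he', Function.comp_apply, swap_succAbove hab q]
      have hadm : (⟨del R f e.1 i, isAdmissible_del hp e.2⟩ :
          Adm R (M ⧸ Submodule.span R {f}) n) = ⟨del R f e'.1 a, isAdmissible_del hp' e'.2⟩ :=
        Subtype.ext hdel
      rw [hadm, hsign]
      ring
  · -- case 1
    have hia' : (i : ℕ) ≠ (a : ℕ) := fun h => hia (Fin.ext h)
    have hp' : IsPivot f e'.1 i r := by
      refine ⟨by rw [hsp i hia']; exact hp.1, ?_⟩
      rw [hsp i hia', hek i hia hib]
      exact hp.2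
    rw [stepD_eq D' e hp, stepD_eq D' e' hp']
    unfold stepVal
    obtain ⟨pa, hpa'⟩ := Fin.exists_succAbove_eq (Ne.symm hia)
    obtain ⟨pb, hpb'⟩ := Fin.exists_succAbove_eq (Ne.symm hib)
    have hpab : (pb : ℕ) + 1 = (pa : ℕ) := by
      have h1 := succAbove_val i pa
      have h2 := succAbove_val i pb
      rw [hpa'] at h1
      rw [hpb'] at h2
      have hib' : (i : ℕ) ≠ (b : ℕ) := fun h => hib (Fin.ext h)
      split_ifs at h1 h2 <;> omega
    have hC := hD.relC ⟨del R f e.1 i, isAdmissible_del hp e.2⟩
      ⟨del R f e'.1 i, isAdmissible_del hp' e'.2⟩ pa pb hpab ?_ ?_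
    · rw [← mul_add, hC, mul_zero]
    · intro s hs
      show s • del R f e.1 i pa ∈ spanBefore R _ (del R f e.1 i) pb
      rw [spanBefore_del hp e.2, hpb']
      unfold del
      rw [hpa']
      exact ⟨s • e.1 a, hcond s hs, rfl⟩
    · show del R f e'.1 i = del R f e.1 i ∘ Equiv.swap pa pb
      funext q
      unfold del
      rw [he', Function.comp_apply, Function.comp_apply, ← hpa', ← hpb',
        (Fin.succAbove_right_injective (p := i)).swap_apply]

theorem stepD_ne_zero (hf0 : f ≠ 0) (hD : IsDetFun D') (e : Adm R M (n + 1))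
    (hg : Generates R M e.1) : stepD D' e ≠ 0 := by
  have hex : ∃ (i : Fin (n + 1)) (r : R), IsPivot f e.1 i r := by
    rw [exists_pivot_iff hf0, hg]
    trivial
  obtain ⟨i, r, hp⟩ := hex
  rw [stepD_eq D' e hp]
  unfold stepVal
  have hr0 : residue R r ≠ 0 := by
    rw [ne_eq, residue_eq_zero_iff]
    exact fun h => (IsLocalRing.mem_maximalIdeal _).mp h (hp.isUnit e.2)
  refine mul_ne_zero (mul_ne_zero (pow_ne_zero _ (by simp)) (inv_ne_zero hr0)) ?_
  exact hD.ne_zero _ (generates_del hp e.2 hg)

theorem isDetFun_stepD (hf0 : f ≠ 0) (hD : IsDetFun D') : IsDetFun (stepD (f := f) D') where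
  relA := stepD_relA hD
  relB := stepD_relB hf0 hD
  relC := stepD_relC hf0 hD
  ne_zero := stepD_ne_zero hf0 hD

end StepD

end Step

/-- a nonzero element spanning a simple submodule, in a nonzero module of finite length. -/
theorem exists_simple_span (hM : IsFiniteLength R M) [Nontrivial M] :
    ∃ f : M, f ≠ 0 ∧ Module.length R (Submodule.span R {f}) = 1 := by
  obtain ⟨_, hA⟩ := isFiniteLength_iff_isNoetherian_isArtinian.mp hM
  haveI : IsAtomic (Submodule R M) := isAtomic_of_orderBot_wellFounded_lt wellFounded_lt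
  obtain ⟨N, hN⟩ := IsAtomic.exists_atom (Submodule R M)
  obtain ⟨f, hfN, hf0⟩ := Submodule.exists_mem_ne_zero_of_ne_bot hN.1
  refine ⟨f, hf0, ?_⟩
  have hle : Submodule.span R {f} ≤ N := (Submodule.span_singleton_le_iff_mem f N).mpr hfN
  have hne : Submodule.span R {f} ≠ ⊥ := by
    rw [ne_eq, Submodule.span_singleton_eq_bot]
    exact hf0
  have heq : Submodule.span R {f} = N := by
    rcases hN.le_iff.mp hle with h | h
    · exact absurd h hne
    · exact h
  rw [heq, Module.length_eq_one_iff, isSimpleModule_iff_isAtom]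
  exact hN

/-- existence of a determinant functional, by induction on the length. -/
theorem exists_isDetFun : ∀ (n : ℕ) (M : Type v) [AddCommGroup M] [Module R M],
    Module.length R M = n → ∃ D : Adm R M n → ResidueField R, IsDetFun D := by
  intro n
  induction n with
  | zero =>
    intro M _ _ _
    exact ⟨fun _ => 1, ⟨fun _ a => a.elim0, fun _ _ a => a.elim0, fun _ _ a => a.elim0,
      fun _ _ => one_ne_zero⟩⟩
  | succ n ih =>
    intro M _ _ hl
    have hM : IsFiniteLength R M := by
      rw [← Module.length_ne_top_iff, hl]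
      exact ENat.coe_ne_top _
    haveI : Nontrivial M := by
      rw [← Module.length_pos_iff (R := R), hl]
      exact_mod_cast Nat.succ_pos n
    obtain ⟨f, hf0, hlf⟩ := exists_simple_span hM
    have hadd := Module.length_eq_add_of_exact (Submodule.span R {f}).subtype
      (Submodule.span R {f}).mkQ (Submodule.injective_subtype _) (Submodule.mkQ_surjective _)
      (LinearMap.exact_subtype_mkQ _)
    rw [hl, hlf] at hadd
    have hq : Module.length R (M ⧸ Submodule.span R {f}) = n := by
      have hne : Module.length R (M ⧸ Submodule.span R {f}) ≠ ⊤ := by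
        intro h
        rw [h] at hadd
        simp at hadd
      lift Module.length R (M ⧸ Submodule.span R {f}) to ℕ using hne with k hk
      have : n + 1 = 1 + k := by exact_mod_cast hadd
      congr 1
      omega
    obtain ⟨D', hD'⟩ := ih (M ⧸ Submodule.span R {f}) hq
    exact ⟨stepD D', isDetFun_stepD hf0 hD'⟩

/-- the symbol of a generating admissible tuple of the right length is nonzero. -/
theorem symb_ne_zero {l : ℕ} (hl : Module.length R M = l) (e : Adm R M l)
    (hg : Generates R M e.1) : symb e ≠ 0 := by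
  obtain ⟨D, hD⟩ := exists_isDetFun (R := R) l M hl
  exact symb_ne_zero_of_isDetFun D hD e hg

end Groth.Agent.Lib.Seat9.DetFun
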