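import Mathlib
import Groth.Prelude.Def_CycDet
import Groth.Agent.Lib.Seat9DetFun

/-!
# Determinants of finite length modules: multiplicativity in short exact sequences (seat 9)

For `0 → K → L → M → 0` we concatenate admissible tuples: a generating admissible tuple of `K`
followed by lifts of an admissible tuple of `M` is an admissible tuple of `L`.  This is compatible
with the admissible relations in both variables and so induces
`det K ⊗ det M → det L`, which is an isomorphism because all three spaces are lines.
-/

set_option autoImplicit false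
set_option linter.unusedSectionVars false
universe u v w x

namespace Groth.Agent.Lib.Seat9.DetGamma

open CycDet IsLocalRing Groth.Agent.Lib.Seat9.DetBasic Groth.Agent.Lib.Seat9.DetMoves
  Groth.Agent.Lib.Seat9.DetFun

variable {R : Type u} [CommRing R] [IsLocalRing R]
  {K : Type v} [AddCommGroup K] [Module R K]
  {L : Type w} [AddCommGroup L] [Module R L]
  {M : Type x} [AddCommGroup M] [Module R M]

section Append

variable {k m : ℕ}

theorem append_image_lt_le {α : Type*} (x : Fin k → α) (y : Fin m → α) {j : ℕ} (hj : j ≤ k) :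
    Fin.append x y '' {i : Fin (k + m) | (i : ℕ) < j} = x '' {i : Fin k | (i : ℕ) < j} := by
  ext z
  simp only [Set.mem_image, Set.mem_ofPred_eq]
  constructor
  · rintro ⟨i, hi, rfl⟩
    induction i using Fin.addCases with
    | left i =>
      rw [Fin.val_castAdd] at hi
      exact ⟨i, hi, (Fin.append_left x y i).symm⟩
    | right i =>
      rw [Fin.val_natAdd] at hi
      omega
  · rintro ⟨i, hi, rfl⟩
    exact ⟨Fin.castAdd m i, by rw [Fin.val_castAdd]; exact hi, Fin.append_left x y i⟩

theorem append_image_lt_add {α : Type*} (x : Fin k → α) (y : Fin m → α) (j : ℕ) :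
    Fin.append x y '' {i : Fin (k + m) | (i : ℕ) < k + j} =
      Set.range x ∪ y '' {i : Fin m | (i : ℕ) < j} := by
  ext z
  simp only [Set.mem_image, Set.mem_ofPred_eq, Set.mem_union, Set.mem_range]
  constructor
  · rintro ⟨i, hi, rfl⟩
    induction i using Fin.addCases with
    | left i => exact Or.inl ⟨i, (Fin.append_left x y i).symm⟩
    | right i =>
      rw [Fin.val_natAdd] at hi
      exact Or.inr ⟨i, by omega, (Fin.append_right x y i).symm⟩
  · rintro (⟨i, rfl⟩ | ⟨i, hi, rfl⟩)
    · exact ⟨Fin.castAdd m i, by rw [Fin.val_castAdd]; omega, Fin.append_left x y i⟩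
    · exact ⟨Fin.natAdd k i, by rw [Fin.val_natAdd]; omega, Fin.append_right x y i⟩

theorem append_comp_swap_right {α : Type*} (x : Fin k → α) (y : Fin m → α) (a b : Fin m) :
    Fin.append x (y ∘ Equiv.swap a b) =
      Fin.append x y ∘ Equiv.swap (Fin.natAdd k a) (Fin.natAdd k b) := by
  funext i
  induction i using Fin.addCases with
  | left i =>
    rw [Function.comp_apply, Equiv.swap_apply_of_ne_of_ne, Fin.append_left, Fin.append_left]
    · intro h
      have := congrArg Fin.val h
      rw [Fin.val_castAdd, Fin.val_natAdd] at this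
      omega
    · intro h
      have := congrArg Fin.val h
      rw [Fin.val_castAdd, Fin.val_natAdd] at this
      omega
  | right i =>
    rw [Function.comp_apply, (Fin.natAdd_injective m k).swap_apply, Fin.append_right,
      Fin.append_right, Function.comp_apply]

theorem append_comp_swap_left {α : Type*} (x : Fin k → α) (y : Fin m → α) (a b : Fin k) :
    Fin.append (x ∘ Equiv.swap a b) y =
      Fin.append x y ∘ Equiv.swap (Fin.castAdd m a) (Fin.castAdd m b) := by
  funext i
  induction i using Fin.addCases with
  | left i =>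
    rw [Function.comp_apply, (Fin.castAdd_injective k m).swap_apply, Fin.append_left,
      Fin.append_left, Function.comp_apply]
  | right i =>
    rw [Function.comp_apply, Equiv.swap_apply_of_ne_of_ne, Fin.append_right, Fin.append_right]
    · intro h
      have := congrArg Fin.val h
      rw [Fin.val_castAdd, Fin.val_natAdd] at this
      omega
    · intro h
      have := congrArg Fin.val h
      rw [Fin.val_castAdd, Fin.val_natAdd] at this
      omega

variable (f : K →ₗ[R] L) (g : L →ₗ[R] M)

theorem spanBefore_append_le (a : Fin k → K) (b : Fin m → L) {j : ℕ} (hj : j ≤ k) :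
    spanBefore R L (Fin.append (f ∘ a) b) j = Submodule.map f (spanBefore R K a j) := by
  unfold spanBefore
  rw [append_image_lt_le _ _ hj, Set.image_comp, Submodule.map_span]

theorem spanBefore_append_add (a : Fin k → K) (b : Fin m → L) (j : ℕ) :
    spanBefore R L (Fin.append (f ∘ a) b) (k + j) =
      Submodule.map f (Submodule.span R (Set.range a)) ⊔ spanBefore R L b j := by
  unfold spanBefore
  rw [append_image_lt_add, Submodule.span_union, Set.range_comp, Submodule.map_span]

theorem spanBefore_comp (b : Fin m → L) (j : ℕ) :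
    spanBefore R M (g ∘ b) j = Submodule.map g (spanBefore R L b j) := by
  unfold spanBefore
  rw [Set.image_comp, Submodule.map_span]

variable {f g}

theorem spanBefore_append_gen (hfg : LinearMap.range f = LinearMap.ker g) (a : Fin k → K)
    (ha : Generates R K a) (b : Fin m → L) (j : ℕ) :
    spanBefore R L (Fin.append (f ∘ a) b) (k + j) =
      Submodule.comap g (spanBefore R M (g ∘ b) j) := by
  rw [spanBefore_append_add, ha, Submodule.map_top, hfg, spanBefore_comp,
    Submodule.comap_map_eq, sup_comm]

theorem isAdmissible_append (hfg : LinearMap.range f = LinearMap.ker g) (a : Fin k → K)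
    (haa : IsAdmissible R K a) (ha : Generates R K a) (b : Fin m → L)
    (hb : IsAdmissible R M (g ∘ b)) : IsAdmissible R L (Fin.append (f ∘ a) b) := by
  intro i r hr
  induction i using Fin.addCases with
  | left i =>
    rw [Fin.append_left, Fin.val_castAdd, spanBefore_append_le f a b (le_of_lt i.2)]
    exact ⟨r • a i, haa i r hr, map_smul f r (a i)⟩
  | right j =>
    rw [Fin.append_right, Fin.val_natAdd, spanBefore_append_gen hfg a ha]
    rw [Submodule.mem_comap, map_smul]
    exact hb j r hr

theorem generates_append (hfg : LinearMap.range f = LinearMap.ker g) (a : Fin k → K)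
    (ha : Generates R K a) (b : Fin m → L) (hb : Generates R M (g ∘ b)) :
    Generates R L (Fin.append (f ∘ a) b) := by
  unfold Generates
  rw [← spanBefore_of_le (R := R) (Fin.append (f ∘ a) b) (le_refl (k + m)),
    spanBefore_append_gen hfg a ha, spanBefore_of_le (R := R) (g ∘ b) (le_refl m), hb,
    Submodule.comap_top]

/-- the concatenated tuple. -/
def app (hfg : LinearMap.range f = LinearMap.ker g) (eK : Adm R K k)
    (hK : Generates R K eK.1) (b : Fin m → L) (hb : IsAdmissible R M (g ∘ b)) :
    Adm R L (k + m) :=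
  ⟨Fin.append (f ∘ eK.1) b, isAdmissible_append hfg eK.1 eK.2 hK b hb⟩

theorem app_congr (hfg : LinearMap.range f = LinearMap.ker g) {eK eK' : Adm R K k}
    (hK : Generates R K eK.1) (hK' : Generates R K eK'.1) {b b' : Fin m → L}
    (hb : IsAdmissible R M (g ∘ b)) (hb' : IsAdmissible R M (g ∘ b')) (h1 : eK = eK')
    (h2 : b = b') : app hfg eK hK b hb = app hfg eK' hK' b' hb' := by
  subst h1 h2
  rfl

/-- relation (b) in the second variable, at the level of lifts. -/
theorem symb_app_relB (hfg : LinearMap.range f = LinearMap.ker g) (eK : Adm R K k)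
    (hK : Generates R K eK.1) (b b' : Fin m → L) (hb : IsAdmissible R M (g ∘ b))
    (hb' : IsAdmissible R M (g ∘ b')) (a : Fin m) (c : Rˣ) (h1 : ∀ j, j ≠ a → b j = b' j)
    (h2 : g (b a) - (c : R) • g (b' a) ∈ spanBefore R M (g ∘ b) a) :
    symb (app hfg eK hK b hb) = residue R (c : R) • symb (app hfg eK hK b' hb') := by
  refine symb_relB _ _ (Fin.natAdd k a) c ?_ ?_
  · intro j hj
    show Fin.append (f ∘ eK.1) b j = Fin.append (f ∘ eK.1) b' j
    induction j using Fin.addCases with
    | left j => rw [Fin.append_left, Fin.append_left]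
    | right j =>
      rw [Fin.append_right, Fin.append_right]
      exact h1 j (fun h => hj (by rw [h]))
  · show Fin.append (f ∘ eK.1) b (Fin.natAdd k a) - (c : R) • Fin.append (f ∘ eK.1) b' (Fin.natAdd k a)
      ∈ spanBefore R L (Fin.append (f ∘ eK.1) b) (Fin.natAdd k a : Fin (k + m))
    rw [Fin.append_right, Fin.append_right, Fin.val_natAdd, spanBefore_append_gen hfg eK.1 hK]
    rw [Submodule.mem_comap, map_sub, map_smul]
    exact h2

/-- the symbol of the concatenated tuple does not depend on the lifts. -/
theorem symb_app_lifts (hfg : LinearMap.range f = LinearMap.ker g) (eK : Adm R K k)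
    (hK : Generates R K eK.1) (b b' : Fin m → L) (hb : IsAdmissible R M (g ∘ b))
    (hb' : IsAdmissible R M (g ∘ b')) (h : g ∘ b = g ∘ b') :
    symb (app hfg eK hK b hb) = symb (app hfg eK hK b' hb') := by
  let hyb : ℕ → Fin m → L := fun t j => if (j : ℕ) < t then b' j else b j
  have hgh : ∀ t, g ∘ hyb t = g ∘ b := by
    intro t
    funext j
    simp only [Function.comp_apply, hyb]
    split_ifs
    · exact (congrFun h j).symm
    · rfl
  have hadm : ∀ t, IsAdmissible R M (g ∘ hyb t) := fun t => by rw [hgh t]; exact hb
  have key : ∀ t, t ≤ m → symb (app hfg eK hK (hyb t) (hadm t)) = symb (app hfg eK hK b hb) := by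
    intro t
    induction t with
    | zero =>
      intro _
      congr 1
    | succ t ih =>
      intro ht
      rw [← ih (by omega)]
      have h3 := symb_app_relB hfg eK hK (hyb (t + 1)) (hyb t) (hadm _) (hadm _) ⟨t, by omega⟩ 1
        ?_ ?_
      · rw [h3, Units.val_one, map_one, one_smul]
      · intro j hj
        have hjt : (j : ℕ) ≠ t := fun h => hj (Fin.ext h)
        simp only [hyb]
        have : ((j : ℕ) < t + 1) ↔ ((j : ℕ) < t) := by omega
        simp only [this]
      · have e1 : g (hyb (t + 1) ⟨t, by omega⟩) = g (b ⟨t, by omega⟩) := congrFun (hgh (t + 1)) _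
        have e2 : g (hyb t ⟨t, by omega⟩) = g (b ⟨t, by omega⟩) := congrFun (hgh t) _
        rw [e1, e2, Units.val_one, one_smul, sub_self]
        exact Submodule.zero_mem _
  rw [← key m le_rfl]
  congr 1
  refine app_congr hfg hK hK _ _ rfl ?_
  funext j
  simp [hyb]

end Append

section Phi

variable {k m : ℕ} {f : K →ₗ[R] L} {g : L →ₗ[R] M}

theorem sec_comp (hg : Function.Surjective g) (eM : Fin m → M) :
    g ∘ (Function.surjInv hg ∘ eM) = eM := by
  funext j
  exact Function.surjInv_eq hg (eM j)

theorem sec_adm (hg : Function.Surjective g) (eM : Adm R M m) :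
    IsAdmissible R M (g ∘ (Function.surjInv hg ∘ eM.1)) := by
  rw [sec_comp hg]
  exact eM.2

open Classical in
/-- the pairing on tuples. -/
noncomputable def Phi (hfg : LinearMap.range f = LinearMap.ker g) (hg : Function.Surjective g)
    (eK : Adm R K k) (eM : Adm R M m) : DetOfLen R L (k + m) :=
  if h : Generates R K eK.1 then symb (app hfg eK h (Function.surjInv hg ∘ eM.1) (sec_adm hg eM))
  else 0

theorem Phi_pos (hfg : LinearMap.range f = LinearMap.ker g) (hg : Function.Surjective g)
    (eK : Adm R K k) (eM : Adm R M m) (h : Generates R K eK.1) :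
    Phi hfg hg eK eM = symb (app hfg eK h (Function.surjInv hg ∘ eM.1) (sec_adm hg eM)) := by
  unfold Phi
  rw [dif_pos h]

theorem Phi_neg (hfg : LinearMap.range f = LinearMap.ker g) (hg : Function.Surjective g)
    (eK : Adm R K k) (eM : Adm R M m) (h : ¬ Generates R K eK.1) :
    Phi hfg hg eK eM = 0 := by
  unfold Phi
  rw [dif_neg h]

/-- the pairing computes the symbol of any concatenation. -/
theorem Phi_eq (hfg : LinearMap.range f = LinearMap.ker g) (hg : Function.Surjective g)
    (eK : Adm R K k) (eM : Adm R M m) (h : Generates R K eK.1) (b : Fin m → L)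
    (hb : g ∘ b = eM.1) :
    Phi hfg hg eK eM = symb (app hfg eK h b (by rw [hb]; exact eM.2)) := by
  rw [Phi_pos hfg hg eK eM h]
  exact symb_app_lifts hfg eK h _ _ _ _ (by rw [sec_comp hg, hb])

/-! ### relations in the second variable -/

theorem Phi_relA_right (hfg : LinearMap.range f = LinearMap.ker g) (hg : Function.Surjective g)
    (eK : Adm R K k) (eM : Adm R M m) (a : Fin m) (ha : eM.1 a ∈ spanBefore R M eM.1 a) :
    Phi hfg hg eK eM = 0 := by
  by_cases h : Generates R K eK.1
  · rw [Phi_pos hfg hg eK eM h]
    refine symb_relA _ (Fin.natAdd k a) ?_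
    show Fin.append (f ∘ eK.1) (Function.surjInv hg ∘ eM.1) (Fin.natAdd k a) ∈
      spanBefore R L (Fin.append (f ∘ eK.1) (Function.surjInv hg ∘ eM.1))
        (Fin.natAdd k a : Fin (k + m))
    rw [Fin.append_right, Fin.val_natAdd, spanBefore_append_gen hfg eK.1 h, sec_comp hg,
      Submodule.mem_comap, Function.comp_apply, Function.surjInv_eq hg]
    exact ha
  · exact Phi_neg hfg hg eK eM h

theorem Phi_relB_right (hfg : LinearMap.range f = LinearMap.ker g) (hg : Function.Surjective g)
    (eK : Adm R K k) (eM eM' : Adm R M m) (a : Fin m) (c : Rˣ)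
    (h1 : ∀ j, j ≠ a → eM.1 j = eM'.1 j)
    (h2 : eM.1 a - (c : R) • eM'.1 a ∈ spanBefore R M eM.1 a) :
    Phi hfg hg eK eM = residue R (c : R) • Phi hfg hg eK eM' := by
  by_cases h : Generates R K eK.1
  · rw [Phi_pos hfg hg eK eM h, Phi_pos hfg hg eK eM' h]
    refine symb_app_relB hfg eK h _ _ _ _ a c ?_ ?_
    · intro j hj
      rw [Function.comp_apply, Function.comp_apply, h1 j hj]
    · rw [sec_comp hg, Function.comp_apply, Function.comp_apply, Function.surjInv_eq hg,
        Function.surjInv_eq hg]
      exact h2
  · rw [Phi_neg hfg hg eK eM h, Phi_neg hfg hg eK eM' h, smul_zero]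

theorem Phi_relC_right (hfg : LinearMap.range f = LinearMap.ker g) (hg : Function.Surjective g)
    (eK : Adm R K k) (eM eM' : Adm R M m) (a b : Fin m) (hab : (b : ℕ) + 1 = (a : ℕ))
    (h1 : ∀ r ∈ maximalIdeal R, r • eM.1 a ∈ spanBefore R M eM.1 b)
    (h2 : eM'.1 = eM.1 ∘ Equiv.swap a b) :
    Phi hfg hg eK eM + Phi hfg hg eK eM' = 0 := by
  by_cases h : Generates R K eK.1
  · rw [Phi_pos hfg hg eK eM h, Phi_pos hfg hg eK eM' h, ← eq_neg_iff_add_eq_zero]
    refine symb_relC _ _ (Fin.natAdd k a) (Fin.natAdd k b) ?_ ?_ ?_
    · rw [Fin.val_natAdd, Fin.val_natAdd]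
      omega
    · intro r hr
      show r • Fin.append (f ∘ eK.1) (Function.surjInv hg ∘ eM.1) (Fin.natAdd k a) ∈
        spanBefore R L (Fin.append (f ∘ eK.1) (Function.surjInv hg ∘ eM.1))
          (Fin.natAdd k b : Fin (k + m))
      rw [Fin.append_right, Fin.val_natAdd, spanBefore_append_gen hfg eK.1 h, sec_comp hg,
        Submodule.mem_comap, map_smul, Function.comp_apply, Function.surjInv_eq hg]
      exact h1 r hr
    · show Fin.append (f ∘ eK.1) (Function.surjInv hg ∘ eM'.1) =
        Fin.append (f ∘ eK.1) (Function.surjInv hg ∘ eM.1) ∘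
          Equiv.swap (Fin.natAdd k a) (Fin.natAdd k b)
      rw [h2, ← append_comp_swap_right, Function.comp_assoc]
  · rw [Phi_neg hfg hg eK eM h, Phi_neg hfg hg eK eM' h, add_zero]

/-! ### relations in the first variable -/

theorem generates_iff_of_relB {eK eK' : Adm R K k} (a : Fin k) (c : Rˣ)
    (h1 : ∀ j, j ≠ a → eK.1 j = eK'.1 j)
    (h2 : eK.1 a - (c : R) • eK'.1 a ∈ spanBefore R K eK.1 a) :
    Generates R K eK.1 ↔ Generates R K eK'.1 := by
  have hu : eK'.1 = Function.update eK.1 a (eK'.1 a) := by
    funext j
    by_cases hj : j = a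
    · subst hj
      rw [Function.update_self]
    · rw [Function.update_of_ne hj, h1 j hj]
  have hu' : eK.1 = Function.update eK'.1 a (eK.1 a) := by
    funext j
    by_cases hj : j = a
    · subst hj
      rw [Function.update_self]
    · rw [Function.update_of_ne hj, h1 j hj]
  constructor
  · intro hgen
    rw [hu]
    exact generates_update eK.1 a (eK'.1 a) c h2 hgen
  · intro hgen
    rw [hu']
    refine generates_update eK'.1 a (eK.1 a) c⁻¹ ?_ hgen
    have hsp : spanBefore R K eK'.1 a = spanBefore R K eK.1 a :=
      spanBefore_congr fun j hj => (h1 j (fun h => by rw [h] at hj; exact lt_irrefl _ hj)).symm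
    rw [hsp]
    have : eK'.1 a - ((c⁻¹ : Rˣ) : R) • eK.1 a =
        - (((c⁻¹ : Rˣ) : R) • (eK.1 a - (c : R) • eK'.1 a)) := by
      rw [smul_sub, smul_smul, Units.inv_mul, one_smul]
      abel
    rw [this]
    exact Submodule.neg_mem _ (Submodule.smul_mem _ _ h2)

theorem Phi_relA_left (hk : Module.length R K = k) (hfg : LinearMap.range f = LinearMap.ker g)
    (hg : Function.Surjective g)
    (eK : Adm R K k) (eM : Adm R M m) (a : Fin k) (ha : eK.1 a ∈ spanBefore R K eK.1 a) :
    Phi hfg hg eK eM = 0 :=
  Phi_neg hfg hg eK eM fun h => notMem_of_generates eK.1 eK.2 hk h a ha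

theorem Phi_relB_left (hfg : LinearMap.range f = LinearMap.ker g) (hg : Function.Surjective g)
    (eK eK' : Adm R K k) (eM : Adm R M m) (a : Fin k) (c : Rˣ)
    (h1 : ∀ j, j ≠ a → eK.1 j = eK'.1 j)
    (h2 : eK.1 a - (c : R) • eK'.1 a ∈ spanBefore R K eK.1 a) :
    Phi hfg hg eK eM = residue R (c : R) • Phi hfg hg eK' eM := by
  by_cases h : Generates R K eK.1
  · have h' : Generates R K eK'.1 := (generates_iff_of_relB a c h1 h2).mp h
    rw [Phi_pos hfg hg eK eM h, Phi_pos hfg hg eK' eM h']
    refine symb_relB _ _ (Fin.castAdd m a) c ?_ ?_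
    · intro j hj
      show Fin.append (f ∘ eK.1) _ j = Fin.append (f ∘ eK'.1) _ j
      induction j using Fin.addCases with
      | left j =>
        rw [Fin.append_left, Fin.append_left, Function.comp_apply, Function.comp_apply,
          h1 j (fun h => hj (by rw [h]))]
      | right j => rw [Fin.append_right, Fin.append_right]
    · show Fin.append (f ∘ eK.1) (Function.surjInv hg ∘ eM.1) (Fin.castAdd m a) -
        (c : R) • Fin.append (f ∘ eK'.1) (Function.surjInv hg ∘ eM.1) (Fin.castAdd m a) ∈
        spanBefore R L (Fin.append (f ∘ eK.1) (Function.surjInv hg ∘ eM.1))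
          (Fin.castAdd m a : Fin (k + m))
      rw [Fin.append_left, Fin.append_left, Fin.val_castAdd,
        spanBefore_append_le f eK.1 _ (le_of_lt a.2)]
      exact ⟨_, h2, by rw [map_sub, map_smul, Function.comp_apply, Function.comp_apply]⟩
  · have h' : ¬ Generates R K eK'.1 := fun h' => h ((generates_iff_of_relB a c h1 h2).mpr h')
    rw [Phi_neg hfg hg eK eM h, Phi_neg hfg hg eK' eM h', smul_zero]

theorem Phi_relC_left (hfg : LinearMap.range f = LinearMap.ker g) (hg : Function.Surjective g)
    (eK eK' : Adm R K k) (eM : Adm R M m) (a b : Fin k) (hab : (b : ℕ) + 1 = (a : ℕ))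
    (h1 : ∀ r ∈ maximalIdeal R, r • eK.1 a ∈ spanBefore R K eK.1 b)
    (h2 : eK'.1 = eK.1 ∘ Equiv.swap a b) :
    Phi hfg hg eK eM + Phi hfg hg eK' eM = 0 := by
  have hiff : Generates R K eK.1 ↔ Generates R K eK'.1 := by
    constructor
    · intro h
      rw [h2]
      exact generates_swap eK.1 a b h
    · intro h
      have : eK.1 = eK'.1 ∘ Equiv.swap a b := by
        rw [h2, Function.comp_assoc]
        funext j
        simp
      rw [this]
      exact generates_swap eK'.1 a b h
  by_cases h : Generates R K eK.1
  · have h' : Generates R K eK'.1 := hiff.mp h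
    rw [Phi_pos hfg hg eK eM h, Phi_pos hfg hg eK' eM h', ← eq_neg_iff_add_eq_zero]
    refine symb_relC _ _ (Fin.castAdd m a) (Fin.castAdd m b) ?_ ?_ ?_
    · rw [Fin.val_castAdd, Fin.val_castAdd]
      exact hab
    · intro r hr
      show r • Fin.append (f ∘ eK.1) (Function.surjInv hg ∘ eM.1) (Fin.castAdd m a) ∈
        spanBefore R L (Fin.append (f ∘ eK.1) (Function.surjInv hg ∘ eM.1))
          (Fin.castAdd m b : Fin (k + m))
      rw [Fin.append_left, Fin.val_castAdd, spanBefore_append_le f eK.1 _ (le_of_lt b.2)]
      exact ⟨_, h1 r hr, by rw [map_smul, Function.comp_apply]⟩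
    · show Fin.append (f ∘ eK'.1) (Function.surjInv hg ∘ eM.1) =
        Fin.append (f ∘ eK.1) (Function.surjInv hg ∘ eM.1) ∘
          Equiv.swap (Fin.castAdd m a) (Fin.castAdd m b)
      rw [h2, ← append_comp_swap_left, Function.comp_assoc]
  · have h' : ¬ Generates R K eK'.1 := fun h' => h (hiff.mpr h')
    rw [Phi_neg hfg hg eK eM h, Phi_neg hfg hg eK' eM h', add_zero]

end Phi

section Exists

/-- a simple cyclic submodule is killed by the maximal ideal. -/
theorem smul_eq_zero_of_length_span (f : M) (hlf : Module.length R (Submodule.span R {f}) = 1)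
    (r : R) (hr : r ∈ maximalIdeal R) : r • f = 0 := by
  haveI : IsSimpleModule R (Submodule.span R {f}) := Module.length_eq_one_iff.mp hlf
  have hmax := IsSimpleModule.annihilator_isMaximal (R := R) (M := Submodule.span R {f})
  have hann := IsLocalRing.eq_maximalIdeal hmax
  rw [← hann, Module.mem_annihilator] at hr
  have := hr ⟨f, Submodule.mem_span_singleton_self f⟩
  exact congrArg Subtype.val this

/-- generating admissible tuples of the right length exist. -/
theorem exists_generates : ∀ (n : ℕ) (M : Type x) [AddCommGroup M] [Module R M],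
    Module.length R M = n → ∃ e : Adm R M n, Generates R M e.1 := by
  intro n
  induction n with
  | zero =>
    intro M _ _ hl
    have hsub : Subsingleton M := Module.length_eq_zero_iff.mp (by exact_mod_cast hl)
    refine ⟨⟨fun i => i.elim0, fun i => i.elim0⟩, ?_⟩
    unfold Generates
    exact Subsingleton.elim _ _
  | succ n ih =>
    intro M _ _ hl
    have hM : IsFiniteLength R M := by
      rw [← Module.length_ne_top_iff, hl]
      exact ENat.coe_ne_top _
    haveI : Nontrivial M := by
      rw [← Module.length_pos_iff (R := R), hl]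
      exact_mod_cast Nat.succ_pos n
    obtain ⟨f, hf0, hlf⟩ := exists_simple_span hM
    have hadd := Module.length_eq_add_of_exact (Submodule.span R {f}).subtype
      (Submodule.span R {f}).mkQ (Submodule.injective_subtype _) (Submodule.mkQ_surjective _)
      (LinearMap.exact_subtype_mkQ _)
    rw [hl, hlf] at hadd
    have hq : Module.length R (M ⧸ Submodule.span R {f}) = n := by
      have hne : Module.length R (M ⧸ Submodule.span R {f}) ≠ ⊤ := by
        intro h
        rw [h] at hadd
        simp at hadd
      lift Module.length R (M ⧸ Submodule.span R {f}) to ℕ using hne with k hk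
      have : n + 1 = 1 + k := by exact_mod_cast hadd
      congr 1
      omega
    obtain ⟨e', he'⟩ := ih (M ⧸ Submodule.span R {f}) hq
    -- the one element tuple of the simple submodule
    let f' : Submodule.span R {f} := ⟨f, Submodule.mem_span_singleton_self f⟩
    have hadm1 : IsAdmissible R (Submodule.span R {f}) (fun _ : Fin 1 => f') := by
      intro i r hr
      have : r • f' = 0 := Subtype.ext (smul_eq_zero_of_length_span f hlf r hr)
      rw [this]
      exact Submodule.zero_mem _
    have hgen1 : Generates R (Submodule.span R {f}) (fun _ : Fin 1 => f') := by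
      unfold Generates
      rw [eq_top_iff]
      rintro ⟨y, hy⟩ -
      obtain ⟨c, rfl⟩ := Submodule.mem_span_singleton.mp hy
      have : (⟨c • f, hy⟩ : Submodule.span R {f}) = c • f' := Subtype.ext rfl
      rw [this]
      exact Submodule.smul_mem _ _ (Submodule.subset_span ⟨0, rfl⟩)
    have hfg : LinearMap.range (Submodule.span R {f}).subtype =
        LinearMap.ker (Submodule.span R {f}).mkQ := by
      rw [Submodule.range_subtype, Submodule.ker_mkQ]
    have hsurj := Submodule.mkQ_surjective (Submodule.span R {f})
    have hb : (Submodule.span R {f}).mkQ ∘ (Function.surjInv hsurj ∘ e'.1) = e'.1 :=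
      sec_comp hsurj e'.1
    have hn : n + 1 = 1 + n := Nat.add_comm n 1
    rw [hn]
    refine ⟨app hfg ⟨fun _ : Fin 1 => f', hadm1⟩ hgen1 (Function.surjInv hsurj ∘ e'.1)
      (by rw [hb]; exact e'.2), ?_⟩
    refine generates_append hfg _ hgen1 _ ?_
    rw [hb]
    exact he'

end Exists

section Gamma

open TensorProduct

variable {k m : ℕ} {f : K →ₗ[R] L} {g : L →ₗ[R] M}

/-- the pairing on the free modules. -/
noncomputable def B (hfg : LinearMap.range f = LinearMap.ker g) (hg : Function.Surjective g) :
    Free R K k →ₗ[ResidueField R] Free R M m →ₗ[ResidueField R] DetOfLen R L (k + m) :=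
  Finsupp.linearCombination (ResidueField R) fun eK =>
    Finsupp.linearCombination (ResidueField R) fun eM => Phi hfg hg eK eM

theorem B_sym (hfg : LinearMap.range f = LinearMap.ker g) (hg : Function.Surjective g)
    (eK : Adm R K k) (eM : Adm R M m) :
    B hfg hg (sym R K eK) (sym R M eM) = Phi hfg hg eK eM := by
  simp [B, sym, Finsupp.linearCombination_single]

theorem single_eq_smul_sym {l : ℕ} (e : Adm R M l) (c : ResidueField R) :
    (Finsupp.single e c : Free R M l) = c • sym R M e := by
  unfold sym
  rw [Finsupp.smul_single, smul_eq_mul, mul_one]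

theorem B_sym_right_zero (hfg : LinearMap.range f = LinearMap.ker g)
    (hg : Function.Surjective g) (eK : Adm R K k) :
    Submodule.span (ResidueField R) (relSet R M m) ≤ LinearMap.ker (B hfg hg (sym R K eK)) := by
  rw [Submodule.span_le]
  rintro y ((⟨e, a, h, rfl⟩ | ⟨e, e', a, c, h1, h2, rfl⟩) | ⟨e, e', a, b, hab, h, he', rfl⟩)
  · rw [SetLike.mem_coe, LinearMap.mem_ker, B_sym, Phi_relA_right hfg hg eK e a h]
  · rw [SetLike.mem_coe, LinearMap.mem_ker, map_sub, map_smul, B_sym, B_sym,
      Phi_relB_right hfg hg eK e e' a c h1 h2, sub_self]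
  · rw [SetLike.mem_coe, LinearMap.mem_ker, map_add, B_sym, B_sym,
      Phi_relC_right hfg hg eK e e' a b hab h he']

theorem B_right_zero (hfg : LinearMap.range f = LinearMap.ker g) (hg : Function.Surjective g)
    (x : Free R K k) (y : Free R M m)
    (hy : y ∈ Submodule.span (ResidueField R) (relSet R M m)) : B hfg hg x y = 0 := by
  induction x using Finsupp.induction_linear with
  | zero => rw [map_zero, LinearMap.zero_apply]
  | add x x' hx hx' => rw [map_add, LinearMap.add_apply, hx, hx', add_zero]
  | single e c =>
    rw [single_eq_smul_sym, map_smul, LinearMap.smul_apply]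
    have := B_sym_right_zero hfg hg e hy
    rw [LinearMap.mem_ker] at this
    rw [this, smul_zero]

theorem B_left_zero (hk : Module.length R K = k) (hfg : LinearMap.range f = LinearMap.ker g)
    (hg : Function.Surjective g) :
    Submodule.span (ResidueField R) (relSet R K k) ≤
      LinearMap.ker (B (k := k) (m := m) hfg hg) := by
  rw [Submodule.span_le]
  rintro y ((⟨e, a, h, rfl⟩ | ⟨e, e', a, c, h1, h2, rfl⟩) | ⟨e, e', a, b, hab, h, he', rfl⟩)
  · rw [SetLike.mem_coe, LinearMap.mem_ker]
    refine Finsupp.lhom_ext fun eM d => ?_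
    rw [single_eq_smul_sym, map_smul, B_sym, Phi_relA_left hk hfg hg e eM a h,
      LinearMap.zero_apply, smul_zero]
  · rw [SetLike.mem_coe, LinearMap.mem_ker]
    refine Finsupp.lhom_ext fun eM d => ?_
    rw [single_eq_smul_sym, map_smul, map_sub, map_smul, LinearMap.sub_apply,
      LinearMap.smul_apply, B_sym, B_sym, Phi_relB_left hfg hg e e' eM a c h1 h2, sub_self,
      LinearMap.zero_apply, smul_zero]
  · rw [SetLike.mem_coe, LinearMap.mem_ker]
    refine Finsupp.lhom_ext fun eM d => ?_
    rw [single_eq_smul_sym, map_smul, map_add, LinearMap.add_apply, B_sym, B_sym,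
      Phi_relC_left hfg hg e e' eM a b hab h he', LinearMap.zero_apply, smul_zero]

/-- descend in the first variable. -/
noncomputable def B1 (hk : Module.length R K = k) (hfg : LinearMap.range f = LinearMap.ker g)
    (hg : Function.Surjective g) :
    DetOfLen R K k →ₗ[ResidueField R] Free R M m →ₗ[ResidueField R] DetOfLen R L (k + m) :=
  (Submodule.span (ResidueField R) (relSet R K k)).liftQ (B hfg hg) (B_left_zero hk hfg hg)

theorem B1_flip_zero (hk : Module.length R K = k) (hfg : LinearMap.range f = LinearMap.ker g)
    (hg : Function.Surjective g) :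
    Submodule.span (ResidueField R) (relSet R M m) ≤
      LinearMap.ker (B1 (k := k) (m := m) hk hfg hg).flip := by
  intro y hy
  rw [LinearMap.mem_ker]
  refine LinearMap.ext fun x => ?_
  obtain ⟨x, rfl⟩ := Submodule.mkQ_surjective _ x
  rw [LinearMap.flip_apply, LinearMap.zero_apply]
  show (Submodule.span (ResidueField R) (relSet R K k)).liftQ (B hfg hg) _
    (Submodule.Quotient.mk x) y = 0
  rw [Submodule.liftQ_apply]
  exact B_right_zero hfg hg x y hy

/-- descend in the second variable. -/
noncomputable def B2 (hk : Module.length R K = k) (hfg : LinearMap.range f = LinearMap.ker g)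
    (hg : Function.Surjective g) :
    DetOfLen R M m →ₗ[ResidueField R] DetOfLen R K k →ₗ[ResidueField R] DetOfLen R L (k + m) :=
  (Submodule.span (ResidueField R) (relSet R M m)).liftQ (B1 hk hfg hg).flip
    (B1_flip_zero hk hfg hg)

/-- the map on the tensor product. -/
noncomputable def gamma0 (hk : Module.length R K = k)
    (hfg : LinearMap.range f = LinearMap.ker g) (hg : Function.Surjective g) :
    DetOfLen R K k ⊗[ResidueField R] DetOfLen R M m →ₗ[ResidueField R] DetOfLen R L (k + m) :=
  TensorProduct.lift (B2 hk hfg hg).flip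

theorem gamma0_tmul (hk : Module.length R K = k) (hfg : LinearMap.range f = LinearMap.ker g)
    (hg : Function.Surjective g) (eK : Adm R K k) (eM : Adm R M m) :
    gamma0 hk hfg hg (symb eK ⊗ₜ symb eM) = Phi hfg hg eK eM := by
  unfold gamma0
  rw [TensorProduct.lift.tmul, LinearMap.flip_apply]
  unfold B2 symb
  rw [Submodule.liftQ_apply, LinearMap.flip_apply]
  unfold B1
  rw [Submodule.liftQ_apply, B_sym]

/-- every element of `DetOfLen` is a multiple of the symbol of a generating tuple. -/
theorem exists_smul_symb {l : ℕ} (hl : Module.length R M = l) (e' : Adm R M l)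
    (hg' : Generates R M e'.1) (v : DetOfLen R M l) : ∃ u : ResidueField R, v = u • symb e' := by
  have hv : v ∈ Submodule.span (ResidueField R)
      (Set.range (symb (R := R) (M := M) (l := l))) := by
    rw [span_symb]; trivial
  induction hv using Submodule.span_induction with
  | mem x hx =>
    obtain ⟨e, rfl⟩ := hx
    exact symb_mem_span hl e e' hg'
  | zero => exact ⟨0, (zero_smul _ _).symm⟩
  | add x y _ _ hx hy =>
    obtain ⟨a, rfl⟩ := hx
    obtain ⟨b, rfl⟩ := hy
    exact ⟨a + b, (add_smul _ _ _).symm⟩
  | smul a x _ hx =>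
    obtain ⟨b, rfl⟩ := hx
    exact ⟨a * b, (mul_smul _ _ _).symm⟩

theorem gamma0_bijective (hk : Module.length R K = k) (hm : Module.length R M = m)
    (hl : Module.length R L = (k + m : ℕ))
    (hfg : LinearMap.range f = LinearMap.ker g) (hg : Function.Surjective g) :
    Function.Bijective (gamma0 (k := k) (m := m) hk hfg hg) := by
  obtain ⟨eK, hgK⟩ := exists_generates (R := R) k K hk
  obtain ⟨eM, hgM⟩ := exists_generates (R := R) m M hm
  have hval : gamma0 hk hfg hg (symb eK ⊗ₜ symb eM) =
      symb (app hfg eK hgK (Function.surjInv hg ∘ eM.1) (sec_adm hg eM)) := by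
    rw [gamma0_tmul, Phi_pos hfg hg eK eM hgK]
  have hgL : Generates R L (app hfg eK hgK (Function.surjInv hg ∘ eM.1) (sec_adm hg eM)).1 := by
    refine generates_append hfg eK.1 hgK _ ?_
    rw [sec_comp hg]
    exact hgM
  have hne := symb_ne_zero hl _ hgL
  constructor
  · rw [← LinearMap.ker_eq_bot, LinearMap.ker_eq_bot']
    have hz' : ∀ z : DetOfLen R K k ⊗[ResidueField R] DetOfLen R M m,
        ∃ u : ResidueField R, z = u • (symb eK ⊗ₜ[ResidueField R] symb eM) := by
      intro z
      induction z using TensorProduct.induction_on with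
      | zero => exact ⟨0, (zero_smul _ _).symm⟩
      | tmul x y =>
        obtain ⟨a, rfl⟩ := exists_smul_symb hk eK hgK x
        obtain ⟨b, rfl⟩ := exists_smul_symb hm eM hgM y
        exact ⟨a * b, TensorProduct.smul_tmul_smul a b _ _⟩
      | add x y hx hy =>
        obtain ⟨a, rfl⟩ := hx
        obtain ⟨b, rfl⟩ := hy
        exact ⟨a + b, (add_smul _ _ _).symm⟩
    intro z hz
    obtain ⟨u, rfl⟩ := hz' z
    rw [map_smul, hval] at hz
    rcases smul_eq_zero.mp hz with h | h
    · rw [h, zero_smul]
    · exact absurd h hne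
  · intro v
    obtain ⟨u, rfl⟩ := exists_smul_symb hl _ hgL v
    exact ⟨u • (symb eK ⊗ₜ symb eM), by rw [map_smul, hval]⟩

/-- multiplicativity of the determinant in short exact sequences. -/
theorem exists_gamma {k m l : ℕ} (hk : Module.length R K = k) (hm : Module.length R M = m)
    (hl : Module.length R L = l) (hfg : LinearMap.range f = LinearMap.ker g)
    (hg : Function.Surjective g) (hlen : k + m = l) :
    ∃ γ : (DetOfLen R K k ⊗[ResidueField R] DetOfLen R M m) ≃ₗ[ResidueField R] DetOfLen R L l,
      ∀ (eK : Adm R K k) (eM : Adm R M m) (eL : Adm R L l), symb eK ≠ 0 →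
        (∀ i : Fin k, eL.1 (Fin.cast hlen (Fin.castAdd m i)) = f (eK.1 i)) →
        (∀ j : Fin m, g (eL.1 (Fin.cast hlen (Fin.natAdd k j))) = eM.1 j) →
        γ (symb eK ⊗ₜ symb eM) = symb eL := by
  subst hlen
  refine ⟨LinearEquiv.ofBijective (gamma0 hk hfg hg) (gamma0_bijective hk hm hl hfg hg), ?_⟩
  intro eK eM eL hne h1 h2
  have hgK : Generates R K eK.1 := by
    by_contra h
    exact hne (symb_of_not_generates hk eK h)
  rw [LinearEquiv.ofBijective_apply, gamma0_tmul]
  simp only [Fin.cast_eq_self] at h1 h2
  let b : Fin m → L := fun j => eL.1 (Fin.natAdd k j)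
  have hb : g ∘ b = eM.1 := funext h2
  rw [Phi_eq hfg hg eK eM hgK b hb]
  congr 1
  apply Subtype.ext
  show Fin.append (f ∘ eK.1) b = eL.1
  funext i
  induction i using Fin.addCases with
  | left i => rw [Fin.append_left, Function.comp_apply, h1]
  | right j => rw [Fin.append_right]

end Gamma

end Groth.Agent.Lib.Seat9.DetGamma
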