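import Mathlib
import Groth.Prelude.Def_CycDet
import Groth.Agent.Lib.Seat9DetGamma

/-!
# Filtrations with successive quotients `R ⧸ q` (seat 9)

For a finite module over a Noetherian local ring and a minimal prime `q` of its support we
construct generators of a submodule with successive quotients `R ⧸ q` and with `q` outside the
support of the quotient; the number of generators is the length of the localization at `q`.
-/

set_option autoImplicit false
set_option linter.unusedSectionVars false
universe u

namespace Groth.Agent.Lib.Seat9.QFilt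

open CycDet IsLocalRing Groth.Agent.Lib.Seat9.DetBasic Groth.Agent.Lib.Seat9.DetGamma

section loc

variable (A : Type u) [CommRing A]

/-- The length of the localization at `p`. -/
noncomputable def L (N : Type u) [AddCommGroup N] [Module A N] (p : PrimeSpectrum A) : ℕ∞ :=
  Module.length (Localization.AtPrime p.asIdeal) (LocalizedModule p.asIdeal.primeCompl N)

variable {A}

theorem L_eq_zero_of_notMem {N : Type u} [AddCommGroup N] [Module A N] {p : PrimeSpectrum A}
    (h : p ∉ Module.support A N) : L A N p = 0 := by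
  rw [Module.notMem_support_iff] at h
  exact Module.length_eq_zero

theorem L_congr {N N' : Type u} [AddCommGroup N] [Module A N] [AddCommGroup N'] [Module A N']
    (e : N ≃ₗ[A] N') (p : PrimeSpectrum A) : L A N p = L A N' p :=
  le_antisymm
    (Module.length_le_of_surjective _
      (LocalizedModule.map_surjective p.asIdeal.primeCompl e.symm.toLinearMap e.symm.surjective))
    (Module.length_le_of_surjective _
      (LocalizedModule.map_surjective p.asIdeal.primeCompl e.toLinearMap e.surjective))

theorem L_add {N₁ N₂ N₃ : Type u} [AddCommGroup N₁] [Module A N₁] [AddCommGroup N₂] [Module A N₂]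
    [AddCommGroup N₃] [Module A N₃] (f : N₁ →ₗ[A] N₂) (g : N₂ →ₗ[A] N₃)
    (hf : Function.Injective f) (hg : Function.Surjective g) (hfg : Function.Exact f g)
    (p : PrimeSpectrum A) : L A N₂ p = L A N₁ p + L A N₃ p := by
  refine Module.length_eq_add_of_exact (LocalizedModule.map p.asIdeal.primeCompl f)
    (LocalizedModule.map p.asIdeal.primeCompl g)
    (LocalizedModule.map_injective _ f hf) (LocalizedModule.map_surjective _ g hg) ?_
  exact LocalizedModule.map_exact p.asIdeal.primeCompl f g hfg

theorem L_quot_self (p : PrimeSpectrum A) : L A (A ⧸ p.asIdeal) p = 1 := by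
  unfold L
  rw [Module.length_eq_one_iff, isSimpleModule_iff_quot_maximal]
  obtain ⟨g, hg⟩ : ∃ g : LocalizedModule p.asIdeal.primeCompl (A ⧸ p.asIdeal),
      g = LocalizedModule.mk (Submodule.Quotient.mk 1) 1 := ⟨_, rfl⟩
  obtain ⟨φ, hφ⟩ : ∃ φ : Localization.AtPrime p.asIdeal →ₗ[Localization.AtPrime p.asIdeal]
      LocalizedModule p.asIdeal.primeCompl (A ⧸ p.asIdeal), ∀ x, φ x = x • g :=
    ⟨LinearMap.toSpanSingleton _ _ g, fun x => rfl⟩
  have hsurj : Function.Surjective φ := by
    intro y
    induction y using LocalizedModule.induction_on with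
    | h m s =>
      obtain ⟨a, rfl⟩ := Submodule.Quotient.mk_surjective _ m
      refine ⟨Localization.mk a s, ?_⟩
      rw [hφ, hg, LocalizedModule.mk_smul_mk, mul_one, ← Submodule.Quotient.mk_smul,
        smul_eq_mul, mul_one]
  have hker : LinearMap.ker φ = IsLocalRing.maximalIdeal (Localization.AtPrime p.asIdeal) := by
    apply le_antisymm
    · apply IsLocalRing.le_maximalIdeal
      intro htop
      have h1 : (1 : Localization.AtPrime p.asIdeal) ∈ LinearMap.ker φ := by
        rw [htop]; trivial
      rw [LinearMap.mem_ker, hφ, one_smul, hg, ← LocalizedModule.zero_mk 1,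
        LocalizedModule.mk_eq] at h1
      obtain ⟨u, hu⟩ := h1
      simp only [one_smul, smul_zero] at hu
      rw [Submonoid.smul_def, ← Submodule.Quotient.mk_smul, Submodule.Quotient.mk_eq_zero,
        smul_eq_mul, mul_one] at hu
      exact u.2 hu
    · intro x hx
      obtain ⟨a, s, rfl⟩ := IsLocalization.exists_mk'_eq p.asIdeal.primeCompl x
      rw [IsLocalization.AtPrime.mk'_mem_maximal_iff (Localization.AtPrime p.asIdeal)
        p.asIdeal] at hx
      rw [LinearMap.mem_ker, hφ, hg, ← Localization.mk_eq_mk'_apply,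
        LocalizedModule.mk_smul_mk]
      have h0 : a • (Submodule.Quotient.mk 1 : A ⧸ p.asIdeal) = 0 := by
        rw [← Submodule.Quotient.mk_smul, Submodule.Quotient.mk_eq_zero, smul_eq_mul, mul_one]
        exact hx
      rw [h0, LocalizedModule.zero_mk]
  refine ⟨IsLocalRing.maximalIdeal _, IsLocalRing.maximalIdeal.isMaximal _, ⟨?_⟩⟩
  exact (φ.quotKerEquivOfSurjective hsurj).symm.trans (Submodule.quotEquivOfEq _ _ hker)

end loc

variable {R : Type u} [CommRing R] [IsLocalRing R] {M : Type u} [AddCommGroup M] [Module R M]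

/-- successive quotients of the filtration by the tuple are `R ⧸ q`. -/
def IsQFilt (q : Ideal R) {l : ℕ} (x : Fin l → M) : Prop :=
  ∀ i : Fin l, Nonempty ((↥(spanBefore R M x ((i : ℕ) + 1)) ⧸
    (spanBefore R M x i).submoduleOf (spanBefore R M x ((i : ℕ) + 1))) ≃ₗ[R] (R ⧸ q))

theorem L_spanBefore (q : PrimeSpectrum R) {l : ℕ} (x : Fin l → M) (hx : IsQFilt q.asIdeal x) :
    ∀ k : ℕ, k ≤ l → L R ↥(spanBefore R M x k) q = k := by
  intro k
  induction k with
  | zero =>
    intro _
    have hs : Subsingleton ↥(spanBefore R M x 0) := by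
      rw [spanBefore_zero]
      infer_instance
    have : q ∉ Module.support R ↥(spanBefore R M x 0) := by
      rw [Module.support_eq_empty_iff.mpr hs]
      exact Set.notMem_empty q
    rw [L_eq_zero_of_notMem this]
    rfl
  | succ k ih =>
    intro hk
    have hle : spanBefore R M x k ≤ spanBefore R M x (k + 1) := spanBefore_mono x (Nat.le_succ k)
    have h1 := L_add (Submodule.inclusion hle)
      ((spanBefore R M x k).submoduleOf (spanBefore R M x (k + 1))).mkQ
      (Submodule.inclusion_injective hle) (Submodule.mkQ_surjective _) (by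
        rw [LinearMap.exact_iff, Submodule.ker_mkQ, Submodule.range_inclusion]
        rfl) q
    obtain ⟨e⟩ := hx ⟨k, hk⟩
    rw [h1, ih (by omega), L_congr e q, L_quot_self]
    push_cast
    rfl

/-- the number of steps is the length of the localization. -/
theorem length_eq_of_isQFilt (q : PrimeSpectrum R) {l : ℕ} (x : Fin l → M)
    (hx : IsQFilt q.asIdeal x)
    (hq : q ∉ Module.support R (M ⧸ Submodule.span R (Set.range x))) :
    (l : ℕ∞) = L R M q := by
  have h1 := L_add (Submodule.span R (Set.range x)).subtype (Submodule.span R (Set.range x)).mkQ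
    (Submodule.injective_subtype _) (Submodule.mkQ_surjective _)
    (LinearMap.exact_subtype_mkQ _) q
  rw [h1, L_eq_zero_of_notMem hq, add_zero, ← spanBefore_of_le (R := R) x (le_refl l),
    L_spanBefore q x hx l le_rfl]

section Extend

variable {l : ℕ}

theorem spanBefore_append_one_le (x : Fin l → M) (y : M) {k : ℕ} (hk : k ≤ l) :
    spanBefore R M (Fin.append x (fun _ : Fin 1 => y)) k = spanBefore R M x k := by
  unfold spanBefore
  rw [append_image_lt_le _ _ hk]

theorem spanBefore_append_one_last (x : Fin l → M) (y : M) :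
    spanBefore R M (Fin.append x (fun _ : Fin 1 => y)) (l + 1) =
      Submodule.span R (Set.range x) ⊔ Submodule.span R {y} := by
  unfold spanBefore
  rw [append_image_lt_add, Submodule.span_union]
  congr 2
  ext z
  simp only [Set.mem_image, Set.mem_ofPred_eq, Set.mem_singleton_iff]
  constructor
  · rintro ⟨_, _, rfl⟩
    rfl
  · rintro rfl
    exact ⟨0, by simp, rfl⟩

theorem isQFilt_append (q : Ideal R) (x : Fin l → M) (hx : IsQFilt q x) (y : M)
    (hy : ∀ r : R, r ∈ q ↔ r • y ∈ Submodule.span R (Set.range x)) :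
    IsQFilt q (Fin.append x (fun _ : Fin 1 => y)) := by
  intro i
  induction i using Fin.addCases with
  | left i =>
    rw [Fin.val_castAdd, spanBefore_append_one_le x y (Nat.succ_le_of_lt i.2),
      spanBefore_append_one_le x y (le_of_lt i.2)]
    exact hx i
  | right j =>
    have hv : ((Fin.natAdd l j : Fin (l + 1)) : ℕ) = l := by
      rw [Fin.val_natAdd]
      have := j.2
      omega
    rw [hv, spanBefore_append_one_last, spanBefore_append_one_le x y le_rfl,
      spanBefore_of_le x le_rfl]
    set N := Submodule.span R (Set.range x) with hN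
    have hymem : y ∈ N ⊔ Submodule.span R {y} :=
      Submodule.mem_sup_right (Submodule.mem_span_singleton_self y)
    let y' : ↥(N ⊔ Submodule.span R {y}) := ⟨y, hymem⟩
    let φ : R →ₗ[R] ↥(N ⊔ Submodule.span R {y}) ⧸ N.submoduleOf (N ⊔ Submodule.span R {y}) :=
      (N.submoduleOf (N ⊔ Submodule.span R {y})).mkQ ∘ₗ LinearMap.toSpanSingleton R _ y'
    have hφ : ∀ r : R, φ r = Submodule.Quotient.mk (r • y') := fun r => rfl
    have hsurj : Function.Surjective φ := by
      intro z
      obtain ⟨⟨z, hz⟩, rfl⟩ := Submodule.mkQ_surjective _ z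
      obtain ⟨n, hn, w, hw, rfl⟩ := Submodule.mem_sup.mp hz
      obtain ⟨r, rfl⟩ := Submodule.mem_span_singleton.mp hw
      refine ⟨r, ?_⟩
      rw [hφ, Submodule.mkQ_apply, Submodule.Quotient.eq]
      show ((r • y' - ⟨n + r • y, hz⟩ : ↥(N ⊔ Submodule.span R {y})) : M) ∈ N
      have : ((r • y' - ⟨n + r • y, hz⟩ : ↥(N ⊔ Submodule.span R {y})) : M) = - n := by
        simp [y']
      rw [this]
      exact Submodule.neg_mem _ hn
    have hker : LinearMap.ker φ = q := by
      ext r
      rw [LinearMap.mem_ker, hφ, Submodule.Quotient.mk_eq_zero, hy r]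
      rfl
    exact ⟨((Submodule.quotEquivOfEq _ _ hker).symm.trans
      (φ.quotKerEquivOfSurjective hsurj)).symm⟩

end Extend

/-- existence of a filtration by `R ⧸ q` exhausting the module at `q`. -/
theorem exists_isQFilt [IsNoetherianRing R] [Module.Finite R M] (q : PrimeSpectrum R)
    (hq : Minimal (fun p : PrimeSpectrum R => p ∈ Module.support R M) q) :
    ∃ (l : ℕ) (x : Fin l → M),
      q ∉ Module.support R (M ⧸ Submodule.span R (Set.range x)) ∧ IsQFilt q.asIdeal x := by
  let S : Set (Submodule R M) :=
    {N | ∃ (l : ℕ) (x : Fin l → M), Submodule.span R (Set.range x) = N ∧ IsQFilt q.asIdeal x}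
  have hne : S.Nonempty := by
    refine ⟨⊥, 0, fun i => i.elim0, ?_, fun i => i.elim0⟩
    rw [Set.range_eq_empty, Submodule.span_empty]
  haveI : IsNoetherian R M := isNoetherian_of_isNoetherianRing_of_finite R M
  obtain ⟨N, ⟨l, x, rfl, hx⟩, hmax⟩ := set_has_maximal_iff_noetherian.mpr inferInstance S hne
  refine ⟨l, x, ?_, hx⟩
  intro hmem
  set N := Submodule.span R (Set.range x) with hN
  have hmin : q.asIdeal ∈ (Module.annihilator R (M ⧸ N)).minimalPrimes := by
    refine ⟨⟨q.2, Module.mem_support_iff_of_finite.mp hmem⟩, ?_⟩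
    rintro p ⟨hp, hann⟩ hpq
    have h1 : (⟨p, hp⟩ : PrimeSpectrum R) ∈ Module.support R (M ⧸ N) :=
      Module.mem_support_iff_of_finite.mpr hann
    have h2 : (⟨p, hp⟩ : PrimeSpectrum R) ∈ Module.support R M :=
      Module.support_subset_of_surjective N.mkQ (Submodule.mkQ_surjective N) h1
    exact hq.2 h2 hpq
  have hass := Module.associatedPrimes.minimalPrimes_annihilator_subset_associatedPrimes R
    (M ⧸ N) hmin
  obtain ⟨_, z, hz⟩ := isAssociatedPrime_iff.mp hass
  obtain ⟨y, rfl⟩ := Submodule.mkQ_surjective N z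
  have hy : ∀ r : R, r ∈ q.asIdeal ↔ r • y ∈ N := by
    intro r
    rw [hz, Submodule.mem_colon_singleton, Submodule.mem_bot, Submodule.mkQ_apply,
      ← Submodule.Quotient.mk_smul, Submodule.Quotient.mk_eq_zero]
  have hyN : y ∉ N := by
    intro h
    have : (1 : R) ∈ q.asIdeal := (hy 1).mpr (by rwa [one_smul])
    exact q.2.ne_top ((Ideal.eq_top_iff_one _).mpr this)
  apply hmax (Submodule.span R (Set.range (Fin.append x (fun _ : Fin 1 => y))))
    ⟨l + 1, _, rfl, isQFilt_append q.asIdeal x hx y hy⟩
  have hsp : Submodule.span R (Set.range (Fin.append x (fun _ : Fin 1 => y))) =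
      N ⊔ Submodule.span R {y} := by
    rw [← spanBefore_of_le (R := R) _ (le_refl (l + 1)), spanBefore_append_one_last]
  rw [hsp]
  refine lt_of_le_of_ne le_sup_left ?_
  intro h
  apply hyN
  rw [h]
  exact Submodule.mem_sup_right (Submodule.mem_span_singleton_self y)

end Groth.Agent.Lib.Seat9.QFilt
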