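import Mathlib
import Groth.Prelude.Def_Tame
import Groth.Agent.S1847

/-!
# Invariance of the tame symbol under ring isomorphisms (seat 9)

For a ring isomorphism `e : A ≃+* A'` of one-dimensional Noetherian local rings and nonzerodivisors
`a b`, `∂_{A'}(e a, e b) = ē (∂_A(a, b))`.
-/

set_option autoImplicit false
universe u

namespace Groth.Agent.Lib.Seat9.TameIso

open CycAlg IsLocalRing

variable {A A' : Type u} [CommRing A] [CommRing A'] [IsLocalRing A] [IsLocalRing A']

/-- transport of tame data along a ring isomorphism: same extension ring, algebra structure twisted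
by the inverse isomorphism. -/
@[reducible] noncomputable def transport (e : A ≃+* A') {a b : A} (D : TameData A a b) :
    TameData A' (e a) (e b) :=
  letI alg : Algebra A' D.B := ((algebraMap A D.B).comp (e.symm : A' →+* A)).toAlgebra
  have hmap : ∀ (q : MaximalSpectrum D.B) (x : A'),
      algebraMap A' (Localization.AtPrime q.asIdeal) x =
        algebraMap A (Localization.AtPrime q.asIdeal) (e.symm x) := by
    intro q x
    rw [IsScalarTower.algebraMap_apply A' D.B (Localization.AtPrime q.asIdeal),
      IsScalarTower.algebraMap_apply A D.B (Localization.AtPrime q.asIdeal)]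
    rfl
  { B := D.B
    commRing := D.commRing
    algebra := alg
    isFinExt := by
      obtain ⟨h1, h2, n, h3⟩ := D.isFinExt
      refine ⟨?_, ?_, n, ?_⟩
      · intro x y hxy
        exact e.symm.injective (h1 hxy)
      · obtain ⟨s, hs⟩ := h2
        refine ⟨s, ?_⟩
        rw [eq_top_iff]
        intro z _
        have hz : z ∈ Submodule.span A (s : Set D.B) := by rw [hs]; trivial
        refine Submodule.span_induction (p := fun z _ => z ∈ Submodule.span A' (s : Set D.B))
          ?_ ?_ ?_ ?_ hz
        · intro x hx
          exact Submodule.subset_span hx
        · exact Submodule.zero_mem _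
        · intro x y _ _ hx hy
          exact Submodule.add_mem _ hx hy
        · intro r x _ hx
          have : r • x = (e r) • x := by
            rw [Algebra.smul_def, Algebra.smul_def]
            change _ = algebraMap A D.B (e.symm (e r)) * x
            rw [RingEquiv.symm_apply_apply]
          rw [this]
          exact Submodule.smul_mem _ _ hx
      · intro r hr z
        have hr' : e.symm r ∈ maximalIdeal A ^ n := by
          have h4 : (maximalIdeal A').comap (e : A →+* A') = maximalIdeal A := by
            ext x
            rw [Ideal.mem_comap, mem_maximalIdeal, mem_maximalIdeal, mem_nonunits_iff,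
              mem_nonunits_iff]
            exact not_congr (isUnit_map_iff e x)
          have h5 : maximalIdeal A' = (maximalIdeal A).map (e : A →+* A') := by
            rw [← h4]
            exact (Ideal.map_comap_of_surjective (e : A →+* A') e.surjective _).symm
          rw [h5, ← Ideal.map_pow] at hr
          obtain ⟨y, hy, rfl⟩ := (Ideal.mem_map_iff_of_surjective _ e.surjective).1 hr
          change e.symm (e y) ∈ _
          rw [RingEquiv.symm_apply_apply]
          exact hy
        obtain ⟨w, hw⟩ := h3 _ hr' z
        refine ⟨e w, ?_⟩
        change algebraMap A D.B (e.symm (e w)) = _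
        rw [RingEquiv.symm_apply_apply, hw, Algebra.smul_def, Algebra.smul_def]
        rfl
    isLocalHom := by
      intro q
      haveI := D.isLocalHom q
      constructor
      intro x hx
      rw [hmap] at hx
      have := isUnit_of_map_unit (algebraMap A (Localization.AtPrime q.asIdeal)) _ hx
      exact (isUnit_map_iff e.symm x).1 this
    π := D.π
    π_mem := D.π_mem
    u₁ := D.u₁
    u₂ := D.u₂
    e₁ := D.e₁
    e₂ := D.e₂
    fac₁ := by
      intro q
      rw [hmap, RingEquiv.symm_apply_apply]
      exact D.fac₁ q
    fac₂ := by
      intro q
      rw [hmap, RingEquiv.symm_apply_apply]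
      exact D.fac₂ q }


theorem localFactor_transport (e : A ≃+* A') {a b : A} (D : TameData A a b)
    (q : MaximalSpectrum D.B) :
    (transport e D).localFactor q = ResidueField.mapEquiv e (D.localFactor q) := by
  haveI h1 := D.isLocalHom q
  haveI h2 := (transport e D).isLocalHom q
  letI alg : Algebra A' D.B := ((algebraMap A D.B).comp (e.symm : A' →+* A)).toAlgebra
  unfold TameData.localFactor
  rw [map_pow]
  congr 1
  symm
  refine Algebra.norm_eq_of_ringEquiv (ResidueField.mapEquiv e) ?_ _
  refine RingHom.ext fun k => ?_
  obtain ⟨x, rfl⟩ := residue_surjective k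
  change ResidueField.map (algebraMap A' (Localization.AtPrime q.asIdeal))
    (ResidueField.map (e : A →+* A') (residue A x)) =
      ResidueField.map (algebraMap A (Localization.AtPrime q.asIdeal)) (residue A x)
  rw [ResidueField.map_residue, ResidueField.map_residue, ResidueField.map_residue]
  congr 1
  change algebraMap A' _ (e x) = _
  rw [IsScalarTower.algebraMap_apply A' D.B (Localization.AtPrime q.asIdeal),
    IsScalarTower.algebraMap_apply A D.B (Localization.AtPrime q.asIdeal)]
  change algebraMap D.B _ (algebraMap A D.B (e.symm (e x))) = _
  rw [RingEquiv.symm_apply_apply]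

theorem value_transport (e : A ≃+* A') {a b : A} (D : TameData A a b) :
    (transport e D).value = ResidueField.mapEquiv e D.value := by
  unfold TameData.value
  change ∏ᶠ q : MaximalSpectrum D.B, (transport e D).localFactor q = _
  simp_rw [localFactor_transport]
  exact (MonoidHom.map_finprod_of_injective
    ((ResidueField.mapEquiv e : ResidueField A ≃+* ResidueField A') :
      ResidueField A →* ResidueField A') (ResidueField.mapEquiv e).injective _).symm

variable [IsNoetherianRing A] [IsNoetherianRing A']

/-- the tame symbol is invariant under ring isomorphisms. -/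
theorem tameSymbol_map (e : A ≃+* A') (hA : ringKrullDim A = 1) (a b : A)
    (ha : a ∈ nonZeroDivisors A) (hb : b ∈ nonZeroDivisors A) :
    tameSymbol A' (e a) (e b) = ResidueField.mapEquiv e (tameSymbol A a b) := by
  classical
  have hA' : ringKrullDim A' = 1 := by
    rw [← hA]; exact (ringKrullDim_eq_of_ringEquiv e).symm
  have ha' : e a ∈ nonZeroDivisors A' := by
    rw [mem_nonZeroDivisors_iff_right] at ha ⊢
    intro z hz
    have : e.symm z * a = 0 := by
      apply e.injective
      rw [map_mul, RingEquiv.apply_symm_apply, hz, map_zero]
    have := ha _ this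
    exact (map_eq_zero_iff _ e.symm.injective).1 this
  have hb' : e b ∈ nonZeroDivisors A' := by
    rw [mem_nonZeroDivisors_iff_right] at hb ⊢
    intro z hz
    have : e.symm z * b = 0 := by
      apply e.injective
      rw [map_mul, RingEquiv.apply_symm_apply, hz, map_zero]
    have := hb _ this
    exact (map_eq_zero_iff _ e.symm.injective).1 this
  unfold tameSymbol
  by_cases h : Nonempty (TameData A a b)
  · have h' : Nonempty (TameData A' (e a) (e b)) := ⟨transport e (Classical.choice h)⟩
    rw [dif_pos h, dif_pos h', ← value_transport]
    exact Groth.Agent.S1847.result A' hA' _ _ ha' hb' _ _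
  · have h' : ¬ Nonempty (TameData A' (e a) (e b)) := by
      rintro ⟨D'⟩
      apply h
      have D'' := transport e.symm D'
      rw [RingEquiv.symm_apply_apply, RingEquiv.symm_apply_apply] at D''
      exact ⟨D''⟩
    rw [dif_neg h, dif_neg h', map_one]

end Groth.Agent.Lib.Seat9.TameIso
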