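import Mathlib
import Groth.Prelude.Def_Cyc
import Groth.Agent.Lib.Seat9TameFrac
import Groth.Agent.Lib.Seat9TameIso
import Groth.Agent.Lib.Seat32GenPrime
import Groth.Agent.Lib.Seat32CycOpen

/-!
# c1 commutativity (seat 9), part A: the tame symbol at a point of a closure

For a specialization `ξ ⤳ z` on a locally Noetherian scheme, `LocQuot z ξ` is a local domain with
fraction field `κ(ξ)` and residue field `κ(z)`; `tameAt z ξ h a b ∈ κ(z)` is the tame symbol of
`a b ∈ κ(ξ)` with respect to this local ring.
-/

set_option autoImplicit false
set_option linter.style.haveILetI false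
universe u
open AlgebraicGeometry CategoryTheory

namespace Groth.Agent.Lib.Seat9.C1Dict

open Cyc IsLocalRing Groth.Agent.Lib.Seat32.GenPrime

variable {X : Scheme.{u}}

section single

variable (z ξ : X) (h : ξ ⤳ z)

instance isPrime_ker : (RingHom.ker (specMap z ξ h)).IsPrime := RingHom.ker_isPrime _

instance isLocalRing_locQuot : IsLocalRing (LocQuot z ξ h) :=
  .of_surjective' _ Ideal.Quotient.mk_surjective

instance isLocalHom_mk : IsLocalHom (Ideal.Quotient.mk (RingHom.ker (specMap z ξ h))) :=
  IsLocalHom.of_surjective _ Ideal.Quotient.mk_surjective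

/-- the residue field of `LocQuot z ξ` is `κ(z)` -/
noncomputable def rho : ResidueField (LocQuot z ξ h) ≃+* X.residueField z :=
  (RingEquiv.ofBijective (ResidueField.map (Ideal.Quotient.mk (RingHom.ker (specMap z ξ h))))
    ⟨RingHom.injective _, by
      intro y
      obtain ⟨y, rfl⟩ := residue_surjective y
      obtain ⟨y, rfl⟩ := Ideal.Quotient.mk_surjective y
      exact ⟨residue _ y, ResidueField.map_residue _ _⟩⟩).symm

theorem rho_residue_mk (a : X.presheaf.stalk z) :
    rho z ξ h (residue _ (Ideal.Quotient.mk (RingHom.ker (specMap z ξ h)) a)) =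
      (residue (X.presheaf.stalk z) a : X.residueField z) := by
  unfold rho
  apply (RingEquiv.symm_apply_eq _).2
  exact (ResidueField.map_residue _ _).symm

instance isFractionRing_locQuot' : IsFractionRing (LocQuot z ξ h) (X.residueField ξ) :=
  isFractionRing_locQuot z ξ h

variable [IsLocallyNoetherian X]

/-- the tame symbol at `z` of two rational functions on the closure of `ξ` -/
noncomputable def tameAt (a b : X.residueField ξ) : X.residueField z :=
  rho z ξ h (TameFrac.tameK (LocQuot z ξ h) (X.residueField ξ) a b)

end single

end Groth.Agent.Lib.Seat9.C1Dict
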