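import Mathlib
import Groth.Agent.Lib.Seat9C1DictA

/-!
# c1 commutativity (seat 9), part B: two-step specializations `ξ ⤳ z ⤳ x`

`LocQuot z ξ` is the localization of `LocQuot x ξ` at the prime `qOf` of `z`, and `LocQuot x z` is
the quotient by this prime.  The order of the tame symbol is compatible with these identifications.
-/

set_option autoImplicit false
set_option linter.style.haveILetI false
universe u
open AlgebraicGeometry CategoryTheory

namespace Groth.Agent.Lib.Seat9.C1Dict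

open Cyc IsLocalRing Groth.Agent.Lib.Seat32.GenPrime

variable {X : Scheme.{u}}

section triple

variable {x z ξ : X} (h₁ : ξ ⤳ z) (h₂ : z ⤳ x)

theorem specMap_comp (a : X.presheaf.stalk x) :
    specMap z ξ h₁ ((X.presheaf.stalkSpecializes h₂).hom a) = specMap x ξ (h₁.trans h₂) a := by
  unfold specMap
  rw [← TopCat.Presheaf.stalkSpecializes_comp X.presheaf h₁ h₂]
  rfl

theorem ker_le_ker : RingHom.ker (specMap x ξ (h₁.trans h₂)) ≤ RingHom.ker (specMap x z h₂) := by
  intro a ha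
  rw [RingHom.mem_ker] at ha ⊢
  rw [← specMap_comp h₁ h₂] at ha
  by_contra hne
  have hu : IsUnit ((X.presheaf.stalkSpecializes h₂).hom a) := by
    by_contra hnu
    apply hne
    exact (residue_eq_zero_iff _).2 ((mem_maximalIdeal _).2 hnu)
  exact (hu.map (specMap z ξ h₁)).ne_zero ha

/-- the map `LocQuot x ξ → LocQuot z ξ` -/
noncomputable def iota : LocQuot x ξ (h₁.trans h₂) →+* LocQuot z ξ h₁ :=
  Ideal.quotientMap _ (X.presheaf.stalkSpecializes h₂).hom (by
    intro a ha
    rw [Ideal.mem_comap, RingHom.mem_ker, specMap_comp]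
    exact ha)

theorem iota_mk (a : X.presheaf.stalk x) :
    iota h₁ h₂ (Ideal.Quotient.mk _ a) =
      Ideal.Quotient.mk _ ((X.presheaf.stalkSpecializes h₂).hom a) := rfl

/-- `iota` is compatible with the embeddings into `κ(ξ)` -/
theorem algebraMap_iota (a : LocQuot x ξ (h₁.trans h₂)) :
    algebraMap (LocQuot z ξ h₁) (X.residueField ξ) (iota h₁ h₂ a) =
      algebraMap (LocQuot x ξ (h₁.trans h₂)) (X.residueField ξ) a := by
  obtain ⟨a, rfl⟩ := Ideal.Quotient.mk_surjective a
  rw [iota_mk, algebraMap_locQuot_mk, algebraMap_locQuot_mk, specMap_comp]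

/-- the map `LocQuot x ξ → LocQuot x z` -/
noncomputable def pi : LocQuot x ξ (h₁.trans h₂) →+* LocQuot x z h₂ :=
  Ideal.Quotient.factor (ker_le_ker h₁ h₂)

theorem pi_mk (a : X.presheaf.stalk x) :
    pi h₁ h₂ (Ideal.Quotient.mk _ a) = Ideal.Quotient.mk _ a := rfl

theorem pi_surjective : Function.Surjective (pi h₁ h₂) := by
  intro y
  obtain ⟨y, rfl⟩ := Ideal.Quotient.mk_surjective y
  exact ⟨Ideal.Quotient.mk _ y, rfl⟩

/-- the prime of `LocQuot x ξ` corresponding to `z` -/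
noncomputable def qOf : Ideal (LocQuot x ξ (h₁.trans h₂)) := RingHom.ker (pi h₁ h₂)

instance qOf_isPrime : (qOf h₁ h₂).IsPrime := RingHom.ker_isPrime _

theorem mk_mem_qOf_iff (a : X.presheaf.stalk x) :
    Ideal.Quotient.mk _ a ∈ qOf h₁ h₂ ↔ a ∈ RingHom.ker (specMap x z h₂) := by
  unfold qOf
  rw [RingHom.mem_ker, pi_mk, Ideal.Quotient.eq_zero_iff_mem]

/-- `LocQuot z ξ` is the localization of `LocQuot x ξ` at `qOf` -/
theorem isLocalization_iota :
    letI := (iota h₁ h₂).toAlgebra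
    IsLocalization.AtPrime (LocQuot z ξ h₁) (qOf h₁ h₂) := by
  letI := (iota h₁ h₂).toAlgebra
  letI algR : Algebra (X.presheaf.stalk x) (X.presheaf.stalk z) :=
    (X.presheaf.stalkSpecializes h₂).hom.toAlgebra
  haveI hloc : IsLocalization.AtPrime (X.presheaf.stalk z) (genPrime x z h₂).asIdeal :=
    isLocalization_atPrime_stalkSpecializes x z h₂
  have key := IsLocalization.of_surjective (genPrime x z h₂).asIdeal.primeCompl
    (X.presheaf.stalk z)
    (Ideal.Quotient.mk (RingHom.ker (specMap x ξ (h₁.trans h₂)))) Ideal.Quotient.mk_surjective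
    (Ideal.Quotient.mk (RingHom.ker (specMap z ξ h₁))) Ideal.Quotient.mk_surjective
    (S' := LocQuot z ξ h₁) rfl (by
      rw [Ideal.mk_ker, Ideal.mk_ker]
      intro b hb
      have h1 := IsLocalization.map_comap (genPrime x z h₂).asIdeal.primeCompl (X.presheaf.stalk z)
        (RingHom.ker (specMap z ξ h₁))
      rw [← h1] at hb
      refine Ideal.map_mono ?_ hb
      intro a ha
      rw [Ideal.mem_comap, RingHom.mem_ker] at ha
      rw [RingHom.mem_ker, ← specMap_comp h₁ h₂]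
      exact ha)
  have hM : Submonoid.map (Ideal.Quotient.mk (RingHom.ker (specMap x ξ (h₁.trans h₂))))
      (genPrime x z h₂).asIdeal.primeCompl = (qOf h₁ h₂).primeCompl := by
    ext y
    obtain ⟨a, rfl⟩ := Ideal.Quotient.mk_surjective y
    rw [Submonoid.mem_map, Ideal.mem_primeCompl_iff, mk_mem_qOf_iff]
    constructor
    · rintro ⟨a', ha', haa'⟩ ha
      apply ha'
      have h2 : a' - a ∈ RingHom.ker (specMap x ξ (h₁.trans h₂)) := Ideal.Quotient.eq.1 haa'
      have h3 := ker_le_ker h₁ h₂ h2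
      have : a' = (a' - a) + a := by ring
      rw [genPrime_asIdeal, this]
      exact Ideal.add_mem _ h3 ha
    · intro ha
      exact ⟨a, ha, rfl⟩
  unfold IsLocalization.AtPrime
  rw [← hM]
  exact key

/-- `LocQuot x z` is the quotient of `LocQuot x ξ` by `qOf` -/
noncomputable def e₂ : (LocQuot x ξ (h₁.trans h₂) ⧸ qOf h₁ h₂) ≃+* LocQuot x z h₂ :=
  RingHom.quotientKerEquivOfSurjective (pi_surjective h₁ h₂)

theorem e₂_mk (a : LocQuot x ξ (h₁.trans h₂)) :
    e₂ h₁ h₂ (Ideal.Quotient.mk _ a) = pi h₁ h₂ a := rfl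

/-- the residue of `iota a` corresponds to the image of `pi a` in `κ(z)` -/
theorem rho_residue_iota (a : LocQuot x ξ (h₁.trans h₂)) :
    rho z ξ h₁ (residue _ (iota h₁ h₂ a)) =
      algebraMap (LocQuot x z h₂) (X.residueField z) (pi h₁ h₂ a) := by
  obtain ⟨a, rfl⟩ := Ideal.Quotient.mk_surjective a
  rw [iota_mk, rho_residue_mk, pi_mk, algebraMap_locQuot_mk]
  rfl

variable [IsLocallyNoetherian X]

/-- the ring isomorphism `A_q ≃ LocQuot z ξ` -/
noncomputable def e₁ : Localization.AtPrime (qOf h₁ h₂) ≃+* LocQuot z ξ h₁ :=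
  letI := (iota h₁ h₂).toAlgebra
  haveI := isLocalization_iota h₁ h₂
  (IsLocalization.algEquiv (qOf h₁ h₂).primeCompl (Localization.AtPrime (qOf h₁ h₂))
    (LocQuot z ξ h₁)).toRingEquiv

theorem e₁_algebraMap (a : LocQuot x ξ (h₁.trans h₂)) :
    e₁ h₁ h₂ (algebraMap _ (Localization.AtPrime (qOf h₁ h₂)) a) = iota h₁ h₂ a := by
  letI := (iota h₁ h₂).toAlgebra
  haveI := isLocalization_iota h₁ h₂
  exact (IsLocalization.algEquiv (qOf h₁ h₂).primeCompl (Localization.AtPrime (qOf h₁ h₂))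
    (LocQuot z ξ h₁)).commutes a

/-- the field isomorphism `κ(q) ≃ κ(z)` -/
noncomputable def sigma : (qOf h₁ h₂).ResidueField ≃+* X.residueField z :=
  (ResidueField.mapEquiv (e₁ h₁ h₂)).trans (rho z ξ h₁)

theorem sigma_algebraMap (r : LocQuot x ξ (h₁.trans h₂) ⧸ qOf h₁ h₂) :
    sigma h₁ h₂ (algebraMap _ (qOf h₁ h₂).ResidueField r) =
      algebraMap (LocQuot x z h₂) (X.residueField z) (e₂ h₁ h₂ r) := by
  obtain ⟨a, rfl⟩ := Ideal.Quotient.mk_surjective r
  rw [e₂_mk, ← rho_residue_iota, ← e₁_algebraMap]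
  rfl

/-- the dictionary lemma: the order of the tame symbol at the height one prime `qOf` of
`LocQuot x ξ` is the order along `z ⤳ x` of the tame symbol of `LocQuot z ξ`. -/
theorem ordFrac_tameSymbol_eq (hdim : ringKrullDim (LocQuot z ξ h₁) = 1)
    (a b : LocQuot x ξ (h₁.trans h₂)) (ha : a ≠ 0) (hb : b ≠ 0) :
    CycAlg.ordFrac (LocQuot x ξ (h₁.trans h₂) ⧸ qOf h₁ h₂) (qOf h₁ h₂).ResidueField
      (CycAlg.tameSymbol (Localization.AtPrime (qOf h₁ h₂))
        (algebraMap _ (Localization.AtPrime (qOf h₁ h₂)) a)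
        (algebraMap _ (Localization.AtPrime (qOf h₁ h₂)) b)) =
    ordAt x z h₂ (rho z ξ h₁ (CycAlg.tameSymbol (LocQuot z ξ h₁) (iota h₁ h₂ a) (iota h₁ h₂ b))) := by
  have hdim' : ringKrullDim (Localization.AtPrime (qOf h₁ h₂)) = 1 := by
    rw [← hdim]
    exact ringKrullDim_eq_of_ringEquiv (e₁ h₁ h₂)
  have hinj : Function.Injective (algebraMap (LocQuot x ξ (h₁.trans h₂))
      (Localization.AtPrime (qOf h₁ h₂))) :=
    IsLocalization.injective _ (qOf h₁ h₂).primeCompl_le_nonZeroDivisors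
  have ha' : algebraMap _ (Localization.AtPrime (qOf h₁ h₂)) a ∈
      nonZeroDivisors (Localization.AtPrime (qOf h₁ h₂)) :=
    mem_nonZeroDivisors_of_ne_zero (fun h0 => ha (hinj (h0.trans (map_zero _).symm)))
  have hb' : algebraMap _ (Localization.AtPrime (qOf h₁ h₂)) b ∈
      nonZeroDivisors (Localization.AtPrime (qOf h₁ h₂)) :=
    mem_nonZeroDivisors_of_ne_zero (fun h0 => hb (hinj (h0.trans (map_zero _).symm)))
  have key := Groth.Agent.Lib.Seat9.TameIso.tameSymbol_map (e₁ h₁ h₂) hdim' _ _ ha' hb'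
  rw [e₁_algebraMap, e₁_algebraMap] at key
  rw [key]
  unfold ordAt
  exact Groth.Agent.Lib.Seat32.CycOpen.ordFrac_congr (e₂ h₁ h₂) (sigma h₁ h₂)
    (sigma_algebraMap h₁ h₂) _

end triple

end Groth.Agent.Lib.Seat9.C1Dict
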