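import Mathlib
import Groth.Agent.Lib.Seat9C1DictB

/-!
# c1 commutativity (seat 9), part C: primes of `LocQuot x ξ` and points between `ξ` and `x`
-/

set_option autoImplicit false
set_option linter.style.haveILetI false
universe u
open AlgebraicGeometry CategoryTheory

namespace Groth.Agent.Lib.Seat9.C1Dict

open Cyc IsLocalRing Groth.Agent.Lib.Seat32.GenPrime

variable {X : Scheme.{u}}

section points

variable {x ξ : X} (h : ξ ⤳ x)

/-- the prime of `O_{X,x}` under a prime of `LocQuot x ξ` -/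
noncomputable def liftPrime (q : PrimeSpectrum (LocQuot x ξ h)) :
    PrimeSpectrum (X.presheaf.stalk x) :=
  PrimeSpectrum.comap (Ideal.Quotient.mk (RingHom.ker (specMap x ξ h))) q

theorem mem_liftPrime (q : PrimeSpectrum (LocQuot x ξ h)) (a : X.presheaf.stalk x) :
    a ∈ (liftPrime h q).asIdeal ↔ Ideal.Quotient.mk _ a ∈ q.asIdeal := Iff.rfl

theorem liftPrime_injective : Function.Injective (liftPrime h) :=
  PrimeSpectrum.comap_injective_of_surjective _ Ideal.Quotient.mk_surjective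

theorem genPrime_le_liftPrime (q : PrimeSpectrum (LocQuot x ξ h)) :
    genPrime x ξ h ≤ liftPrime h q := by
  intro a ha
  rw [mem_liftPrime]
  have : Ideal.Quotient.mk (RingHom.ker (specMap x ξ h)) a = 0 :=
    Ideal.Quotient.eq_zero_iff_mem.2 ha
  rw [this]
  exact Ideal.zero_mem _

/-- the point of `X` of a prime of `LocQuot x ξ` -/
noncomputable def ptOf (q : PrimeSpectrum (LocQuot x ξ h)) : X :=
  X.fromSpecStalk x (liftPrime h q)

theorem ptOf_specializes (q : PrimeSpectrum (LocQuot x ξ h)) : ptOf h q ⤳ x :=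
  fromSpecStalk_specializes x _

theorem specializes_ptOf (q : PrimeSpectrum (LocQuot x ξ h)) : ξ ⤳ ptOf h q := by
  have h1 : genPrime x ξ h ⤳ liftPrime h q :=
    (PrimeSpectrum.le_iff_specializes _ _).1 (genPrime_le_liftPrime h q)
  have h2 := h1.map (X.fromSpecStalk x).continuous
  rw [fromSpecStalk_genPrime] at h2
  exact h2

theorem ptOf_injective : Function.Injective (ptOf h) := by
  intro q q' hqq'
  exact liftPrime_injective h ((X.fromSpecStalk x).isEmbedding.injective hqq')

theorem genPrime_ptOf (q : PrimeSpectrum (LocQuot x ξ h)) :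
    genPrime x (ptOf h q) (ptOf_specializes h q) = liftPrime h q :=
  genPrime_fromSpecStalk x _ _

theorem qOf_ptOf (q : PrimeSpectrum (LocQuot x ξ h)) :
    qOf (specializes_ptOf h q) (ptOf_specializes h q) = q.asIdeal := by
  ext a
  obtain ⟨a, rfl⟩ := Ideal.Quotient.mk_surjective a
  rw [mk_mem_qOf_iff, ← genPrime_asIdeal, genPrime_ptOf, mem_liftPrime]

theorem ptOf_qOf {z : X} (h₁ : ξ ⤳ z) (h₂ : z ⤳ x) :
    ptOf (h₁.trans h₂) ⟨qOf h₁ h₂, inferInstance⟩ = z := by
  have : liftPrime (h₁.trans h₂) ⟨qOf h₁ h₂, inferInstance⟩ = genPrime x z h₂ := by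
    apply PrimeSpectrum.ext
    ext a
    rw [mem_liftPrime, genPrime_asIdeal]
    exact mk_mem_qOf_iff h₁ h₂ a
  unfold ptOf
  rw [this, fromSpecStalk_genPrime]

theorem qOf_eq_bot_iff {z : X} (h₁ : ξ ⤳ z) (h₂ : z ⤳ x) : qOf h₁ h₂ = ⊥ ↔ z = ξ := by
  constructor
  · intro h0
    have h3 : genPrime x z h₂ = genPrime x ξ (h₁.trans h₂) := by
      apply PrimeSpectrum.ext
      apply le_antisymm
      · intro a ha
        have : Ideal.Quotient.mk (RingHom.ker (specMap x ξ (h₁.trans h₂))) a ∈ qOf h₁ h₂ :=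
          (mk_mem_qOf_iff h₁ h₂ a).2 ha
        rw [h0, Ideal.mem_bot, Ideal.Quotient.eq_zero_iff_mem] at this
        exact this
      · exact ker_le_ker h₁ h₂
    have := congrArg (X.fromSpecStalk x) h3
    rwa [fromSpecStalk_genPrime, fromSpecStalk_genPrime] at this
  · rintro rfl
    rw [eq_bot_iff]
    intro a ha
    obtain ⟨a, rfl⟩ := Ideal.Quotient.mk_surjective a
    rw [mk_mem_qOf_iff] at ha
    rw [Ideal.mem_bot, Ideal.Quotient.eq_zero_iff_mem]
    exact ha

theorem qOf_eq_maximalIdeal_iff {z : X} (h₁ : ξ ⤳ z) (h₂ : z ⤳ x) :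
    qOf h₁ h₂ = maximalIdeal (LocQuot x ξ (h₁.trans h₂)) ↔ z = x := by
  constructor
  · intro h0
    have h3 : genPrime x z h₂ = closedPoint (X.presheaf.stalk x) := by
      apply PrimeSpectrum.ext
      apply le_antisymm
      · exact le_maximalIdeal (genPrime x z h₂).2.ne_top
      · intro a ha
        rw [genPrime_asIdeal, ← mk_mem_qOf_iff h₁ h₂, h0, mem_maximalIdeal, mem_nonunits_iff]
        intro hu
        have hu' : IsUnit a := isUnit_of_map_unit (Ideal.Quotient.mk _) a hu
        exact ha hu'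
    have := (fromSpecStalk_eq_iff x (genPrime x z h₂)).2 h3
    rwa [fromSpecStalk_genPrime] at this
  · rintro rfl
    apply le_antisymm
    · exact le_maximalIdeal (qOf_isPrime h₁ h₂).ne_top
    · intro a ha
      obtain ⟨a, rfl⟩ := Ideal.Quotient.mk_surjective a
      rw [mk_mem_qOf_iff, RingHom.mem_ker]
      have hnu : ¬ IsUnit a := by
        intro hu
        exact ha (hu.map _)
      change residue (X.presheaf.stalk z) ((X.presheaf.stalkSpecializes h₂).hom a) = 0
      rw [residue_eq_zero_iff, mem_maximalIdeal, mem_nonunits_iff]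
      intro hu
      apply hnu
      have h6 : X.presheaf.stalkSpecializes h₂ = 𝟙 _ := by
        have := TopCat.Presheaf.stalkSpecializes_refl X.presheaf z
        convert this
      rw [h6] at hu
      exact hu

theorem ptOf_mono {q q' : PrimeSpectrum (LocQuot x ξ h)} (hqq' : q ≤ q') :
    ptOf h q ⤳ ptOf h q' := by
  have h0 : liftPrime h q ≤ liftPrime h q' := fun a ha => hqq' ha
  have h1 : liftPrime h q ⤳ liftPrime h q' := (PrimeSpectrum.le_iff_specializes _ _).1 h0
  exact h1.map (X.fromSpecStalk x).continuous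

end points

section dim

variable {δ : X → ℤ} (hδ : IsDimFun X δ) {x ξ : X} (h : ξ ⤳ x)

include hδ

theorem delta_le_of_specializes {y y' : X} (hy : y ⤳ y') : δ y' ≤ δ y := by
  by_cases he : y = y'
  · rw [he]
  · exact (hδ y y' hy he).1.le

theorem delta_ptOf_lt {q q' : PrimeSpectrum (LocQuot x ξ h)} (hlt : q < q') :
    δ (ptOf h q') < δ (ptOf h q) :=
  (hδ _ _ (ptOf_mono h hlt.le) (fun he => hlt.ne (ptOf_injective h he))).1

theorem ringKrullDim_locQuot_le (n : ℕ) (hn : δ ξ = δ x + n) :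
    ringKrullDim (LocQuot x ξ h) ≤ n := by
  unfold ringKrullDim Order.krullDim
  refine iSup_le fun l => ?_
  have hmono : StrictMono (fun q : PrimeSpectrum (LocQuot x ξ h) => - δ (ptOf h q)) := by
    intro q q' hlt
    exact neg_lt_neg (delta_ptOf_lt hδ h hlt)
  have h1 := LTSeries.head_add_length_le_int (l.map _ hmono)
  have h2 : (l.map _ hmono).head = - δ (ptOf h l.head) := rfl
  have h3 : (l.map _ hmono).last = - δ (ptOf h l.last) := rfl
  have h4 : (l.map _ hmono).length = l.length := rfl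
  rw [h2, h3, h4] at h1
  have h5 := delta_le_of_specializes hδ (specializes_ptOf h l.head)
  have h6 := delta_le_of_specializes hδ (ptOf_specializes h l.last)
  have h7 : l.length ≤ n := by omega
  exact_mod_cast h7

theorem bot_ne_maximalIdeal (hne : δ x ≠ δ ξ) :
    (⊥ : Ideal (LocQuot x ξ h)) ≠ maximalIdeal (LocQuot x ξ h) := by
  intro h0
  have h1 : qOf (specializes_refl ξ) h = ⊥ := (qOf_eq_bot_iff (specializes_refl ξ) h).2 rfl
  have h2 : qOf h (specializes_refl x) = maximalIdeal _ :=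
    (qOf_eq_maximalIdeal_iff h (specializes_refl x)).2 rfl
  have h3 : qOf h (specializes_refl x) = ⊥ := by rw [h2]; exact h0.symm
  have := (qOf_eq_bot_iff h (specializes_refl x)).1 h3
  exact hne (by rw [this])

theorem ringKrullDim_locQuot_eq_one (h1 : δ x + 1 = δ ξ) :
    ringKrullDim (LocQuot x ξ h) = 1 := by
  apply le_antisymm
  · exact ringKrullDim_locQuot_le hδ h 1 (by omega)
  · unfold ringKrullDim
    rw [Order.one_le_krullDim_iff]
    refine ⟨⟨⊥, Ideal.isPrime_bot⟩, closedPoint _, ?_⟩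
    apply lt_of_le_of_ne
    · exact bot_le (a := maximalIdeal (LocQuot x ξ h))
    · intro h0
      exact bot_ne_maximalIdeal hδ h (by omega) (congrArg PrimeSpectrum.asIdeal h0)

include h in
theorem exists_between (h2 : δ x + 2 = δ ξ) : ∃ z : X, ξ ⤳ z ∧ z ⤳ x ∧ z ≠ ξ ∧ z ≠ x := by
  by_contra hno
  push Not at hno
  have hne : ξ ≠ x := by
    rintro rfl
    omega
  have := (hδ ξ x h hne).2 (fun z hz1 hz2 => by
    by_cases hzξ : z = ξ
    · exact Or.inl hzξ
    · exact Or.inr (hno z hz1 hz2 hzξ))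
  omega

theorem ringKrullDim_locQuot_eq_two (h2 : δ x + 2 = δ ξ) :
    ringKrullDim (LocQuot x ξ h) = 2 := by
  apply le_antisymm
  · exact ringKrullDim_locQuot_le hδ h 2 (by omega)
  · obtain ⟨z, h₁, h₂, hzξ, hzx⟩ := exists_between hδ h h2
    unfold ringKrullDim
    have hq0 : qOf h₁ h₂ ≠ ⊥ := fun h0 => hzξ ((qOf_eq_bot_iff h₁ h₂).1 h0)
    have hqm : qOf h₁ h₂ ≠ maximalIdeal _ := fun h0 => hzx ((qOf_eq_maximalIdeal_iff h₁ h₂).1 h0)
    have hlt1 : (⟨⊥, Ideal.isPrime_bot⟩ : PrimeSpectrum (LocQuot x ξ h)) <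
        ⟨qOf h₁ h₂, inferInstance⟩ :=
      lt_of_le_of_ne (bot_le (a := qOf h₁ h₂)) (fun h0 => hq0 (congrArg PrimeSpectrum.asIdeal h0).symm)
    have hlt2 : (⟨qOf h₁ h₂, inferInstance⟩ : PrimeSpectrum (LocQuot x ξ h)) < closedPoint _ :=
      lt_of_le_of_ne (le_maximalIdeal (qOf_isPrime h₁ h₂).ne_top)
        (fun h0 => hqm (congrArg PrimeSpectrum.asIdeal h0))
    have : ((2 : ℕ) : WithBot ℕ∞) ≤ Order.krullDim (PrimeSpectrum (LocQuot x ξ h)) := by
      rw [Order.le_krullDim_iff]
      refine ⟨RelSeries.fromListIsChain [⟨⊥, Ideal.isPrime_bot⟩, ⟨qOf h₁ h₂, inferInstance⟩,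
        closedPoint _] (by simp) (by simp [hlt1, hlt2]), rfl⟩
    exact_mod_cast this

end dim

end Groth.Agent.Lib.Seat9.C1Dict
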