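import Mathlib
import Groth.Prelude.Def_Tame
import Groth.Agent.Lib.Seat9LawA

/-!
# Tame symbols and norms, part A: transport lemmas (Seat 9)

Order of vanishing and residue norms along ring isomorphisms, a power of the maximal ideal inside
a principal ideal, and the extension of tame data to a larger finite extension.
-/

set_option autoImplicit false
set_option linter.unusedSectionVars false

universe u

namespace Groth.Agent.Lib.Seat9.Tame

open IsLocalRing CycAlg

theorem ord_ringEquiv {R S : Type u} [CommRing R] [CommRing S] (φ : R ≃+* S) (x : R) :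
    Ring.ord S (φ x) = Ring.ord R x := by
  letI : Algebra R S := φ.toRingHom.toAlgebra
  unfold Ring.ord
  have hsurj : Function.Surjective (algebraMap R S) := φ.surjective
  rw [← Module.length_eq_of_surjective (S := R) (R := S) (M := S ⧸ Ideal.span {φ x}) hsurj]
  let f : R ≃ₐ[R] S := AlgEquiv.ofRingEquiv (f := φ) (fun x => rfl)
  have hIJ : Ideal.span {φ x} = (Ideal.span {x}).map (f : R →+* S) := by
    rw [Ideal.map_span, Set.image_singleton]
    rfl
  exact ((Ideal.quotientEquivAlg (Ideal.span {x}) (Ideal.span {φ x}) f
    hIJ).toLinearEquiv).length_eq.symm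

theorem exists_pow_le_span {R : Type u} [CommRing R] [IsLocalRing R] [IsNoetherianRing R]
    [Ring.KrullDimLE 1 R] (x : R) (hx : x ∈ nonZeroDivisors R) :
    ∃ n : ℕ, maximalIdeal R ^ n ≤ Ideal.span {x} := by
  apply Ideal.exists_pow_le_of_le_radical_of_fg _ (IsNoetherian.noetherian _)
  rw [Ideal.radical_eq_sInf]
  apply le_sInf
  rintro p ⟨hxp, hp⟩
  rcases (Ring.krullDimLE_one_iff.mp inferInstance) p hp with hmin | hmax
  · exfalso
    have := Ideal.disjoint_nonZeroDivisors_of_mem_minimalPrimes hmin
    exact Set.disjoint_left.mp this (hxp (Ideal.mem_span_singleton_self x)) hx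
  · rw [IsLocalRing.eq_maximalIdeal hmax]

/-- the residue map of an equivalence of local algebras preserves norms -/
theorem norm_map_residue {R S S' : Type u} [CommRing R] [CommRing S] [CommRing S'] [IsLocalRing R]
    [IsLocalRing S] [IsLocalRing S'] [Algebra R S] [Algebra R S'] [IsLocalHom (algebraMap R S)]
    [IsLocalHom (algebraMap R S')] (φ : S ≃ₐ[R] S') (x : ResidueField S) :
    Algebra.norm (ResidueField R) (ResidueField.map (φ : S →+* S') x) =
      Algebra.norm (ResidueField R) x := by
  let ψ : ResidueField S ≃ₐ[ResidueField R] ResidueField S' :=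
    AlgEquiv.ofRingEquiv (f := ResidueField.mapEquiv φ.toRingEquiv) (by
      intro y
      obtain ⟨y, rfl⟩ := residue_surjective y
      show ResidueField.map (φ : S →+* S') (ResidueField.map (algebraMap R S) (residue R y)) =
        ResidueField.map (algebraMap R S') (residue R y)
      rw [ResidueField.map_residue, ResidueField.map_residue, ResidueField.map_residue]
      congr 1
      exact φ.commutes y)
  exact Algebra.norm_eq_of_algEquiv ψ x

/-- the residue map of an equivalence of local algebras preserves norms, ring-equivalence form -/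
theorem norm_map_residue' {R S S' : Type u} [CommRing R] [CommRing S] [CommRing S'] [IsLocalRing R]
    [IsLocalRing S] [IsLocalRing S'] [Algebra R S] [Algebra R S'] [IsLocalHom (algebraMap R S)]
    [IsLocalHom (algebraMap R S')] (φ : S ≃+* S') [IsLocalHom φ.toRingHom]
    (hφ : ∀ x : R, φ (algebraMap R S x) = algebraMap R S' x) (x : ResidueField S) :
    Algebra.norm (ResidueField R) (ResidueField.map φ.toRingHom x) =
      Algebra.norm (ResidueField R) x :=
  norm_map_residue (AlgEquiv.ofRingEquiv (f := φ) hφ) x

theorem map_sym' {R S : Type u} [CommRing R] [CommRing S] [IsLocalRing R] [IsLocalRing S]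
    (f : R →+* S) [IsLocalHom f] (u₁ u₂ : Rˣ) (k e₁ e₂ : ℕ) :
    ResidueField.map f ((-1) ^ k * residue R u₁ ^ e₂ * (residue R u₂ ^ e₁)⁻¹) =
    (-1) ^ k * residue S ((Units.map f.toMonoidHom u₁ : Sˣ) : S) ^ e₂ *
      (residue S ((Units.map f.toMonoidHom u₂ : Sˣ) : S) ^ e₁)⁻¹ := by
  rw [map_mul, map_mul, map_pow, map_neg, map_one, map_pow, map_inv₀, map_pow]
  rfl

end Groth.Agent.Lib.Seat9.Tame
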