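import Mathlib
import Groth.Prelude.Def_Tame
import Groth.Agent.Lib.Seat9NormA

/-!
# Tame symbols and norms, part B: extending tame data to a larger finite extension (Seat 9)
-/

set_option autoImplicit false
set_option linter.unusedSectionVars false

universe u

namespace Groth.Agent.Lib.Seat9.Tame

open IsLocalRing CycAlg

section extend

attribute [local instance 10] Localization.AtPrime.algebraOfLiesOver
attribute [local instance] TameData.isLocalHom isLocalHom_of_finite finite_BC integral_BC finite_AB

variable {A : Type u} [CommRing A] [IsLocalRing A] {a₁ a₂ : A} (D : TameData A a₁ a₂)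
  (C : Type u) [CommRing C] [Algebra A C] [Module.Finite A C] [Algebra D.B C]
  [IsScalarTower A D.B C]

theorem fac_C₁ (N : MaximalSpectrum C) :
    algebraMap A (Localization.AtPrime N.asIdeal) a₁ =
      algebraMap (Localization.AtPrime (N.asIdeal.under D.B)) (Localization.AtPrime N.asIdeal)
        (D.u₁ (qOf D C N)).val *
      algebraMap (Localization.AtPrime (N.asIdeal.under D.B)) (Localization.AtPrime N.asIdeal)
        (D.π (qOf D C N)) ^ D.e₁ (qOf D C N) := by
  rw [IsScalarTower.algebraMap_apply A (Localization.AtPrime (N.asIdeal.under D.B))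
    (Localization.AtPrime N.asIdeal), ← map_pow, ← map_mul]
  congr 1
  exact D.fac₁ (qOf D C N)

theorem fac_C₂ (N : MaximalSpectrum C) :
    algebraMap A (Localization.AtPrime N.asIdeal) a₂ =
      algebraMap (Localization.AtPrime (N.asIdeal.under D.B)) (Localization.AtPrime N.asIdeal)
        (D.u₂ (qOf D C N)).val *
      algebraMap (Localization.AtPrime (N.asIdeal.under D.B)) (Localization.AtPrime N.asIdeal)
        (D.π (qOf D C N)) ^ D.e₂ (qOf D C N) := by
  rw [IsScalarTower.algebraMap_apply A (Localization.AtPrime (N.asIdeal.under D.B))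
    (Localization.AtPrime N.asIdeal), ← map_pow, ← map_mul]
  congr 1
  exact D.fac₂ (qOf D C N)

theorem pi_C_mem (hnzd : algebraMap A C (a₁ * a₂) ∈ nonZeroDivisors C) (N : MaximalSpectrum C)
    (he : D.e₁ (qOf D C N) + D.e₂ (qOf D C N) ≠ 0) :
    algebraMap (Localization.AtPrime (N.asIdeal.under D.B)) (Localization.AtPrime N.asIdeal)
      (D.π (qOf D C N)) ∈ nonZeroDivisors (Localization.AtPrime N.asIdeal) := by
  have h1 : algebraMap A (Localization.AtPrime N.asIdeal) (a₁ * a₂) ∈
      nonZeroDivisors (Localization.AtPrime N.asIdeal) := by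
    rw [IsScalarTower.algebraMap_apply A C (Localization.AtPrime N.asIdeal)]
    exact IsLocalization.map_nonZeroDivisors_le N.asIdeal.primeCompl
      (Localization.AtPrime N.asIdeal) (Submonoid.mem_map_of_mem _ hnzd)
  rw [map_mul, fac_C₁ D C N, fac_C₂ D C N] at h1
  have h2 : algebraMap (Localization.AtPrime (N.asIdeal.under D.B))
      (Localization.AtPrime N.asIdeal) (D.π (qOf D C N)) ^
        (D.e₁ (qOf D C N) + D.e₂ (qOf D C N)) ∈
      nonZeroDivisors (Localization.AtPrime N.asIdeal) := by
    rw [pow_add]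
    have h3 := (mul_mem_nonZeroDivisors.mp h1)
    exact mul_mem (mul_mem_nonZeroDivisors.mp h3.1).2 (mul_mem_nonZeroDivisors.mp h3.2).2
  obtain ⟨k, hk⟩ : ∃ k, D.e₁ (qOf D C N) + D.e₂ (qOf D C N) = k + 1 :=
    ⟨D.e₁ (qOf D C N) + D.e₂ (qOf D C N) - 1, by omega⟩
  rw [hk, pow_succ] at h2
  exact (mul_mem_nonZeroDivisors.mp h2).2

open Classical in
/-- the parameter at a maximal ideal of the larger ring -/
noncomputable def piC (N : MaximalSpectrum C) : Localization.AtPrime N.asIdeal :=
  if D.e₁ (qOf D C N) + D.e₂ (qOf D C N) = 0 then 1 else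
    algebraMap (Localization.AtPrime (N.asIdeal.under D.B)) (Localization.AtPrime N.asIdeal)
      (D.π (qOf D C N))

theorem piC_pow₁ (N : MaximalSpectrum C) :
    piC D C N ^ D.e₁ (qOf D C N) =
      algebraMap (Localization.AtPrime (N.asIdeal.under D.B)) (Localization.AtPrime N.asIdeal)
        (D.π (qOf D C N)) ^ D.e₁ (qOf D C N) := by
  unfold piC
  split_ifs with h
  · rw [show D.e₁ (qOf D C N) = 0 by omega, pow_zero, pow_zero]
  · rfl

theorem piC_pow₂ (N : MaximalSpectrum C) :
    piC D C N ^ D.e₂ (qOf D C N) =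
      algebraMap (Localization.AtPrime (N.asIdeal.under D.B)) (Localization.AtPrime N.asIdeal)
        (D.π (qOf D C N)) ^ D.e₂ (qOf D C N) := by
  unfold piC
  split_ifs with h
  · rw [show D.e₂ (qOf D C N) = 0 by omega, pow_zero, pow_zero]
  · rfl

/-- tame data on a larger finite extension -/
noncomputable def extend (hC : IsFinExt A C (maximalIdeal A))
    (hnzd : algebraMap A C (a₁ * a₂) ∈ nonZeroDivisors C) : TameData A a₁ a₂ where
  B := C
  isFinExt := hC
  isLocalHom := fun N => isLocalHom_of_finite C N.asIdeal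
  π := piC D C
  π_mem := fun N => by
    unfold piC
    split_ifs with h
    · exact one_mem _
    · exact pi_C_mem D C hnzd N h
  u₁ := fun N => Units.map (algebraMap (Localization.AtPrime (N.asIdeal.under D.B))
    (Localization.AtPrime N.asIdeal)).toMonoidHom (D.u₁ (qOf D C N))
  u₂ := fun N => Units.map (algebraMap (Localization.AtPrime (N.asIdeal.under D.B))
    (Localization.AtPrime N.asIdeal)).toMonoidHom (D.u₂ (qOf D C N))
  e₁ := fun N => D.e₁ (qOf D C N)
  e₂ := fun N => D.e₂ (qOf D C N)
  fac₁ := fun N => by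
    rw [piC_pow₁, fac_C₁ D C N]
    rfl
  fac₂ := fun N => by
    rw [piC_pow₂, fac_C₂ D C N]
    rfl

end extend

end Groth.Agent.Lib.Seat9.Tame
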