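import Mathlib
import Groth.Prelude.Def_Tame
import Groth.Agent.Lib.Seat9NormB

/-!
# Tame symbols and norms, part C: localizing a finite extension at a maximal ideal below (Seat 9)
-/

set_option autoImplicit false
set_option linter.unusedSectionVars false

universe u

namespace Groth.Agent.Lib.Seat9.Tame

open IsLocalRing CycAlg

theorem comap_eq_max {R S : Type*} [CommRing R] [IsLocalRing R] [CommRing S] [Algebra R S]
    [Algebra.IsIntegral R S] (n : Ideal S) [n.IsMaximal] :
    n.comap (algebraMap R S) = maximalIdeal R :=
  eq_maximalIdeal (Ideal.isMaximal_comap_of_isIntegral_of_isMaximal n)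

section loc

variable {A : Type u} [CommRing A]
  (B : Type u) [CommRing B] [Algebra A B]
  (C : Type u) [CommRing C] [Algebra A C] [Algebra B C] [IsScalarTower A B C]
  (q : MaximalSpectrum B)

/-- the localization of `C` at a maximal ideal of `B` -/
abbrev Cq : Type u := Localization (Algebra.algebraMapSubmonoid C q.asIdeal.primeCompl)

instance towerA : IsScalarTower A (Localization.AtPrime q.asIdeal) (Cq B C q) := by
  apply IsScalarTower.of_algebraMap_eq
  intro x
  rw [IsScalarTower.algebraMap_apply A B (Cq B C q),
    IsScalarTower.algebraMap_apply B (Localization.AtPrime q.asIdeal) (Cq B C q),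
    ← IsScalarTower.algebraMap_apply A B (Localization.AtPrime q.asIdeal)]

instance towerA' (N' : MaximalSpectrum (Cq B C q)) :
    IsScalarTower A (Localization.AtPrime q.asIdeal) (Localization.AtPrime N'.asIdeal) := by
  apply IsScalarTower.of_algebraMap_eq
  intro x
  rw [IsScalarTower.algebraMap_apply A (Cq B C q) (Localization.AtPrime N'.asIdeal),
    IsScalarTower.algebraMap_apply A (Localization.AtPrime q.asIdeal) (Cq B C q),
    ← IsScalarTower.algebraMap_apply (Localization.AtPrime q.asIdeal) (Cq B C q)
      (Localization.AtPrime N'.asIdeal)]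

variable [Module.Finite B C]

instance finite_Cq : Module.Finite (Localization.AtPrime q.asIdeal) (Cq B C q) :=
  Module.Finite.of_isLocalization B C q.asIdeal.primeCompl

theorem comap_under (N' : Ideal (Cq B C q)) [N'.IsMaximal] :
    (N'.comap (algebraMap C (Cq B C q))).comap (algebraMap B C) = q.asIdeal := by
  haveI : Algebra.IsIntegral (Localization.AtPrime q.asIdeal) (Cq B C q) :=
    Algebra.IsIntegral.of_finite _ _
  rw [Ideal.comap_comap, ← IsScalarTower.algebraMap_eq B C (Cq B C q),
    IsScalarTower.algebraMap_eq B (Localization.AtPrime q.asIdeal) (Cq B C q),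
    ← Ideal.comap_comap, comap_eq_max N']
  exact IsLocalization.AtPrime.comap_maximalIdeal (Localization.AtPrime q.asIdeal) q.asIdeal

theorem comap_isMaximal (N' : Ideal (Cq B C q)) [N'.IsMaximal] :
    (N'.comap (algebraMap C (Cq B C q))).IsMaximal := by
  haveI : Algebra.IsIntegral B C := Algebra.IsIntegral.of_finite _ _
  apply Ideal.isMaximal_of_isIntegral_of_isMaximal_comap (R := B)
  rw [comap_under B C q N']
  exact q.isMaximal

/-- contraction of a maximal ideal of `C_q` to `C` -/
noncomputable def comapMax (N' : MaximalSpectrum (Cq B C q)) : MaximalSpectrum C :=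
  ⟨N'.asIdeal.comap (algebraMap C (Cq B C q)), comap_isMaximal B C q N'.asIdeal⟩

theorem comapMax_asIdeal (N' : MaximalSpectrum (Cq B C q)) :
    (comapMax B C q N').asIdeal = N'.asIdeal.comap (algebraMap C (Cq B C q)) := rfl

theorem comapMax_injective : Function.Injective (comapMax B C q) := by
  intro N₁ N₂ h
  have h' : N₁.asIdeal.comap (algebraMap C (Cq B C q)) =
      N₂.asIdeal.comap (algebraMap C (Cq B C q)) := congrArg MaximalSpectrum.asIdeal h
  apply MaximalSpectrum.ext
  rw [← IsLocalization.map_comap (Algebra.algebraMapSubmonoid C q.asIdeal.primeCompl) (Cq B C q)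
    N₁.asIdeal, Ideal.under_def, h', ← Ideal.under_def,
    IsLocalization.map_comap (Algebra.algebraMapSubmonoid C q.asIdeal.primeCompl)]

theorem range_comapMax :
    Set.range (comapMax B C q) = {N | N.asIdeal.comap (algebraMap B C) = q.asIdeal} := by
  ext N
  constructor
  · rintro ⟨N', rfl⟩
    exact comap_under B C q N'.asIdeal
  · intro hN
    have hN : N.asIdeal.comap (algebraMap B C) = q.asIdeal := hN
    set M := Algebra.algebraMapSubmonoid C q.asIdeal.primeCompl with hM
    have hprime : N.asIdeal.IsPrime := N.isMaximal.isPrime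
    have hdisj : Disjoint (M : Set C) (N.asIdeal : Set C) := by
      rw [Set.disjoint_left]
      rintro _ ⟨x, hx, rfl⟩ hxN
      apply hx
      rw [← hN]
      exact hxN
    let N2 : Ideal (Cq B C q) := N.asIdeal.map (algebraMap C (Cq B C q))
    haveI hN2prime : N2.IsPrime :=
      IsLocalization.isPrime_of_isPrime_disjoint M (Cq B C q) N.asIdeal hprime hdisj
    have hcomap : N2.comap (algebraMap C (Cq B C q)) = N.asIdeal :=
      IsLocalization.under_map_of_isPrime_disjoint M (Cq B C q) hprime hdisj
    have hN2max : N2.IsMaximal := by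
      obtain ⟨p, hp, hle⟩ := Ideal.exists_le_maximal N2 hN2prime.ne_top
      have h1 : N.asIdeal ≤ p.comap (algebraMap C (Cq B C q)) := by
        rw [← hcomap]
        exact Ideal.comap_mono hle
      have h2 : p.comap (algebraMap C (Cq B C q)) = N.asIdeal :=
        (N.isMaximal.eq_of_le (Ideal.comap_ne_top _ hp.ne_top) h1).symm
      have h3 : p = N2 := by
        have := IsLocalization.map_comap M (Cq B C q) p
        rw [Ideal.under_def, h2] at this
        exact this.symm
      exact h3 ▸ hp
    exact ⟨⟨N2, hN2max⟩, MaximalSpectrum.ext hcomap⟩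

end loc

end Groth.Agent.Lib.Seat9.Tame
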