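import Mathlib
import Groth.Prelude.Def_Tame
import Groth.Agent.Lib.Seat9NormC

/-!
# Tame symbols and norms, part D: localizing tame data at a maximal ideal below (Seat 9)
-/

set_option autoImplicit false
set_option linter.unusedSectionVars false

universe u

namespace Groth.Agent.Lib.Seat9.Tame

open IsLocalRing CycAlg

section localize

attribute [local instance] TameData.isLocalHom isLocalHom_of_finite finite_AB

variable {A : Type u} [CommRing A] [IsLocalRing A] {a₁ a₂ : A} (D : TameData A a₁ a₂)
  (B : Type u) [CommRing B] [Algebra A B] [Module.Finite A B] [Algebra B D.B]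
  [IsScalarTower A B D.B] (q : MaximalSpectrum B)

theorem finite_BD : Module.Finite B D.B := Module.Finite.of_restrictScalars_finite A B D.B

attribute [local instance] finite_BD

/-- the comparison isomorphism of local rings -/
noncomputable def phi (N' : MaximalSpectrum (Cq B D.B q)) :
    Localization.AtPrime (comapMax B D.B q N').asIdeal ≃ₐ[D.B] Localization.AtPrime N'.asIdeal :=
  IsLocalization.localizationLocalizationAtPrimeIsoLocalization
    (Algebra.algebraMapSubmonoid D.B q.asIdeal.primeCompl) N'.asIdeal

theorem phi_algebraMap (N' : MaximalSpectrum (Cq B D.B q)) (x : A) :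
    phi D B q N' (algebraMap A (Localization.AtPrime (comapMax B D.B q N').asIdeal) x) =
      algebraMap (Localization.AtPrime q.asIdeal) (Localization.AtPrime N'.asIdeal)
        (algebraMap A (Localization.AtPrime q.asIdeal) x) := by
  rw [← IsScalarTower.algebraMap_apply A (Localization.AtPrime q.asIdeal)
      (Localization.AtPrime N'.asIdeal),
    IsScalarTower.algebraMap_apply A D.B (Localization.AtPrime (comapMax B D.B q N').asIdeal),
    AlgEquiv.commutes, ← IsScalarTower.algebraMap_apply A D.B (Localization.AtPrime N'.asIdeal)]

/-- the comparison isomorphism as a ring homomorphism -/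
noncomputable def phiHom (N' : MaximalSpectrum (Cq B D.B q)) :
    Localization.AtPrime (comapMax B D.B q N').asIdeal →+* Localization.AtPrime N'.asIdeal :=
  (phi D B q N').toRingEquiv.toRingHom

theorem phiHom_apply (N' : MaximalSpectrum (Cq B D.B q))
    (x : Localization.AtPrime (comapMax B D.B q N').asIdeal) :
    phiHom D B q N' x = phi D B q N' x := rfl

/-- tame data over the local ring `B_q` -/
noncomputable def localize
    (hfin : IsFinExt (Localization.AtPrime q.asIdeal) (Cq B D.B q)
      (maximalIdeal (Localization.AtPrime q.asIdeal))) :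
    TameData (Localization.AtPrime q.asIdeal) (algebraMap A (Localization.AtPrime q.asIdeal) a₁)
      (algebraMap A (Localization.AtPrime q.asIdeal) a₂) where
  B := Cq B D.B q
  isFinExt := hfin
  isLocalHom := fun N' => isLocalHom_of_finite (Cq B D.B q) N'.asIdeal
  π := fun N' => phi D B q N' (D.π (comapMax B D.B q N'))
  π_mem := fun N' => by
    rw [← MulEquivClass.map_nonZeroDivisors (phi D B q N')]
    exact ⟨_, D.π_mem _, rfl⟩
  u₁ := fun N' => Units.map (phiHom D B q N').toMonoidHom (D.u₁ (comapMax B D.B q N'))
  u₂ := fun N' => Units.map (phiHom D B q N').toMonoidHom (D.u₂ (comapMax B D.B q N'))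
  e₁ := fun N' => D.e₁ (comapMax B D.B q N')
  e₂ := fun N' => D.e₂ (comapMax B D.B q N')
  fac₁ := fun N' => by
    rw [← phi_algebraMap, D.fac₁ (comapMax B D.B q N'), map_mul, map_pow]
    rfl
  fac₂ := fun N' => by
    rw [← phi_algebraMap, D.fac₂ (comapMax B D.B q N'), map_mul, map_pow]
    rfl

instance isLocalHom_phiHom (N' : MaximalSpectrum (Cq B D.B q)) :
    IsLocalHom (phiHom D B q N') := by
  constructor
  intro x hx
  have := hx.map (phi D B q N').symm
  rwa [phiHom_apply, AlgEquiv.symm_apply_apply] at this

theorem isLocalHom_A_N' (N' : MaximalSpectrum (Cq B D.B q)) :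
    IsLocalHom (algebraMap A (Localization.AtPrime N'.asIdeal)) := by
  constructor
  intro x hx
  have h1 : IsUnit (algebraMap A (Localization.AtPrime (comapMax B D.B q N').asIdeal) x) := by
    have := hx.map (phi D B q N').symm
    rwa [IsScalarTower.algebraMap_apply A D.B (Localization.AtPrime N'.asIdeal),
      AlgEquiv.commutes, ← IsScalarTower.algebraMap_apply A D.B] at this
  exact (isLocalHom_of_finite D.B (comapMax B D.B q N').asIdeal).map_nonunit x h1

attribute [local instance] isLocalHom_A_N'

theorem norm_key (N' : MaximalSpectrum (Cq B D.B q)) :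
    Algebra.norm (ResidueField A)
      (Algebra.norm (ResidueField (Localization.AtPrime q.asIdeal))
        ((-1 : ResidueField (Localization.AtPrime N'.asIdeal)) ^
            (D.e₁ (comapMax B D.B q N') * D.e₂ (comapMax B D.B q N')) *
          residue (Localization.AtPrime N'.asIdeal)
            ((Units.map (phiHom D B q N').toMonoidHom (D.u₁ (comapMax B D.B q N')) :
              (Localization.AtPrime N'.asIdeal)ˣ) : Localization.AtPrime N'.asIdeal) ^
            D.e₂ (comapMax B D.B q N') *
          (residue (Localization.AtPrime N'.asIdeal)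
            ((Units.map (phiHom D B q N').toMonoidHom (D.u₂ (comapMax B D.B q N')) :
              (Localization.AtPrime N'.asIdeal)ˣ) : Localization.AtPrime N'.asIdeal) ^
            D.e₁ (comapMax B D.B q N'))⁻¹) ^
        (Ring.ord (Localization.AtPrime N'.asIdeal)
          (phi D B q N' (D.π (comapMax B D.B q N')))).toNat) =
      D.localFactor (comapMax B D.B q N') := by
  haveI := finite_residue_A (A := A) B q
  haveI := finite_residue_A (A := Localization.AtPrime q.asIdeal) (Cq B D.B q) N'
  rw [localFactor_eq_sym, map_pow,
    Algebra.norm_norm (S := ResidueField (Localization.AtPrime q.asIdeal))]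
  have hord : Ring.ord (Localization.AtPrime N'.asIdeal)
      (phi D B q N' (D.π (comapMax B D.B q N'))) =
      Ring.ord (Localization.AtPrime (comapMax B D.B q N').asIdeal)
        (D.π (comapMax B D.B q N')) :=
    ord_ringEquiv (phi D B q N').toRingEquiv (D.π (comapMax B D.B q N'))
  rw [hord]
  congr 1
  rw [← map_sym' (phiHom D B q N') (D.u₁ (comapMax B D.B q N')) (D.u₂ (comapMax B D.B q N'))]
  haveI : IsLocalHom (phi D B q N').toRingEquiv.toRingHom := isLocalHom_phiHom D B q N'
  exact norm_map_residue' (R := A) (phi D B q N').toRingEquiv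
    (fun x => by
      show phi D B q N' (algebraMap A _ x) = _
      rw [IsScalarTower.algebraMap_apply A D.B
        (Localization.AtPrime (comapMax B D.B q N').asIdeal), AlgEquiv.commutes,
        ← IsScalarTower.algebraMap_apply A D.B]) _

theorem norm_localFactor_localize
    (hfin : IsFinExt (Localization.AtPrime q.asIdeal) (Cq B D.B q)
      (maximalIdeal (Localization.AtPrime q.asIdeal))) (N' : MaximalSpectrum (Cq B D.B q)) :
    Algebra.norm (ResidueField A) ((localize D B q hfin).localFactor N') =
      D.localFactor (comapMax B D.B q N') :=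
  norm_key D B q N'

end localize

end Groth.Agent.Lib.Seat9.Tame
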