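import Mathlib
import Groth.Prelude.Def_Tame
import Groth.Agent.Lib.Seat9NormD

/-!
# Tame symbols and norms, part E: finiteness conditions (Seat 9)
-/

set_option autoImplicit false
set_option linter.unusedSectionVars false

universe u

namespace Groth.Agent.Lib.Seat9.Tame

open IsLocalRing CycAlg

theorem tameSymbol_of_isUnit {A : Type u} [CommRing A] [IsLocalRing A] {a₁ a₂ : A}
    (h₁ : IsUnit a₁) (h₂ : IsUnit a₂) : tameSymbol A a₁ a₂ = 1 := by
  unfold tameSymbol
  split_ifs with h
  · exact value_eq_one_of_isUnit _ h₁ h₂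
  · rfl

theorem nzd_of_not_mem_ass {A B : Type u} [CommRing A] [IsLocalRing A] [IsNoetherianRing A]
    [CommRing B] [Algebra A B] (hB : IsFinExt A B (maximalIdeal A))
    (hass : maximalIdeal A ∉ associatedPrimes A B) (a : A) (ha : a ∈ nonZeroDivisors A) :
    algebraMap A B a ∈ nonZeroDivisors B := by
  obtain ⟨hinj, -, n, hn⟩ := hB
  rw [mem_nonZeroDivisors_iff_right]
  intro β hβ
  by_contra hne
  obtain ⟨P, hP, hle⟩ := exists_le_isAssociatedPrime_of_isNoetherianRing A β hne
  have hpow : maximalIdeal A ^ n ≤ P := by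
    refine le_trans ?_ hle
    intro r hr
    rw [Submodule.mem_colon_singleton, Submodule.mem_bot]
    obtain ⟨y, hy⟩ := hn r hr β
    have h1 : algebraMap A B (a * y) = 0 := by
      rw [map_mul, hy, Algebra.smul_def, ← mul_assoc, mul_comm (algebraMap A B a), mul_assoc,
        mul_comm (algebraMap A B a), hβ, mul_zero]
    have h2 : a * y = 0 := hinj (by rw [h1, map_zero])
    have h3 : y = 0 := (mul_right_mem_nonZeroDivisors_eq_zero_iff ha).mp (by rw [mul_comm]; exact h2)
    rw [← hy, h3, map_zero]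
  haveI := hP.isPrime
  have hle' : maximalIdeal A ≤ P := Ideal.IsPrime.le_of_pow_le hpow
  have : P = maximalIdeal A :=
    ((maximalIdeal.isMaximal A).eq_of_le hP.isPrime.ne_top hle').symm
  exact hass (this ▸ hP)

section Cq

variable {A : Type u} [CommRing A]
  (B : Type u) [CommRing B] [Algebra A B]
  (C : Type u) [CommRing C] [Algebra A C] [Algebra B C] [IsScalarTower A B C] [Module.Finite B C]
  (q : MaximalSpectrum B)

theorem isFinExt_Cq [IsNoetherianRing (Localization.AtPrime q.asIdeal)]
    [Ring.KrullDimLE 1 (Localization.AtPrime q.asIdeal)]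
    (hinj : Function.Injective (algebraMap B C)) (x : A)
    (hx : algebraMap A (Localization.AtPrime q.asIdeal) x ∈
      nonZeroDivisors (Localization.AtPrime q.asIdeal))
    (hk : ∀ c : C, x • c ∈ (algebraMap A C).range) :
    IsFinExt (Localization.AtPrime q.asIdeal) (Cq B C q)
      (maximalIdeal (Localization.AtPrime q.asIdeal)) := by
  refine ⟨localizationAlgebra_injective (Localization.AtPrime q.asIdeal) (Cq B C q) hinj,
    inferInstance, ?_⟩
  obtain ⟨n, hn⟩ := exists_pow_le_span _ hx
  refine ⟨n, fun r hr c' => ?_⟩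
  obtain ⟨s, hs⟩ := Ideal.mem_span_singleton'.mp (hn hr)
  have key : algebraMap A (Localization.AtPrime q.asIdeal) x • c' ∈
      (algebraMap (Localization.AtPrime q.asIdeal) (Cq B C q)).range := by
    obtain ⟨c, s', rfl⟩ := IsLocalization.exists_mk'_eq
      (Algebra.algebraMapSubmonoid C q.asIdeal.primeCompl) c'
    obtain ⟨s', t, ht, rfl⟩ := s'
    obtain ⟨y, hy⟩ := hk c
    refine ⟨IsLocalization.mk' (Localization.AtPrime q.asIdeal) (algebraMap A B y) ⟨t, ht⟩, ?_⟩
    rw [IsLocalization.algebraMap_mk' C (Localization.AtPrime q.asIdeal) (Cq B C q),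
      ← IsScalarTower.algebraMap_apply A B C, hy, algebraMap_smul,
      ← algebraMap_smul C x (IsLocalization.mk' (Cq B C q) c _), IsLocalization.smul_mk',
      ← Algebra.smul_def]
  obtain ⟨z, hz⟩ := key
  refine ⟨s * z, ?_⟩
  rw [map_mul, hz, ← hs, mul_smul, Algebra.smul_def s]

end Cq

section CCfin

variable {A : Type u} [CommRing A] [IsLocalRing A] [IsNoetherianRing A] [Ring.KrullDimLE 1 A]
  (a : A) {B : Type u} [CommRing B] [Algebra A B] [Module.Finite A B]
  {B' : Type u} [CommRing B'] [Algebra A B'] [Module.Finite A B']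
  (ψ : B →ₐ[A] Localization.Away a) (ψ' : B' →ₐ[A] Localization.Away a)

theorem isFinExt_CC (ha : a ∈ nonZeroDivisors A) :
    IsFinExt A (CC a ψ ψ') (maximalIdeal A) := by
  refine ⟨?_, inferInstance, ?_⟩
  · intro x y hxy
    have h1 := congrArg Subtype.val hxy
    simp only [Subalgebra.coe_algebraMap] at h1
    exact IsLocalization.injective (Localization.Away a) (Submonoid.powers_le.mpr ha) h1
  · obtain ⟨k, hk⟩ := exists_pow_smul_mem a ψ ψ'
    obtain ⟨n, hn⟩ := exists_pow_le_span (a ^ k) (pow_mem ha k)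
    refine ⟨n, fun r hr c => ?_⟩
    obtain ⟨s, hs⟩ := Ideal.mem_span_singleton'.mp (hn hr)
    obtain ⟨z, hz⟩ := hk c
    refine ⟨s * z, ?_⟩
    rw [map_mul, hz, ← hs, mul_smul, Algebra.smul_def s]

end CCfin

end Groth.Agent.Lib.Seat9.Tame
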