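import Mathlib
import Groth.Prelude.Def_Tame
import Groth.Agent.Lib.Seat9NormE
import Groth.Agent.Lib.Seat9LawB
import Groth.Agent.Lib.Seat14LocalFactor

/-!
# Tame symbols and norms, part F: the norm formula (Seat 9)
-/

set_option autoImplicit false
set_option linter.unusedSectionVars false

universe u

namespace Groth.Agent.Lib.Seat9.Tame

open IsLocalRing CycAlg

theorem finprod_fiberwise' {α β M : Type*} [CommMonoid M] [Finite α] [Finite β] (g : α → β)
    (F : α → M) : ∏ᶠ a, F a = ∏ᶠ b, ∏ᶠ a ∈ {a | g a = b}, F a := by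
  classical
  haveI := Fintype.ofFinite α
  haveI := Fintype.ofFinite β
  rw [finprod_eq_prod_of_fintype, finprod_eq_prod_of_fintype,
    ← Finset.prod_fiberwise Finset.univ g]
  apply Finset.prod_congr rfl
  intro b _
  rw [finprod_mem_eq_finite_toFinset_prod _ (Set.toFinite _)]
  apply Finset.prod_congr _ (fun _ _ => rfl)
  ext a
  simp

section main

attribute [local instance] TameData.isLocalHom isLocalHom_of_finite finite_AB finite_BD

variable {A : Type u} [CommRing A] [IsLocalRing A] {a₁ a₂ : A} (D : TameData A a₁ a₂)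
  (B : Type u) [CommRing B] [Algebra A B] [Module.Finite A B] [Algebra B D.B]
  [IsScalarTower A B D.B] (q : MaximalSpectrum B)

theorem norm_value_localize
    (hfin : IsFinExt (Localization.AtPrime q.asIdeal) (Cq B D.B q)
      (maximalIdeal (Localization.AtPrime q.asIdeal))) :
    Algebra.norm (ResidueField A) (localize D B q hfin).value =
      ∏ᶠ N ∈ {N : MaximalSpectrum D.B | N.asIdeal.comap (algebraMap B D.B) = q.asIdeal},
        D.localFactor N := by
  haveI : Finite (MaximalSpectrum (Cq B D.B q)) :=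
    finite_maximalSpectrum (A := Localization.AtPrime q.asIdeal) (Cq B D.B q)
  rw [← range_comapMax, finprod_mem_range (comapMax_injective B D.B q)]
  show Algebra.norm (ResidueField A)
    (∏ᶠ N' : MaximalSpectrum (Cq B D.B q), (localize D B q hfin).localFactor N') = _
  rw [map_finprod _ (Set.toFinite _)]
  exact finprod_congr (fun N' => norm_localFactor_localize D B q hfin N')

end main

section final

attribute [local instance] TameData.isLocalHom isLocalHom_of_finite finite_AB finite_BD

variable {A : Type u} [CommRing A] [IsLocalRing A] [IsNoetherianRing A]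

theorem norm_formula (hA : ringKrullDim A = 1) (hex : Ex1836 A)
    (B : Type u) [CommRing B] [Algebra A B] [Module.Finite A B]
    (hB : IsFinExt A B (maximalIdeal A)) (hass : maximalIdeal A ∉ associatedPrimes A B)
    (a b : A) (ha : a ∈ nonZeroDivisors A) (hb : b ∈ nonZeroDivisors A) :
    tameSymbol A a b = ∏ᶠ q : MaximalSpectrum B, Algebra.norm (ResidueField A)
      (tameSymbol (Localization.AtPrime q.asIdeal)
        (algebraMap A (Localization.AtPrime q.asIdeal) a)
        (algebraMap A (Localization.AtPrime q.asIdeal) b)) := by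
  classical
  haveI : Ring.KrullDimLE 1 A := by
    rw [Ring.KrullDimLE, Order.krullDimLE_iff]
    exact hA.le
  by_cases hu : IsUnit (a * b)
  · rw [IsUnit.mul_iff] at hu
    rw [tameSymbol_of_isUnit hu.1 hu.2]
    symm
    apply finprod_eq_one_of_forall_eq_one
    intro q
    rw [tameSymbol_of_isUnit (hu.1.map _) (hu.2.map _), map_one]
  have ham : a * b ∈ maximalIdeal A := hu
  have hab : a * b ∈ nonZeroDivisors A := mul_mem ha hb
  have haB : algebraMap A B a ∈ nonZeroDivisors B := nzd_of_not_mem_ass hB hass a ha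
  have hbB : algebraMap A B b ∈ nonZeroDivisors B := nzd_of_not_mem_ass hB hass b hb
  have habB : algebraMap A B (a * b) ∈ nonZeroDivisors B := nzd_of_not_mem_ass hB hass _ hab
  obtain ⟨M⟩ := exists_monoData hex 2 le_rfl ![a, b] (by
    intro i; fin_cases i
    · exact ha
    · exact hb)
  have Pa : Pres M a := Pres.ofIdx M 0
  have Pb : Pres M b := Pres.ofIdx M 1
  obtain ⟨hinjB, -, nB, hnB⟩ := hB
  obtain ⟨hinjB₁, hfinB₁, nB₁, hnB₁⟩ := (tame Pa Pb).isFinExt
  haveI := hfinB₁
  have hn : ∀ β : B, (a * b) ^ nB • β ∈ (algebraMap A B).range :=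
    fun β => hnB _ (Ideal.pow_mem_pow ham nB) β
  have hn₁ : ∀ β : (tame Pa Pb).B, (a * b) ^ nB₁ • β ∈ (algebraMap A (tame Pa Pb).B).range :=
    fun β => hnB₁ _ (Ideal.pow_mem_pow ham nB₁) β
  have hψ := psi_injective (a * b) hinjB nB hn hab habB
  have hψ₁ := psi_injective (a * b) hinjB₁ nB₁ hn₁ hab (nzd_B (tame Pa Pb))
  set ψ := psi (a * b) hinjB nB hn
  set ψ₁ := psi (a * b) hinjB₁ nB₁ hn₁
  have hnzd : algebraMap A (CC (a * b) ψ ψ₁) (a * b) ∈ nonZeroDivisors (CC (a * b) ψ ψ₁) :=
    nzd_CC (a * b) ψ ψ₁ (a * b) (IsLocalization.Away.algebraMap_isUnit (a * b))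
  have hC : IsFinExt A (CC (a * b) ψ ψ₁) (maximalIdeal A) := isFinExt_CC (a * b) ψ ψ₁ hab
  obtain ⟨k, hk⟩ := exists_pow_smul_mem (a * b) ψ ψ₁
  letI : Algebra (tame Pa Pb).B (CC (a * b) ψ ψ₁) := (toCC' (a * b) ψ ψ₁).toRingHom.toAlgebra
  haveI : IsScalarTower A (tame Pa Pb).B (CC (a * b) ψ ψ₁) :=
    IsScalarTower.of_algebraMap_eq (fun x => ((toCC' (a * b) ψ ψ₁).commutes x).symm)
  set D : TameData A a b := extend (tame Pa Pb) (CC (a * b) ψ ψ₁) hC hnzd with hD
  letI : Algebra B D.B := (toCC (a * b) ψ ψ₁).toRingHom.toAlgebra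
  haveI : IsScalarTower A B D.B :=
    IsScalarTower.of_algebraMap_eq (fun x => ((toCC (a * b) ψ ψ₁).commutes x).symm)
  have hinjBC : Function.Injective (algebraMap B D.B) := toCC_injective (a * b) ψ ψ₁ hψ
  haveI : IsNoetherianRing B := IsNoetherianRing.of_finite A B
  have hdim : ∀ q : MaximalSpectrum B, Ring.KrullDimLE 1 (Localization.AtPrime q.asIdeal) := by
    intro q
    rw [Ring.KrullDimLE, Order.krullDimLE_iff]
    exact (Groth.Agent.Lib.Seat14.LocalFactor.ringKrullDim_localization hA q.asIdeal (a * b)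
      ham habB).le
  have hloc : ∀ (q : MaximalSpectrum B) (x : B), x ∈ nonZeroDivisors B →
      algebraMap B (Localization.AtPrime q.asIdeal) x ∈
        nonZeroDivisors (Localization.AtPrime q.asIdeal) := fun q x hx =>
    IsLocalization.map_nonZeroDivisors_le q.asIdeal.primeCompl
      (Localization.AtPrime q.asIdeal) (Submonoid.mem_map_of_mem _ hx)
  have hk' : ∀ c : D.B, (a * b) ^ k • c ∈ (algebraMap A D.B).range := hk
  have hfin : ∀ q : MaximalSpectrum B, IsFinExt (Localization.AtPrime q.asIdeal) (Cq B D.B q)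
      (maximalIdeal (Localization.AtPrime q.asIdeal)) := by
    intro q
    haveI := hdim q
    refine isFinExt_Cq B D.B q hinjBC ((a * b) ^ k) ?_ hk'
    rw [IsScalarTower.algebraMap_apply A B (Localization.AtPrime q.asIdeal)]
    exact hloc q _ (by rw [map_pow]; exact pow_mem habB k)
  have hq : ∀ q : MaximalSpectrum B,
      tameSymbol (Localization.AtPrime q.asIdeal)
        (algebraMap A (Localization.AtPrime q.asIdeal) a)
        (algebraMap A (Localization.AtPrime q.asIdeal) b) = (localize D B q (hfin q)).value := by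
    intro q
    haveI := hdim q
    refine tameSymbol_eq ?_ ?_ _
    · rw [IsScalarTower.algebraMap_apply A B (Localization.AtPrime q.asIdeal)]
      exact hloc q _ haB
    · rw [IsScalarTower.algebraMap_apply A B (Localization.AtPrime q.asIdeal)]
      exact hloc q _ hbB
  rw [tameSymbol_eq ha hb D]
  simp_rw [hq, norm_value_localize]
  haveI : Finite (MaximalSpectrum D.B) := finite_maximalSpectrum (A := A) D.B
  haveI : Finite (MaximalSpectrum B) := finite_maximalSpectrum (A := A) B
  haveI : Algebra.IsIntegral B D.B := Algebra.IsIntegral.of_finite B D.B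
  let g : MaximalSpectrum D.B → MaximalSpectrum B := fun N =>
    ⟨N.asIdeal.comap (algebraMap B D.B), Ideal.isMaximal_comap_of_isIntegral_of_isMaximal N.asIdeal⟩
  unfold TameData.value
  rw [finprod_fiberwise' g]
  apply finprod_congr
  intro q
  congr 1
  ext N
  simp only [Set.mem_setOf_eq, g]
  exact finprod_congr_Prop (propext ⟨fun h => congrArg MaximalSpectrum.asIdeal h,
    fun h => MaximalSpectrum.ext h⟩) (fun _ => rfl)

end final

end Groth.Agent.Lib.Seat9.Tame
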