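import Mathlib
import Groth.Prelude.Def_Tame
import Groth.Agent.Lib.Seat9NormF

/-!
# Glueing finite extensions at height one primes, part A: the lattice (Seat 9)

For a nonzerodivisor `t` of a Noetherian ring `A`, primes `q i` and finite extensions `B i` of
the local rings `A_{q i}` inside `A_{q i}[1/t]`, we define the `A`-submodule `MM` of `A[1/t]` of
elements of `t^{-n} A` landing in `B i` for every `i`.
-/

set_option autoImplicit false
set_option linter.unusedSectionVars false

universe u

namespace Groth.Agent.Lib.Seat9.GlueH1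

open IsLocalRing CycAlg Groth.Agent.Lib.Seat9.Tame

variable {A : Type u} [CommRing A] (t : A) {r : ℕ} (q : Fin r → Ideal A) [hq : ∀ i, (q i).IsPrime]
  (B : Fin r → Type u) [∀ i, CommRing (B i)] [∀ i, Algebra (Localization.AtPrime (q i)) (B i)]

/-- the image of `t` in the local ring at `q i` -/
abbrev tl (i : Fin r) : Localization.AtPrime (q i) := algebraMap A (Localization.AtPrime (q i)) t

/-- the ring `A_{q i}[1/t]` -/
abbrev Tl (i : Fin r) : Type u := Localization.Away (tl t q i)

/-- the ring `A[1/t]` -/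
abbrev TT : Type u := Localization.Away t

/-- the map `A[1/t] → A_{q i}[1/t]` -/
noncomputable def lam (i : Fin r) : TT t →ₐ[A] Tl t q i :=
  { Localization.awayMap (algebraMap A (Localization.AtPrime (q i))) t with
    commutes' := fun x => by
      show IsLocalization.Away.map _ _ (algebraMap A (Localization.AtPrime (q i))) t
        (algebraMap A (TT t) x) = _
      rw [IsLocalization.Away.map, IsLocalization.map_eq,
        ← IsScalarTower.algebraMap_apply A (Localization.AtPrime (q i)) (Tl t q i)] }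

theorem lam_invSelf (i : Fin r) :
    lam t q i (IsLocalization.Away.invSelf t) = IsLocalization.Away.invSelf (tl t q i) := by
  have h1 : lam t q i (IsLocalization.Away.invSelf t) * algebraMap A (Tl t q i) t = 1 := by
    rw [← (lam t q i).commutes, ← map_mul, mul_comm, IsLocalization.Away.mul_invSelf, map_one]
  have h2 : algebraMap A (Tl t q i) t * IsLocalization.Away.invSelf (tl t q i) = 1 := by
    rw [IsScalarTower.algebraMap_apply A (Localization.AtPrime (q i)) (Tl t q i)]
    exact IsLocalization.Away.mul_invSelf (tl t q i)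
  calc lam t q i (IsLocalization.Away.invSelf t)
      = lam t q i (IsLocalization.Away.invSelf t) *
        (algebraMap A (Tl t q i) t * IsLocalization.Away.invSelf (tl t q i)) := by
          rw [h2, mul_one]
    _ = _ := by rw [← mul_assoc, h1, one_mul]

theorem isUnit_t : IsUnit (algebraMap A (TT t) t) := IsLocalization.Away.algebraMap_isUnit t

/-- the kernel of `A[1/t] → A_{q i}[1/t]` is the `q i`-torsion -/
theorem exists_smul_eq_zero_of_lam_eq_zero (i : Fin r) (x : TT t) (hx : lam t q i x = 0) :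
    ∃ s : A, s ∉ q i ∧ s • x = 0 := by
  obtain ⟨k, y, hy⟩ := IsLocalization.Away.surj t x
  have h1 : algebraMap A (Tl t q i) y = 0 := by
    rw [← (lam t q i).commutes, ← hy, map_mul, hx, zero_mul]
  rw [IsScalarTower.algebraMap_apply A (Localization.AtPrime (q i)) (Tl t q i),
    IsLocalization.map_eq_zero_iff (Submonoid.powers (tl t q i))] at h1
  obtain ⟨⟨_, l, rfl⟩, hl⟩ := h1
  have h2 : algebraMap A (Localization.AtPrime (q i)) (t ^ l * y) = 0 := by
    rw [map_mul, map_pow]; exact hl
  rw [IsLocalization.map_eq_zero_iff (q i).primeCompl] at h2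
  obtain ⟨⟨s, hs⟩, hs'⟩ := h2
  refine ⟨s, hs, ?_⟩
  have h3 : algebraMap A (TT t) (s * y) = 0 := by
    have : algebraMap A (TT t) (t ^ l) * algebraMap A (TT t) (s * y) = 0 := by
      rw [← map_mul, show t ^ l * (s * y) = s * (t ^ l * y) by ring, hs', map_zero]
    exact (IsUnit.mul_right_eq_zero (by rw [map_pow]; exact (isUnit_t t).pow l)).mp this
  have h4 : (s • x) * algebraMap A (TT t) (t ^ k) = 0 := by
    rw [smul_mul_assoc, map_pow, hy, Algebra.smul_def, ← map_mul, h3]
  exact (IsUnit.mul_left_eq_zero (by rw [map_pow]; exact (isUnit_t t).pow k)).mp h4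

section lattice

variable (hinjB : ∀ i, Function.Injective (algebraMap (Localization.AtPrime (q i)) (B i))) (n : ℕ)
  (hn : ∀ i (b : B i), tl t q i ^ n • b ∈ (algebraMap (Localization.AtPrime (q i)) (B i)).range)

/-- the embedding of `B i` into `A_{q i}[1/t]` -/
noncomputable def psiB (i : Fin r) : B i →ₐ[Localization.AtPrime (q i)] Tl t q i :=
  psi (tl t q i) (hinjB i) n (hn i)

/-- the image of `B i` as an `A`-subalgebra of `A_{q i}[1/t]` -/
noncomputable def RR (i : Fin r) : Subalgebra A (Tl t q i) :=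
  (psiB t q B hinjB n hn i).range.restrictScalars A

theorem mem_RR (i : Fin r) (x : Tl t q i) :
    x ∈ RR t q B hinjB n hn i ↔ ∃ b : B i, psiB t q B hinjB n hn i b = x := Iff.rfl

theorem algebraMap_mem_RR (i : Fin r) (x : Localization.AtPrime (q i)) :
    algebraMap (Localization.AtPrime (q i)) (Tl t q i) x ∈ RR t q B hinjB n hn i :=
  ⟨algebraMap _ _ x, (psiB t q B hinjB n hn i).commutes x⟩

theorem smul_mem_RR (i : Fin r) (s : Localization.AtPrime (q i)) (x : Tl t q i)
    (hx : x ∈ RR t q B hinjB n hn i) : s • x ∈ RR t q B hinjB n hn i := by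
  rw [mem_RR] at hx ⊢
  obtain ⟨b, rfl⟩ := hx
  exact ⟨s • b, map_smul (psiB t q B hinjB n hn i) s b⟩

/-- the elements of `A[1/t]` landing in every `B i` -/
noncomputable def EE : Subalgebra A (TT t) :=
  ⨅ i, (RR t q B hinjB n hn i).comap (lam t q i)

theorem mem_EE (x : TT t) :
    x ∈ EE t q B hinjB n hn ↔ ∀ i, lam t q i x ∈ RR t q B hinjB n hn i := by
  unfold EE
  rw [Algebra.mem_iInf]
  rfl

/-- `t^{-k} A` -/
def M0 (k : ℕ) : Submodule A (TT t) := Submodule.span A {IsLocalization.Away.invSelf t ^ k}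

theorem mem_M0 (k : ℕ) (x : TT t) :
    x ∈ M0 t k ↔ ∃ y : A, y • IsLocalization.Away.invSelf t ^ k = x :=
  Submodule.mem_span_singleton

/-- the lattice: elements of `t^{-k} A` landing in every `B i` -/
noncomputable def MM (k : ℕ) : Submodule A (TT t) :=
  M0 t k ⊓ Subalgebra.toSubmodule (EE t q B hinjB n hn)

theorem mem_MM (k : ℕ) (x : TT t) :
    x ∈ MM t q B hinjB n hn k ↔
      (∃ y : A, y • IsLocalization.Away.invSelf t ^ k = x) ∧
        ∀ i, lam t q i x ∈ RR t q B hinjB n hn i := by
  unfold MM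
  rw [Submodule.mem_inf, mem_M0, Subalgebra.mem_toSubmodule, mem_EE]

theorem mul_mem_MM (k l : ℕ) (x y : TT t) (hx : x ∈ MM t q B hinjB n hn k)
    (hy : y ∈ MM t q B hinjB n hn l) : x * y ∈ MM t q B hinjB n hn (k + l) := by
  rw [mem_MM] at hx hy ⊢
  obtain ⟨⟨a, rfl⟩, hx2⟩ := hx
  obtain ⟨⟨b, rfl⟩, hy2⟩ := hy
  refine ⟨⟨a * b, ?_⟩, fun i => ?_⟩
  · rw [pow_add, smul_mul_smul_comm]
  · rw [map_mul]
    exact mul_mem (hx2 i) (hy2 i)

theorem fg_MM [IsNoetherianRing A] (k : ℕ) : (MM t q B hinjB n hn k).FG := by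
  haveI : IsNoetherian A (M0 t k) := isNoetherian_span_of_finite A (Set.finite_singleton _)
  exact Submodule.FG.of_le_of_isNoetherian inf_le_left

end lattice

end Groth.Agent.Lib.Seat9.GlueH1
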