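import Mathlib
import Groth.Prelude.Def_Tame
import Groth.Agent.Lib.Seat9GlueH1A

/-!
# Glueing finite extensions at height one primes, part B: clearing denominators (Seat 9)
-/

set_option autoImplicit false
set_option linter.unusedSectionVars false

universe u

namespace Groth.Agent.Lib.Seat9.GlueH1

open IsLocalRing CycAlg Groth.Agent.Lib.Seat9.Tame

variable {A : Type u} [CommRing A] (t : A) {r : ℕ} (q : Fin r → Ideal A) [hq : ∀ i, (q i).IsPrime]
  (B : Fin r → Type u) [∀ i, CommRing (B i)] [∀ i, Algebra (Localization.AtPrime (q i)) (B i)]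
  (hinjB : ∀ i, Function.Injective (algebraMap (Localization.AtPrime (q i)) (B i))) (n : ℕ)
  (hn : ∀ i (b : B i), tl t q i ^ n • b ∈ (algebraMap (Localization.AtPrime (q i)) (B i)).range)

theorem tl_mem_nonZeroDivisors (ht : t ∈ nonZeroDivisors A) (i : Fin r) :
    tl t q i ∈ nonZeroDivisors (Localization.AtPrime (q i)) :=
  IsLocalization.map_nonZeroDivisors_le (q i).primeCompl (Localization.AtPrime (q i))
    (Submonoid.mem_map_of_mem _ ht)

theorem algebraMap_Tl_injective (ht : t ∈ nonZeroDivisors A) (i : Fin r) :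
    Function.Injective (algebraMap (Localization.AtPrime (q i)) (Tl t q i)) :=
  IsLocalization.injective (Tl t q i)
    (Submonoid.powers_le.mpr (tl_mem_nonZeroDivisors t q ht i))

theorem algebraMap_TT_injective (ht : t ∈ nonZeroDivisors A) :
    Function.Injective (algebraMap A (TT t)) :=
  IsLocalization.injective (TT t) (Submonoid.powers_le.mpr ht)

theorem lam_smul_inv (i : Fin r) (y : A) (k : ℕ) :
    lam t q i (y • IsLocalization.Away.invSelf t ^ k) =
      algebraMap A (Tl t q i) y * IsLocalization.Away.invSelf (tl t q i) ^ k := by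
  rw [Algebra.smul_def, map_mul, AlgHom.commutes, map_pow, lam_invSelf]

theorem t_smul_inv (k l : ℕ) :
    (t ^ l) • (IsLocalization.Away.invSelf t : TT t) ^ (k + l) =
      IsLocalization.Away.invSelf t ^ k := by
  rw [pow_add, Algebra.smul_def, map_pow, mul_comm (IsLocalization.Away.invSelf t ^ k),
    ← mul_assoc, ← mul_pow, IsLocalization.Away.mul_invSelf, one_pow, one_mul]

theorem tl_mul_inv (i : Fin r) (k : ℕ) :
    algebraMap (Localization.AtPrime (q i)) (Tl t q i) (tl t q i) ^ k *
      IsLocalization.Away.invSelf (tl t q i) ^ k = 1 := by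
  rw [← mul_pow, IsLocalization.Away.mul_invSelf, one_pow]

/-- clearing denominators at `q i` -/
theorem exists_smul_mem_MM (ht : t ∈ nonZeroDivisors A) (i : Fin r) (l : ℕ) (x' : TT t)
    (hx' : x' ∈ MM t q B hinjB n hn (n + l)) :
    ∃ s : A, s ∉ q i ∧ s • x' ∈ MM t q B hinjB n hn n := by
  rw [mem_MM] at hx'
  obtain ⟨⟨y, rfl⟩, hE⟩ := hx'
  obtain ⟨β, hβ⟩ := (mem_RR t q B hinjB n hn i _).mp (hE i)
  rw [lam_smul_inv] at hβ
  have hβ' : algebraMap (Localization.AtPrime (q i)) (Tl t q i)
      (pre (tl t q i) n (hn i) β) * IsLocalization.Away.invSelf (tl t q i) ^ n =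
      algebraMap A (Tl t q i) y * IsLocalization.Away.invSelf (tl t q i) ^ (n + l) := hβ
  -- multiply by `t^(n+l)`
  have h1 : algebraMap (Localization.AtPrime (q i)) (Tl t q i)
      (pre (tl t q i) n (hn i) β * tl t q i ^ l) =
      algebraMap (Localization.AtPrime (q i)) (Tl t q i)
        (algebraMap A (Localization.AtPrime (q i)) y) := by
    have h2 : algebraMap (Localization.AtPrime (q i)) (Tl t q i)
        (pre (tl t q i) n (hn i) β) * IsLocalization.Away.invSelf (tl t q i) ^ n *
        algebraMap (Localization.AtPrime (q i)) (Tl t q i) (tl t q i) ^ (n + l) =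
        algebraMap A (Tl t q i) y * IsLocalization.Away.invSelf (tl t q i) ^ (n + l) *
        algebraMap (Localization.AtPrime (q i)) (Tl t q i) (tl t q i) ^ (n + l) := by rw [hβ']
    rw [mul_assoc (algebraMap A (Tl t q i) y), mul_comm (IsLocalization.Away.invSelf (tl t q i) ^ (n + l)),
      tl_mul_inv, mul_one, pow_add, mul_assoc, ← mul_assoc
        (IsLocalization.Away.invSelf (tl t q i) ^ n), mul_comm
        (IsLocalization.Away.invSelf (tl t q i) ^ n), tl_mul_inv, one_mul] at h2
    rw [map_mul, map_pow, h2, ← IsScalarTower.algebraMap_apply]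
  have h3 := algebraMap_Tl_injective t q ht i h1
  obtain ⟨z, ⟨σ, hσ⟩, hzσ⟩ := IsLocalization.exists_mk'_eq (q i).primeCompl
    (pre (tl t q i) n (hn i) β)
  have h4 : algebraMap A (Localization.AtPrime (q i)) (z * t ^ l) =
      algebraMap A (Localization.AtPrime (q i)) (σ * y) := by
    rw [map_mul, map_mul, map_pow, ← h3, ← hzσ, ← mul_assoc, mul_comm (algebraMap A _ σ),
      IsLocalization.mk'_spec (Localization.AtPrime (q i)) z ⟨σ, hσ⟩]
  obtain ⟨⟨σ', hσ'⟩, h5⟩ := (IsLocalization.eq_iff_exists (q i).primeCompl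
    (Localization.AtPrime (q i))).mp h4
  have h5 : σ' * (z * t ^ l) = σ' * (σ * y) := h5
  refine ⟨σ' * σ, (q i).primeCompl.mul_mem hσ' hσ, ?_⟩
  have h6 : (σ' * σ) • y • (IsLocalization.Away.invSelf t : TT t) ^ (n + l) =
      (σ' * z) • (IsLocalization.Away.invSelf t : TT t) ^ n := by
    rw [smul_smul, mul_assoc, ← h5, ← t_smul_inv t n l, smul_smul]
    congr 1
    ring
  rw [h6, mem_MM]
  refine ⟨⟨σ' * z, rfl⟩, fun j => ?_⟩
  rw [← h6, map_smul]
  exact Subalgebra.smul_mem _ (hE j) _

omit hq in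
/-- uniform denominators for finitely generated submodules -/
theorem exists_uniform_smul_mem {V : Type*} [AddCommGroup V] [Module A V] (P : Ideal A)
    [P.IsPrime] (N N' : Submodule A V) (hfg : N'.FG)
    (h : ∀ x ∈ N', ∃ s : A, s ∉ P ∧ s • x ∈ N) : ∃ s : A, s ∉ P ∧ ∀ x ∈ N', s • x ∈ N := by
  classical
  obtain ⟨G, hG⟩ := hfg
  have key : ∀ G' : Finset V, (∀ g ∈ G', g ∈ N') → ∃ s : A, s ∉ P ∧ ∀ g ∈ G', s • g ∈ N := by
    intro G'
    induction G' using Finset.induction_on with
    | empty =>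
      exact fun _ => ⟨1, fun h1 => (inferInstance : P.IsPrime).ne_top
        ((Ideal.eq_top_iff_one P).mpr h1), by simp⟩
    | insert g G'' hg ih =>
      intro hmem
      obtain ⟨s₁, hs₁, h₁⟩ := ih (fun g' hg' => hmem g' (Finset.mem_insert_of_mem hg'))
      obtain ⟨s₂, hs₂, h₂⟩ := h g (hmem g (Finset.mem_insert_self _ _))
      refine ⟨s₁ * s₂, fun hmul => ?_, fun g' hg' => ?_⟩
      · rcases Ideal.IsPrime.mem_or_mem inferInstance hmul with h' | h'
        · exact hs₁ h'
        · exact hs₂ h'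
      · rcases Finset.mem_insert.mp hg' with rfl | hg''
        · rw [mul_smul]
          exact N.smul_mem _ h₂
        · rw [mul_comm, mul_smul]
          exact N.smul_mem _ (h₁ g' hg'')
  obtain ⟨s, hs, hsG⟩ := key G (fun g hg => hG ▸ Submodule.subset_span hg)
  refine ⟨s, hs, fun x hx => ?_⟩
  rw [← hG] at hx
  induction hx using Submodule.span_induction with
  | mem x hx => exact hsG x hx
  | zero => rw [smul_zero]; exact N.zero_mem
  | add x y _ _ hx hy => rw [smul_add]; exact N.add_mem hx hy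
  | smul a x _ hx => rw [smul_comm]; exact N.smul_mem _ hx

theorem exists_uniform_smul_mem_MM [IsNoetherianRing A] (ht : t ∈ nonZeroDivisors A) (i : Fin r)
    (l : ℕ) : ∃ s : A, s ∉ q i ∧ ∀ x' ∈ MM t q B hinjB n hn (n + l),
      s • x' ∈ MM t q B hinjB n hn n :=
  exists_uniform_smul_mem (q i) _ _ (fg_MM t q B hinjB n hn (n + l))
    (fun x' hx' => exists_smul_mem_MM t q B hinjB n hn ht i l x' hx')

end Groth.Agent.Lib.Seat9.GlueH1
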