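import Mathlib
import Groth.Prelude.Def_Tame
import Groth.Agent.Lib.Seat9GlueH1B

/-!
# Glueing finite extensions at height one primes, part C: the glued algebra (Seat 9)
-/

set_option autoImplicit false
set_option linter.unusedSectionVars false

universe u

namespace Groth.Agent.Lib.Seat9.GlueH1

open IsLocalRing CycAlg Groth.Agent.Lib.Seat9.Tame

variable {A : Type u} [CommRing A] (t : A) {r : ℕ} (q : Fin r → Ideal A) [hq : ∀ i, (q i).IsPrime]
  (B : Fin r → Type u) [∀ i, CommRing (B i)] [∀ i, Algebra (Localization.AtPrime (q i)) (B i)]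
  (hinjB : ∀ i, Function.Injective (algebraMap (Localization.AtPrime (q i)) (B i))) (n : ℕ)
  (hn : ∀ i (b : B i), tl t q i ^ n • b ∈ (algebraMap (Localization.AtPrime (q i)) (B i)).range)
  (I : Ideal A)
  (hI : ∀ x' ∈ MM t q B hinjB n hn (n + n), ∀ s ∈ I, s • x' ∈ MM t q B hinjB n hn n)

include hI in
theorem mul_mem_of_mem_smul (x m' : TT t) (hx : x ∈ MM t q B hinjB n hn n)
    (hm' : m' ∈ I • MM t q B hinjB n hn n) : x * m' ∈ MM t q B hinjB n hn n := by
  refine Submodule.smul_induction_on hm' ?_ ?_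
  · intro s hs x' hx'
    rw [mul_smul_comm]
    exact hI _ (mul_mem_MM t q B hinjB n hn n n x x' hx hx') s hs
  · intro y z hy hz
    rw [mul_add]; exact Submodule.add_mem _ hy hz

include hI in
theorem mul_mem_smul (m m' : TT t) (hm : m ∈ I • MM t q B hinjB n hn n)
    (hm' : m' ∈ I • MM t q B hinjB n hn n) : m * m' ∈ I • MM t q B hinjB n hn n := by
  refine Submodule.smul_induction_on hm ?_ ?_
  · intro s hs x hx
    rw [smul_mul_assoc]
    exact Submodule.smul_mem_smul hs (mul_mem_of_mem_smul t q B hinjB n hn I hI x m' hx hm')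
  · intro y z hy hz
    rw [add_mul]; exact Submodule.add_mem _ hy hz

/-- the underlying submodule of the glued algebra: `A + I • M` -/
noncomputable def Csub : Submodule A (TT t) :=
  LinearMap.range (Algebra.linearMap A (TT t)) ⊔ I • MM t q B hinjB n hn n

theorem mem_Csub (x : TT t) : x ∈ Csub t q B hinjB n hn I ↔
    ∃ a : A, ∃ z ∈ I • MM t q B hinjB n hn n, algebraMap A (TT t) a + z = x := by
  unfold Csub
  rw [Submodule.mem_sup]
  constructor
  · rintro ⟨_, ⟨a, rfl⟩, z, hz, rfl⟩
    exact ⟨a, z, hz, rfl⟩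
  · rintro ⟨a, z, hz, rfl⟩
    exact ⟨_, ⟨a, rfl⟩, z, hz, rfl⟩

/-- the glued algebra `A + I • M ⊆ A[1/t]` -/
noncomputable def CC : Subalgebra A (TT t) :=
  (Csub t q B hinjB n hn I).toSubalgebra
    ((mem_Csub t q B hinjB n hn I 1).mpr ⟨1, 0, Submodule.zero_mem _, by rw [map_one, add_zero]⟩)
    (by
      intro x y hx hy
      rw [mem_Csub] at hx hy ⊢
      obtain ⟨a, z, hz, rfl⟩ := hx
      obtain ⟨a', z', hz', rfl⟩ := hy
      refine ⟨a * a', a • z' + a' • z + z * z', ?_, ?_⟩
      · exact Submodule.add_mem _ (Submodule.add_mem _ (Submodule.smul_mem _ _ hz')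
          (Submodule.smul_mem _ _ hz)) (mul_mem_smul t q B hinjB n hn I hI z z' hz hz')
      · rw [map_mul, Algebra.smul_def, Algebra.smul_def]
        ring)

theorem mem_CC (x : TT t) : x ∈ CC t q B hinjB n hn I hI ↔
    ∃ a : A, ∃ z ∈ I • MM t q B hinjB n hn n, algebraMap A (TT t) a + z = x :=
  mem_Csub t q B hinjB n hn I x

theorem CC_toSubmodule :
    Subalgebra.toSubmodule (CC t q B hinjB n hn I hI) = Csub t q B hinjB n hn I := rfl

instance finite_CC [IsNoetherianRing A] : Module.Finite A (CC t q B hinjB n hn I hI) := by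
  have h : (Subalgebra.toSubmodule (CC t q B hinjB n hn I hI)).FG := by
    rw [CC_toSubmodule]
    unfold Csub
    refine Submodule.FG.sup ?_ ?_
    · rw [LinearMap.range_eq_map]
      exact Submodule.FG.map _ ⟨{1}, by simp⟩
    · exact Submodule.FG.smul (IsNoetherian.noetherian I) (fg_MM t q B hinjB n hn n)
  exact Module.Finite.iff_fg.mpr h

end Groth.Agent.Lib.Seat9.GlueH1
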