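import Mathlib
import Groth.Prelude.Def_Tame
import Groth.Agent.Lib.Seat9GlueH1C

/-!
# Glueing finite extensions at height one primes, part D: the localizations of the glued algebra
(Seat 9)
-/

set_option autoImplicit false
set_option linter.unusedSectionVars false

universe u

namespace Groth.Agent.Lib.Seat9.GlueH1

open IsLocalRing CycAlg Groth.Agent.Lib.Seat9.Tame

variable {A : Type u} [CommRing A] (t : A) {r : ℕ} (q : Fin r → Ideal A) [hq : ∀ i, (q i).IsPrime]
  (B : Fin r → Type u) [∀ i, CommRing (B i)] [∀ i, Algebra (Localization.AtPrime (q i)) (B i)]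
  (hinjB : ∀ i, Function.Injective (algebraMap (Localization.AtPrime (q i)) (B i))) (n : ℕ)
  (hn : ∀ i (b : B i), tl t q i ^ n • b ∈ (algebraMap (Localization.AtPrime (q i)) (B i)).range)
  (I : Ideal A)
  (hI : ∀ x' ∈ MM t q B hinjB n hn (n + n), ∀ s ∈ I, s • x' ∈ MM t q B hinjB n hn n)

theorem smul_MM_le : I • MM t q B hinjB n hn n ≤ MM t q B hinjB n hn n :=
  Submodule.smul_le.mpr (fun s _ x hx => Submodule.smul_mem _ s hx)

theorem lam_mem_RR_of_mem_CC (i : Fin r) (c : TT t) (hc : c ∈ CC t q B hinjB n hn I hI) :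
    lam t q i c ∈ RR t q B hinjB n hn i := by
  rw [mem_CC] at hc
  obtain ⟨a, z, hz, rfl⟩ := hc
  rw [map_add, AlgHom.commutes,
    IsScalarTower.algebraMap_apply A (Localization.AtPrime (q i)) (Tl t q i)]
  refine Subalgebra.add_mem _ (algebraMap_mem_RR t q B hinjB n hn i _) ?_
  exact ((mem_MM t q B hinjB n hn n z).mp (smul_MM_le t q B hinjB n hn I hz)).2 i

variable (ht : t ∈ nonZeroDivisors A)
  (htB : ∀ i, algebraMap (Localization.AtPrime (q i)) (B i) (tl t q i) ∈ nonZeroDivisors (B i))

include ht htB in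
theorem psiB_injective (i : Fin r) : Function.Injective (psiB t q B hinjB n hn i) :=
  psi_injective (tl t q i) (hinjB i) n (hn i) (tl_mem_nonZeroDivisors t q ht i) (htB i)

/-- `B i` is isomorphic to its image -/
noncomputable def eB (i : Fin r) :
    B i ≃ₐ[Localization.AtPrime (q i)] (psiB t q B hinjB n hn i).range :=
  AlgEquiv.ofInjective (psiB t q B hinjB n hn i) (psiB_injective t q B hinjB n hn ht htB i)

/-- the map from the glued algebra to `B i` -/
noncomputable def gB (i : Fin r) : CC t q B hinjB n hn I hI →+* B i :=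
  ((eB t q B hinjB n hn ht htB i).symm : (psiB t q B hinjB n hn i).range →+* B i).comp
    (RingHom.codRestrict ((lam t q i : TT t →+* Tl t q i).comp
      (CC t q B hinjB n hn I hI).val.toRingHom) (psiB t q B hinjB n hn i).range
      (fun c => lam_mem_RR_of_mem_CC t q B hinjB n hn I hI i c.1 c.2))

theorem psiB_gB (i : Fin r) (c : CC t q B hinjB n hn I hI) :
    psiB t q B hinjB n hn i (gB t q B hinjB n hn I hI ht htB i c) = lam t q i c.1 := by
  unfold gB
  have := (eB t q B hinjB n hn ht htB i).apply_symm_apply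
    (RingHom.codRestrict ((lam t q i : TT t →+* Tl t q i).comp
      (CC t q B hinjB n hn I hI).val.toRingHom) (psiB t q B hinjB n hn i).range
      (fun c => lam_mem_RR_of_mem_CC t q B hinjB n hn I hI i c.1 c.2) c)
  exact congrArg Subtype.val this

theorem gB_algebraMap (i : Fin r) (a : A) :
    gB t q B hinjB n hn I hI ht htB i (algebraMap A _ a) =
      algebraMap (Localization.AtPrime (q i)) (B i) (algebraMap A _ a) := by
  apply psiB_injective t q B hinjB n hn ht htB i
  rw [psiB_gB, AlgHom.commutes]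
  show lam t q i (algebraMap A (TT t) a) = _
  rw [AlgHom.commutes, IsScalarTower.algebraMap_apply A (Localization.AtPrime (q i)) (Tl t q i)]

/-- the kernel of `C → B i` is `q i`-torsion -/
theorem exists_smul_eq_zero_of_gB_eq_zero (i : Fin r) (c : CC t q B hinjB n hn I hI)
    (hc : gB t q B hinjB n hn I hI ht htB i c = 0) : ∃ s : A, s ∉ q i ∧ s • c = 0 := by
  have h1 : lam t q i c.1 = 0 := by rw [← psiB_gB t q B hinjB n hn I hI ht htB, hc, map_zero]
  obtain ⟨s, hs, hs'⟩ := exists_smul_eq_zero_of_lam_eq_zero t q i c.1 h1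
  exact ⟨s, hs, Subtype.ext hs'⟩

theorem psiB_apply (i : Fin r) (β : B i) : psiB t q B hinjB n hn i β =
    algebraMap (Localization.AtPrime (q i)) (Tl t q i) (pre (tl t q i) n (hn i) β) *
      IsLocalization.Away.invSelf (tl t q i) ^ n := rfl

/-- every element of `B i` is a fraction with numerator from the glued algebra -/
theorem exists_gB_eq (hInot : ∀ i, ¬ I ≤ q i)
    (hsep : ∀ i, ∃ σ : A, σ ∉ q i ∧ ∀ j, j ≠ i → ∃ w : Localization.AtPrime (q j),
      algebraMap A (Localization.AtPrime (q j)) σ = tl t q j ^ n * w)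
    (i : Fin r) (β : B i) : ∃ c : CC t q B hinjB n hn I hI, ∃ s : A, s ∉ q i ∧
      gB t q B hinjB n hn I hI ht htB i c =
        algebraMap (Localization.AtPrime (q i)) (B i) (algebraMap A _ s) * β := by
  obtain ⟨z, ⟨σ₀, hσ₀⟩, hzσ⟩ := IsLocalization.exists_mk'_eq (q i).primeCompl
    (pre (tl t q i) n (hn i) β)
  have hz : algebraMap A (Localization.AtPrime (q i)) σ₀ * pre (tl t q i) n (hn i) β =
      algebraMap A (Localization.AtPrime (q i)) z := by
    rw [← hzσ, mul_comm]
    exact IsLocalization.mk'_spec (Localization.AtPrime (q i)) z ⟨σ₀, hσ₀⟩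
  obtain ⟨σ, hσ, hσj⟩ := hsep i
  obtain ⟨sJ, hsJ, hsJ'⟩ := SetLike.not_le_iff_exists.mp (hInot i)
  set x : TT t := (σ * z) • (IsLocalization.Away.invSelf t : TT t) ^ n with hx
  have hlam_i : lam t q i x = algebraMap (Localization.AtPrime (q i)) (Tl t q i)
      (algebraMap A _ (σ * σ₀)) * psiB t q B hinjB n hn i β := by
    rw [hx, lam_smul_inv, psiB_apply, ← mul_assoc, ← map_mul,
      IsScalarTower.algebraMap_apply A (Localization.AtPrime (q i)) (Tl t q i)]
    congr 2
    rw [map_mul, map_mul, mul_assoc, hz]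
  have hxM : x ∈ MM t q B hinjB n hn n := by
    rw [mem_MM]
    refine ⟨⟨σ * z, rfl⟩, fun j => ?_⟩
    by_cases hj : j = i
    · subst hj
      rw [hlam_i, ← Algebra.smul_def]
      exact smul_mem_RR t q B hinjB n hn j _ _ ⟨β, rfl⟩
    · obtain ⟨w, hw⟩ := hσj j hj
      rw [hx, lam_smul_inv, IsScalarTower.algebraMap_apply A (Localization.AtPrime (q j))
        (Tl t q j), map_mul, hw]
      have : algebraMap (Localization.AtPrime (q j)) (Tl t q j)
          (tl t q j ^ n * w * algebraMap A (Localization.AtPrime (q j)) z) *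
          IsLocalization.Away.invSelf (tl t q j) ^ n =
          algebraMap (Localization.AtPrime (q j)) (Tl t q j)
            (w * algebraMap A (Localization.AtPrime (q j)) z) := by
        rw [map_mul, map_mul, map_mul, map_pow]
        calc _ = (algebraMap (Localization.AtPrime (q j)) (Tl t q j) (tl t q j) ^ n *
              IsLocalization.Away.invSelf (tl t q j) ^ n) *
              (algebraMap (Localization.AtPrime (q j)) (Tl t q j) w *
                algebraMap (Localization.AtPrime (q j)) (Tl t q j)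
                  (algebraMap A (Localization.AtPrime (q j)) z)) := by ring
          _ = _ := by rw [tl_mul_inv, one_mul]
      rw [this]
      exact algebraMap_mem_RR t q B hinjB n hn j _
  have hcM : sJ • x ∈ I • MM t q B hinjB n hn n := Submodule.smul_mem_smul hsJ hxM
  have hcC : sJ • x ∈ CC t q B hinjB n hn I hI :=
    (mem_CC t q B hinjB n hn I hI _).mpr ⟨0, sJ • x, hcM, by rw [map_zero, zero_add]⟩
  refine ⟨⟨sJ • x, hcC⟩, sJ * (σ * σ₀), ?_, ?_⟩
  · exact (q i).primeCompl.mul_mem hsJ' ((q i).primeCompl.mul_mem hσ hσ₀)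
  · apply psiB_injective t q B hinjB n hn ht htB i
    rw [psiB_gB, map_mul, AlgHom.commutes]
    show lam t q i (sJ • x) = _
    rw [Algebra.smul_def, map_mul, AlgHom.commutes, hlam_i, ← mul_assoc,
      IsScalarTower.algebraMap_apply A (Localization.AtPrime (q i)) (Tl t q i), ← map_mul,
      ← map_mul]

end Groth.Agent.Lib.Seat9.GlueH1
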