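import Mathlib
import Groth.Prelude.Def_Tame
import Groth.Agent.Lib.Seat9GlueH1D

/-!
# Glueing finite extensions at height one primes, part E: the glued algebra is a finite extension
with the prescribed localizations (Seat 9)
-/

set_option autoImplicit false
set_option linter.unusedSectionVars false

universe u

namespace Groth.Agent.Lib.Seat9.GlueH1

open IsLocalRing CycAlg Groth.Agent.Lib.Seat9.Tame TensorProduct

variable {A : Type u} [CommRing A] (t : A) {r : ℕ} (q : Fin r → Ideal A) [hq : ∀ i, (q i).IsPrime]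
  (B : Fin r → Type u) [∀ i, CommRing (B i)] [∀ i, Algebra (Localization.AtPrime (q i)) (B i)]
  (hinjB : ∀ i, Function.Injective (algebraMap (Localization.AtPrime (q i)) (B i))) (n : ℕ)
  (hn : ∀ i (b : B i), tl t q i ^ n • b ∈ (algebraMap (Localization.AtPrime (q i)) (B i)).range)
  (I : Ideal A)
  (hI : ∀ x' ∈ MM t q B hinjB n hn (n + n), ∀ s ∈ I, s • x' ∈ MM t q B hinjB n hn n)
  (ht : t ∈ nonZeroDivisors A)
  (htB : ∀ i, algebraMap (Localization.AtPrime (q i)) (B i) (tl t q i) ∈ nonZeroDivisors (B i))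

include ht in
theorem algebraMap_CC_injective :
    Function.Injective (algebraMap A (CC t q B hinjB n hn I hI)) := by
  intro x y hxy
  have h1 := congrArg Subtype.val hxy
  simp only [Subalgebra.coe_algebraMap] at h1
  exact algebraMap_TT_injective t ht h1

theorem t_smul_inv_self (k : ℕ) :
    (t ^ k) • (IsLocalization.Away.invSelf t : TT t) ^ k = 1 := by
  have := t_smul_inv t 0 k
  rwa [zero_add, pow_zero] at this

theorem pow_smul_mem_range (c : CC t q B hinjB n hn I hI) :
    t ^ n • c ∈ (algebraMap A (CC t q B hinjB n hn I hI)).range := by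
  obtain ⟨c, hc⟩ := c
  obtain ⟨a, z, hz, rfl⟩ := (mem_CC t q B hinjB n hn I hI c).mp hc
  obtain ⟨⟨y, rfl⟩, -⟩ := (mem_MM t q B hinjB n hn n z).mp (smul_MM_le t q B hinjB n hn I hz)
  refine ⟨t ^ n * a + y, ?_⟩
  apply Subtype.ext
  rw [Subalgebra.coe_algebraMap]
  show _ = t ^ n • (algebraMap A (TT t) a + y • (IsLocalization.Away.invSelf t : TT t) ^ n)
  rw [smul_add, smul_comm, t_smul_inv_self, map_add, map_mul,
    Algebra.smul_def, Algebra.smul_def, mul_one]

include ht in
theorem isFinExt_CC [IsNoetherianRing A] :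
    IsFinExt A (CC t q B hinjB n hn I hI) (Ideal.span {t}) := by
  refine ⟨algebraMap_CC_injective t q B hinjB n hn I hI ht, inferInstance, n, ?_⟩
  intro x hx c
  rw [Ideal.span_singleton_pow, Ideal.mem_span_singleton'] at hx
  obtain ⟨s, rfl⟩ := hx
  obtain ⟨z, hz⟩ := pow_smul_mem_range t q B hinjB n hn I hI c
  exact ⟨s * z, by rw [map_mul, hz, mul_smul, Algebra.smul_def s]⟩

section loc

variable (hInot : ∀ i, ¬ I ≤ q i)
  (hsep : ∀ i, ∃ σ : A, σ ∉ q i ∧ ∀ j, j ≠ i → ∃ w : Localization.AtPrime (q j),
      algebraMap A (Localization.AtPrime (q j)) σ = tl t q j ^ n * w)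

include hInot hsep in
/-- `B i` is the localization of the glued algebra at `q i` -/
theorem isLocalization_gB (i : Fin r) :
    letI : Algebra (CC t q B hinjB n hn I hI) (B i) :=
      (gB t q B hinjB n hn I hI ht htB i).toAlgebra
    IsLocalization (Algebra.algebraMapSubmonoid (CC t q B hinjB n hn I hI) (q i).primeCompl)
      (B i) := by
  letI : Algebra (CC t q B hinjB n hn I hI) (B i) :=
    (gB t q B hinjB n hn I hI ht htB i).toAlgebra
  rw [isLocalization_iff]
  refine ⟨?_, ?_, ?_⟩
  · rintro ⟨_, s, hs, rfl⟩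
    show IsUnit (gB t q B hinjB n hn I hI ht htB i (algebraMap A _ s))
    rw [gB_algebraMap]
    exact (IsLocalization.map_units (Localization.AtPrime (q i)) ⟨s, hs⟩).map _
  · intro β
    obtain ⟨c, s, hs, hc⟩ := exists_gB_eq t q B hinjB n hn I hI ht htB hInot hsep i β
    refine ⟨⟨c, ⟨algebraMap A _ s, s, hs, rfl⟩⟩, ?_⟩
    show β * gB t q B hinjB n hn I hI ht htB i (algebraMap A _ s) =
      gB t q B hinjB n hn I hI ht htB i c
    rw [hc, gB_algebraMap, mul_comm]
  · intro x y hxy
    have h0 : gB t q B hinjB n hn I hI ht htB i (x - y) = 0 := by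
      rw [map_sub]; exact sub_eq_zero.mpr hxy
    obtain ⟨s, hs, hs'⟩ := exists_smul_eq_zero_of_gB_eq_zero t q B hinjB n hn I hI ht htB i _ h0
    refine ⟨⟨algebraMap A _ s, s, hs, rfl⟩, ?_⟩
    show algebraMap A _ s * x = algebraMap A _ s * y
    rw [← sub_eq_zero, ← mul_sub, ← Algebra.smul_def]
    exact hs'

include ht htB hInot hsep in
/-- the base change of the glued algebra to `A_{q i}` is `B i` -/
theorem nonempty_tensor_equiv (i : Fin r) :
    Nonempty ((Localization.AtPrime (q i)) ⊗[A] (CC t q B hinjB n hn I hI)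
      ≃ₐ[Localization.AtPrime (q i)] B i) := by
  letI : Algebra (CC t q B hinjB n hn I hI) (B i) :=
    (gB t q B hinjB n hn I hI ht htB i).toAlgebra
  haveI := isLocalization_gB t q B hinjB n hn I hI ht htB hInot hsep i
  letI algCT : Algebra (CC t q B hinjB n hn I hI)
      ((Localization.AtPrime (q i)) ⊗[A] (CC t q B hinjB n hn I hI)) :=
    Algebra.TensorProduct.rightAlgebra
  haveI hlocT : IsLocalization
      (Algebra.algebraMapSubmonoid (CC t q B hinjB n hn I hI) (q i).primeCompl)
      ((Localization.AtPrime (q i)) ⊗[A] (CC t q B hinjB n hn I hI)) :=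
    IsLocalization.tensorRight (Localization.AtPrime (q i)) (q i).primeCompl
  let e : ((Localization.AtPrime (q i)) ⊗[A] (CC t q B hinjB n hn I hI))
      ≃ₐ[CC t q B hinjB n hn I hI] B i :=
    IsLocalization.algEquiv
      (Algebra.algebraMapSubmonoid (CC t q B hinjB n hn I hI) (q i).primeCompl) _ _
  refine ⟨AlgEquiv.ofRingEquiv (f := e.toRingEquiv) ?_⟩
  intro x
  have key : (e.toRingEquiv.toRingHom.comp (algebraMap (Localization.AtPrime (q i))
      ((Localization.AtPrime (q i)) ⊗[A] (CC t q B hinjB n hn I hI)))) =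
      algebraMap (Localization.AtPrime (q i)) (B i) := by
    apply IsLocalization.ringHom_ext (q i).primeCompl
    ext a
    simp only [RingHom.coe_comp, Function.comp_apply, RingEquiv.toRingHom_eq_coe,
      RingHom.coe_coe, AlgEquiv.coe_ringEquiv]
    have h1 : algebraMap (Localization.AtPrime (q i))
        ((Localization.AtPrime (q i)) ⊗[A] (CC t q B hinjB n hn I hI))
        (algebraMap A (Localization.AtPrime (q i)) a) =
        algebraMap (CC t q B hinjB n hn I hI)
          ((Localization.AtPrime (q i)) ⊗[A] (CC t q B hinjB n hn I hI))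
          (algebraMap A (CC t q B hinjB n hn I hI) a) := by
      rw [Algebra.TensorProduct.algebraMap_apply, Algebra.algebraMap_self, RingHom.id_apply]
      show _ = (1 : Localization.AtPrime (q i)) ⊗ₜ[A] (algebraMap A (CC t q B hinjB n hn I hI) a)
      rw [Algebra.algebraMap_eq_smul_one a, Algebra.algebraMap_eq_smul_one a,
        TensorProduct.smul_tmul]
    rw [h1, AlgEquiv.commutes]
    exact gB_algebraMap t q B hinjB n hn I hI ht htB i a
  exact DFunLike.congr_fun key x

end loc

end Groth.Agent.Lib.Seat9.GlueH1
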