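import Mathlib
import Groth.Prelude.Def_Tame
import Groth.Agent.Lib.Seat9GlueH1E

/-!
# Glueing finite extensions at height one primes, part F: assembly (Seat 9)
-/

set_option autoImplicit false
set_option linter.unusedSectionVars false

universe u

namespace Groth.Agent.Lib.Seat9.GlueH1

open IsLocalRing CycAlg Groth.Agent.Lib.Seat9.Tame TensorProduct

section dim

variable {A : Type u} [CommRing A] [IsNoetherianRing A] [IsLocalRing A]

theorem height_le_one_of_ne (hA : ringKrullDim A = 2) (p : Ideal A) [p.IsPrime]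
    (hp : p ≠ maximalIdeal A) : p.height ≤ 1 := by
  have hlt : p < maximalIdeal A := lt_of_le_of_ne (le_maximalIdeal Ideal.IsPrime.ne_top') hp
  have h1 := Ideal.height_strict_mono_of_isPrime_of_isPrime hlt
  have h2 : ((maximalIdeal A).height : WithBot ℕ∞) = 2 := by
    rw [IsLocalRing.maximalIdeal_height_eq_ringKrullDim, hA]
  have h3 : (maximalIdeal A).height = 2 := by
    have : ((maximalIdeal A).height : WithBot ℕ∞) = ((2 : ℕ∞) : WithBot ℕ∞) := h2
    exact WithBot.coe_injective this
  rw [h3] at h1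
  exact (ENat.lt_add_one_iff (by simp)).mp (by rwa [one_add_one_eq_two])

theorem one_le_height_of_mem {t : A} (ht : t ∈ nonZeroDivisors A) (p : Ideal A) (htp : t ∈ p) :
    1 ≤ p.height :=
  (Ideal.one_le_height_span_singleton_of_mem_nonZeroDivisors ht).trans
    (Ideal.height_mono ((Ideal.span_singleton_le_iff_mem p).mpr htp))

theorem not_le_of_ne (hA : ringKrullDim A = 2) {t : A} (ht : t ∈ nonZeroDivisors A)
    (p p' : Ideal A) [p.IsPrime] [p'.IsPrime] (hp' : p' ≠ maximalIdeal A) (htp : t ∈ p)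
    (hne : p ≠ p') : ¬ p ≤ p' := by
  intro hle
  have hlt : p < p' := lt_of_le_of_ne hle hne
  have h1 := Ideal.height_strict_mono_of_isPrime_of_isPrime hlt
  have h2 := height_le_one_of_ne hA p' hp'
  have h3 := one_le_height_of_mem ht p htp
  exact absurd (lt_of_lt_of_le h1 h2) (not_lt.mpr h3)

theorem krullDimLE_one_localization (hA : ringKrullDim A = 2) (p : Ideal A) [p.IsPrime]
    (hp : p ≠ maximalIdeal A) : Ring.KrullDimLE 1 (Localization.AtPrime p) := by
  rw [Ring.KrullDimLE, Order.krullDimLE_iff]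
  show ringKrullDim (Localization.AtPrime p) ≤ 1
  rw [IsLocalization.AtPrime.ringKrullDim_eq_height p (Localization.AtPrime p)]
  exact_mod_cast height_le_one_of_ne hA p hp

end dim

section final

variable {A : Type u} [CommRing A] [IsNoetherianRing A] [IsLocalRing A]

theorem exists_sep (hA : ringKrullDim A = 2) (t : A) (ht : t ∈ nonZeroDivisors A) {r : ℕ}
    (q : Fin r → Ideal A) [hq : ∀ i, (q i).IsPrime] (hinj : Function.Injective q)
    (hqm : ∀ i, q i ≠ maximalIdeal A) (htq : ∀ i, t ∈ q i) (n : ℕ) (i : Fin r) :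
    ∃ σ : A, σ ∉ q i ∧ ∀ j, j ≠ i → ∃ w : Localization.AtPrime (q j),
      algebraMap A (Localization.AtPrime (q j)) σ = tl t q j ^ n * w := by
  classical
  have hex : ∀ j : Fin r, ∃ τ : A, τ ∉ q i ∧ (j ≠ i → ∃ w : Localization.AtPrime (q j),
      algebraMap A (Localization.AtPrime (q j)) τ = tl t q j ^ n * w) := by
    intro j
    by_cases hj : j = i
    · exact ⟨1, fun h1 => (hq i).ne_top ((Ideal.eq_top_iff_one _).mpr h1), fun h => absurd hj h⟩
    · have hnle : ¬ q j ≤ q i :=
        not_le_of_ne hA ht (q j) (q i) (hqm i) (htq j) (fun h => hj (hinj h))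
      obtain ⟨ρ, hρj, hρi⟩ := SetLike.not_le_iff_exists.mp hnle
      haveI := krullDimLE_one_localization hA (q j) (hqm j)
      obtain ⟨N, hN⟩ := exists_pow_le_span (tl t q j ^ n)
        (pow_mem (tl_mem_nonZeroDivisors t q ht j) n)
      have h1 : algebraMap A (Localization.AtPrime (q j)) ρ ∈
          maximalIdeal (Localization.AtPrime (q j)) :=
        (IsLocalization.AtPrime.to_map_mem_maximal_iff _ (q j) ρ).mpr hρj
      have h2 : algebraMap A (Localization.AtPrime (q j)) (ρ ^ N) ∈
          Ideal.span {tl t q j ^ n} := by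
        rw [map_pow]
        exact hN (Ideal.pow_mem_pow h1 N)
      obtain ⟨w, hw⟩ := Ideal.mem_span_singleton'.mp h2
      refine ⟨ρ ^ N, fun h => hρi ((hq i).mem_of_pow_mem N h), fun _ => ⟨w, ?_⟩⟩
      rw [← hw, mul_comm]
  choose τ hτ1 hτ2 using hex
  refine ⟨∏ j, τ j, ?_, ?_⟩
  · intro h
    obtain ⟨j, -, hj⟩ := ((hq i).prod_mem_iff).mp h
    exact hτ1 j hj
  · intro j hj
    obtain ⟨w, hw⟩ := hτ2 j hj
    refine ⟨w * algebraMap A (Localization.AtPrime (q j)) (∏ j' ∈ Finset.univ.erase j, τ j'), ?_⟩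
    rw [← Finset.mul_prod_erase Finset.univ τ (Finset.mem_univ j), map_mul, hw, mul_assoc]

/-- **Glueing at height one primes.** -/
theorem glue (hA : ringKrullDim A = 2) (t : A) (htnz : t ∈ nonZeroDivisors A) (r : ℕ)
    (q : Fin r → Ideal A) [hq : ∀ i, (q i).IsPrime] (hinj : Function.Injective q)
    (hqm : ∀ i, q i ≠ maximalIdeal A) (htq : ∀ i, t ∈ q i)
    (B : Fin r → Type u) [∀ i, CommRing (B i)] [∀ i, Algebra (Localization.AtPrime (q i)) (B i)]
    (hB : ∀ i, IsFinExt (Localization.AtPrime (q i)) (B i)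
      (Ideal.span {algebraMap A (Localization.AtPrime (q i)) t}))
    (htB : ∀ i, IsSMulRegular (B i) (algebraMap A (Localization.AtPrime (q i)) t)) :
    ∃ (C : Type u) (_ : CommRing C) (_ : Algebra A C), IsFinExt A C (Ideal.span {t}) ∧
      ∀ i, Nonempty ((Localization.AtPrime (q i)) ⊗[A] C ≃ₐ[Localization.AtPrime (q i)] B i) := by
  classical
  have hinjB : ∀ i, Function.Injective (algebraMap (Localization.AtPrime (q i)) (B i)) :=
    fun i => (hB i).1
  have hex : ∀ i, ∃ k : ℕ, ∀ b : B i,
      tl t q i ^ k • b ∈ (algebraMap (Localization.AtPrime (q i)) (B i)).range := by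
    intro i
    obtain ⟨k, hk⟩ := (hB i).2.2
    exact ⟨k, fun b => hk _ (Ideal.pow_mem_pow (Ideal.mem_span_singleton_self _) k) b⟩
  choose kf hkf using hex
  set n := ∑ i, kf i with hn_def
  have hn : ∀ i (b : B i),
      tl t q i ^ n • b ∈ (algebraMap (Localization.AtPrime (q i)) (B i)).range := by
    intro i b
    have hle : kf i ≤ n := Finset.single_le_sum (f := kf) (fun _ _ => Nat.zero_le _)
      (Finset.mem_univ i)
    obtain ⟨d, hd⟩ := Nat.exists_eq_add_of_le hle
    obtain ⟨z, hz⟩ := hkf i b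
    refine ⟨tl t q i ^ d * z, ?_⟩
    rw [map_mul, hz, hd, pow_add, mul_smul, Algebra.smul_def (tl t q i ^ d), mul_smul_comm]
  have htB' : ∀ i, algebraMap (Localization.AtPrime (q i)) (B i) (tl t q i) ∈
      nonZeroDivisors (B i) := by
    intro i
    rw [mem_nonZeroDivisors_iff_right]
    intro b hb
    apply htB i
    show algebraMap A (Localization.AtPrime (q i)) t • b =
      algebraMap A (Localization.AtPrime (q i)) t • (0 : B i)
    rw [smul_zero, Algebra.smul_def, mul_comm]
    exact hb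
  set I : Ideal A := (MM t q B hinjB n hn n).colon (MM t q B hinjB n hn (n + n)) with hI_def
  have hI : ∀ x' ∈ MM t q B hinjB n hn (n + n), ∀ s ∈ I, s • x' ∈ MM t q B hinjB n hn n :=
    fun x' hx' s hs => Submodule.mem_colon.mp hs x' hx'
  have hInot : ∀ i, ¬ I ≤ q i := by
    intro i hle
    obtain ⟨s, hs, hs'⟩ := exists_uniform_smul_mem_MM t q B hinjB n hn htnz i n
    exact hs (hle (Submodule.mem_colon.mpr hs'))
  have hsep := fun i => exists_sep hA t htnz q hinj hqm htq n i
  exact ⟨CC t q B hinjB n hn I hI, inferInstance, inferInstance,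
    isFinExt_CC t q B hinjB n hn I hI htnz,
    fun i => nonempty_tensor_equiv t q B hinjB n hn I hI htnz htB' hInot hsep i⟩

end final

end Groth.Agent.Lib.Seat9.GlueH1
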