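import Mathlib
import Groth.Prelude.Def_CycAlg
import Groth.Agent.Lib.Helper5SuppDim
import Groth.Agent.S1833

/-!
# Key lemma for tame symbols (seat 9), part A

Generic module lemmas: finite length from the support, the Herbrand quotient of `(N, 0, x)`.
-/

set_option autoImplicit false
set_option linter.unusedSectionVars false
universe u v

namespace Groth.Agent.Lib.Seat9.KeyA

open IsLocalRing CycAlg Pointwise

section generic

variable {R : Type u} [CommRing R]

/-- finite length from support at maximal ideals -/
theorem length_lt_top_of_support [IsNoetherianRing R] {N : Type*} [AddCommGroup N] [Module R N]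
    [Module.Finite R N] (h : ∀ p ∈ Module.support R N, p.asIdeal.IsMaximal) :
    Module.length R N < ⊤ := by
  rw [lt_top_iff_ne_top, Module.length_ne_top_iff]
  exact Helper5.isFiniteLength_of_supportDim_le_zero
    (Helper5.supportDim_le_zero_of_forall_isMaximal h)

theorem length_quot_eq_of_surjective {A B : Type*} [AddCommGroup A] [Module R A] [AddCommGroup B]
    [Module R B] (f : A →ₗ[R] B) (hf : Function.Surjective f) (P : Submodule R A)
    (hP : LinearMap.ker f = P) : Module.length R (A ⧸ P) = Module.length R B := by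
  subst hP
  exact (f.quotKerEquivOfSurjective hf).length_eq

variable {N : Type v} [AddCommGroup N] [Module R N]

theorem length_perH_zero_smul (x : R) :
    Module.length R (perH (0 : N →ₗ[R] N) (x • LinearMap.id)) =
      Module.length R (N ⧸ x • (⊤ : Submodule R N)) := by
  let f : ↥(LinearMap.ker (0 : N →ₗ[R] N)) →ₗ[R] (N ⧸ x • (⊤ : Submodule R N)) :=
    (Submodule.mkQ _).comp (Submodule.subtype _)
  refine length_quot_eq_of_surjective f ?_ _ ?_
  · intro y
    obtain ⟨l, rfl⟩ := Submodule.Quotient.mk_surjective _ y
    exact ⟨⟨l, by simp⟩, rfl⟩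
  · ext z
    simp only [f, LinearMap.mem_ker, LinearMap.comp_apply, Submodule.mkQ_apply,
      Submodule.subtype_apply, Submodule.Quotient.mk_eq_zero]
    show (z : N) ∈ x • (⊤ : Submodule R N) ↔ (z : N) ∈ LinearMap.range (x • LinearMap.id)
    rw [Submodule.mem_smul_pointwise_iff_exists, LinearMap.mem_range]
    constructor
    · rintro ⟨w, _, hw⟩
      exact ⟨w, by simpa using hw⟩
    · rintro ⟨w, hw⟩
      exact ⟨w, Submodule.mem_top, by simpa using hw⟩

theorem length_perH_smul_zero (x : R) :
    Module.length R (perH (x • LinearMap.id : N →ₗ[R] N) 0) =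
      Module.length R (LinearMap.ker (LinearMap.lsmul R N x)) := by
  have hk : LinearMap.ker (x • LinearMap.id : N →ₗ[R] N) = LinearMap.ker (LinearMap.lsmul R N x) := by
    ext z
    simp
  let f : ↥(LinearMap.ker (x • LinearMap.id : N →ₗ[R] N)) →ₗ[R]
      ↥(LinearMap.ker (LinearMap.lsmul R N x)) := (LinearEquiv.ofEq _ _ hk).toLinearMap
  refine length_quot_eq_of_surjective f (LinearEquiv.ofEq _ _ hk).surjective _ ?_
  ext z
  simp only [f, LinearMap.mem_ker, LinearEquiv.coe_coe]
  show _ ↔ (z : N) ∈ LinearMap.range (0 : N →ₗ[R] N)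
  rw [LinearMap.range_zero, Submodule.mem_bot]
  constructor
  · intro h
    have := congrArg Subtype.val h
    simpa using this
  · intro h
    apply Subtype.ext
    simpa using h

end generic

section local_

variable {R : Type u} [CommRing R] [IsNoetherianRing R] [IsLocalRing R]
  (q : Ideal R) [hq : q.IsPrime]
  (N : Type u) [AddCommGroup N] [Module R N] [Module.Finite R N]

theorem supportDim_le_one_of_forall
    (hS : ∀ p ∈ Module.support R N, p.asIdeal = q ∨ p.asIdeal = maximalIdeal R) :
    Module.supportDim R N ≤ 1 := by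
  unfold Module.supportDim
  rw [Order.krullDim_le_one_iff]
  intro x
  rcases hS x.1 x.2 with h | h
  · left
    intro y hyx
    rcases hS y.1 y.2 with h' | h'
    · show x.1.asIdeal ≤ y.1.asIdeal
      rw [h, h']
    · show x.1.asIdeal ≤ y.1.asIdeal
      rw [h']
      exact IsLocalRing.le_maximalIdeal x.1.2.ne_top
  · right
    intro y hxy
    show y.1.asIdeal ≤ x.1.asIdeal
    rw [h]
    exact IsLocalRing.le_maximalIdeal y.1.2.ne_top

variable {q N}

theorem isMaximal_of_mem_support_of_killed {T : Type*} [AddCommGroup T] [Module R T]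
    (hS : ∀ p ∈ Module.support R T, p.asIdeal = q ∨ p.asIdeal = maximalIdeal R)
    (x : R) (hx : x ∉ q) (hk : ∀ w : T, x • w = 0) :
    ∀ p ∈ Module.support R T, p.asIdeal.IsMaximal := by
  intro p hp
  rcases hS p hp with h | h
  · exfalso
    apply hx
    rw [← h]
    apply Module.annihilator_le_of_mem_support hp
    rw [Module.mem_annihilator]
    exact hk
  · rw [h]
    infer_instance

/-- the Herbrand quotient of `(N, 0, x)` for a module supported at `q` and the closed point -/
theorem herbrand_zero_smul (hqm : q ≠ maximalIdeal R)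
    (hS : ∀ p ∈ Module.support R N, p.asIdeal = q ∨ p.asIdeal = maximalIdeal R)
    (x : R) (hx : x ∉ q) :
    CycAlg.herbrand R (0 : N →ₗ[R] N) (x • LinearMap.id) =
      ((Ring.ord (R ⧸ q) (Ideal.Quotient.mk q x)).toNat : ℤ) *
        ((Module.length (Localization.AtPrime q) (LocalizedModule q.primeCompl N)).toNat : ℤ) := by
  have hS' : ∀ p ∈ Module.support R (N ⧸ x • (⊤ : Submodule R N)),
      p.asIdeal = q ∨ p.asIdeal = maximalIdeal R := fun p hp =>
    hS p (Module.support_subset_of_surjective _ (Submodule.mkQ_surjective _) hp)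
  have hk1 : ∀ w : N ⧸ x • (⊤ : Submodule R N), x • w = 0 := by
    intro w
    obtain ⟨w, rfl⟩ := Submodule.Quotient.mk_surjective _ w
    rw [← Submodule.Quotient.mk_smul, Submodule.Quotient.mk_eq_zero]
    exact Submodule.smul_mem_pointwise_smul w x ⊤ Submodule.mem_top
  have hmax1 := isMaximal_of_mem_support_of_killed hS' x hx hk1
  have h0 : Module.supportDim R (N ⧸ x • (⊤ : Submodule R N)) ≤ 0 :=
    Helper5.supportDim_le_zero_of_forall_isMaximal hmax1
  have h1 := supportDim_le_one_of_forall q N hS
  have hfin1 : Module.length R (N ⧸ x • (⊤ : Submodule R N)) < ⊤ := length_lt_top_of_support hmax1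
  have hS'' : ∀ p ∈ Module.support R (LinearMap.ker (LinearMap.lsmul R N x)),
      p.asIdeal = q ∨ p.asIdeal = maximalIdeal R := fun p hp =>
    hS p (Module.support_subset_of_injective _ (Submodule.subtype_injective _) hp)
  have hk2 : ∀ w : LinearMap.ker (LinearMap.lsmul R N x), x • w = 0 := by
    intro w
    apply Subtype.ext
    have := w.2
    rw [LinearMap.mem_ker] at this
    simpa using this
  have hfin2 : Module.length R (LinearMap.ker (LinearMap.lsmul R N x)) < ⊤ :=
    length_lt_top_of_support (isMaximal_of_mem_support_of_killed hS'' x hx hk2)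
  have key := Groth.Agent.S1833.result R N x h1 h0
  set F : PrimeSpectrum R → ℕ∞ := fun p => Ring.ord (R ⧸ p.asIdeal) (Ideal.Quotient.mk p.asIdeal x) *
    Module.length (Localization.AtPrime p.asIdeal) (LocalizedModule p.asIdeal.primeCompl N) with hF
  have hsum : (∑ᶠ (p : PrimeSpectrum R) (_ : p ∈ Module.support R N ∧
      p.asIdeal ≠ IsLocalRing.maximalIdeal R), F p) = F ⟨q, hq⟩ := by
    by_cases hqs : (⟨q, hq⟩ : PrimeSpectrum R) ∈ Module.support R N
    · have hT : {p : PrimeSpectrum R | p ∈ Module.support R N ∧
          p.asIdeal ≠ IsLocalRing.maximalIdeal R} = {⟨q, hq⟩} := by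
        ext p
        simp only [Set.mem_setOf_eq, Set.mem_singleton_iff]
        constructor
        · rintro ⟨hp, hpm⟩
          rcases hS p hp with h | h
          · exact PrimeSpectrum.ext h
          · exact absurd h hpm
        · rintro rfl
          exact ⟨hqs, hqm⟩
      show (∑ᶠ (p : PrimeSpectrum R) (_ : p ∈ {p : PrimeSpectrum R | p ∈ Module.support R N ∧
        p.asIdeal ≠ IsLocalRing.maximalIdeal R}), F p) = _
      rw [hT, finsum_mem_singleton]
    · have hT : {p : PrimeSpectrum R | p ∈ Module.support R N ∧
          p.asIdeal ≠ IsLocalRing.maximalIdeal R} = ∅ := by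
        ext p
        simp only [Set.mem_setOf_eq, Set.mem_empty_iff_false, iff_false, not_and]
        intro hp hpm
        rcases hS p hp with h | h
        · apply hqs
          have : p = ⟨q, hq⟩ := PrimeSpectrum.ext h
          rwa [← this]
        · exact hpm h
      show (∑ᶠ (p : PrimeSpectrum R) (_ : p ∈ {p : PrimeSpectrum R | p ∈ Module.support R N ∧
        p.asIdeal ≠ IsLocalRing.maximalIdeal R}), F p) = _
      rw [hT, finsum_mem_empty]
      rw [Module.notMem_support_iff] at hqs
      symm
      show _ * Module.length (Localization.AtPrime q) (LocalizedModule q.primeCompl N) = 0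
      rw [Module.length_eq_zero, mul_zero]
  rw [hsum] at key
  unfold CycAlg.herbrand
  rw [length_perH_zero_smul, length_perH_smul_zero, key]
  have hne : F ⟨q, hq⟩ ≠ ⊤ := by
    intro h
    rw [key, h, add_top] at hfin1
    exact lt_irrefl _ hfin1
  rw [ENat.toNat_add hfin2.ne hne]
  show (((Module.length R (LinearMap.ker (LinearMap.lsmul R N x))).toNat +
    (Ring.ord (R ⧸ q) (Ideal.Quotient.mk q x) * Module.length (Localization.AtPrime q)
      (LocalizedModule q.primeCompl N)).toNat : ℕ) : ℤ) - _ = _
  rw [ENat.toNat_mul]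
  push_cast
  ring

end local_

end Groth.Agent.Lib.Seat9.KeyA
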