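import Mathlib
import Groth.Prelude.Def_CycAlg
import Groth.Agent.Lib.Seat9KeyA

/-!
# Key lemma for tame symbols (seat 9), part B

The module `R ⧸ It` where `It` is the contraction of `t S`, `S = R_q`: supports, finite length
of cohomology modules, localized lengths of the submodules `y M`.
-/

set_option autoImplicit false
set_option linter.unusedSectionVars false
universe u v

namespace Groth.Agent.Lib.Seat9.KeyB

open IsLocalRing CycAlg Pointwise Groth.Agent.Lib.Seat9.KeyA

variable {R : Type u} [CommRing R] (q : Ideal R) [hq : q.IsPrime] (t : R)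

/-- the contraction of `t R_q` -/
def It : Ideal R :=
  (Ideal.span {algebraMap R (Localization.AtPrime q) t}).comap (algebraMap R (Localization.AtPrime q))

theorem mem_It (x : R) : x ∈ It q t ↔
    ∃ c : Localization.AtPrime q, algebraMap R (Localization.AtPrime q) x =
      algebraMap R (Localization.AtPrime q) t * c := by
  unfold It
  rw [Ideal.mem_comap, Ideal.mem_span_singleton']
  constructor
  · rintro ⟨c, hc⟩
    exact ⟨c, by rw [← hc, mul_comm]⟩
  · rintro ⟨c, hc⟩
    exact ⟨c, by rw [hc, mul_comm]⟩

theorem t_mem_It : t ∈ It q t := (mem_It q t t).mpr ⟨1, (mul_one _).symm⟩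

theorem mem_It_of_map_eq_zero (x : R) (h : algebraMap R (Localization.AtPrime q) x = 0) :
    x ∈ It q t := (mem_It q t x).mpr ⟨0, by rw [h, mul_zero]⟩

theorem It_smul (i : R) (hi : i ∈ It q t) (w : R ⧸ It q t) : i • w = 0 := by
  obtain ⟨r, rfl⟩ := Ideal.Quotient.mk_surjective w
  rw [Algebra.smul_def, Ideal.Quotient.algebraMap_eq, ← map_mul, Ideal.Quotient.eq_zero_iff_mem]
  exact Ideal.mul_mem_right _ _ hi

theorem smul_eq_of_map_eq (x y : R)
    (h : algebraMap R (Localization.AtPrime q) x = algebraMap R (Localization.AtPrime q) y)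
    (w : R ⧸ It q t) : x • w = y • w := by
  rw [← sub_eq_zero, ← sub_smul]
  apply It_smul
  apply mem_It_of_map_eq_zero
  rw [map_sub, h, sub_self]

theorem smul_mk_eq_zero_iff (x r : R) :
    x • (Ideal.Quotient.mk (It q t) r) = 0 ↔ x * r ∈ It q t := by
  rw [Algebra.smul_def, Ideal.Quotient.algebraMap_eq, ← map_mul, Ideal.Quotient.eq_zero_iff_mem]

section supp

variable [IsLocalRing R]
  (hV : ∀ p : Ideal R, p.IsPrime → It q t ≤ p → p = q ∨ p = maximalIdeal R)

include hV in
theorem support_of_killed {T : Type*} [AddCommGroup T] [Module R T]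
    (hk : ∀ i ∈ It q t, ∀ w : T, i • w = 0) :
    ∀ p ∈ Module.support R T, p.asIdeal = q ∨ p.asIdeal = maximalIdeal R := by
  intro p hp
  apply hV p.asIdeal p.2
  intro i hi
  apply Module.annihilator_le_of_mem_support hp
  rw [Module.mem_annihilator]
  exact hk i hi

include hV in
theorem length_lt_top_of_torsion [IsNoetherianRing R] {T : Type*} [AddCommGroup T] [Module R T]
    [Module.Finite R T] (hk : ∀ i ∈ It q t, ∀ w : T, i • w = 0)
    (htor : ∀ w : T, ∃ σ : R, σ ∉ q ∧ σ • w = 0) : Module.length R T < ⊤ := by
  apply length_lt_top_of_support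
  intro p hp
  obtain ⟨w, hw⟩ := Module.mem_support_iff_exists_annihilator.mp hp
  have h1 : It q t ≤ p.asIdeal := by
    intro i hi
    apply hw
    rw [Submodule.mem_annihilator_span_singleton]
    exact hk i hi w
  rcases hV p.asIdeal p.2 h1 with h | h
  · exfalso
    obtain ⟨σ, hσ, hσw⟩ := htor w
    apply hσ
    rw [← h]
    apply hw
    rw [Submodule.mem_annihilator_span_singleton]
    exact hσw
  · rw [h]
    infer_instance

include hV in
theorem supportDim_quot_le_zero [IsNoetherianRing R] (x : R) (hx : x ∉ q) :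
    Module.supportDim R ((R ⧸ It q t) ⧸ x • (⊤ : Submodule R (R ⧸ It q t))) ≤ 0 := by
  apply Helper5.supportDim_le_zero_of_forall_isMaximal
  have h1 : ∀ p ∈ Module.support R ((R ⧸ It q t) ⧸ x • (⊤ : Submodule R (R ⧸ It q t))),
      p.asIdeal = q ∨ p.asIdeal = maximalIdeal R := by
    apply support_of_killed q t hV
    intro i hi w
    obtain ⟨w, rfl⟩ := Submodule.Quotient.mk_surjective _ w
    rw [← Submodule.Quotient.mk_smul, It_smul q t i hi, Submodule.Quotient.mk_zero]
  have h2 : ∀ w : (R ⧸ It q t) ⧸ x • (⊤ : Submodule R (R ⧸ It q t)), x • w = 0 := by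
    intro w
    obtain ⟨w, rfl⟩ := Submodule.Quotient.mk_surjective _ w
    rw [← Submodule.Quotient.mk_smul, Submodule.Quotient.mk_eq_zero]
    exact Submodule.smul_mem_pointwise_smul w x ⊤ Submodule.mem_top
  exact isMaximal_of_mem_support_of_killed h1 x hx h2

include hV in
/-- cohomology of `(M, x, y)` has finite length when `x y = t * unit` in `R_q` -/
theorem length_perH_lt_top [IsNoetherianRing R] (x y : R) (c : Localization.AtPrime q)
    (hc : IsUnit c)
    (hx : algebraMap R (Localization.AtPrime q) x ∈ nonZeroDivisors (Localization.AtPrime q))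
    (hxy : algebraMap R (Localization.AtPrime q) x * algebraMap R (Localization.AtPrime q) y =
      algebraMap R (Localization.AtPrime q) t * c) :
    Module.length R (perH (x • LinearMap.id : (R ⧸ It q t) →ₗ[R] (R ⧸ It q t))
      (y • LinearMap.id)) < ⊤ := by
  apply length_lt_top_of_torsion q t hV
  · intro i hi w
    obtain ⟨⟨w, hw⟩, rfl⟩ := Submodule.Quotient.mk_surjective _ w
    rw [← Submodule.Quotient.mk_smul]
    have : i • (⟨w, hw⟩ : LinearMap.ker (x • LinearMap.id : (R ⧸ It q t) →ₗ[R] (R ⧸ It q t))) = 0 := by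
      apply Subtype.ext
      exact It_smul q t i hi w
    rw [this, Submodule.Quotient.mk_zero]
  · intro w
    obtain ⟨⟨w, hw⟩, rfl⟩ := Submodule.Quotient.mk_surjective _ w
    obtain ⟨r, rfl⟩ := Ideal.Quotient.mk_surjective w
    rw [LinearMap.mem_ker, LinearMap.smul_apply, LinearMap.id_apply, smul_mk_eq_zero_iff,
      mem_It] at hw
    obtain ⟨d, hd⟩ := hw
    obtain ⟨c', hc'⟩ := hc.exists_left_inv
    -- alg r = alg y * (c' * d)
    have h1 : algebraMap R (Localization.AtPrime q) r =
        algebraMap R (Localization.AtPrime q) y * (c' * d) := by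
      apply (mul_cancel_left_mem_nonZeroDivisors hx).mp
      rw [← map_mul, hd, ← mul_assoc, hxy]
      have : algebraMap R (Localization.AtPrime q) t * c * (c' * d) =
          algebraMap R (Localization.AtPrime q) t * (c' * c) * d := by ring
      rw [this, hc', mul_one]
    obtain ⟨⟨r', σ⟩, hr'⟩ := IsLocalization.surj q.primeCompl (c' * d)
    refine ⟨σ.1, σ.2, ?_⟩
    rw [← Submodule.Quotient.mk_smul, Submodule.Quotient.mk_eq_zero]
    show ((σ.1 • (⟨Ideal.Quotient.mk (It q t) r, _⟩ :
      LinearMap.ker (x • LinearMap.id : (R ⧸ It q t) →ₗ[R] (R ⧸ It q t))) : _) : R ⧸ It q t) ∈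
        LinearMap.range (y • LinearMap.id : (R ⧸ It q t) →ₗ[R] (R ⧸ It q t))
    refine ⟨Ideal.Quotient.mk (It q t) r', ?_⟩
    show y • Ideal.Quotient.mk (It q t) r' = σ.1 • Ideal.Quotient.mk (It q t) r
    rw [Algebra.smul_def, Algebra.smul_def, Ideal.Quotient.algebraMap_eq,
      ← map_mul, ← map_mul, Ideal.Quotient.eq]
    apply mem_It_of_map_eq_zero
    rw [map_sub, map_mul, map_mul, h1, ← hr']
    ring

end supp

section loc

/-- lengths of localized modules can be computed on any localization -/
theorem length_localizedModule_eq (p : Submonoid R) {N V : Type*} [AddCommGroup N] [Module R N]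
    [AddCommGroup V] [Module R V] [Module (Localization p) V] [IsScalarTower R (Localization p) V]
    (g : N →ₗ[R] V) [IsLocalizedModule p g] :
    Module.length (Localization p) (LocalizedModule p N) = Module.length (Localization p) V :=
  ((IsLocalizedModule.linearEquiv p (LocalizedModule.mkLinearMap p N) g).extendScalarsOfIsLocalization
    p (Localization p)).length_eq

/-- the localized length of `y M` -/
theorem length_localized_range (y : R) (c : Localization.AtPrime q)
    (hy : algebraMap R (Localization.AtPrime q) y ∈ nonZeroDivisors (Localization.AtPrime q))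
    (hyc : algebraMap R (Localization.AtPrime q) y * c = algebraMap R (Localization.AtPrime q) t) :
    Module.length (Localization.AtPrime q) (LocalizedModule q.primeCompl
      ↥(LinearMap.range (y • LinearMap.id : (R ⧸ It q t) →ₗ[R] (R ⧸ It q t)))) =
      Ring.ord (Localization.AtPrime q) c := by
  set φ : (R ⧸ It q t) →ₗ[R] (R ⧸ It q t) := y • LinearMap.id with hφ
  let p : R →ₗ[R] ↥(LinearMap.range φ) := φ.rangeRestrict ∘ₗ (Submodule.mkQ (It q t))
  have hp : Function.Surjective p :=
    (LinearMap.surjective_rangeRestrict φ).comp (Submodule.mkQ_surjective _)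
  have hker : ∀ r : R, r ∈ LinearMap.ker p ↔
      algebraMap R (Localization.AtPrime q) r ∈ Ideal.span {c} := by
    intro r
    rw [LinearMap.mem_ker]
    have h1 : p r = 0 ↔ y • (Ideal.Quotient.mk (It q t) r) = 0 := by
      constructor
      · intro h
        exact congrArg Subtype.val h
      · intro h
        exact Subtype.ext h
    rw [h1, smul_mk_eq_zero_iff, mem_It, Ideal.mem_span_singleton']
    constructor
    · rintro ⟨d, hd⟩
      refine ⟨d, ?_⟩
      apply (mul_cancel_left_mem_nonZeroDivisors hy).mp
      rw [← map_mul, hd, ← hyc]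
      ring
    · rintro ⟨d, hd⟩
      refine ⟨d, ?_⟩
      rw [map_mul, ← hd, ← hyc]
      ring
  let e₁ : (R ⧸ LinearMap.ker p) ≃ₗ[R] ↥(LinearMap.range φ) := p.quotKerEquivOfSurjective hp
  let g₀ := Submodule.toLocalizedQuotient' (Localization.AtPrime q) q.primeCompl
    (Algebra.linearMap R (Localization.AtPrime q)) (LinearMap.ker p)
  let g := g₀ ∘ₗ e₁.symm.toLinearMap
  haveI : IsLocalizedModule q.primeCompl g := IsLocalizedModule.of_linearEquiv_right _ _ _
  have h2 := length_localizedModule_eq q.primeCompl g
  have h3 : (LinearMap.ker p).localized' (Localization.AtPrime q) q.primeCompl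
      (Algebra.linearMap R (Localization.AtPrime q)) = Ideal.span {c} := by
    ext x
    rw [Submodule.mem_localized']
    constructor
    · rintro ⟨m, hm, s, hx⟩
      rw [IsLocalizedModule.mk'_eq_iff] at hx
      have hm' := (hker m).mp hm
      have hs : IsUnit (algebraMap R (Localization.AtPrime q) s.1) :=
        IsLocalization.map_units _ s
      obtain ⟨s', hs'⟩ := hs.exists_left_inv
      have : x = s' * algebraMap R (Localization.AtPrime q) m := by
        have h4 : algebraMap R (Localization.AtPrime q) m =
            algebraMap R (Localization.AtPrime q) s.1 * x := by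
          rw [← Algebra.linearMap_apply, hx, Submonoid.smul_def, Algebra.smul_def]
        rw [h4, ← mul_assoc, hs', one_mul]
      rw [this]
      exact Ideal.mul_mem_left _ _ hm'
    · intro hx
      obtain ⟨⟨r, σ⟩, hr⟩ := IsLocalization.surj q.primeCompl x
      refine ⟨r, ?_, σ, ?_⟩
      · rw [hker, ← hr]
        exact Ideal.mul_mem_right _ _ hx
      · rw [IsLocalizedModule.mk'_eq_iff, Algebra.linearMap_apply, ← hr, Submonoid.smul_def,
          Algebra.smul_def, mul_comm]
  rw [h2]
  unfold Ring.ord
  exact (Submodule.quotEquivOfEq _ _ h3).length_eq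

end loc

end Groth.Agent.Lib.Seat9.KeyB
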