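import Mathlib
import Groth.Agent.Lib.Seat9RelLen

/-!
# Kernel / image filtrations of a nilpotent endomorphism (seat 9)

For `φ : M → M` with `φ ^ n = 0` and `ker φ / im φ^(n-1)` of finite length, the lengths
`a i = length (ker φ^i / im φ^(n-i))` are finite and satisfy `a i = a (n - i)`.
-/

set_option autoImplicit false
universe u v

namespace Groth.Agent.Lib.Seat9.NilHerbrand

open Groth.Agent.Lib.Seat9.RelLen

variable {R : Type u} [CommRing R] {M : Type v} [AddCommGroup M] [Module R M] (φ : M →ₗ[R] M)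

/-- `K j = ker φ^j`. -/
def K (j : ℕ) : Submodule R M := LinearMap.ker (φ ^ j)

/-- `I j = im φ^j`. -/
def I (j : ℕ) : Submodule R M := LinearMap.range (φ ^ j)

theorem mem_K (j : ℕ) (x : M) : x ∈ K φ j ↔ (φ ^ j) x = 0 := LinearMap.mem_ker

theorem mem_I (j : ℕ) (x : M) : x ∈ I φ j ↔ ∃ y, (φ ^ j) y = x := LinearMap.mem_range

theorem K_zero : K φ 0 = ⊥ := by
  ext x; simp [mem_K]

theorem I_zero : I φ 0 = ⊤ := by
  ext x; simp [mem_I]

theorem K_mono {i j : ℕ} (h : i ≤ j) : K φ i ≤ K φ j := by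
  intro x hx
  rw [mem_K] at hx ⊢
  obtain ⟨k, rfl⟩ := Nat.exists_eq_add_of_le h
  rw [add_comm, pow_add, Module.End.mul_apply, hx, map_zero]

theorem I_anti {i j : ℕ} (h : i ≤ j) : I φ j ≤ I φ i := by
  intro x hx
  rw [mem_I] at hx ⊢
  obtain ⟨y, rfl⟩ := hx
  obtain ⟨k, rfl⟩ := Nat.exists_eq_add_of_le h
  exact ⟨(φ ^ k) y, by rw [pow_add, Module.End.mul_apply]⟩

theorem I_le_K {n : ℕ} (hφ : φ ^ n = 0) {i j : ℕ} (h : n ≤ i + j) : I φ j ≤ K φ i := by
  intro x hx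
  rw [mem_I] at hx
  rw [mem_K]
  obtain ⟨y, rfl⟩ := hx
  rw [← Module.End.mul_apply, ← pow_add]
  obtain ⟨k, hk⟩ := Nat.exists_eq_add_of_le h
  rw [hk, add_comm, pow_add, hφ, mul_zero, LinearMap.zero_apply]

/-- `φ^j (K (i + j)) = I j ⊓ K i`. -/
theorem map_K (i j : ℕ) : (K φ (i + j)).map (φ ^ j) = I φ j ⊓ K φ i := by
  ext x
  simp only [Submodule.mem_map, Submodule.mem_inf, mem_K, mem_I]
  constructor
  · rintro ⟨y, hy, rfl⟩
    refine ⟨⟨y, rfl⟩, ?_⟩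
    rw [← Module.End.mul_apply, ← pow_add, hy]
  · rintro ⟨⟨y, rfl⟩, hy⟩
    refine ⟨y, ?_, rfl⟩
    rw [← Module.End.mul_apply, ← pow_add] at hy
    exact hy

/-- `φ^i (I j) = I (i + j)`. -/
theorem map_I (i j : ℕ) : (I φ j).map (φ ^ i) = I φ (i + j) := by
  ext x
  simp only [Submodule.mem_map, mem_I]
  constructor
  · rintro ⟨_, ⟨y, rfl⟩, rfl⟩
    exact ⟨y, by rw [pow_add, Module.End.mul_apply]⟩
  · rintro ⟨y, rfl⟩
    exact ⟨(φ ^ j) y, ⟨y, rfl⟩, by rw [pow_add, Module.End.mul_apply]⟩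

/-- `(φ^i)⁻¹ (I (i + j)) = I j ⊔ K i`. -/
theorem comap_I (i j : ℕ) : (I φ (i + j)).comap (φ ^ i) = I φ j ⊔ K φ i := by
  ext x
  simp only [Submodule.mem_comap, mem_I, Submodule.mem_sup, mem_K]
  constructor
  · rintro ⟨y, hy⟩
    refine ⟨(φ ^ j) y, ⟨y, rfl⟩, x - (φ ^ j) y, ?_, by abel⟩
    rw [map_sub, ← Module.End.mul_apply, ← pow_add, hy, sub_self]
  · rintro ⟨_, ⟨y, rfl⟩, z, hz, rfl⟩
    exact ⟨y, by rw [map_add, hz, add_zero, pow_add, Module.End.mul_apply]⟩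

/-- `(φ^j)⁻¹ (K i) = K (i + j)`. -/
theorem comap_K (i j : ℕ) : (K φ i).comap (φ ^ j) = K φ (i + j) := by
  ext x
  simp only [Submodule.mem_comap, mem_K]
  rw [← Module.End.mul_apply, ← pow_add]

/-- `b i = length (K i / φ K (i+1))`. -/
noncomputable def b (i : ℕ) : ℕ∞ := rl (I φ 1) (K φ i)

/-- `c j = length (K 1 / (K 1 ∩ I j))`. -/
noncomputable def c (j : ℕ) : ℕ∞ := rl (I φ j) (K φ 1)

/-- `a n i = length (K i / I (n - i))`. -/
noncomputable def a (n i : ℕ) : ℕ∞ := rl (I φ (n - i)) (K φ i)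

theorem b_zero : b φ 0 = 0 := by
  unfold b
  rw [K_zero]
  exact rl_of_le _ _ bot_le

theorem c_zero : c φ 0 = 0 := by
  unfold c
  rw [I_zero]
  exact rl_of_le _ _ le_top

theorem a_zero (n : ℕ) : a φ n 0 = 0 := by
  unfold a
  rw [K_zero]
  exact rl_of_le _ _ bot_le

theorem c_mono {i j : ℕ} (h : i ≤ j) : c φ i ≤ c φ j :=
  rl_anti_left _ _ _ (I_anti φ h)

/-- the first four term sequence. -/
theorem seq1 {n : ℕ} (hφ : φ ^ n = 0) (i : ℕ) (hi : i + 1 ≤ n) :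
    a φ n (i + 1) + b φ i = c φ (n - i - 1) + a φ n i := by
  have hmap : (K φ (i + 1)).map φ = I φ 1 ⊓ K φ i := by
    have := map_K φ i 1
    rwa [pow_one] at this
  have hmapI : (I φ (n - i - 1)).map φ = I φ (n - i) := by
    have := map_I φ 1 (n - i - 1)
    rw [pow_one] at this
    rw [this]
    congr 1
    omega
  have hIK : I φ (n - i - 1) ≤ K φ (i + 1) := I_le_K φ hφ (by omega)
  have h4 := rl_four φ (I φ (n - i - 1)) (K φ (i + 1)) (I φ (n - i)) (K φ i) hIK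
    (I_le_K φ hφ (by omega)) (by rw [hmap]; exact inf_le_right) (by rw [hmapI])
  have e1 : I φ (n - i) ⊔ (K φ (i + 1)).map φ = I φ 1 ⊓ K φ i := by
    rw [← hmap]
    apply sup_eq_right.mpr
    rw [← hmapI]
    exact Submodule.map_mono hIK
  have e2 : K φ (i + 1) ⊓ (I φ (n - i)).comap φ = I φ (n - i - 1) ⊔ K φ 1 := by
    have := comap_I φ 1 (n - i - 1)
    rw [pow_one] at this
    have hn : 1 + (n - i - 1) = n - i := by omega
    rw [hn] at this
    rw [this]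
    apply inf_eq_right.mpr
    exact sup_le hIK (K_mono φ (by omega))
  rw [e1, e2, rl_inf, rl_sup] at h4
  have hn : n - (i + 1) = n - i - 1 := by omega
  unfold a b c
  rw [hn]
  exact h4

/-- the second four term sequence. -/
theorem seq2 (i : ℕ) : b φ (i + 1) + c φ i = b φ i + c φ (i + 1) := by
  have hmap1 : (K φ (i + 2)).map φ = I φ 1 ⊓ K φ (i + 1) := by
    have := map_K φ (i + 1) 1
    rwa [pow_one] at this
  have hfA : (K φ (i + 1)).map (φ ^ i) = I φ i ⊓ K φ 1 := by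
    have := map_K φ 1 i
    rwa [add_comm] at this
  have hfA' : ((K φ (i + 2)).map φ).map (φ ^ i) = I φ (i + 1) ⊓ K φ 1 := by
    rw [← Submodule.map_comp]
    have h1 : (φ ^ i) ∘ₗ φ = φ ^ (i + 1) := by
      rw [pow_succ]; rfl
    rw [h1]
    have := map_K φ 1 (i + 1)
    rw [show 1 + (i + 1) = i + 2 by omega] at this
    exact this
  have h4 := rl_four (φ ^ i) ((K φ (i + 2)).map φ) (K φ (i + 1)) (I φ (i + 1) ⊓ K φ 1) (K φ 1)
    (by rw [hmap1]; exact inf_le_right) inf_le_right (by rw [hfA]; exact inf_le_right)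
    (by rw [hfA'])
  have e1 : I φ (i + 1) ⊓ K φ 1 ⊔ (K φ (i + 1)).map (φ ^ i) = I φ i ⊓ K φ 1 := by
    rw [hfA]
    apply sup_eq_right.mpr
    exact inf_le_inf_right _ (I_anti φ (by omega))
  have e2 : K φ (i + 1) ⊓ (I φ (i + 1) ⊓ K φ 1).comap (φ ^ i) =
      (I φ 1 ⊓ K φ (i + 1)) ⊔ K φ i := by
    rw [Submodule.comap_inf, comap_K, comap_I, show 1 + i = i + 1 by omega]
    rw [← inf_assoc, inf_comm (K φ (i + 1)), inf_assoc, inf_idem]
    rw [sup_comm (I φ 1), sup_comm (I φ 1 ⊓ _)]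
    exact (sup_inf_assoc_of_le (I φ 1) (K_mono φ (by omega : i ≤ i + 1)))
  rw [e1, e2, hmap1, rl_sup, rl_inf, rl_inf, rl_inf] at h4
  have e3 : rl (I φ 1 ⊓ K φ (i + 1)) (K φ i) = rl (I φ 1) (K φ i) := by
    rw [← rl_inf, inf_assoc, inf_eq_right.mpr (K_mono φ (by omega : i ≤ i + 1)), rl_inf]
  rw [e3] at h4
  unfold b c
  exact h4


theorem c_lt_top {n : ℕ} (hfin : c φ (n - 1) < ⊤) {j : ℕ} (hj : j ≤ n - 1) : c φ j < ⊤ :=
  lt_of_le_of_lt (c_mono φ hj) hfin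

theorem b_eq_c {n : ℕ} (hfin : c φ (n - 1) < ⊤) : ∀ i : ℕ, i ≤ n - 1 → b φ i = c φ i
  | 0, _ => by rw [b_zero, c_zero]
  | i + 1, hi => by
    have ih := b_eq_c hfin i (by omega)
    have h := seq2 φ i
    rw [ih, add_comm] at h
    have hc : c φ i ≠ ⊤ := (c_lt_top φ hfin (by omega)).ne
    exact WithTop.add_left_cancel hc h

/-- partial sums of the `b i`. -/
noncomputable def S (i : ℕ) : ℕ∞ := ∑ j ∈ Finset.range i, b φ j

theorem S_succ (i : ℕ) : S φ (i + 1) = S φ i + b φ i := Finset.sum_range_succ _ _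

theorem S_lt_top {n : ℕ} (hfin : c φ (n - 1) < ⊤) {i : ℕ} (hi : i ≤ n) : S φ i < ⊤ := by
  unfold S
  rw [ENat.sum_lt_top]
  intro j hj
  rw [Finset.mem_range] at hj
  rw [b_eq_c φ hfin j (by omega)]
  exact c_lt_top φ hfin (by omega)

theorem key {n : ℕ} (hφ : φ ^ n = 0) (hfin : c φ (n - 1) < ⊤) :
    ∀ i : ℕ, i ≤ n → a φ n i + S φ i + S φ (n - i) = S φ n
  | 0, _ => by simp [a_zero, S]
  | i + 1, hi => by
    have ih := key hφ hfin i (by omega)
    have h1 := seq1 φ hφ i hi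
    rw [← b_eq_c φ hfin (n - i - 1) (by omega)] at h1
    have hS : S φ (n - i) = S φ (n - (i + 1)) + b φ (n - i - 1) := by
      rw [show n - i = (n - (i + 1)) + 1 by omega, S_succ]
      congr 2
    calc a φ n (i + 1) + S φ (i + 1) + S φ (n - (i + 1))
        = (a φ n (i + 1) + b φ i) + S φ i + S φ (n - (i + 1)) := by rw [S_succ]; ac_rfl
      _ = (b φ (n - i - 1) + a φ n i) + S φ i + S φ (n - (i + 1)) := by rw [h1]
      _ = a φ n i + S φ i + (S φ (n - (i + 1)) + b φ (n - i - 1)) := by ac_rfl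
      _ = a φ n i + S φ i + S φ (n - i) := by rw [hS]
      _ = S φ n := ih

theorem a_lt_top {n : ℕ} (hφ : φ ^ n = 0) (hfin : c φ (n - 1) < ⊤) (i : ℕ) (hi : i ≤ n) :
    a φ n i < ⊤ := by
  have h := key φ hφ hfin i hi
  have hS := S_lt_top φ hfin (le_refl n)
  rw [← h] at hS
  exact lt_of_le_of_lt (le_trans le_self_add le_self_add) hS

theorem a_symm {n : ℕ} (hφ : φ ^ n = 0) (hfin : c φ (n - 1) < ⊤) (i : ℕ) (hi : i ≤ n) :
    a φ n i = a φ n (n - i) := by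
  have h1 := key φ hφ hfin i hi
  have h2 := key φ hφ hfin (n - i) (by omega)
  rw [show n - (n - i) = i by omega] at h2
  have hS1 := S_lt_top φ hfin hi
  have hS2 := S_lt_top φ hfin (by omega : n - i ≤ n)
  have h3 : (S φ i + S φ (n - i)) + a φ n i = (S φ i + S φ (n - i)) + a φ n (n - i) := by
    rw [add_comm _ (a φ n i), ← add_assoc, h1, ← h2]
    ac_rfl
  exact WithTop.add_left_cancel (WithTop.add_lt_top.mpr ⟨hS1, hS2⟩).ne h3

end Groth.Agent.Lib.Seat9.NilHerbrand
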