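import Mathlib
import Groth.Prelude.Def_CycAlg
import Groth.Agent.Lib.Seat9KeyB
import Groth.Agent.S1831
import Groth.Agent.S1832

/-!
# Key lemma for tame symbols (seat 9), part C

The Herbrand quotient of `(R ⧸ It, a, b)` at one prime `q`, in terms of a factorization of `a`, `b`
in `R_q`.
-/

set_option autoImplicit false
set_option linter.unusedSectionVars false
universe u v

namespace Groth.Agent.Lib.Seat9.KeyC

open IsLocalRing CycAlg Pointwise Groth.Agent.Lib.Seat9.KeyA Groth.Agent.Lib.Seat9.KeyB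

variable {R : Type u} [CommRing R] (q : Ideal R) [hq : q.IsPrime]

/-- the order of `x` in `R ⧸ q` as an integer -/
noncomputable def lamZ (x : R) : ℤ := ((Ring.ord (R ⧸ q) (Ideal.Quotient.mk q x)).toNat : ℤ)

variable [IsNoetherianRing R] [IsLocalRing R] (t : R)
  (hV : ∀ p : Ideal R, p.IsPrime → It q t ≤ p → p = q ∨ p = maximalIdeal R)

include hV in
theorem herbrand_range (hqm : q ≠ maximalIdeal R) (y x : R) (hx : x ∉ q)
    (c : Localization.AtPrime q)
    (hy : algebraMap R (Localization.AtPrime q) y ∈ nonZeroDivisors (Localization.AtPrime q))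
    (hyc : algebraMap R (Localization.AtPrime q) y * c = algebraMap R (Localization.AtPrime q) t) :
    herbrand R (0 : ↥(LinearMap.range (y • LinearMap.id : (R ⧸ It q t) →ₗ[R] (R ⧸ It q t))) →ₗ[R]
        ↥(LinearMap.range (y • LinearMap.id : (R ⧸ It q t) →ₗ[R] (R ⧸ It q t))))
      (x • LinearMap.id) = lamZ q x * ((Ring.ord (Localization.AtPrime q) c).toNat : ℤ) := by
  have hS : ∀ p ∈ Module.support R
      ↥(LinearMap.range (y • LinearMap.id : (R ⧸ It q t) →ₗ[R] (R ⧸ It q t))),
      p.asIdeal = q ∨ p.asIdeal = maximalIdeal R := by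
    apply support_of_killed q t hV
    intro i hi w
    apply Subtype.ext
    exact It_smul q t i hi w.1
  rw [herbrand_zero_smul hqm hS x hx, length_localized_range q t y c hy hyc]
  rfl

theorem smul_id_pow {M : Type*} [AddCommGroup M] [Module R M] (x : R) (k : ℕ) :
    (x • (LinearMap.id : M →ₗ[R] M)) ^ k = x ^ k • LinearMap.id := by
  show (x • (1 : Module.End R M)) ^ k = x ^ k • (1 : Module.End R M)
  rw [smul_pow, one_pow]

theorem isPeriodic_smul {M : Type*} [AddCommGroup M] [Module R M] (x y : R)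
    (h : ∀ w : M, (x * y) • w = 0) :
    IsPeriodic (x • LinearMap.id : M →ₗ[R] M) (y • LinearMap.id) := by
  constructor
  · ext w
    simp only [LinearMap.comp_apply, LinearMap.smul_apply, LinearMap.id_apply, LinearMap.zero_apply]
    rw [smul_smul]
    exact h w
  · ext w
    simp only [LinearMap.comp_apply, LinearMap.smul_apply, LinearMap.id_apply, LinearMap.zero_apply]
    rw [smul_smul, mul_comm]
    exact h w

theorem isPeriodic_smul_right {M : Type*} [AddCommGroup M] [Module R M] {φ ψ : M →ₗ[R] M}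
    (h : IsPeriodic φ ψ) (x : R) : IsPeriodic φ (x • ψ) := by
  constructor
  · rw [LinearMap.comp_smul, h.1, smul_zero]
  · rw [LinearMap.smul_comp, h.2, smul_zero]

/-- the Herbrand quotient at one prime -/
theorem single (hqm : q ≠ maximalIdeal R) (a b : R)
    (hV : ∀ p : Ideal R, p.IsPrime → It q (a * b) ≤ p → p = q ∨ p = maximalIdeal R)
    (π' u' s v' s' : R) (e f : ℕ) (hef : 0 < e + f)
    (hπ : algebraMap R (Localization.AtPrime q) π' ∈ nonZeroDivisors (Localization.AtPrime q))
    (hu' : u' ∉ q) (hs : s ∉ q) (hv' : v' ∉ q) (hs' : s' ∉ q)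
    (hfa : algebraMap R (Localization.AtPrime q) (s * a) =
      algebraMap R (Localization.AtPrime q) (u' * π' ^ e))
    (hfb : algebraMap R (Localization.AtPrime q) (s' * b) =
      algebraMap R (Localization.AtPrime q) (v' * π' ^ f)) :
    FinCoh R (a • LinearMap.id : (R ⧸ It q (a * b)) →ₗ[R] (R ⧸ It q (a * b)))
        (b • LinearMap.id) ∧
      herbrand R (a • LinearMap.id : (R ⧸ It q (a * b)) →ₗ[R] (R ⧸ It q (a * b)))
        (b • LinearMap.id) =
      ((Ring.ord (Localization.AtPrime q) (algebraMap R (Localization.AtPrime q) π')).toNat : ℤ) *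
        ((e : ℤ) * (lamZ q v' - lamZ q s') - (f : ℤ) * (lamZ q u' - lamZ q s)) := by
  set t := a * b with ht
  set α := algebraMap R (Localization.AtPrime q) with hα
  have hunit : ∀ x : R, x ∉ q → IsUnit (α x) := fun x hx =>
    IsLocalization.map_units (Localization.AtPrime q) (⟨x, hx⟩ : q.primeCompl)
  have hfa' : α s * α a = α u' * α π' ^ e := by rw [← map_mul, hfa, map_mul, map_pow]
  have hfb' : α s' * α b = α v' * α π' ^ f := by rw [← map_mul, hfb, map_mul, map_pow]
  have ha : α a ∈ nonZeroDivisors (Localization.AtPrime q) := by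
    have : α s * α a ∈ nonZeroDivisors (Localization.AtPrime q) := by
      rw [hfa']
      exact mul_mem (hunit u' hu').mem_nonZeroDivisors (pow_mem hπ _)
    exact (mul_mem_nonZeroDivisors.mp this).2
  have hb : α b ∈ nonZeroDivisors (Localization.AtPrime q) := by
    have : α s' * α b ∈ nonZeroDivisors (Localization.AtPrime q) := by
      rw [hfb']
      exact mul_mem (hunit v' hv').mem_nonZeroDivisors (pow_mem hπ _)
    exact (mul_mem_nonZeroDivisors.mp this).2
  obtain ⟨si, hsi⟩ := (hunit s hs).exists_left_inv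
  obtain ⟨si', hsi'⟩ := (hunit s' hs').exists_left_inv
  have hsiu : IsUnit si := IsUnit.of_mul_eq_one _ hsi
  have hsiu' : IsUnit si' := IsUnit.of_mul_eq_one _ hsi'
  have haeq : α a = si * α u' * α π' ^ e := by
    calc α a = (si * α s) * α a := by rw [hsi, one_mul]
      _ = si * (α s * α a) := by ring
      _ = si * α u' * α π' ^ e := by rw [hfa']; ring
  have hbeq : α b = si' * α v' * α π' ^ f := by
    calc α b = (si' * α s') * α b := by rw [hsi', one_mul]
      _ = si' * (α s' * α b) := by ring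
      _ = si' * α v' * α π' ^ f := by rw [hfb']; ring
  have hordm : ∀ (w : Localization.AtPrime q) (k : ℕ), IsUnit w →
      ((Ring.ord (Localization.AtPrime q) (w * α π' ^ k)).toNat : ℤ) =
        (k : ℤ) * ((Ring.ord (Localization.AtPrime q) (α π')).toNat : ℤ) := by
    intro w k hw
    rw [Ring.ord_mul_of_isUnit_left hw, Ring.ord_pow hπ, nsmul_eq_mul, ENat.toNat_mul]
    simp
  have horda : ((Ring.ord (Localization.AtPrime q) (α a)).toNat : ℤ) =
      (e : ℤ) * ((Ring.ord (Localization.AtPrime q) (α π')).toNat : ℤ) := by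
    rw [haeq]
    exact hordm _ _ (hsiu.mul (hunit u' hu'))
  have hordb : ((Ring.ord (Localization.AtPrime q) (α b)).toNat : ℤ) =
      (f : ℤ) * ((Ring.ord (Localization.AtPrime q) (α π')).toNat : ℤ) := by
    rw [hbeq]
    exact hordm _ _ (hsiu'.mul (hunit v' hv'))
  -- the unit c₀ with π'^(e+f) = t c₀
  obtain ⟨ui, hui⟩ := ((hunit u' hu').mul (hunit v' hv')).exists_left_inv
  set c₀ := α s * α s' * ui with hc₀
  have hc₀u : IsUnit c₀ :=
    ((hunit s hs).mul (hunit s' hs')).mul (IsUnit.of_mul_eq_one _ hui)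
  have hpow : α π' ^ (e + f) = α t * c₀ := by
    have h1 : α t * (α s * α s') = (α u' * α v') * α π' ^ (e + f) := by
      rw [ht, map_mul, pow_add]
      calc α a * α b * (α s * α s') = (α s * α a) * (α s' * α b) := by ring
        _ = (α u' * α π' ^ e) * (α v' * α π' ^ f) := by rw [hfa', hfb']
        _ = _ := by ring
    calc α π' ^ (e + f) = (ui * (α u' * α v')) * α π' ^ (e + f) := by rw [hui, one_mul]
      _ = ui * ((α u' * α v') * α π' ^ (e + f)) := by ring
      _ = ui * (α t * (α s * α s')) := by rw [h1]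
      _ = α t * c₀ := by rw [hc₀]; ring
  have hkill : ∀ (x : R), (∃ d, α x = α t * d) → ∀ w : R ⧸ It q t, x • w = 0 := by
    intro x hx w
    exact It_smul q t x ((mem_It q t x).mpr hx) w
  have hkpow : ∀ w : R ⧸ It q t, (π' ^ e * π' ^ f) • w = 0 := by
    apply hkill
    refine ⟨c₀, ?_⟩
    rw [← pow_add, map_pow, hpow]
  -- step 1
  have hper0 : IsPeriodic (π' ^ e • LinearMap.id : (R ⧸ It q t) →ₗ[R] (R ⧸ It q t))
      (π' ^ f • LinearMap.id) := isPeriodic_smul _ _ hkpow
  have h1 : FinCoh R (π' ^ e • LinearMap.id : (R ⧸ It q t) →ₗ[R] (R ⧸ It q t))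
        (π' ^ f • LinearMap.id) ∧
      herbrand R (π' ^ e • LinearMap.id : (R ⧸ It q t) →ₗ[R] (R ⧸ It q t))
        (π' ^ f • LinearMap.id) = 0 := by
    have hφn : (π' • (LinearMap.id : (R ⧸ It q t) →ₗ[R] (R ⧸ It q t))) ^ (e + f) = 0 := by
      rw [smul_id_pow]
      refine LinearMap.ext fun w => ?_
      rw [LinearMap.smul_apply, LinearMap.id_apply, LinearMap.zero_apply, pow_add]
      exact hkpow w
    have hfin : Module.length R (perH (π' • (LinearMap.id : (R ⧸ It q t) →ₗ[R] (R ⧸ It q t)))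
        ((π' • (LinearMap.id : (R ⧸ It q t) →ₗ[R] (R ⧸ It q t))) ^ (e + f - 1))) < ⊤ := by
      rw [smul_id_pow]
      apply length_perH_lt_top q t hV π' (π' ^ (e + f - 1)) c₀ hc₀u hπ
      rw [← map_mul, ← pow_succ', Nat.sub_add_cancel hef, map_pow, hpow]
    have := Groth.Agent.S1831.result (π' • (LinearMap.id : (R ⧸ It q t) →ₗ[R] (R ⧸ It q t)))
      (e + f) hef hφn hfin e (Nat.le_add_right e f)
    rw [Nat.add_sub_cancel_left, smul_id_pow, smul_id_pow] at this
    exact this
  have hx : ∀ x : R, x ∉ q →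
      Module.supportDim R ((R ⧸ It q t) ⧸ x • (⊤ : Submodule R (R ⧸ It q t))) ≤ 0 :=
    fun x hx => supportDim_quot_le_zero q t hV x hx
  -- step 2
  have h2 := (Groth.Agent.S1832.result (π' ^ e • LinearMap.id : (R ⧸ It q t) →ₗ[R] (R ⧸ It q t))
    (π' ^ f • LinearMap.id) hper0 h1.1 v' (hx v' hv')).2
  -- step 3
  have h3 := (Groth.Agent.S1832.result (π' ^ e • LinearMap.id : (R ⧸ It q t) →ₗ[R] (R ⧸ It q t))
    (v' • (π' ^ f • LinearMap.id)) (isPeriodic_smul_right hper0 v') h2.1 u' (hx u' hu')).1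
  -- the complex (a, b)
  have hperAB : IsPeriodic (a • LinearMap.id : (R ⧸ It q t) →ₗ[R] (R ⧸ It q t))
      (b • LinearMap.id) := by
    apply isPeriodic_smul
    apply hkill
    exact ⟨1, by rw [mul_one]⟩
  have hfinAB : FinCoh R (a • LinearMap.id : (R ⧸ It q t) →ₗ[R] (R ⧸ It q t))
      (b • LinearMap.id) := by
    constructor
    · apply length_perH_lt_top q t hV a b 1 isUnit_one ha
      rw [mul_one, ht, map_mul]
    · apply length_perH_lt_top q t hV b a 1 isUnit_one hb
      rw [mul_one, ht, map_mul, mul_comm]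
  refine ⟨hfinAB, ?_⟩
  -- step 4
  have h4 := (Groth.Agent.S1832.result (a • LinearMap.id : (R ⧸ It q t) →ₗ[R] (R ⧸ It q t))
    (b • LinearMap.id) hperAB hfinAB s' (hx s' hs')).2
  -- step 5
  have h5 := (Groth.Agent.S1832.result (a • LinearMap.id : (R ⧸ It q t) →ₗ[R] (R ⧸ It q t))
    (s' • (b • LinearMap.id)) (isPeriodic_smul_right hperAB s') h4.1 s (hx s hs)).1
  -- step 6
  have h6a : s • (a • LinearMap.id : (R ⧸ It q t) →ₗ[R] (R ⧸ It q t)) =
      u' • (π' ^ e • LinearMap.id) := by
    refine LinearMap.ext fun w => ?_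
    simp only [LinearMap.smul_apply, LinearMap.id_apply]
    rw [smul_smul, smul_smul]
    exact smul_eq_of_map_eq q t _ _ hfa w
  have h6b : s' • (b • LinearMap.id : (R ⧸ It q t) →ₗ[R] (R ⧸ It q t)) =
      v' • (π' ^ f • LinearMap.id) := by
    refine LinearMap.ext fun w => ?_
    simp only [LinearMap.smul_apply, LinearMap.id_apply]
    rw [smul_smul, smul_smul]
    exact smul_eq_of_map_eq q t _ _ hfb w
  -- step 7
  have r1 := herbrand_range q t hV hqm (π' ^ f) v' hv' (si' * α v' * α a)
    (by rw [map_pow]; exact pow_mem hπ _)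
    (by
      rw [map_pow, ht, map_mul]
      calc α π' ^ f * (si' * α v' * α a) = α a * (si' * α v' * α π' ^ f) := by ring
        _ = α a * α b := by rw [← hbeq])
  have r2 := herbrand_range q t hV hqm (π' ^ e) u' hu' (si * α u' * α b)
    (by rw [map_pow]; exact pow_mem hπ _)
    (by
      rw [map_pow, ht, map_mul]
      calc α π' ^ e * (si * α u' * α b) = (si * α u' * α π' ^ e) * α b := by ring
        _ = α a * α b := by rw [← haeq])
  have r3 := herbrand_range q t hV hqm b s' hs' (α a) hb (by rw [ht, map_mul, mul_comm])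
  have r4 := herbrand_range q t hV hqm a s hs (α b) ha (by rw [ht, map_mul])
  have o1 : ((Ring.ord (Localization.AtPrime q) (si' * α v' * α a)).toNat : ℤ) =
      (e : ℤ) * ((Ring.ord (Localization.AtPrime q) (α π')).toNat : ℤ) := by
    rw [Ring.ord_mul_of_isUnit_left (hsiu'.mul (hunit v' hv'))]
    exact horda
  have o2 : ((Ring.ord (Localization.AtPrime q) (si * α u' * α b)).toNat : ℤ) =
      (f : ℤ) * ((Ring.ord (Localization.AtPrime q) (α π')).toNat : ℤ) := by
    rw [Ring.ord_mul_of_isUnit_left (hsiu.mul (hunit u' hu'))]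
    exact hordb
  rw [o1] at r1
  rw [o2] at r2
  rw [horda] at r3
  rw [hordb] at r4
  have e2 := h2.2
  have e3 := h3.2
  have e4 := h4.2
  have e5 := h5.2
  rw [r1, h1.2] at e2
  rw [r2, e2] at e3
  rw [r3] at e4
  rw [r4, e4] at e5
  rw [h6a, h6b, e3] at e5
  linarith

end Groth.Agent.Lib.Seat9.KeyC
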