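import Mathlib
import Groth.Prelude.Def_CycAlg
import Groth.Agent.Lib.Seat9KeyC
import Groth.Agent.S1870

/-!
# Key lemma for tame symbols (seat 9), part D

Products of periodic complexes, the comparison `R ⧸ (t) → Π j, R ⧸ I j`, and the core identity.
-/

set_option autoImplicit false
set_option linter.unusedSectionVars false
universe u v

namespace Groth.Agent.Lib.Seat9.KeyD

open IsLocalRing CycAlg Pointwise Groth.Agent.Lib.Seat9.KeyA Groth.Agent.Lib.Seat9.KeyB
  Groth.Agent.Lib.Seat9.KeyC

section pi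

variable {R : Type u} [CommRing R] {ι : Type*} [Fintype ι] (M : ι → Type*)
  [∀ j, AddCommGroup (M j)] [∀ j, Module R (M j)]

theorem length_perH_pi (x y : R) :
    Module.length R (perH (x • LinearMap.id : (Π j, M j) →ₗ[R] (Π j, M j)) (y • LinearMap.id)) =
      ∑ j, Module.length R (perH (x • LinearMap.id : M j →ₗ[R] M j) (y • LinearMap.id)) := by
  rw [← Module.length_pi_of_fintype R]
  let F : ↥(LinearMap.ker (x • LinearMap.id : (Π j, M j) →ₗ[R] (Π j, M j))) →ₗ[R]
      Π j, perH (x • LinearMap.id : M j →ₗ[R] M j) (y • LinearMap.id) :=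
    LinearMap.pi fun j => (Submodule.mkQ _) ∘ₗ
      (LinearMap.codRestrict (LinearMap.ker (x • LinearMap.id : M j →ₗ[R] M j))
        (LinearMap.proj j ∘ₗ Submodule.subtype _) (fun w => by
          have := w.2
          rw [LinearMap.mem_ker] at this ⊢
          have h := congrFun this j
          show x • ((w : Π j, M j) j) = 0
          simpa only [LinearMap.smul_apply, LinearMap.id_apply, Pi.smul_apply, Pi.zero_apply]
            using h))
  have hF : ∀ w j, F w j = Submodule.Quotient.mk ⟨w.1 j, by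
      have := w.2
      rw [LinearMap.mem_ker] at this ⊢
      have h := congrFun this j
      simpa only [LinearMap.smul_apply, LinearMap.id_apply, Pi.smul_apply, Pi.zero_apply]
        using h⟩ := fun w j => rfl
  refine length_quot_eq_of_surjective F ?_ _ ?_
  · intro z
    choose w hw using fun j => Submodule.Quotient.mk_surjective _ (z j)
    refine ⟨⟨fun j => (w j).1, ?_⟩, ?_⟩
    · rw [LinearMap.mem_ker]
      funext j
      have := (w j).2
      rw [LinearMap.mem_ker] at this
      simpa using this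
    · funext j
      rw [hF, ← hw j]
  · ext w
    rw [LinearMap.mem_ker]
    show _ ↔ (w : Π j, M j) ∈ LinearMap.range (y • LinearMap.id : (Π j, M j) →ₗ[R] (Π j, M j))
    constructor
    · intro h
      have h' : ∀ j, ∃ v : M j, y • v = w.1 j := by
        intro j
        have h1 := (hF w j).symm.trans (congrFun h j)
        obtain ⟨v, hv⟩ := (Submodule.Quotient.mk_eq_zero _).mp h1
        exact ⟨v, by simpa using hv⟩
      choose v hv using h'
      refine ⟨v, ?_⟩
      funext j
      simpa using hv j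
    · rintro ⟨v, hv⟩
      funext j
      refine (hF w j).trans ((Submodule.Quotient.mk_eq_zero _).mpr ?_)
      refine ⟨v j, ?_⟩
      have := congrFun hv j
      simpa using this

theorem herbrand_pi (x y : R)
    (h : ∀ j, FinCoh R (x • LinearMap.id : M j →ₗ[R] M j) (y • LinearMap.id)) :
    FinCoh R (x • LinearMap.id : (Π j, M j) →ₗ[R] (Π j, M j)) (y • LinearMap.id) ∧
      herbrand R (x • LinearMap.id : (Π j, M j) →ₗ[R] (Π j, M j)) (y • LinearMap.id) =
        ∑ j, herbrand R (x • LinearMap.id : M j →ₗ[R] M j) (y • LinearMap.id) := by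
  have key : ∀ (x y : R),
      (∀ j, Module.length R (perH (x • LinearMap.id : M j →ₗ[R] M j) (y • LinearMap.id)) < ⊤) →
      Module.length R (perH (x • LinearMap.id : (Π j, M j) →ₗ[R] (Π j, M j))
        (y • LinearMap.id)) < ⊤ ∧
      ((Module.length R (perH (x • LinearMap.id : (Π j, M j) →ₗ[R] (Π j, M j))
        (y • LinearMap.id))).toNat : ℤ) =
        ∑ j, ((Module.length R (perH (x • LinearMap.id : M j →ₗ[R] M j)
          (y • LinearMap.id))).toNat : ℤ) := by
    intro x y hxy
    rw [length_perH_pi]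
    have h1 : ∀ j, ∃ n : ℕ, Module.length R (perH (x • LinearMap.id : M j →ₗ[R] M j)
        (y • LinearMap.id)) = n := fun j => by
      lift Module.length R (perH (x • LinearMap.id : M j →ₗ[R] M j) (y • LinearMap.id)) to ℕ
        using (hxy j).ne with n
      exact ⟨n, rfl⟩
    choose n hn using h1
    simp only [hn]
    rw [← Nat.cast_sum]
    refine ⟨ENat.coe_lt_top _, ?_⟩
    rw [ENat.toNat_coe]
    simp
  obtain ⟨k1, k2⟩ := key x y (fun j => (h j).1)
  obtain ⟨k3, k4⟩ := key y x (fun j => (h j).2)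
  refine ⟨⟨k1, k3⟩, ?_⟩
  unfold herbrand
  rw [k2, k4, Finset.sum_sub_distrib]

end pi

section exact

variable {R : Type u} [CommRing R]

theorem subsingleton_perH (x y t : R) (ht : t = x * y) (hx : x ∈ nonZeroDivisors R) :
    Subsingleton (perH (x • LinearMap.id : (R ⧸ Ideal.span {t}) →ₗ[R] (R ⧸ Ideal.span {t}))
      (y • LinearMap.id)) := by
  refine ⟨fun w w' => ?_⟩
  have key : ∀ w : perH (x • LinearMap.id : (R ⧸ Ideal.span {t}) →ₗ[R] (R ⧸ Ideal.span {t}))
      (y • LinearMap.id), w = 0 := by
    intro w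
    obtain ⟨⟨w, hw⟩, rfl⟩ := Submodule.Quotient.mk_surjective _ w
    obtain ⟨r, rfl⟩ := Ideal.Quotient.mk_surjective w
    rw [Submodule.Quotient.mk_eq_zero]
    show Ideal.Quotient.mk (Ideal.span {t}) r ∈
      LinearMap.range (y • LinearMap.id : (R ⧸ Ideal.span {t}) →ₗ[R] (R ⧸ Ideal.span {t}))
    rw [LinearMap.mem_ker, LinearMap.smul_apply, LinearMap.id_apply, Algebra.smul_def,
      Ideal.Quotient.algebraMap_eq, ← map_mul, Ideal.Quotient.eq_zero_iff_mem,
      Ideal.mem_span_singleton'] at hw
    obtain ⟨d, hd⟩ := hw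
    have h1 : r = y * d := by
      apply (mul_cancel_left_mem_nonZeroDivisors hx).mp
      rw [← hd, ht]
      ring
    refine ⟨Ideal.Quotient.mk _ d, ?_⟩
    rw [LinearMap.smul_apply, LinearMap.id_apply, Algebra.smul_def, Ideal.Quotient.algebraMap_eq,
      ← map_mul, h1]
  rw [key w, key w']

theorem finCoh_quot_span (a b : R) (ha : a ∈ nonZeroDivisors R) (hb : b ∈ nonZeroDivisors R) :
    FinCoh R (a • LinearMap.id : (R ⧸ Ideal.span {a * b}) →ₗ[R] (R ⧸ Ideal.span {a * b}))
        (b • LinearMap.id) ∧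
      herbrand R (a • LinearMap.id : (R ⧸ Ideal.span {a * b}) →ₗ[R] (R ⧸ Ideal.span {a * b}))
        (b • LinearMap.id) = 0 := by
  haveI h1 := subsingleton_perH a b (a * b) rfl ha
  haveI h2 := subsingleton_perH b a (a * b) (mul_comm a b) hb
  have e1 := Module.length_eq_zero (R := R)
    (M := perH (a • LinearMap.id : (R ⧸ Ideal.span {a * b}) →ₗ[R] (R ⧸ Ideal.span {a * b}))
      (b • LinearMap.id))
  have e2 := Module.length_eq_zero (R := R)
    (M := perH (b • LinearMap.id : (R ⧸ Ideal.span {a * b}) →ₗ[R] (R ⧸ Ideal.span {a * b}))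
      (a • LinearMap.id))
  refine ⟨⟨?_, ?_⟩, ?_⟩
  · rw [e1]; simp
  · rw [e2]; simp
  · unfold herbrand
    rw [e1, e2]
    simp

end exact

end Groth.Agent.Lib.Seat9.KeyD
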