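import Mathlib
import Groth.Prelude.Def_CycAlg
import Groth.Agent.Lib.Seat9KeyD

/-!
# Key lemma for tame symbols (seat 9), part E

The comparison `R ⧸ (t) → Π j, R ⧸ I j` has kernel and cokernel of finite length; the core
identity.
-/

set_option autoImplicit false
set_option linter.unusedSectionVars false
universe u v

namespace Groth.Agent.Lib.Seat9.KeyE

open IsLocalRing CycAlg Pointwise Groth.Agent.Lib.Seat9.KeyA Groth.Agent.Lib.Seat9.KeyB
  Groth.Agent.Lib.Seat9.KeyC Groth.Agent.Lib.Seat9.KeyD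

variable {R : Type u} [CommRing R] {ι : Type u} [Fintype ι] (q : ι → Ideal R)
  [hq : ∀ j, (q j).IsPrime] (a b : R)

theorem span_le (j : ι) : Ideal.span {a * b} ≤ It (q j) (a * b) :=
  (Ideal.span_singleton_le_iff_mem _).mpr (t_mem_It _ _)

/-- the comparison map -/
noncomputable def cmp : (R ⧸ Ideal.span {a * b}) →ₗ[R] (Π j, R ⧸ It (q j) (a * b)) :=
  LinearMap.pi fun j => Submodule.factor (span_le q a b j)

theorem cmp_mk (r : R) (j : ι) :
    cmp q a b (Ideal.Quotient.mk _ r) j = Ideal.Quotient.mk _ r := rfl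

variable [IsNoetherianRing R] [IsLocalRing R]
  (hall : ∀ p : Ideal R, p.IsPrime → a * b ∈ p → p = maximalIdeal R ∨ ∃ j, p = q j)

include hall in
theorem length_ker_cmp : Module.length R (LinearMap.ker (cmp q a b)) < ⊤ := by
  apply length_lt_top_of_support
  intro p hp
  obtain ⟨w, hw⟩ := Module.mem_support_iff_exists_annihilator.mp hp
  have h1 : a * b ∈ p.asIdeal := by
    apply hw
    rw [Submodule.mem_annihilator_span_singleton]
    apply Subtype.ext
    obtain ⟨r, hr⟩ := Ideal.Quotient.mk_surjective w.1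
    show (a * b) • w.1 = 0
    rw [← hr, Algebra.smul_def, Ideal.Quotient.algebraMap_eq, ← map_mul,
      Ideal.Quotient.eq_zero_iff_mem]
    exact Ideal.mul_mem_right _ _ (Ideal.mem_span_singleton_self _)
  rcases hall p.asIdeal p.2 h1 with h | ⟨k, hk⟩
  · rw [h]; infer_instance
  · exfalso
    obtain ⟨r, hr⟩ := Ideal.Quotient.mk_surjective w.1
    have h2 : r ∈ It (q k) (a * b) := by
      have := w.2
      rw [LinearMap.mem_ker] at this
      have := congrFun this k
      rw [← hr, cmp_mk] at this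
      exact Ideal.Quotient.eq_zero_iff_mem.mp this
    obtain ⟨d, hd⟩ := (mem_It _ _ _).mp h2
    obtain ⟨⟨r', σ⟩, hr'⟩ := IsLocalization.surj (q k).primeCompl d
    have h3 : algebraMap R (Localization.AtPrime (q k)) (σ.1 * r) =
        algebraMap R (Localization.AtPrime (q k)) ((a * b) * r') := by
      rw [map_mul, map_mul, hd, ← hr']
      ring
    obtain ⟨σ', hσ'⟩ := (IsLocalization.eq_iff_exists (q k).primeCompl _).mp h3
    have h4 : (σ'.1 * σ.1) ∈ p.asIdeal := by
      apply hw
      rw [Submodule.mem_annihilator_span_singleton]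
      apply Subtype.ext
      show (σ'.1 * σ.1) • w.1 = 0
      rw [← hr, Algebra.smul_def, Ideal.Quotient.algebraMap_eq, ← map_mul,
        Ideal.Quotient.eq_zero_iff_mem, Ideal.mem_span_singleton']
      refine ⟨σ'.1 * r', ?_⟩
      calc σ'.1 * r' * (a * b) = σ'.1 * (a * b * r') := by ring
        _ = σ'.1 * (σ.1 * r) := hσ'.symm
        _ = _ := by ring
    rw [hk] at h4
    rcases (hq k).mem_or_mem h4 with h5 | h5
    · exact σ'.2 h5
    · exact σ.2 h5

include hall in
theorem length_coker_cmp (hqm : ∀ j, q j ≠ maximalIdeal R) (hinj : Function.Injective q)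
    (hV : ∀ j, ∀ p : Ideal R, p.IsPrime → It (q j) (a * b) ≤ p → p = q j ∨ p = maximalIdeal R) :
    Module.length R ((Π j, R ⧸ It (q j) (a * b)) ⧸ LinearMap.range (cmp q a b)) < ⊤ := by
  classical
  apply length_lt_top_of_support
  intro p hp
  obtain ⟨w, hw⟩ := Module.mem_support_iff_exists_annihilator.mp hp
  obtain ⟨w, rfl⟩ := Submodule.Quotient.mk_surjective _ w
  have h1 : a * b ∈ p.asIdeal := by
    apply hw
    rw [Submodule.mem_annihilator_span_singleton, ← Submodule.Quotient.mk_smul]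
    have : (a * b) • w = 0 := by
      funext j
      exact It_smul _ _ _ (t_mem_It _ _) _
    rw [this, Submodule.Quotient.mk_zero]
  rcases hall p.asIdeal p.2 h1 with h | ⟨k, hk⟩
  · rw [h]; infer_instance
  · exfalso
    have hex : ∀ j, ∃ x : R, (j ≠ k → x ∈ It (q j) (a * b)) ∧ x ∉ q k := by
      intro j
      by_cases hjk : j = k
      · exact ⟨1, fun h => absurd hjk h, fun h => (hq k).ne_top ((Ideal.eq_top_iff_one _).mpr h)⟩
      · have : ¬ It (q j) (a * b) ≤ q k := by
          intro hle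
          rcases hV j (q k) (hq k) hle with h | h
          · exact hjk (hinj h).symm
          · exact hqm k h
        obtain ⟨x, hx1, hx2⟩ := SetLike.not_le_iff_exists.mp this
        exact ⟨x, fun _ => hx1, hx2⟩
    choose x hx1 hx2 using hex
    set σ₀ := ∏ j ∈ Finset.univ.erase k, x j with hσ₀
    have hσk : σ₀ ∉ q k := by
      rw [hσ₀, Ideal.IsPrime.prod_mem_iff]
      rintro ⟨j, _, hj⟩
      exact hx2 j hj
    have hσj : ∀ j, j ≠ k → σ₀ ∈ It (q j) (a * b) := by
      intro j hj
      apply Ideal.mem_of_dvd _ _ (hx1 j hj)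
      exact Finset.dvd_prod_of_mem x (Finset.mem_erase.mpr ⟨hj, Finset.mem_univ _⟩)
    obtain ⟨r, hr⟩ := Ideal.Quotient.mk_surjective (w k)
    have h2 : σ₀ • w = cmp q a b (Ideal.Quotient.mk _ (σ₀ * r)) := by
      funext j
      rw [cmp_mk, Pi.smul_apply]
      by_cases hjk : j = k
      · subst hjk
        rw [← hr, Algebra.smul_def, Ideal.Quotient.algebraMap_eq, ← map_mul]
      · rw [It_smul _ _ _ (hσj j hjk)]
        symm
        rw [Ideal.Quotient.eq_zero_iff_mem]
        exact Ideal.mul_mem_right _ _ (hσj j hjk)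
    apply hσk
    rw [← hk]
    apply hw
    rw [Submodule.mem_annihilator_span_singleton, ← Submodule.Quotient.mk_smul,
      Submodule.Quotient.mk_eq_zero, h2]
    exact LinearMap.mem_range_self _ _

include hall in
/-- the core identity -/
theorem core (ha : a ∈ nonZeroDivisors R) (hb : b ∈ nonZeroDivisors R)
    (hqm : ∀ j, q j ≠ maximalIdeal R) (hinj : Function.Injective q)
    (hV : ∀ j, ∀ p : Ideal R, p.IsPrime → It (q j) (a * b) ≤ p → p = q j ∨ p = maximalIdeal R)
    (π' u' s v' s' : ι → R) (e f : ι → ℕ) (hef : ∀ j, 0 < e j + f j)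
    (hπ : ∀ j, algebraMap R (Localization.AtPrime (q j)) (π' j) ∈
      nonZeroDivisors (Localization.AtPrime (q j)))
    (hu' : ∀ j, u' j ∉ q j) (hs : ∀ j, s j ∉ q j) (hv' : ∀ j, v' j ∉ q j) (hs' : ∀ j, s' j ∉ q j)
    (hfa : ∀ j, algebraMap R (Localization.AtPrime (q j)) (s j * a) =
      algebraMap R (Localization.AtPrime (q j)) (u' j * π' j ^ e j))
    (hfb : ∀ j, algebraMap R (Localization.AtPrime (q j)) (s' j * b) =
      algebraMap R (Localization.AtPrime (q j)) (v' j * π' j ^ f j)) :
    ∑ j, ((Ring.ord (Localization.AtPrime (q j))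
        (algebraMap R (Localization.AtPrime (q j)) (π' j))).toNat : ℤ) *
      ((e j : ℤ) * (lamZ (q j) (v' j) - lamZ (q j) (s' j)) -
        (f j : ℤ) * (lamZ (q j) (u' j) - lamZ (q j) (s j))) = 0 := by
  have hsingle := fun j => single (q j) (hqm j) a b (hV j) (π' j) (u' j) (s j) (v' j) (s' j)
    (e j) (f j) (hef j) (hπ j) (hu' j) (hs j) (hv' j) (hs' j) (hfa j) (hfb j)
  have hpi := herbrand_pi (fun j => R ⧸ It (q j) (a * b)) a b (fun j => (hsingle j).1)
  have hQ := finCoh_quot_span a b ha hb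
  have hperQ : IsPeriodic (a • LinearMap.id : (R ⧸ Ideal.span {a * b}) →ₗ[R] _)
      (b • LinearMap.id) := by
    apply isPeriodic_smul
    intro w
    obtain ⟨r, rfl⟩ := Ideal.Quotient.mk_surjective w
    rw [Algebra.smul_def, Ideal.Quotient.algebraMap_eq, ← map_mul, Ideal.Quotient.eq_zero_iff_mem]
    exact Ideal.mul_mem_right _ _ (Ideal.mem_span_singleton_self _)
  have hperP : IsPeriodic (a • LinearMap.id : (Π j, R ⧸ It (q j) (a * b)) →ₗ[R] _)
      (b • LinearMap.id) := by
    apply isPeriodic_smul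
    intro w
    funext j
    exact It_smul _ _ _ (t_mem_It _ _) _
  have key := Groth.Agent.S1870.result
    (a • LinearMap.id : (R ⧸ Ideal.span {a * b}) →ₗ[R] _) (b • LinearMap.id)
    (a • LinearMap.id : (Π j, R ⧸ It (q j) (a * b)) →ₗ[R] _) (b • LinearMap.id)
    hperQ hperP (cmp q a b)
    (by rw [LinearMap.smul_comp, LinearMap.comp_smul, LinearMap.id_comp, LinearMap.comp_id])
    (by rw [LinearMap.smul_comp, LinearMap.comp_smul, LinearMap.id_comp, LinearMap.comp_id])
    hQ.1 hpi.1 (length_ker_cmp q a b hall) (length_coker_cmp q a b hall hqm hinj hV)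
  rw [hQ.2, hpi.2] at key
  rw [key]
  exact Finset.sum_congr rfl (fun j _ => (hsingle j).2.symm)

end Groth.Agent.Lib.Seat9.KeyE
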