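import Mathlib
import Groth.Prelude.Def_CycDet
import Groth.Agent.Lib.Seat9DetMoves

/-!
# Determinants of finite length modules: the exchange argument as a relation (seat 9)

`Conn e e' u` says that the generating admissible tuple `e` is obtained from `e'` by a chain of
elementary moves (relations (b) and (c)) with total factor `u`.  Any two generating admissible
tuples of the right length are connected; so any quantity which behaves well under the two moves
can be compared through the proportionality factor of the symbols.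
-/

set_option autoImplicit false
set_option linter.unusedSectionVars false
universe u v

namespace Groth.Agent.Lib.Seat9.DetConn

open CycDet IsLocalRing Groth.Agent.Lib.Seat9.DetBasic Groth.Agent.Lib.Seat9.DetMoves

variable {R : Type u} [CommRing R] [IsLocalRing R] {M : Type v} [AddCommGroup M] [Module R M]

/-- chains of elementary moves between generating admissible tuples. -/
inductive Conn {l : ℕ} : Adm R M l → Adm R M l → ResidueField R → Prop
  | refl (e : Adm R M l) : Conn e e 1
  | relB (e e' : Adm R M l) (a : Fin l) (c : Rˣ) (hg : Generates R M e.1)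
      (hg' : Generates R M e'.1) (h1 : ∀ j, j ≠ a → e.1 j = e'.1 j)
      (h2 : e.1 a - (c : R) • e'.1 a ∈ spanBefore R M e.1 a) : Conn e e' (residue R (c : R))
  | relC (e e' : Adm R M l) (a b : Fin l) (hg : Generates R M e.1) (hg' : Generates R M e'.1)
      (hab : (b : ℕ) + 1 = (a : ℕ))
      (h : ∀ r ∈ maximalIdeal R, r • e.1 a ∈ spanBefore R M e.1 b)
      (he' : e'.1 = e.1 ∘ Equiv.swap a b) : Conn e e' (-1)
  | trans {e e' e'' : Adm R M l} {u v : ResidueField R} :
      Conn e e' u → Conn e' e'' v → Conn e e'' (u * v)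

theorem Conn.symb_eq {l : ℕ} {e e' : Adm R M l} {u : ResidueField R} (h : Conn e e' u) :
    symb e = u • symb e' := by
  induction h with
  | refl e => rw [one_smul]
  | relB e e' a c _ _ h1 h2 => exact symb_relB e e' a c h1 h2
  | relC e e' a b _ _ hab h he' => rw [symb_relC e e' a b hab h he', neg_smul, one_smul]
  | trans _ _ ih1 ih2 => rw [ih1, ih2, smul_smul]

/-- a quantity which behaves well under the two moves behaves well along chains. -/
theorem Conn.invariant {l : ℕ} (F : Adm R M l → ℤ) (o : ResidueField R → ℤ) (ho1 : o 1 = 0)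
    (homul : ∀ u v : ResidueField R, u ≠ 0 → v ≠ 0 → o (u * v) = o u + o v)
    (hB : ∀ (e e' : Adm R M l) (a : Fin l) (c : Rˣ), Generates R M e.1 → Generates R M e'.1 →
      (∀ j, j ≠ a → e.1 j = e'.1 j) → e.1 a - (c : R) • e'.1 a ∈ spanBefore R M e.1 a →
      F e = F e' + o (residue R (c : R)))
    (hC : ∀ (e e' : Adm R M l) (a b : Fin l), Generates R M e.1 → Generates R M e'.1 →
      (b : ℕ) + 1 = (a : ℕ) → (∀ r ∈ maximalIdeal R, r • e.1 a ∈ spanBefore R M e.1 b) →
      e'.1 = e.1 ∘ Equiv.swap a b → F e = F e' + o (-1))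
    {e e' : Adm R M l} {u : ResidueField R} (h : Conn e e' u) : u ≠ 0 ∧ F e = F e' + o u := by
  induction h with
  | refl e => exact ⟨one_ne_zero, by rw [ho1, add_zero]⟩
  | relB e e' a c hg hg' h1 h2 =>
    refine ⟨?_, hB e e' a c hg hg' h1 h2⟩
    rw [ne_eq, residue_eq_zero_iff]
    exact fun h => (IsLocalRing.mem_maximalIdeal _).mp h c.isUnit
  | relC e e' a b hg hg' hab h he' =>
    exact ⟨neg_ne_zero.mpr one_ne_zero, hC e e' a b hg hg' hab h he'⟩
  | trans _ _ ih1 ih2 =>
    refine ⟨mul_ne_zero ih1.1 ih2.1, ?_⟩
    rw [ih1.2, ih2.2, homul _ _ ih1.1 ih2.1]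
    ring

section Exchange

variable {l : ℕ}

/-- moving the entry `h` from position `j + t` down to position `j` by adjacent swaps. -/
theorem move_down_conn (h : M) (j : ℕ) :
    ∀ (t : ℕ) (g : Adm R M l) (i : Fin l), j + t = (i : ℕ) → Generates R M g.1 → g.1 i = h →
      (∀ s ∈ maximalIdeal R, s • h ∈ spanBefore R M g.1 j) →
      ∃ (g' : Adm R M l) (jj : Fin l), (jj : ℕ) = j ∧ Generates R M g'.1 ∧
        (∀ k : Fin l, (k : ℕ) < j → g'.1 k = g.1 k) ∧ g'.1 jj = h ∧
        ∃ u : ResidueField R, Conn g g' u
  | 0, g, i, hi, hg, hgi, _ => ⟨g, i, by omega, hg, fun _ _ => rfl, hgi, 1, Conn.refl g⟩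
  | t + 1, g, i, hi, hg, hgi, hh => by
    have hb : j + t < l := by have := i.2; omega
    let b : Fin l := ⟨j + t, hb⟩
    have hab : (b : ℕ) + 1 = (i : ℕ) := by simp only [b]; omega
    have hcond : ∀ r ∈ maximalIdeal R, r • g.1 i ∈ spanBefore R M g.1 b := by
      intro r hr
      rw [hgi]
      exact spanBefore_mono g.1 (by simp only [b]; omega) (hh r hr)
    let g1 : Adm R M l := ⟨g.1 ∘ Equiv.swap i b, isAdmissible_swap g.1 i b g.2 hab hcond⟩
    have hgen1 : Generates R M g1.1 := generates_swap g.1 i b hg
    have hsym : Conn g g1 (-1) := Conn.relC g g1 i b hg hgen1 hab hcond rfl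
    have hg1b : g1.1 b = h := by
      simp only [g1, Function.comp_apply, Equiv.swap_apply_right]
      exact hgi
    have hspan : spanBefore R M g1.1 j = spanBefore R M g.1 j :=
      spanBefore_swap g.1 i b hab j (by omega)
    obtain ⟨g', jj, hjj, hg', hk, hgj, u, hs⟩ := move_down_conn h j t g1 b (by simp only [b])
      hgen1 hg1b (by rw [hspan]; exact hh)
    refine ⟨g', jj, hjj, hg', ?_, hgj, _, Conn.trans hsym hs⟩
    intro k hkj
    rw [hk k hkj]
    simp only [g1, Function.comp_apply]
    rw [Equiv.swap_apply_of_ne_of_ne]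
    · intro hki; rw [hki] at hkj; omega
    · intro hkb; rw [hkb] at hkj; simp only [b] at hkj; omega

/-- the exchange argument: generating admissible tuples are connected. -/
theorem exchange_conn (hl : Module.length R M = l) :
    ∀ (d j : ℕ), j + d = l → ∀ (e e' : Adm R M l), Generates R M e.1 → Generates R M e'.1 →
      (∀ k : Fin l, (k : ℕ) < j → e.1 k = e'.1 k) →
      ∃ u : ResidueField R, Conn e e' u
  | 0, j, hj, e, e', _, _, hagree => by
    refine ⟨1, ?_⟩
    have : e = e' := Subtype.ext (funext fun k => hagree k (by have := k.2; omega))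
    rw [this]
    exact Conn.refl e'
  | d + 1, j, hj, e, e', hg, hg', hagree => by
    have hjl : j < l := by omega
    let jj : Fin l := ⟨j, hjl⟩
    set h : M := e'.1 jj with hh
    have hspanj : spanBefore R M e.1 j = spanBefore R M e'.1 j := spanBefore_congr hagree
    have hnot : h ∉ spanBefore R M e.1 j := by
      rw [hspanj]
      exact notMem_of_generates e'.1 e'.2 hl hg' jj
    have hmem : h ∈ spanBefore R M e.1 l := by
      rw [spanBefore_of_le e.1 le_rfl, hg]
      trivial
    obtain ⟨i, hji, -, hni, r, hr⟩ := pivot_exists e.1 h j hnot l hmem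
    have hunit := pivot_isUnit e.1 e.2 h i hni r hr
    obtain ⟨c0, rfl⟩ := hunit
    let c : Rˣ := c0⁻¹
    have hc : e.1 i - (c : R) • h ∈ spanBefore R M e.1 i := by
      have h1 : e.1 i - (c : R) • h = - ((c : R) • (h - (c0 : R) • e.1 i)) := by
        rw [smul_sub, smul_smul]
        simp only [c, Units.inv_mul, one_smul]
        abel
      rw [h1]
      exact Submodule.neg_mem _ (Submodule.smul_mem _ _ hr)
    have hmh : ∀ s ∈ maximalIdeal R, s • h ∈ spanBefore R M e.1 j := by
      intro s hs
      rw [hspanj]
      exact e'.2 jj s hs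
    have hmh' : ∀ s ∈ maximalIdeal R, s • h ∈ spanBefore R M e.1 i := fun s hs =>
      spanBefore_mono e.1 hji (hmh s hs)
    let e1 : Adm R M l := ⟨Function.update e.1 i h, isAdmissible_update e.1 i h c e.2 hc hmh'⟩
    have hg1 : Generates R M e1.1 := generates_update e.1 i h c hc hg
    have hsym1 : Conn e e1 (IsLocalRing.residue R (c : R)) := by
      refine Conn.relB e e1 i c hg hg1 ?_ ?_
      · intro k hk
        simp only [e1]
        rw [Function.update_of_ne hk]
      · simp only [e1]
        rw [Function.update_self]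
        exact hc
    have hspan1 : spanBefore R M e1.1 j = spanBefore R M e.1 j := spanBefore_update e.1 i h c hc j
    obtain ⟨t, ht⟩ := Nat.exists_eq_add_of_le hji
    obtain ⟨e2, j2, hj2, hg2, hk2, he2j, u2, hs2⟩ := move_down_conn h j t e1 i ht.symm hg1
      (by simp only [e1]; rw [Function.update_self]) (by rw [hspan1]; exact hmh)
    have hj2' : j2 = jj := Fin.ext hj2
    subst hj2'
    have hagree2 : ∀ k : Fin l, (k : ℕ) < j + 1 → e2.1 k = e'.1 k := by
      intro k hk
      rcases Nat.lt_succ_iff_lt_or_eq.mp hk with hk' | hk'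
      · rw [hk2 k hk']
        simp only [e1]
        rw [Function.update_of_ne, hagree k hk']
        intro hki
        rw [hki] at hk'
        omega
      · have : k = jj := Fin.ext hk'
        rw [this, he2j]
    obtain ⟨u, hu⟩ := exchange_conn hl d (j + 1) (by omega) e2 e' hg2 hg' hagree2
    exact ⟨_, Conn.trans hsym1 (Conn.trans hs2 hu)⟩

/-- any two generating admissible tuples of the right length are connected. -/
theorem exists_conn (hl : Module.length R M = l) (e e' : Adm R M l) (hg : Generates R M e.1)
    (hg' : Generates R M e'.1) : ∃ u : ResidueField R, Conn e e' u :=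
  exchange_conn hl l 0 (by omega) e e' hg hg' (fun k hk => by omega)

end Exchange

end Groth.Agent.Lib.Seat9.DetConn
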