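import Mathlib
import Groth.Agent.Lib.Seat9RelLen

/-!
# Index of commensurable submodules (seat 9)

`idx X Y = length (X / X ⊓ Y) - length (Y / X ⊓ Y)` as an integer, for submodules with both
relative lengths finite.  Chain rule, computation through a common submodule, and additivity with
respect to a two step filtration.
-/

set_option autoImplicit false
universe u v

namespace Groth.Agent.Lib.Seat9.Idx

open Groth.Agent.Lib.Seat9.RelLen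

variable {R : Type u} [CommRing R] {W : Type v} [AddCommGroup W] [Module R W]

theorem rl_mono_right (P : Submodule R W) {Q Q' : Submodule R W} (h : Q' ≤ Q) :
    rl P Q' ≤ rl P Q := by
  rw [← rl_inf P Q, rl_add (P ⊓ Q) ((P ⊓ Q) ⊔ Q') Q le_sup_left (sup_le inf_le_right h),
    rl_sup, ← rl_inf (P ⊓ Q) Q', ← rl_inf P Q']
  have : P ⊓ Q ⊓ Q' = P ⊓ Q' := by
    rw [inf_assoc, inf_eq_right.mpr h]
  rw [this]
  exact le_self_add

theorem rl_inf_sup (T X G : Submodule R W) (h : T ≤ X) :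
    rl T X = rl (T ⊓ G) (X ⊓ G) + rl (T ⊔ G) (X ⊔ G) := by
  rw [rl_add T (T ⊔ (X ⊓ G)) X le_sup_left (sup_le h inf_le_left), rl_sup]
  congr 1
  · rw [← rl_inf T (X ⊓ G)]
    congr 1
    rw [← inf_assoc, inf_eq_left.mpr h]
  · have h1 : X ⊔ G = (T ⊔ G) ⊔ X := by
      rw [sup_comm (T ⊔ G) X, ← sup_assoc, sup_eq_left.mpr h]
    rw [h1, rl_sup, ← rl_inf (T ⊔ G) X, sup_inf_assoc_of_le G h, inf_comm G X]

/-- commensurable submodules. -/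
def Comm (X Y : Submodule R W) : Prop := rl X Y ≠ ⊤ ∧ rl Y X ≠ ⊤

/-- the index `length (X / X ⊓ Y) - length (Y / X ⊓ Y)`. -/
noncomputable def idx (X Y : Submodule R W) : ℤ := ((rl Y X).toNat : ℤ) - ((rl X Y).toNat : ℤ)

theorem Comm.refl (X : Submodule R W) : Comm X X := by
  unfold Comm
  rw [rl_self]
  exact ⟨ENat.zero_ne_top, ENat.zero_ne_top⟩

theorem Comm.symm {X Y : Submodule R W} (h : Comm X Y) : Comm Y X := ⟨h.2, h.1⟩

theorem idx_self (X : Submodule R W) : idx X X = 0 := by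
  unfold idx
  rw [sub_self]

theorem idx_symm (X Y : Submodule R W) : idx X Y = - idx Y X := by
  unfold idx
  ring

theorem idx_of_le {X Y : Submodule R W} (h : Y ≤ X) : idx X Y = ((rl Y X).toNat : ℤ) := by
  unfold idx
  rw [rl_of_le X Y h]
  simp

/-- computing the index through a common submodule of finite colength. -/
theorem idx_eq_of_common {T X Y : Submodule R W} (hX : T ≤ X) (hY : T ≤ Y) (h1 : rl T X ≠ ⊤)
    (h2 : rl T Y ≠ ⊤) :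
    Comm X Y ∧ idx X Y = ((rl T X).toNat : ℤ) - ((rl T Y).toNat : ℤ) := by
  have e1 : rl T X = rl T (X ⊓ Y) + rl Y X := by
    rw [rl_add T (X ⊓ Y) X (le_inf hX hY) inf_le_left, inf_comm X Y, rl_inf]
  have e2 : rl T Y = rl T (X ⊓ Y) + rl X Y := by
    rw [rl_add T (X ⊓ Y) Y (le_inf hX hY) inf_le_right, rl_inf]
  have f0 : rl T (X ⊓ Y) ≠ ⊤ := fun h => h1 (by rw [e1, h, top_add])
  have f1 : rl Y X ≠ ⊤ := fun h => h1 (by rw [e1, h, add_top])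
  have f2 : rl X Y ≠ ⊤ := fun h => h2 (by rw [e2, h, add_top])
  refine ⟨⟨f2, f1⟩, ?_⟩
  unfold idx
  rw [e1, e2, ENat.toNat_add f0 f1, ENat.toNat_add f0 f2]
  push_cast
  ring

theorem Comm.inf_left {X Y Z : Submodule R W} (hXY : Comm X Y) (hYZ : Comm Y Z) :
    rl (X ⊓ Y ⊓ Z) X ≠ ⊤ := by
  rw [rl_add (X ⊓ Y ⊓ Z) (X ⊓ Y) X inf_le_left inf_le_left]
  have h1 : rl (X ⊓ Y) X ≠ ⊤ := by
    rw [inf_comm, rl_inf]
    exact hXY.2
  have h2 : rl (X ⊓ Y ⊓ Z) (X ⊓ Y) ≠ ⊤ := by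
    rw [inf_comm (X ⊓ Y) Z, rl_inf]
    exact ne_top_of_le_ne_top hYZ.2 (rl_mono_right Z inf_le_right)
  exact WithTop.add_ne_top.mpr ⟨h2, h1⟩

/-- chain rule. -/
theorem Comm.trans {X Y Z : Submodule R W} (hXY : Comm X Y) (hYZ : Comm Y Z) :
    Comm X Z ∧ idx X Z = idx X Y + idx Y Z := by
  have hTX : rl (X ⊓ Y ⊓ Z) X ≠ ⊤ := hXY.inf_left hYZ
  have hTZ : rl (X ⊓ Y ⊓ Z) Z ≠ ⊤ := by
    have := hYZ.symm.inf_left hXY.symm
    have e : Z ⊓ Y ⊓ X = X ⊓ Y ⊓ Z := by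
      rw [inf_comm Z Y, inf_comm (Y ⊓ Z) X, inf_assoc]
    rwa [e] at this
  have hTY : rl (X ⊓ Y ⊓ Z) Y ≠ ⊤ := by
    have h1 : X ⊓ Y ⊓ Z ≤ X ⊓ Y := inf_le_left
    rw [rl_add (X ⊓ Y ⊓ Z) (X ⊓ Y) Y inf_le_left inf_le_right]
    have h2 : rl (X ⊓ Y ⊓ Z) (X ⊓ Y) ≠ ⊤ := by
      rw [inf_comm (X ⊓ Y) Z, rl_inf]
      exact ne_top_of_le_ne_top hYZ.2 (rl_mono_right Z inf_le_right)
    have h3 : rl (X ⊓ Y) Y ≠ ⊤ := by
      rw [rl_inf]
      exact hXY.1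
    exact WithTop.add_ne_top.mpr ⟨h2, h3⟩
  have hX : X ⊓ Y ⊓ Z ≤ X := inf_le_left.trans inf_le_left
  have hY : X ⊓ Y ⊓ Z ≤ Y := inf_le_left.trans inf_le_right
  have hZ : X ⊓ Y ⊓ Z ≤ Z := inf_le_right
  obtain ⟨c1, e1⟩ := idx_eq_of_common hX hZ hTX hTZ
  obtain ⟨_, e2⟩ := idx_eq_of_common hX hY hTX hTY
  obtain ⟨_, e3⟩ := idx_eq_of_common hY hZ hTY hTZ
  refine ⟨c1, ?_⟩
  rw [e1, e2, e3]
  ring

/-- additivity of the index with respect to a two step filtration. -/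
theorem Comm.split {X Y : Submodule R W} (h : Comm X Y) (G : Submodule R W) :
    Comm (X ⊓ G) (Y ⊓ G) ∧ Comm (X ⊔ G) (Y ⊔ G) ∧
      idx X Y = idx (X ⊓ G) (Y ⊓ G) + idx (X ⊔ G) (Y ⊔ G) := by
  have hTX : rl (X ⊓ Y) X ≠ ⊤ := by
    rw [inf_comm, rl_inf]; exact h.2
  have hTY : rl (X ⊓ Y) Y ≠ ⊤ := by
    rw [rl_inf]; exact h.1
  have eX := rl_inf_sup (X ⊓ Y) X G inf_le_left
  have eY := rl_inf_sup (X ⊓ Y) Y G inf_le_right
  have aX : rl (X ⊓ Y ⊓ G) (X ⊓ G) ≠ ⊤ := fun hh => hTX (by rw [eX, hh, top_add])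
  have bX : rl ((X ⊓ Y) ⊔ G) (X ⊔ G) ≠ ⊤ := fun hh => hTX (by rw [eX, hh, add_top])
  have aY : rl (X ⊓ Y ⊓ G) (Y ⊓ G) ≠ ⊤ := fun hh => hTY (by rw [eY, hh, top_add])
  have bY : rl ((X ⊓ Y) ⊔ G) (Y ⊔ G) ≠ ⊤ := fun hh => hTY (by rw [eY, hh, add_top])
  obtain ⟨c1, e1⟩ := idx_eq_of_common (T := X ⊓ Y ⊓ G) (X := X ⊓ G) (Y := Y ⊓ G)
    (inf_le_inf_right G inf_le_left) (inf_le_inf_right G inf_le_right) aX aY
  obtain ⟨c2, e2⟩ := idx_eq_of_common (T := (X ⊓ Y) ⊔ G) (X := X ⊔ G) (Y := Y ⊔ G)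
    (sup_le_sup_right inf_le_left G) (sup_le_sup_right inf_le_right G) bX bY
  obtain ⟨_, e3⟩ := idx_eq_of_common (T := X ⊓ Y) (X := X) (Y := Y) inf_le_left inf_le_right
    hTX hTY
  refine ⟨c1, c2, ?_⟩
  rw [e1, e2, e3, eX, eY, ENat.toNat_add aX bX, ENat.toNat_add aY bY]
  push_cast
  ring

end Groth.Agent.Lib.Seat9.Idx
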