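import Mathlib
import Groth.Prelude.Def_CycDet
import Groth.Agent.Lib.Seat9DetConn
import Groth.Agent.Lib.Seat9Idx
import Groth.Agent.Lib.Helper5SuppDim

/-!
# Lattices in finite length modules over a localization (seat 9), part A

`S` is the localization of `R` at a prime `q`, `V` an `S`-module.  We study `R`-submodules of `V`
("lattices") and prove the commensurability statements needed for the index function attached to
an admissible tuple.
-/

set_option autoImplicit false
set_option linter.unusedSectionVars false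
universe u v w

namespace Groth.Agent.Lib.Seat9.Lat

open CycDet IsLocalRing Groth.Agent.Lib.Seat9.DetBasic Groth.Agent.Lib.Seat9.DetMoves
  Groth.Agent.Lib.Seat9.RelLen Groth.Agent.Lib.Seat9.Idx

variable {R : Type u} [CommRing R] (q : Ideal R) [hq : q.IsPrime]
  {S : Type w} [CommRing S] [Algebra R S] [IsLocalization.AtPrime S q] [IsLocalRing S]
  {V : Type v} [AddCommGroup V] [Module R V] [Module S V] [IsScalarTower R S V]

include q in
/-- elements of the `S`-span of an `R`-submodule have a multiple in the submodule. -/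
theorem exists_smul_mem_of_mem_span (W₀ : Submodule R V) (v : V)
    (hv : v ∈ Submodule.span S (W₀ : Set V)) : ∃ t : R, t ∉ q ∧ t • v ∈ W₀ := by
  induction hv using Submodule.span_induction with
  | mem x hx => exact ⟨1, fun h => hq.ne_top ((Ideal.eq_top_iff_one _).mpr h), by rwa [one_smul]⟩
  | zero => exact ⟨1, fun h => hq.ne_top ((Ideal.eq_top_iff_one _).mpr h), by
      rw [smul_zero]; exact W₀.zero_mem⟩
  | add x y _ _ hx hy =>
    obtain ⟨t₁, ht₁, h₁⟩ := hx
    obtain ⟨t₂, ht₂, h₂⟩ := hy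
    refine ⟨t₁ * t₂, fun h => (hq.mem_or_mem h).elim ht₁ ht₂, ?_⟩
    rw [smul_add]
    refine W₀.add_mem ?_ ?_
    · rw [mul_comm, mul_smul]
      exact W₀.smul_mem _ h₁
    · rw [mul_smul]
      exact W₀.smul_mem _ h₂
  | smul c x _ hx =>
    obtain ⟨t, ht, h⟩ := hx
    obtain ⟨⟨r, s⟩, hrs⟩ := IsLocalization.surj q.primeCompl c
    refine ⟨s.1 * t, fun h => (hq.mem_or_mem h).elim s.2 ht, ?_⟩
    have : (s.1 * t) • c • x = r • t • x := by
      rw [← algebraMap_smul S (s.1 * t), ← algebraMap_smul S r, ← algebraMap_smul S t,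
        smul_smul, smul_smul, map_mul, ← hrs]
      congr 1
      ring
    rw [this]
    exact W₀.smul_mem _ h

variable (R S) in
/-- the `R`-module underlying the `k`-th step of the filtration of a tuple. -/
def Fl {l : ℕ} (e : Fin l → V) (k : ℕ) : Submodule R V :=
  (spanBefore S V e k).restrictScalars R

omit [IsLocalization.AtPrime S q] in
theorem Fl_mono {l : ℕ} (e : Fin l → V) {i j : ℕ} (h : i ≤ j) :
    Fl R S e i ≤ Fl R S e j := fun _ hx => spanBefore_mono e h hx

/-- the maximal ideal of `R` at `q` pushes a step of the filtration down. -/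
theorem smul_mem_Fl_of_mem {l : ℕ} (e : Adm S V l) (i : Fin l) (u : R) (hu : u ∈ q) :
    u • e.1 i ∈ Fl R S e.1 i := by
  have h1 : algebraMap R S u ∈ maximalIdeal S :=
    (IsLocalization.AtPrime.to_map_mem_maximal_iff S q u).mpr hu
  have := e.2 i _ h1
  rwa [algebraMap_smul] at this

theorem smul_mem_Fl_iff {l : ℕ} (e : Adm S V l) (hl : Module.length S V = l)
    (hg : Generates S V e.1) (i : Fin l) (u : R) :
    u • e.1 i ∈ Fl R S e.1 i ↔ u ∈ q := by
  refine ⟨fun h => ?_, smul_mem_Fl_of_mem q e i u⟩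
  by_contra hu
  have hunit : IsUnit (algebraMap R S u) :=
    (IsLocalization.AtPrime.isUnit_to_map_iff S q u).mpr hu
  obtain ⟨c, hc⟩ := hunit
  apply notMem_of_generates e.1 e.2 hl hg i
  have h2 : e.1 i = (↑c⁻¹ : S) • (u • e.1 i) := by
    rw [← algebraMap_smul S u, smul_smul, ← hc, Units.inv_mul, one_smul]
  rw [h2]
  exact Submodule.smul_mem _ _ h

/-- all steps below `F_{k}` are killed into `F_j` by `q ^ (k - j)`. -/
theorem pow_smul_mem_Fl {l : ℕ} (e : Adm S V l) (j n : ℕ) :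
    ∀ r ∈ q ^ n, ∀ x ∈ Fl R S e.1 (j + n), r • x ∈ Fl R S e.1 j := by
  induction n with
  | zero =>
    intro r _ x hx
    exact Submodule.smul_mem _ _ hx
  | succ n ih =>
    intro r hr x hx
    rw [pow_succ] at hr
    refine Submodule.mul_induction_on hr ?_ ?_
    · intro a ha b hb
      rw [mul_smul]
      refine ih a ha _ ?_
      -- `b • x ∈ F_{j+n}`
      by_cases hjn : j + n < l
      · have hs := spanBefore_succ (R := S) e.1 ⟨j + n, hjn⟩
        simp only at hs
        have hx' : x ∈ spanBefore S V e.1 (j + n + 1) := hx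
        rw [hs] at hx'
        obtain ⟨y, hy, z, hz, rfl⟩ := Submodule.mem_sup.mp hx'
        obtain ⟨c, rfl⟩ := Submodule.mem_span_singleton.mp hz
        rw [smul_add]
        refine Submodule.add_mem _ (Submodule.smul_mem _ _ hy) ?_
        rw [smul_comm]
        exact Submodule.smul_mem (spanBefore S V e.1 (j + n)) c
          (smul_mem_Fl_of_mem q e ⟨j + n, hjn⟩ b hb)
      · have h1 : spanBefore S V e.1 (j + (n + 1)) = spanBefore S V e.1 (j + n) := by
          rw [spanBefore_of_le e.1 (by omega : l ≤ j + (n + 1)),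
            spanBefore_of_le e.1 (by omega : l ≤ j + n)]
        have hx' : x ∈ spanBefore S V e.1 (j + n) := by rw [← h1]; exact hx
        exact Submodule.smul_mem _ _ hx'
    · intro a b ha hb
      rw [add_smul]
      exact Submodule.add_mem _ ha hb

section FiniteLength

variable [IsNoetherianRing R]

omit [IsLocalization.AtPrime S q] [IsLocalRing S] [Module S V] [IsScalarTower R S V] in
/-- the basic finiteness statement: a quotient generated by finitely many elements, each killed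
by a power of `q` and by an element outside `q`, has finite length. -/
theorem rl_ne_top_of_gens (hmax : ∀ p : Ideal R, p.IsPrime → q < p → p.IsMaximal)
    (X Y X₀ G : Submodule R V) (hX₀ : X₀.FG) (hX : X = X₀ ⊔ G) (hGY : G ≤ Y) (n : ℕ)
    (hn : ∀ r ∈ q ^ n, ∀ x ∈ X₀, r • x ∈ G) (ht : ∀ x ∈ X₀, ∃ t : R, t ∉ q ∧ t • x ∈ Y) :
    rl Y X ≠ ⊤ := by
  subst hX
  unfold rl
  rw [Module.length_ne_top_iff]
  have hle : X₀ ≤ X₀ ⊔ G := le_sup_left
  let ψ : ↥X₀ →ₗ[R] ↥(X₀ ⊔ G) ⧸ Y.submoduleOf (X₀ ⊔ G) :=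
    (Y.submoduleOf (X₀ ⊔ G)).mkQ ∘ₗ Submodule.inclusion hle
  have hψ0 : ∀ (a : ↥X₀), (a : V) ∈ Y → ψ a = 0 := by
    intro a ha
    show (Y.submoduleOf (X₀ ⊔ G)).mkQ (Submodule.inclusion hle a) = 0
    rw [Submodule.mkQ_apply, Submodule.Quotient.mk_eq_zero]
    exact ha
  have hsurj : Function.Surjective ψ := by
    intro z
    obtain ⟨⟨x, hx⟩, rfl⟩ := Submodule.mkQ_surjective _ z
    obtain ⟨a, ha, g, hg, rfl⟩ := Submodule.mem_sup.mp hx
    refine ⟨⟨a, ha⟩, ?_⟩
    show (Y.submoduleOf (X₀ ⊔ G)).mkQ (Submodule.inclusion hle ⟨a, ha⟩) = _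
    rw [Submodule.mkQ_apply, Submodule.mkQ_apply, Submodule.Quotient.eq]
    show ((Submodule.inclusion hle ⟨a, ha⟩ - ⟨a + g, hx⟩ : ↥(X₀ ⊔ G)) : V) ∈ Y
    have : ((Submodule.inclusion hle ⟨a, ha⟩ - ⟨a + g, hx⟩ : ↥(X₀ ⊔ G)) : V) = - g := by
      simp
    rw [this]
    exact Y.neg_mem (hGY hg)
  haveI : Module.Finite R ↥X₀ := Module.Finite.iff_fg.mpr hX₀
  haveI : Module.Finite R (↥(X₀ ⊔ G) ⧸ Y.submoduleOf (X₀ ⊔ G)) :=
    Module.Finite.of_surjective ψ hsurj
  apply Groth.Agent.Lib.Helper5.isFiniteLength_of_supportDim_le_zero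
  apply Groth.Agent.Lib.Helper5.supportDim_le_zero_of_forall_isMaximal
  intro p hp
  obtain ⟨w, hw⟩ := Module.mem_support_iff_exists_annihilator.mp hp
  obtain ⟨a, rfl⟩ := hsurj w
  obtain ⟨t, htq, hty⟩ := ht a.1 a.2
  have h1 : t ∈ p.asIdeal := by
    apply hw
    rw [Submodule.mem_annihilator_span_singleton, ← map_smul]
    exact hψ0 _ hty
  have h2 : q ≤ p.asIdeal := by
    apply Ideal.IsPrime.le_of_pow_le (n := n)
    intro r hr
    apply hw
    rw [Submodule.mem_annihilator_span_singleton, ← map_smul]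
    exact hψ0 _ (hGY (hn r hr a.1 a.2))
  refine hmax p.asIdeal p.2 (lt_of_le_of_ne h2 ?_)
  intro h
  apply htq
  rw [h]
  exact h1

/-- `R`-submodules between two steps `lo ≤ hi`, finitely generated over `lo` and saturating
`hi`. -/
def IsLat (lo hi X : Submodule R V) : Prop :=
  ∃ X₀ : Submodule R V, X₀.FG ∧ X₀ ≤ hi ∧ X = X₀ ⊔ lo ∧ ∀ v ∈ hi, ∃ t : R, t ∉ q ∧ t • v ∈ X

omit [IsLocalization.AtPrime S q] [IsLocalRing S] [Module S V] [IsScalarTower R S V] in
theorem IsLat.comm (hmax : ∀ p : Ideal R, p.IsPrime → q < p → p.IsMaximal)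
    {lo hi X Y : Submodule R V} (n : ℕ) (hn : ∀ r ∈ q ^ n, ∀ x ∈ hi, r • x ∈ lo)
    (hX : IsLat q lo hi X) (hY : IsLat q lo hi Y) : Comm X Y := by
  obtain ⟨X₀, hX₀, hX₀hi, hXe, hXs⟩ := hX
  obtain ⟨Y₀, hY₀, hY₀hi, hYe, hYs⟩ := hY
  refine ⟨?_, ?_⟩
  · exact rl_ne_top_of_gens q hmax Y X Y₀ lo hY₀ hYe (by rw [hXe]; exact le_sup_right) n
      (fun r hr x hx => hn r hr x (hY₀hi hx)) (fun x hx => hXs x (hY₀hi hx))
  · exact rl_ne_top_of_gens q hmax X Y X₀ lo hX₀ hXe (by rw [hYe]; exact le_sup_right) n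
      (fun r hr x hx => hn r hr x (hX₀hi hx)) (fun x hx => hYs x (hX₀hi hx))

end FiniteLength

end Groth.Agent.Lib.Seat9.Lat
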