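import Mathlib
import Groth.Prelude.Def_CycDet
import Groth.Agent.Lib.Seat9LatA

/-!
# Lattices in finite length modules over a localization (seat 9), part B

The index function `hQ Q e` of a lattice `Q` with respect to an admissible generating tuple `e`,
and its behaviour under the elementary moves (b) and (c).
-/

set_option autoImplicit false
set_option linter.unusedSectionVars false
universe u v w

namespace Groth.Agent.Lib.Seat9.Lat

open CycDet IsLocalRing Groth.Agent.Lib.Seat9.DetBasic Groth.Agent.Lib.Seat9.DetMoves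
  Groth.Agent.Lib.Seat9.RelLen Groth.Agent.Lib.Seat9.Idx

variable {R : Type u} [CommRing R] (q : Ideal R) [hq : q.IsPrime]
  {S : Type w} [CommRing S] [Algebra R S] [IsLocalization.AtPrime S q] [IsLocalRing S]
  {V : Type v} [AddCommGroup V] [Module R V] [Module S V] [IsScalarTower R S V]

/-- a lattice: a finitely generated `R`-submodule which generates `V` over `S`. -/
structure IsLattice (Q : Submodule R V) : Prop where
  fg : Q.FG
  spans : ∀ v : V, ∃ t : R, t ∉ q ∧ t • v ∈ Q

variable (R S) in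
/-- the image of the lattice in the `i`-th graded piece, as a submodule of `V`. -/
def Xs (Q : Submodule R V) {l : ℕ} (e : Fin l → V) (i : ℕ) : Submodule R V :=
  (Q ⊓ Fl R S e (i + 1)) ⊔ Fl R S e i

variable (R S) in
/-- the standard lattice in the `i`-th graded piece. -/
def Ys {l : ℕ} (e : Fin l → V) (i : Fin l) : Submodule R V :=
  Submodule.span R {e i} ⊔ Fl R S e i

variable (R S) in
/-- the index of the lattice with respect to the tuple. -/
noncomputable def hQ (Q : Submodule R V) {l : ℕ} (e : Fin l → V) : ℤ :=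
  ∑ i : Fin l, idx (Xs R S Q e i) (Ys R S e i)

/-- the length of `R ⧸ (q + r R)`. -/
noncomputable def lam (r : R) : ℕ∞ := Module.length R (R ⧸ (q ⊔ Ideal.span {r}))

section

variable [IsNoetherianRing R]

omit hq in
theorem lam_ne_top (hmax : ∀ p : Ideal R, p.IsPrime → q < p → p.IsMaximal) (r : R)
    (hr : r ∉ q) : lam q r ≠ ⊤ := by
  unfold lam
  rw [Module.length_ne_top_iff]
  apply Groth.Agent.Lib.Helper5.isFiniteLength_of_supportDim_le_zero
  apply Groth.Agent.Lib.Helper5.supportDim_le_zero_of_forall_isMaximal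
  intro p hp
  have h1 := Module.annihilator_le_of_mem_support hp
  rw [Ideal.annihilator_quotient] at h1
  refine hmax p.asIdeal p.2 (lt_of_le_of_ne (le_sup_left.trans h1) ?_)
  intro h
  apply hr
  rw [h]
  exact h1 (Ideal.mem_sup_right (Ideal.mem_span_singleton_self r))

omit [IsLocalization.AtPrime S q] [IsLocalRing S] [Module S V] [IsScalarTower R S V] in
theorem isLat_inf {Q : Submodule R V} (hQl : IsLattice q Q) (lo hi : Submodule R V) :
    IsLat q lo hi ((Q ⊓ hi) ⊔ lo) := by
  refine ⟨Q ⊓ hi, hQl.fg.of_le inf_le_left, inf_le_right, rfl, ?_⟩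
  intro v hv
  obtain ⟨t, ht, htv⟩ := hQl.spans v
  exact ⟨t, ht, Submodule.mem_sup_left ⟨htv, hi.smul_mem t hv⟩⟩

end

omit [IsLocalization.AtPrime S q] in
theorem exists_of_mem_Fl_succ {l : ℕ} (e : Fin l → V) (i : Fin l) (x : V)
    (hx : x ∈ Fl R S e ((i : ℕ) + 1)) : ∃ y ∈ Fl R S e i, ∃ c : S, x = y + c • e i := by
  have hx' : x ∈ spanBefore S V e ((i : ℕ) + 1) := hx
  rw [spanBefore_succ] at hx'
  obtain ⟨y, hy, z, hz, rfl⟩ := Submodule.mem_sup.mp hx'
  obtain ⟨c, rfl⟩ := Submodule.mem_span_singleton.mp hz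
  exact ⟨y, hy, c, rfl⟩

include q in
/-- clearing the denominator of a coefficient. -/
theorem exists_clear (c : S) : ∃ (r s : R), s ∉ q ∧ algebraMap R S s * c = algebraMap R S r := by
  obtain ⟨⟨r, s⟩, hrs⟩ := IsLocalization.surj q.primeCompl c
  exact ⟨r, s.1, s.2, by rw [mul_comm]; exact hrs⟩

omit [IsLocalization.AtPrime S q] [IsLocalRing S] in
theorem smul_smul_eq {c : S} {r s : R} (h : algebraMap R S s * c = algebraMap R S r) (x : V) :
    s • c • x = r • x := by
  rw [← algebraMap_smul S s, ← algebraMap_smul S r, smul_smul, h]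

theorem isLat_Ys {l : ℕ} (e : Fin l → V) (i : Fin l) :
    IsLat q (Fl R S e i) (Fl R S e ((i : ℕ) + 1)) (Ys R S e i) := by
  refine ⟨Submodule.span R {e i}, Submodule.fg_span_singleton _, ?_, rfl, ?_⟩
  · rw [Submodule.span_singleton_le_iff_mem]
    exact mem_spanBefore e (Nat.lt_succ_self _)
  · intro v hv
    obtain ⟨y, hy, c, rfl⟩ := exists_of_mem_Fl_succ e i v hv
    obtain ⟨r, s, hs, hrs⟩ := exists_clear q c
    refine ⟨s, hs, ?_⟩
    rw [smul_add, smul_smul_eq hrs]
    exact Submodule.add_mem _ (Submodule.mem_sup_right (Submodule.smul_mem _ _ hy))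
      (Submodule.mem_sup_left (Submodule.smul_mem _ _ (Submodule.mem_span_singleton_self _)))

section Comm

variable [IsNoetherianRing R] (hmax : ∀ p : Ideal R, p.IsPrime → q < p → p.IsMaximal)

include hmax in
theorem comm_one_step {l : ℕ} (e : Adm S V l) (i : Fin l) {X Y : Submodule R V}
    (hX : IsLat q (Fl R S e.1 i) (Fl R S e.1 ((i : ℕ) + 1)) X)
    (hY : IsLat q (Fl R S e.1 i) (Fl R S e.1 ((i : ℕ) + 1)) Y) : Comm X Y :=
  IsLat.comm q hmax 1 (pow_smul_mem_Fl q e i 1) hX hY

include hmax in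
theorem comm_Xs_Ys {Q : Submodule R V} (hQl : IsLattice q Q) {l : ℕ} (e : Adm S V l)
    (i : Fin l) : Comm (Xs R S Q e.1 i) (Ys R S e.1 i) :=
  comm_one_step q hmax e i (isLat_inf q hQl _ _) (isLat_Ys q e.1 i)

end Comm

/-! ### move (b) -/

omit [IsLocalization.AtPrime S q] [IsLocalRing S] [Module S V] [IsScalarTower R S V] hq in
theorem rl_span_smul (e₀ : V) (F₀ : Submodule R V) (hP1 : ∀ u : R, u • e₀ ∈ F₀ ↔ u ∈ q) (r : R) :
    rl (Submodule.span R {r • e₀} ⊔ F₀) (Submodule.span R {e₀} ⊔ F₀) = lam q r := by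
  unfold rl lam
  symm
  have hmem : e₀ ∈ Submodule.span R {e₀} ⊔ F₀ :=
    Submodule.mem_sup_left (Submodule.mem_span_singleton_self _)
  refine length_quot_eq_of_comap
    (LinearMap.toSpanSingleton R ↥(Submodule.span R {e₀} ⊔ F₀) ⟨e₀, hmem⟩) _ _ ?_ ?_
  · ext u
    rw [Submodule.mem_comap]
    show u ∈ q ⊔ Ideal.span {r} ↔ u • e₀ ∈ Submodule.span R {r • e₀} ⊔ F₀
    constructor
    · intro hu
      obtain ⟨a, ha, b, hb, rfl⟩ := Submodule.mem_sup.mp hu
      obtain ⟨w, rfl⟩ := Ideal.mem_span_singleton'.mp hb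
      rw [add_smul, mul_smul]
      exact Submodule.add_mem _ (Submodule.mem_sup_right ((hP1 a).mpr ha))
        (Submodule.mem_sup_left (Submodule.smul_mem _ _ (Submodule.mem_span_singleton_self _)))
    · intro hu
      obtain ⟨y, hy, f, hf, hyf⟩ := Submodule.mem_sup.mp hu
      obtain ⟨w, rfl⟩ := Submodule.mem_span_singleton.mp hy
      have h1 : (u - w * r) • e₀ = f := by
        rw [sub_smul, mul_smul, ← hyf]
        abel
      have h2 : u - w * r ∈ q := (hP1 _).mp (by rw [h1]; exact hf)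
      have h3 : u = (u - w * r) + w * r := by ring
      rw [h3]
      exact Submodule.add_mem _ (Ideal.mem_sup_left h2)
        (Ideal.mem_sup_right (Ideal.mem_span_singleton'.mpr ⟨w, rfl⟩))
  · rw [eq_top_iff]
    rintro ⟨y, hy⟩ -
    obtain ⟨z, hz, f, hf, rfl⟩ := Submodule.mem_sup.mp hy
    obtain ⟨u, rfl⟩ := Submodule.mem_span_singleton.mp hz
    have hf' : f ∈ Submodule.span R {e₀} ⊔ F₀ := Submodule.mem_sup_right hf
    have : (⟨u • e₀ + f, hy⟩ : ↥(Submodule.span R {e₀} ⊔ F₀)) =
        ⟨f, hf'⟩ + LinearMap.toSpanSingleton R _ ⟨e₀, hmem⟩ u := by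
      apply Subtype.ext
      simp [add_comm]
    rw [this]
    refine Submodule.add_mem _ (Submodule.mem_sup_left ?_) (Submodule.mem_sup_right ⟨u, rfl⟩)
    show f ∈ Submodule.span R {r • e₀} ⊔ F₀
    exact Submodule.mem_sup_right hf

omit [IsLocalization.AtPrime S q] [IsLocalRing S] [Module S V] [IsScalarTower R S V] hq in
theorem span_sup_eq_of_sub_mem (x y : V) (F₀ : Submodule R V) (h : x - y ∈ F₀) :
    Submodule.span R {x} ⊔ F₀ = Submodule.span R {y} ⊔ F₀ := by
  apply le_antisymm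
  · refine sup_le ?_ le_sup_right
    rw [Submodule.span_singleton_le_iff_mem]
    have : x = y + (x - y) := by abel
    rw [this]
    exact Submodule.add_mem _ (Submodule.mem_sup_left (Submodule.mem_span_singleton_self _))
      (Submodule.mem_sup_right h)
  · refine sup_le ?_ le_sup_right
    rw [Submodule.span_singleton_le_iff_mem]
    have : y = x - (x - y) := by abel
    rw [this]
    exact Submodule.sub_mem _ (Submodule.mem_sup_left (Submodule.mem_span_singleton_self _))
      (Submodule.mem_sup_right h)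

section MoveB

variable [IsNoetherianRing R] (hmax : ∀ p : Ideal R, p.IsPrime → q < p → p.IsMaximal)

omit [IsLocalization.AtPrime S q] hq in
theorem Fl_eq_of_relB {l : ℕ} (e e' : Adm S V l) (a : Fin l) (c : Sˣ)
    (h1 : ∀ j, j ≠ a → e.1 j = e'.1 j)
    (h2 : e.1 a - (c : S) • e'.1 a ∈ spanBefore S V e.1 a) (k : ℕ) :
    Fl R S e'.1 k = Fl R S e.1 k := by
  have hu : e'.1 = Function.update e.1 a (e'.1 a) := by
    funext j
    by_cases hj : j = a
    · subst hj
      rw [Function.update_self]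
    · rw [Function.update_of_ne hj, h1 j hj]
  unfold Fl
  rw [hu, spanBefore_update e.1 a (e'.1 a) c h2 k]

include hmax in
/-- behaviour of the index under move (b). -/
theorem hQ_relB {Q : Submodule R V} (hQl : IsLattice q Q) {l : ℕ} (hl : Module.length S V = l)
    (e e' : Adm S V l) (a : Fin l) (c : Sˣ) (hg : Generates S V e.1) (hg' : Generates S V e'.1)
    (h1 : ∀ j, j ≠ a → e.1 j = e'.1 j)
    (h2 : e.1 a - (c : S) • e'.1 a ∈ spanBefore S V e.1 a) (r s : R) (hs : s ∉ q)
    (hrs : algebraMap R S s * c = algebraMap R S r) :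
    hQ R S Q e.1 = hQ R S Q e'.1 + (((lam q r).toNat : ℤ) - ((lam q s).toNat : ℤ)) := by
  have hF : ∀ k, Fl R S e'.1 k = Fl R S e.1 k := Fl_eq_of_relB e e' a c h1 h2
  have hX : ∀ i : ℕ, Xs R S Q e'.1 i = Xs R S Q e.1 i := by
    intro i
    unfold Xs
    rw [hF, hF]
  have hY : ∀ i : Fin l, i ≠ a → Ys R S e'.1 i = Ys R S e.1 i := by
    intro i hi
    unfold Ys
    rw [hF, h1 i hi]
  have hr : r ∉ q := by
    intro hr
    have h3 : algebraMap R S r ∈ maximalIdeal S :=
      (IsLocalization.AtPrime.to_map_mem_maximal_iff S q r).mpr hr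
    have h4 : IsUnit (algebraMap R S s) :=
      (IsLocalization.AtPrime.isUnit_to_map_iff S q s).mpr hs
    rw [← hrs] at h3
    exact (IsLocalRing.mem_maximalIdeal _).mp h3 (h4.mul c.isUnit)
  -- the key computation at position `a`
  have hP1 : ∀ u : R, u • e.1 a ∈ Fl R S e.1 a ↔ u ∈ q := smul_mem_Fl_iff q e hl hg a
  have hP1' : ∀ u : R, u • e'.1 a ∈ Fl R S e.1 a ↔ u ∈ q := by
    intro u
    rw [← hF]
    exact smul_mem_Fl_iff q e' hl hg' a u
  have hsub : r • e'.1 a - s • e.1 a ∈ Fl R S e.1 a := by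
    have h3 : r • e'.1 a - s • e.1 a = - (s • (e.1 a - (c : S) • e'.1 a)) := by
      rw [smul_sub, smul_smul_eq hrs]
      abel
    rw [h3]
    exact Submodule.neg_mem _ (Submodule.smul_mem (Fl R S e.1 a) s h2)
  have hT2 := span_sup_eq_of_sub_mem (r • e'.1 a) (s • e.1 a) (Fl R S e.1 a) hsub
  have hYa' : Ys R S e'.1 a = Submodule.span R {e'.1 a} ⊔ Fl R S e.1 a := by
    unfold Ys
    rw [hF]
  have hrl1 : rl (Submodule.span R {r • e'.1 a} ⊔ Fl R S e.1 a) (Ys R S e'.1 a) = lam q r := by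
    rw [hYa']
    exact rl_span_smul q (e'.1 a) (Fl R S e.1 a) hP1' r
  have hrl2 : rl (Submodule.span R {r • e'.1 a} ⊔ Fl R S e.1 a) (Ys R S e.1 a) = lam q s := by
    rw [hT2]
    exact rl_span_smul q (e.1 a) (Fl R S e.1 a) hP1 s
  have hle1 : Submodule.span R {r • e'.1 a} ⊔ Fl R S e.1 a ≤ Ys R S e'.1 a := by
    rw [hYa']
    refine sup_le_sup_right ?_ _
    rw [Submodule.span_singleton_le_iff_mem]
    exact Submodule.smul_mem _ _ (Submodule.mem_span_singleton_self _)
  have hle2 : Submodule.span R {r • e'.1 a} ⊔ Fl R S e.1 a ≤ Ys R S e.1 a := by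
    rw [hT2]
    refine sup_le_sup_right ?_ _
    rw [Submodule.span_singleton_le_iff_mem]
    exact Submodule.smul_mem _ _ (Submodule.mem_span_singleton_self _)
  obtain ⟨-, hkey⟩ := idx_eq_of_common hle1 hle2 (by rw [hrl1]; exact lam_ne_top q hmax r hr)
    (by rw [hrl2]; exact lam_ne_top q hmax s hs)
  rw [hrl1, hrl2] at hkey
  -- chain rule at position `a`
  have hc1 : Comm (Xs R S Q e.1 a) (Ys R S e'.1 a) := by
    have := comm_Xs_Ys q hmax hQl e' a
    rwa [hX] at this
  have hc2 : Comm (Ys R S e'.1 a) (Ys R S e.1 a) := by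
    have h5 := isLat_Ys (S := S) q e'.1 a
    rw [hF, hF] at h5
    exact comm_one_step q hmax e a h5 (isLat_Ys (S := S) q e.1 a)
  have hchain := (hc1.trans hc2).2
  -- sum manipulation
  have hsum : hQ R S Q e.1 - hQ R S Q e'.1 =
      ∑ i : Fin l, (idx (Xs R S Q e.1 i) (Ys R S e.1 i) - idx (Xs R S Q e'.1 i) (Ys R S e'.1 i)) := by
    unfold hQ
    rw [Finset.sum_sub_distrib]
  have hsingle : ∑ i : Fin l,
      (idx (Xs R S Q e.1 i) (Ys R S e.1 i) - idx (Xs R S Q e'.1 i) (Ys R S e'.1 i)) =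
      idx (Xs R S Q e.1 a) (Ys R S e.1 a) - idx (Xs R S Q e'.1 a) (Ys R S e'.1 a) := by
    refine Finset.sum_eq_single a ?_ ?_
    · intro i _ hi
      rw [hX, hY i hi, sub_self]
    · intro h
      exact absurd (Finset.mem_univ a) h
  rw [hsingle, hX, hchain, hkey] at hsum
  linarith

end MoveB

end Groth.Agent.Lib.Seat9.Lat
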