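import Mathlib
import Groth.Prelude.Def_CycDet
import Groth.Agent.Lib.Seat9LatB

/-!
# Lattices in finite length modules over a localization (seat 9), part C

Behaviour of the index function under move (c), invariance along chains of moves, and evaluation
for adapted lattices.
-/

set_option autoImplicit false
set_option linter.unusedSectionVars false
universe u v w

namespace Groth.Agent.Lib.Seat9.Lat

open CycDet IsLocalRing Groth.Agent.Lib.Seat9.DetBasic Groth.Agent.Lib.Seat9.DetMoves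
  Groth.Agent.Lib.Seat9.RelLen Groth.Agent.Lib.Seat9.Idx Groth.Agent.Lib.Seat9.DetConn

variable {R : Type u} [CommRing R] (q : Ideal R) [hq : q.IsPrime]
  {S : Type w} [CommRing S] [Algebra R S] [IsLocalization.AtPrime S q] [IsLocalRing S]
  {V : Type v} [AddCommGroup V] [Module R V] [Module S V] [IsScalarTower R S V]

section TwoStep

omit [IsLocalization.AtPrime S q] [IsLocalRing S] [Module S V] [IsScalarTower R S V] hq in
/-- additivity of the index over a two step piece of the filtration. -/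
theorem two_step (Q U G T : Submodule R V) (hUG : U ≤ G) (hGT : G ≤ T) (xlo xhi : V)
    (hlo : xlo ∈ G) (hhi : ∀ u : R, u • xhi ∈ G → u • xhi ∈ U)
    (hc : Comm ((Q ⊓ T) ⊔ U) (Submodule.span R {xlo} ⊔ Submodule.span R {xhi} ⊔ U)) :
    idx ((Q ⊓ T) ⊔ U) (Submodule.span R {xlo} ⊔ Submodule.span R {xhi} ⊔ U) =
      idx ((Q ⊓ G) ⊔ U) (Submodule.span R {xlo} ⊔ U) +
        idx ((Q ⊓ T) ⊔ G) (Submodule.span R {xhi} ⊔ G) := by
  obtain ⟨-, -, h⟩ := hc.split G
  have e1 : ((Q ⊓ T) ⊔ U) ⊓ G = (Q ⊓ G) ⊔ U := by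
    rw [sup_comm, sup_inf_assoc_of_le (Q ⊓ T) hUG, inf_assoc, inf_eq_right.mpr hGT, sup_comm]
  have hxlo : Submodule.span R {xlo} ≤ G := by
    rw [Submodule.span_singleton_le_iff_mem]; exact hlo
  have e2 : (Submodule.span R {xlo} ⊔ Submodule.span R {xhi} ⊔ U) ⊓ G =
      Submodule.span R {xlo} ⊔ U := by
    have h1 : Submodule.span R {xlo} ⊔ Submodule.span R {xhi} ⊔ U =
        (Submodule.span R {xlo} ⊔ U) ⊔ Submodule.span R {xhi} := by
      rw [sup_assoc, sup_comm (Submodule.span R {xhi}) U, ← sup_assoc]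
    rw [h1, sup_inf_assoc_of_le _ (sup_le hxlo hUG)]
    apply le_antisymm
    · refine sup_le le_rfl ?_
      rintro x ⟨hx1, hx2⟩
      obtain ⟨u, rfl⟩ := Submodule.mem_span_singleton.mp hx1
      exact Submodule.mem_sup_right (hhi u hx2)
    · exact le_sup_left
  have e3 : ((Q ⊓ T) ⊔ U) ⊔ G = (Q ⊓ T) ⊔ G := by
    rw [sup_assoc, sup_eq_right.mpr hUG]
  have e4 : (Submodule.span R {xlo} ⊔ Submodule.span R {xhi} ⊔ U) ⊔ G =
      Submodule.span R {xhi} ⊔ G := by
    apply le_antisymm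
    · exact sup_le (sup_le (sup_le (hxlo.trans le_sup_right) le_sup_left)
        (hUG.trans le_sup_right)) le_sup_right
    · exact sup_le ((le_sup_right.trans le_sup_left).trans le_sup_left) le_sup_right
  rw [e1, e2, e3, e4] at h
  exact h

end TwoStep

section MoveC

variable [IsNoetherianRing R] (hmax : ∀ p : Ideal R, p.IsPrime → q < p → p.IsMaximal)

include hmax in
/-- behaviour of the index under move (c). -/
theorem hQ_relC {Q : Submodule R V} (hQl : IsLattice q Q) {l : ℕ} (hl : Module.length S V = l)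
    (e e' : Adm S V l) (a b : Fin l) (hg : Generates S V e.1) (hg' : Generates S V e'.1)
    (hab : (b : ℕ) + 1 = (a : ℕ))
    (h : ∀ r ∈ maximalIdeal S, r • e.1 a ∈ spanBefore S V e.1 b)
    (he' : e'.1 = e.1 ∘ Equiv.swap a b) : hQ R S Q e.1 = hQ R S Q e'.1 := by
  have hne : a ≠ b := fun hh => by rw [hh] at hab; omega
  have hF : ∀ k : ℕ, k ≠ (a : ℕ) → Fl R S e'.1 k = Fl R S e.1 k := by
    intro k hk
    unfold Fl
    rw [he', spanBefore_swap e.1 a b hab k hk]
  have hea : e'.1 a = e.1 b := by rw [he', Function.comp_apply, Equiv.swap_apply_left]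
  have heb : e'.1 b = e.1 a := by rw [he', Function.comp_apply, Equiv.swap_apply_right]
  have hek : ∀ k, k ≠ a → k ≠ b → e'.1 k = e.1 k := by
    intro k h1 h2
    rw [he', Function.comp_apply, Equiv.swap_apply_of_ne_of_ne h1 h2]
  -- notation
  set U := Fl R S e.1 b with hU
  set G := Fl R S e.1 a with hG
  set G' := Fl R S e'.1 a with hG'
  set T := Fl R S e.1 ((a : ℕ) + 1) with hT
  have hUb' : Fl R S e'.1 b = U := hF b (by omega)
  have hTa' : Fl R S e'.1 ((a : ℕ) + 1) = T := hF _ (by omega)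
  have hGb : Fl R S e.1 ((b : ℕ) + 1) = G := by rw [hab]
  have hGb' : Fl R S e'.1 ((b : ℕ) + 1) = G' := by rw [hab]
  have hUG : U ≤ G := Fl_mono e.1 (by omega)
  have hGT : G ≤ T := Fl_mono e.1 (by omega)
  have hUG' : U ≤ G' := by
    rw [← hUb']
    exact Fl_mono e'.1 (by omega)
  have hGT' : G' ≤ T := by
    rw [← hTa']
    exact Fl_mono e'.1 (by omega)
  -- the four pieces for `e`
  have hXb : Xs R S Q e.1 b = (Q ⊓ G) ⊔ U := by unfold Xs; rw [hGb]
  have hYb : Ys R S e.1 b = Submodule.span R {e.1 b} ⊔ U := rfl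
  have hXa : Xs R S Q e.1 a = (Q ⊓ T) ⊔ G := rfl
  have hYa : Ys R S e.1 a = Submodule.span R {e.1 a} ⊔ G := rfl
  -- the four pieces for `e'`
  have hXb' : Xs R S Q e'.1 b = (Q ⊓ G') ⊔ U := by unfold Xs; rw [hGb', hUb']
  have hYb' : Ys R S e'.1 b = Submodule.span R {e.1 a} ⊔ U := by unfold Ys; rw [heb, hUb']
  have hXa' : Xs R S Q e'.1 a = (Q ⊓ T) ⊔ G' := by unfold Xs; rw [hTa']
  have hYa' : Ys R S e'.1 a = Submodule.span R {e.1 b} ⊔ G' := by unfold Ys; rw [hea]
  -- commensurability of the two step pieces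
  have hpow : ∀ r ∈ q ^ 2, ∀ x ∈ T, r • x ∈ U := by
    intro r hr x hx
    have hx' : x ∈ Fl R S e.1 ((b : ℕ) + 2) := by
      have : (b : ℕ) + 2 = (a : ℕ) + 1 := by omega
      rw [this]; exact hx
    exact pow_smul_mem_Fl q e b 2 r hr x hx'
  have hlatX : IsLat q U T ((Q ⊓ T) ⊔ U) := isLat_inf q hQl U T
  have hlatY : IsLat q U T (Submodule.span R {e.1 b} ⊔ Submodule.span R {e.1 a} ⊔ U) := by
    refine ⟨Submodule.span R {e.1 b} ⊔ Submodule.span R {e.1 a},
      (Submodule.fg_span_singleton _).sup (Submodule.fg_span_singleton _), ?_, rfl, ?_⟩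
    · refine sup_le ?_ ?_
      · rw [Submodule.span_singleton_le_iff_mem]
        exact mem_spanBefore e.1 (by omega)
      · rw [Submodule.span_singleton_le_iff_mem]
        exact mem_spanBefore e.1 (by omega)
    · intro v hv
      obtain ⟨y, hy, ca, rfl⟩ := exists_of_mem_Fl_succ e.1 a v hv
      have hy' : y ∈ Fl R S e.1 ((b : ℕ) + 1) := by rw [hGb]; exact hy
      obtain ⟨z, hz, cb, rfl⟩ := exists_of_mem_Fl_succ e.1 b y hy'
      obtain ⟨ra, sa, hsa, hrsa⟩ := exists_clear q ca
      obtain ⟨rb, sb, hsb, hrsb⟩ := exists_clear q cb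
      refine ⟨sa * sb, fun hh => (hq.mem_or_mem hh).elim hsa hsb, ?_⟩
      have e1 : (sa * sb) • (z + cb • e.1 b + ca • e.1 a) =
          (sa * sb) • z + sa • (rb • e.1 b) + sb • (ra • e.1 a) := by
        rw [smul_add, smul_add, mul_smul sa sb (cb • e.1 b), smul_smul_eq hrsb,
          mul_comm sa sb, mul_smul sb sa (ca • e.1 a), smul_smul_eq hrsa, mul_comm sb sa]
      rw [e1]
      refine Submodule.add_mem _ (Submodule.add_mem _ ?_ ?_) ?_
      · exact Submodule.mem_sup_right (Submodule.smul_mem _ _ hz)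
      · exact Submodule.mem_sup_left (Submodule.mem_sup_left
          (Submodule.smul_mem _ _ (Submodule.smul_mem _ _ (Submodule.mem_span_singleton_self _))))
      · exact Submodule.mem_sup_left (Submodule.mem_sup_right
          (Submodule.smul_mem _ _ (Submodule.smul_mem _ _ (Submodule.mem_span_singleton_self _))))
  have hcomm : Comm ((Q ⊓ T) ⊔ U)
      (Submodule.span R {e.1 b} ⊔ Submodule.span R {e.1 a} ⊔ U) :=
    IsLat.comm q hmax 2 hpow hlatX hlatY
  have hcomm' : Comm ((Q ⊓ T) ⊔ U)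
      (Submodule.span R {e.1 a} ⊔ Submodule.span R {e.1 b} ⊔ U) := by
    rw [sup_comm (Submodule.span R {e.1 a}) (Submodule.span R {e.1 b})]
    exact hcomm
  -- the two computations
  have hlo : e.1 b ∈ G := mem_spanBefore e.1 (by omega)
  have hhi : ∀ u : R, u • e.1 a ∈ G → u • e.1 a ∈ U := by
    intro u hu
    have huq : u ∈ q := (smul_mem_Fl_iff q e hl hg a u).mp hu
    have h1 : algebraMap R S u ∈ maximalIdeal S :=
      (IsLocalization.AtPrime.to_map_mem_maximal_iff S q u).mpr huq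
    have := h _ h1
    rwa [algebraMap_smul] at this
  have hlo' : e.1 a ∈ G' := by
    rw [← heb]
    exact mem_spanBefore e'.1 (by omega)
  have hhi' : ∀ u : R, u • e.1 b ∈ G' → u • e.1 b ∈ U := by
    intro u hu
    rw [← hea] at hu
    have huq : u ∈ q := (smul_mem_Fl_iff q e' hl hg' a u).mp hu
    exact smul_mem_Fl_of_mem q e b u huq
  have k1 := two_step Q U G T hUG hGT (e.1 b) (e.1 a) hlo hhi hcomm
  have k2 := two_step Q U G' T hUG' hGT' (e.1 a) (e.1 b) hlo' hhi' hcomm'
  rw [sup_comm (Submodule.span R {e.1 a}) (Submodule.span R {e.1 b})] at k2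
  -- sum manipulation
  have hsum : hQ R S Q e.1 - hQ R S Q e'.1 =
      ∑ i : Fin l, (idx (Xs R S Q e.1 i) (Ys R S e.1 i) - idx (Xs R S Q e'.1 i) (Ys R S e'.1 i)) := by
    unfold hQ
    rw [Finset.sum_sub_distrib]
  have hpair : ∑ i : Fin l,
      (idx (Xs R S Q e.1 i) (Ys R S e.1 i) - idx (Xs R S Q e'.1 i) (Ys R S e'.1 i)) =
      (idx (Xs R S Q e.1 a) (Ys R S e.1 a) - idx (Xs R S Q e'.1 a) (Ys R S e'.1 a)) +
      (idx (Xs R S Q e.1 b) (Ys R S e.1 b) - idx (Xs R S Q e'.1 b) (Ys R S e'.1 b)) := by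
    refine Finset.sum_eq_add a b hne ?_ ?_ ?_
    · rintro i - ⟨hia, hib⟩
      have hia' : (i : ℕ) ≠ (a : ℕ) := fun hh => hia (Fin.ext hh)
      have hib' : (i : ℕ) + 1 ≠ (a : ℕ) := fun hh => hib (Fin.ext (by omega))
      have e1 : Xs R S Q e'.1 i = Xs R S Q e.1 i := by
        unfold Xs
        rw [hF _ hib', hF _ hia']
      have e2 : Ys R S e'.1 i = Ys R S e.1 i := by
        unfold Ys
        rw [hF _ hia', hek i hia hib]
      rw [e1, e2, sub_self]
    · intro hh; exact absurd (Finset.mem_univ a) hh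
    · intro hh; exact absurd (Finset.mem_univ b) hh
  rw [hpair, hXa, hYa, hXb, hYb, hXa', hYa', hXb', hYb'] at hsum
  linarith

end MoveC

section Invariant

variable [IsNoetherianRing R] (hmax : ∀ p : Ideal R, p.IsPrime → q < p → p.IsMaximal)

include hmax in
/-- the index function along a chain of moves. -/
theorem hQ_conn {Q : Submodule R V} (hQl : IsLattice q Q) {l : ℕ} (hl : Module.length S V = l)
    (o : ResidueField S → ℤ) (ho1 : o 1 = 0)
    (homul : ∀ u v : ResidueField S, u ≠ 0 → v ≠ 0 → o (u * v) = o u + o v)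
    (honeg : o (-1) = 0)
    (hoB : ∀ (c : Sˣ) (r s : R), s ∉ q → algebraMap R S s * c = algebraMap R S r →
      o (residue S (c : S)) = ((lam q r).toNat : ℤ) - ((lam q s).toNat : ℤ))
    {e e' : Adm S V l} {u : ResidueField S} (h : Conn e e' u) :
    hQ R S Q e.1 = hQ R S Q e'.1 + o u := by
  refine (Conn.invariant (fun e : Adm S V l => hQ R S Q e.1) o ho1 homul ?_ ?_ h).2
  · intro e e' a c hg hg' h1 h2
    obtain ⟨r, s, hs, hrs⟩ := exists_clear q (c : S)
    show hQ R S Q e.1 = hQ R S Q e'.1 + o (residue S (c : S))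
    rw [hoB c r s hs hrs]
    exact hQ_relB q hmax hQl hl e e' a c hg hg' h1 h2 r s hs hrs
  · intro e e' a b hg hg' hab h he'
    show hQ R S Q e.1 = hQ R S Q e'.1 + o (-1)
    rw [honeg, add_zero]
    exact hQ_relC q hmax hQl hl e e' a b hg hg' hab h he'

variable (R S) in
/-- the lattice meets each step of the filtration in the standard lattice. -/
def IsAdapted (P : Submodule R V) {l : ℕ} (e : Fin l → V) : Prop :=
  ∀ i : Fin l, Xs R S P e i = Ys R S e i

omit [IsLocalization.AtPrime S q] hq [IsNoetherianRing R] in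
theorem hQ_of_isAdapted {P : Submodule R V} {l : ℕ} {e : Fin l → V} (h : IsAdapted R S P e) :
    hQ R S P e = 0 := by
  unfold hQ
  refine Finset.sum_eq_zero fun i _ => ?_
  rw [h i, idx_self]

include hmax in
/-- for a sublattice adapted to the tuple the index function is the colength. -/
theorem hQ_eq_of_le {Q P : Submodule R V} (hQl : IsLattice q Q) (hPl : IsLattice q P)
    (hPQ : P ≤ Q) {l : ℕ} (e : Adm S V l) (hg : Generates S V e.1)
    (hP : IsAdapted R S P e.1) : hQ R S Q e.1 = ((rl P Q).toNat : ℤ) := by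
  have key : ∀ k : ℕ, ∑ i ∈ Finset.range k, idx (Xs R S Q e.1 i) (Xs R S P e.1 i) =
      idx (Q ⊓ Fl R S e.1 k) (P ⊓ Fl R S e.1 k) := by
    intro k
    induction k with
    | zero =>
      have h0 : Fl R S e.1 0 = ⊥ := by
        unfold Fl
        rw [spanBefore_zero]
        rfl
      rw [Finset.sum_range_zero, h0, inf_bot_eq, inf_bot_eq, idx_self]
    | succ k ih =>
      rw [Finset.sum_range_succ, ih]
      have hpow : ∀ r ∈ q ^ (k + 1), ∀ x ∈ Fl R S e.1 (k + 1), r • x ∈ (⊥ : Submodule R V) := by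
        intro r hr x hx
        have h0 : Fl R S e.1 0 = ⊥ := by
          unfold Fl
          rw [spanBefore_zero]
          rfl
        rw [← h0]
        refine pow_smul_mem_Fl q e 0 (k + 1) r hr x ?_
        rw [Nat.zero_add]
        exact hx
      have l1 := isLat_inf q hQl ⊥ (Fl R S e.1 (k + 1))
      have l2 := isLat_inf q hPl ⊥ (Fl R S e.1 (k + 1))
      rw [sup_bot_eq] at l1 l2
      have hc := IsLat.comm q hmax (k + 1) hpow l1 l2
      obtain ⟨-, -, hs⟩ := hc.split (Fl R S e.1 k)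
      have hle : Fl R S e.1 k ≤ Fl R S e.1 (k + 1) := Fl_mono e.1 (Nat.le_succ k)
      rw [inf_assoc, inf_assoc, inf_eq_right.mpr hle] at hs
      rw [hs]
      rfl
  have hFl : Fl R S e.1 l = ⊤ := by
    unfold Fl
    rw [spanBefore_of_le e.1 le_rfl, hg]
    rfl
  have h1 : hQ R S Q e.1 = ∑ i : Fin l, idx (Xs R S Q e.1 i) (Xs R S P e.1 i) := by
    unfold hQ
    refine Finset.sum_congr rfl fun i _ => ?_
    rw [hP i]
  rw [h1, Fin.sum_univ_eq_sum_range (fun i => idx (Xs R S Q e.1 i) (Xs R S P e.1 i)) l, key l,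
    hFl, inf_top_eq, inf_top_eq, idx_of_le hPQ]

end Invariant

end Groth.Agent.Lib.Seat9.Lat
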