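import Mathlib
import Groth.Prelude.Def_CycDet
import Groth.Prelude.Def_Tame
import Groth.Agent.Lib.Seat9LatC

/-!
# Lattices in finite length modules over a localization (seat 9), part D

The order function on the residue field of a prime of coheight one, expressed through lengths.
-/

set_option autoImplicit false
set_option linter.unusedSectionVars false
universe u

namespace Groth.Agent.Lib.Seat9.Lat

open CycDet IsLocalRing Groth.Agent.Lib.Seat9.DetBasic Groth.Agent.Lib.Seat9.DetMoves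
  Groth.Agent.Lib.Seat9.RelLen Groth.Agent.Lib.Seat9.Idx Groth.Agent.Lib.Seat9.DetConn

variable {R : Type u} [CommRing R] (q : Ideal R) [hq : q.IsPrime]

/-- the order function on the residue field at `q`. -/
noncomputable def oq (f : q.ResidueField) : ℤ := CycAlg.ordFrac (R ⧸ q) q.ResidueField f

section

variable [IsNoetherianRing R] [hdim : Ring.KrullDimLE 1 (R ⧸ q)]

theorem oq_eq (f : q.ResidueField) :
    oq q f = WithZero.recZeroCoe (motive := fun _ => ℤ) 0 (fun z => Multiplicative.toAdd z)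
      (Ring.ordFrac (R ⧸ q) f) := by
  unfold oq CycAlg.ordFrac
  rw [dif_pos ⟨inferInstance, hdim, inferInstance, inferInstance⟩]

theorem oq_of_ne_zero (f : q.ResidueField) (hf : f ≠ 0) :
    ∃ z : Multiplicative ℤ, Ring.ordFrac (R ⧸ q) f = (z : WithZero (Multiplicative ℤ)) ∧
      oq q f = Multiplicative.toAdd z := by
  have h1 : Ring.ordFrac (R ⧸ q) f ≠ 0 := (map_ne_zero _).mpr hf
  obtain ⟨z, hz⟩ := WithZero.ne_zero_iff_exists.mp h1
  refine ⟨z, hz.symm, ?_⟩
  rw [oq_eq, ← hz, WithZero.recZeroCoe_coe]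

theorem oq_one : oq q 1 = 0 := by
  obtain ⟨z, hz, h⟩ := oq_of_ne_zero q 1 one_ne_zero
  rw [h]
  rw [map_one] at hz
  have : z = 1 := by
    have := hz.symm
    exact_mod_cast this
  rw [this]
  rfl

theorem oq_mul (u v : q.ResidueField) (hu : u ≠ 0) (hv : v ≠ 0) :
    oq q (u * v) = oq q u + oq q v := by
  obtain ⟨a, ha, h1⟩ := oq_of_ne_zero q u hu
  obtain ⟨b, hb, h2⟩ := oq_of_ne_zero q v hv
  obtain ⟨c, hc, h3⟩ := oq_of_ne_zero q (u * v) (mul_ne_zero hu hv)
  rw [map_mul, ha, hb, ← WithZero.coe_mul] at hc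
  have : c = a * b := by
    have := hc.symm
    exact_mod_cast this
  rw [h1, h2, h3, this, toAdd_mul]

theorem oq_neg_one : oq q (-1) = 0 := by
  have h1 := oq_mul q (-1) (-1) (neg_ne_zero.mpr one_ne_zero) (neg_ne_zero.mpr one_ne_zero)
  rw [neg_mul_neg, one_mul, oq_one] at h1
  omega

omit hq in
theorem ord_eq_lam (r : R) : Ring.ord (R ⧸ q) (Ideal.Quotient.mk q r) = lam q r := by
  unfold Ring.ord lam
  rw [← Module.length_eq_of_surjective (S := R) (R := R ⧸ q)
    (M := (R ⧸ q) ⧸ Ideal.span {Ideal.Quotient.mk q r}) Ideal.Quotient.mk_surjective]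
  rw [← (Submodule.Quotient.restrictScalarsEquiv R
    (Ideal.span {Ideal.Quotient.mk q r} : Ideal (R ⧸ q))).length_eq]
  symm
  refine length_quot_eq_of_comap (Submodule.mkQ q) _ _ ?_ ?_
  · ext u
    rw [Submodule.mem_comap, Submodule.restrictScalars_mem, Submodule.mkQ_apply]
    show u ∈ q ⊔ Ideal.span {r} ↔ Ideal.Quotient.mk q u ∈ Ideal.span {Ideal.Quotient.mk q r}
    constructor
    · intro hu
      obtain ⟨a, ha, b, hb, rfl⟩ := Submodule.mem_sup.mp hu
      obtain ⟨w, rfl⟩ := Ideal.mem_span_singleton'.mp hb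
      rw [map_add, Ideal.Quotient.eq_zero_iff_mem.mpr ha, zero_add, map_mul]
      exact Ideal.mul_mem_left _ _ (Ideal.mem_span_singleton_self _)
    · intro hu
      obtain ⟨x, hx⟩ := Ideal.mem_span_singleton'.mp hu
      obtain ⟨w, rfl⟩ := Ideal.Quotient.mk_surjective x
      rw [← map_mul, Ideal.Quotient.eq] at hx
      have h3 : u = w * r - (w * r - u) := by ring
      rw [h3]
      exact Submodule.sub_mem _ (Ideal.mem_sup_right (Ideal.mem_span_singleton'.mpr ⟨w, rfl⟩))
        (Ideal.mem_sup_left hx)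
  · rw [LinearMap.range_eq_top.mpr (Submodule.mkQ_surjective q), sup_top_eq]

theorem oq_residue (c : (Localization.AtPrime q)ˣ) (r s : R) (hs : s ∉ q)
    (hrs : algebraMap R (Localization.AtPrime q) s * c = algebraMap R (Localization.AtPrime q) r) :
    oq q (residue (Localization.AtPrime q) (c : Localization.AtPrime q)) =
      ((lam q r).toNat : ℤ) - ((lam q s).toNat : ℤ) := by
  have hr : r ∉ q := by
    intro hr
    have h3 : algebraMap R (Localization.AtPrime q) r ∈ maximalIdeal (Localization.AtPrime q) :=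
      (IsLocalization.AtPrime.to_map_mem_maximal_iff (Localization.AtPrime q) q r).mpr hr
    have h4 : IsUnit (algebraMap R (Localization.AtPrime q) s) :=
      (IsLocalization.AtPrime.isUnit_to_map_iff (Localization.AtPrime q) q s).mpr hs
    rw [← hrs] at h3
    exact (IsLocalRing.mem_maximalIdeal _).mp h3 (h4.mul c.isUnit)
  have hr0 : Ideal.Quotient.mk q r ≠ 0 := fun h => hr (Ideal.Quotient.eq_zero_iff_mem.mp h)
  have hs0 : Ideal.Quotient.mk q s ≠ 0 := fun h => hs (Ideal.Quotient.eq_zero_iff_mem.mp h)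
  have hrn : Ideal.Quotient.mk q r ∈ nonZeroDivisors (R ⧸ q) := mem_nonZeroDivisors_of_ne_zero hr0
  have hsn : Ideal.Quotient.mk q s ∈ nonZeroDivisors (R ⧸ q) := mem_nonZeroDivisors_of_ne_zero hs0
  have hmk : residue (Localization.AtPrime q) (c : Localization.AtPrime q) =
      IsLocalization.mk' q.ResidueField (Ideal.Quotient.mk q r) ⟨Ideal.Quotient.mk q s, hsn⟩ := by
    rw [IsLocalization.eq_mk'_iff_mul_eq]
    show _ * algebraMap (R ⧸ q) q.ResidueField (Ideal.Quotient.mk q s) =
      algebraMap (R ⧸ q) q.ResidueField (Ideal.Quotient.mk q r)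
    rw [Ideal.algebraMap_quotient_residueField_mk, Ideal.algebraMap_quotient_residueField_mk,
      IsScalarTower.algebraMap_apply R (Localization.AtPrime q) q.ResidueField,
      IsScalarTower.algebraMap_apply R (Localization.AtPrime q) q.ResidueField,
      IsLocalRing.ResidueField.algebraMap_eq, ← map_mul, mul_comm, hrs]
  have hordr : Ring.ord (R ⧸ q) (Ideal.Quotient.mk q r) = ((lam q r).toNat : ℕ∞) := by
    rw [ord_eq_lam, ENat.natCast_toNat]
    rw [← ord_eq_lam]
    exact Ring.ord_ne_top hrn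
  have hords : Ring.ord (R ⧸ q) (Ideal.Quotient.mk q s) = ((lam q s).toNat : ℕ∞) := by
    rw [ord_eq_lam, ENat.natCast_toNat]
    rw [← ord_eq_lam]
    exact Ring.ord_ne_top hsn
  rw [oq_eq, hmk]
  have h5 := Ring.ordFrac_eq_div (R ⧸ q) (K := q.ResidueField) ⟨Ideal.Quotient.mk q r, hrn⟩
    ⟨Ideal.Quotient.mk q s, hsn⟩
  simp only at h5
  rw [h5, Ring.ordMonoidWithZeroHom_eq_coe (R ⧸ q) hrn hordr,
    Ring.ordMonoidWithZeroHom_eq_coe (R ⧸ q) hsn hords, ← WithZero.coe_div,
    WithZero.recZeroCoe_coe, toAdd_div]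
  rfl

end

end Groth.Agent.Lib.Seat9.Lat
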