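import Mathlib
import Groth.Prelude.Def_CycAlg
import Groth.Prelude.Def_Tame
import Groth.Agent.Lib.Seat9KeyE
import Groth.Agent.Lib.Seat9LawE
import Groth.Agent.Lib.Seat9LatD
import Groth.Agent.Lib.Seat9NormE

/-!
# Key lemma for tame symbols (seat 9), part F

The tame symbol of a factorized pair, and the order of the tame symbol at a prime in terms of
cleared denominators.
-/

set_option autoImplicit false
set_option linter.unusedSectionVars false
universe u v

namespace Groth.Agent.Lib.Seat9.KeyF

open IsLocalRing CycAlg Groth.Agent.Lib.Seat9.KeyC Groth.Agent.Lib.Seat9.Tame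
  Groth.Agent.Lib.Seat9.Lat

section lemmaT

variable {S : Type u} [CommRing S] [IsLocalRing S] [IsNoetherianRing S] [Ring.KrullDimLE 1 S]

attribute [local instance] TameData.isLocalHom

/-- the tame symbol of a factorized pair -/
theorem tameSymbol_of_fac (hex : Ex1836 S) (x y π : S) (hπ : π ∈ nonZeroDivisors S) (u v : Sˣ)
    (e f : ℕ) (hx : x = (u : S) * π ^ e) (hy : y = (v : S) * π ^ f) :
    tameSymbol S x y = ((-1) ^ (e * f) * residue S (u : S) ^ f * (residue S (v : S) ^ e)⁻¹) ^
      (Ring.ord S π).toNat := by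
  have hxn : x ∈ nonZeroDivisors S := by
    rw [hx]; exact mul_mem u.isUnit.mem_nonZeroDivisors (pow_mem hπ _)
  have hyn : y ∈ nonZeroDivisors S := by
    rw [hy]; exact mul_mem v.isUnit.mem_nonZeroDivisors (pow_mem hπ _)
  rcases Nat.eq_zero_or_pos (e + f) with h0 | hpos
  · have he : e = 0 := by omega
    have hf : f = 0 := by omega
    subst he hf
    rw [pow_zero, mul_one] at hx hy
    rw [tameSymbol_of_isUnit (hx ▸ u.isUnit) (hy ▸ v.isUnit)]
    simp
  · obtain ⟨M⟩ := exists_monoData hex 2 le_rfl ![x, y] (by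
      intro i; fin_cases i
      · exact hxn
      · exact hyn)
    have Px : Pres M x := Pres.ofIdx M 0
    have Py : Pres M y := Pres.ofIdx M 1
    rw [tameSymbol_eq hxn hyn (tame Px Py)]
    have hxyB := nzd_B (tame Px Py)
    have hπB : algebraMap S (tame Px Py).B π ∈ nonZeroDivisors (tame Px Py).B := by
      have h0 : x * y = π * ((u : S) * (v : S) * π ^ (e + f - 1)) := by
        have : π ^ e * π ^ f = π * π ^ (e + f - 1) := by
          rw [← pow_add, ← pow_succ', Nat.sub_add_cancel hpos]
        rw [hx, hy]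
        calc (u : S) * π ^ e * ((v : S) * π ^ f) = (u : S) * (v : S) * (π ^ e * π ^ f) := by ring
          _ = _ := by rw [this]; ring
      have h1 : algebraMap S (tame Px Py).B (x * y) =
          algebraMap S (tame Px Py).B π * algebraMap S (tame Px Py).B
            ((u : S) * (v : S) * π ^ (e + f - 1)) := by
        rw [← map_mul, h0]
      rw [h1] at hxyB
      exact (mul_mem_nonZeroDivisors.mp hxyB).1
    apply value_eq_pow (tame Px Py) π hπ hπB
    intro q
    have hπq : algebraMap S (Localization.AtPrime q.asIdeal) π ∈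
        nonZeroDivisors (Localization.AtPrime q.asIdeal) := by
      have h2 : algebraMap S (Localization.AtPrime q.asIdeal) π =
          algebraMap (tame Px Py).B (Localization.AtPrime q.asIdeal)
            (algebraMap S (tame Px Py).B π) := by
        rw [← IsScalarTower.algebraMap_apply]
      rw [h2]
      exact IsLocalization.map_nonZeroDivisors_le q.asIdeal.primeCompl _
        (Submonoid.mem_map_of_mem _ hπB)
    have h3 := theta_eq_of_fac (algebraMap S (Localization.AtPrime q.asIdeal) x)
      (algebraMap S (Localization.AtPrime q.asIdeal) y)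
      (algebraMap S (Localization.AtPrime q.asIdeal) π) hπq
      (Units.map (algebraMap S (Localization.AtPrime q.asIdeal)).toMonoidHom u)
      (Units.map (algebraMap S (Localization.AtPrime q.asIdeal)).toMonoidHom v) e f
      (by rw [congrArg (algebraMap S (Localization.AtPrime q.asIdeal)) hx, map_mul, map_pow]; rfl)
      (by rw [congrArg (algebraMap S (Localization.AtPrime q.asIdeal)) hy, map_mul, map_pow]; rfl)
    rw [← h3]
    unfold LL
    congr 1
    rw [map_mul, map_mul, map_pow, map_pow, map_inv₀, map_pow, map_neg, map_one]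
    rfl

end lemmaT

section oq

variable {R : Type u} [CommRing R] (q : Ideal R) [hq : q.IsPrime] [IsNoetherianRing R]
  [hdim : Ring.KrullDimLE 1 (R ⧸ q)]

theorem oq_pow (w : q.ResidueField) (hw : w ≠ 0) (n : ℕ) : oq q (w ^ n) = n * oq q w := by
  induction n with
  | zero => simp [oq_one]
  | succ n ih =>
    rw [pow_succ, oq_mul q _ _ (pow_ne_zero _ hw) hw, ih]
    push_cast
    ring

theorem oq_inv (w : q.ResidueField) (hw : w ≠ 0) : oq q w⁻¹ = - oq q w := by
  have h := oq_mul q w w⁻¹ hw (inv_ne_zero hw)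
  rw [mul_inv_cancel₀ hw, oq_one] at h
  linarith

theorem lamZ_eq (r : R) : lamZ q r = ((lam q r).toNat : ℤ) := by
  unfold lamZ
  rw [ord_eq_lam]

theorem lamZ_mul (x y : R) (hx : x ∉ q) (hy : y ∉ q) :
    lamZ q (x * y) = lamZ q x + lamZ q y := by
  unfold lamZ
  have hx0 : Ideal.Quotient.mk q x ∈ nonZeroDivisors (R ⧸ q) :=
    mem_nonZeroDivisors_of_ne_zero (fun h => hx (Ideal.Quotient.eq_zero_iff_mem.mp h))
  have hy0 : Ideal.Quotient.mk q y ∈ nonZeroDivisors (R ⧸ q) :=
    mem_nonZeroDivisors_of_ne_zero (fun h => hy (Ideal.Quotient.eq_zero_iff_mem.mp h))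
  rw [map_mul, Ring.ord_mul _ hy0, ENat.toNat_add (Ring.ord_ne_top hx0) (Ring.ord_ne_top hy0)]
  push_cast
  rfl

theorem lamZ_pow (x : R) (hx : x ∉ q) (n : ℕ) : lamZ q (x ^ n) = n * lamZ q x := by
  induction n with
  | zero =>
    unfold lamZ
    simp
  | succ n ih =>
    rw [pow_succ, lamZ_mul q _ _ (fun h => hx (hq.mem_of_pow_mem _ h)) hx, ih]
    push_cast
    ring

/-- the order of the tame symbol in terms of cleared denominators -/
theorem oq_tameSymbol_eq (hex : Ex1836 (Localization.AtPrime q))
    [Ring.KrullDimLE 1 (Localization.AtPrime q)] (a b : R)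
    (π : Localization.AtPrime q) (hπ : π ∈ nonZeroDivisors (Localization.AtPrime q))
    (u v : (Localization.AtPrime q)ˣ) (e f : ℕ)
    (hfa : algebraMap R (Localization.AtPrime q) a = (u : Localization.AtPrime q) * π ^ e)
    (hfb : algebraMap R (Localization.AtPrime q) b = (v : Localization.AtPrime q) * π ^ f) :
    ∃ (π' u' s v' s' : R),
      algebraMap R (Localization.AtPrime q) π' ∈ nonZeroDivisors (Localization.AtPrime q) ∧
      u' ∉ q ∧ s ∉ q ∧ v' ∉ q ∧ s' ∉ q ∧
      algebraMap R (Localization.AtPrime q) (s * a) =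
        algebraMap R (Localization.AtPrime q) (u' * π' ^ e) ∧
      algebraMap R (Localization.AtPrime q) (s' * b) =
        algebraMap R (Localization.AtPrime q) (v' * π' ^ f) ∧
      oq q (tameSymbol (Localization.AtPrime q) (algebraMap R (Localization.AtPrime q) a)
        (algebraMap R (Localization.AtPrime q) b)) =
      -(((Ring.ord (Localization.AtPrime q) (algebraMap R (Localization.AtPrime q) π')).toNat : ℤ) *
        ((e : ℤ) * (lamZ q v' - lamZ q s') - (f : ℤ) * (lamZ q u' - lamZ q s))) := by
  set α := algebraMap R (Localization.AtPrime q) with hα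
  obtain ⟨rπ, sπ, hsπ, hπc⟩ := exists_clear q (S := Localization.AtPrime q) π
  obtain ⟨ru, su, hsu, huc⟩ := exists_clear q (S := Localization.AtPrime q) (u : Localization.AtPrime q)
  obtain ⟨rv, sv, hsv, hvc⟩ := exists_clear q (S := Localization.AtPrime q) (v : Localization.AtPrime q)
  have hunit : ∀ x : R, x ∉ q → IsUnit (α x) := fun x hx =>
    IsLocalization.map_units (Localization.AtPrime q) (⟨x, hx⟩ : q.primeCompl)
  have hru : ru ∉ q := by
    apply (IsLocalization.AtPrime.isUnit_to_map_iff (Localization.AtPrime q) q ru).mp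
    rw [← huc]
    exact (hunit su hsu).mul u.isUnit
  have hrv : rv ∉ q := by
    apply (IsLocalization.AtPrime.isUnit_to_map_iff (Localization.AtPrime q) q rv).mp
    rw [← hvc]
    exact (hunit sv hsv).mul v.isUnit
  have hπ' : α rπ ∈ nonZeroDivisors (Localization.AtPrime q) := by
    rw [← hπc]
    exact mul_mem (hunit sπ hsπ).mem_nonZeroDivisors hπ
  refine ⟨rπ, ru, su * sπ ^ e, rv, sv * sπ ^ f, hπ', hru,
    fun h => (hq.mem_or_mem h).elim hsu (fun h => hsπ (hq.mem_of_pow_mem _ h)), hrv,
    fun h => (hq.mem_or_mem h).elim hsv (fun h => hsπ (hq.mem_of_pow_mem _ h)), ?_, ?_, ?_⟩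
  · rw [map_mul, map_mul, map_mul, map_pow, map_pow, hfa, ← huc, ← hπc]
    ring
  · rw [map_mul, map_mul, map_mul, map_pow, map_pow, hfb, ← hvc, ← hπc]
    ring
  · rw [hfa, hfb]
    rw [tameSymbol_of_fac hex _ _ π hπ u v e f rfl rfl]
    have hu0 : residue (Localization.AtPrime q) (u : Localization.AtPrime q) ≠ 0 :=
      residue_unit_ne_zero u
    have hv0 : residue (Localization.AtPrime q) (v : Localization.AtPrime q) ≠ 0 :=
      residue_unit_ne_zero v
    have hm1 : ((-1 : q.ResidueField) ^ (e * f)) ≠ 0 := pow_ne_zero _ (neg_ne_zero.mpr one_ne_zero)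
    have hord : Ring.ord (Localization.AtPrime q) (α rπ) = Ring.ord (Localization.AtPrime q) π := by
      rw [← hπc, Ring.ord_mul_of_isUnit_left (hunit sπ hsπ)]
    have e1 : oq q ((-1 : q.ResidueField) ^ (e * f)) = 0 := by
      rw [oq_pow q _ (neg_ne_zero.mpr one_ne_zero), oq_neg_one, mul_zero]
    have e2 : oq q (residue (Localization.AtPrime q) (u : Localization.AtPrime q)) =
        lamZ q ru - lamZ q su := by
      rw [lamZ_eq, lamZ_eq]
      exact oq_residue q u ru su hsu huc
    have e3 : oq q (residue (Localization.AtPrime q) (v : Localization.AtPrime q)) =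
        lamZ q rv - lamZ q sv := by
      rw [lamZ_eq, lamZ_eq]
      exact oq_residue q v rv sv hsv hvc
    show oq q (((-1 : q.ResidueField) ^ (e * f) *
      residue (Localization.AtPrime q) (u : Localization.AtPrime q) ^ f *
      (residue (Localization.AtPrime q) (v : Localization.AtPrime q) ^ e)⁻¹) ^
        (Ring.ord (Localization.AtPrime q) π).toNat) = _
    rw [oq_pow q _ (mul_ne_zero (mul_ne_zero hm1 (pow_ne_zero _ hu0))
        (inv_ne_zero (pow_ne_zero _ hv0))),
      oq_mul q _ _ (mul_ne_zero hm1 (pow_ne_zero _ hu0)) (inv_ne_zero (pow_ne_zero _ hv0)),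
      oq_mul q _ _ hm1 (pow_ne_zero _ hu0), oq_inv q _ (pow_ne_zero _ hv0),
      oq_pow q _ hu0, oq_pow q _ hv0, e1, e2, e3, hord,
      lamZ_mul q _ _ hsu (fun h => hsπ (hq.mem_of_pow_mem _ h)),
      lamZ_mul q _ _ hsv (fun h => hsπ (hq.mem_of_pow_mem _ h)),
      lamZ_pow q _ hsπ, lamZ_pow q _ hsπ]
    ring

end oq

end Groth.Agent.Lib.Seat9.KeyF
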