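import Mathlib
import Groth.Prelude.Def_CycAlg
import Groth.Prelude.Def_Tame
import Groth.Agent.Lib.Seat9KeyF
import Groth.Agent.Lib.Seat9GlueH1F
import Groth.Agent.Lib.Seat9NormA
import Groth.Agent.S1836

/-!
# Key lemma for tame symbols (seat 9), part G

The key lemma when `a`, `b` are factorized at every height one prime containing `a b`.
-/

set_option autoImplicit false
set_option linter.unusedSectionVars false
universe u v

namespace Groth.Agent.Lib.Seat9.KeyG

open IsLocalRing CycAlg Groth.Agent.Lib.Seat9.KeyB Groth.Agent.Lib.Seat9.KeyC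
  Groth.Agent.Lib.Seat9.KeyE Groth.Agent.Lib.Seat9.KeyF Groth.Agent.Lib.Seat9.Tame
  Groth.Agent.Lib.Seat9.Lat Groth.Agent.Lib.Seat9.GlueH1

variable {R : Type u} [CommRing R] [IsNoetherianRing R] [IsLocalRing R]

theorem krullDimLE_one_quotient (hR : ringKrullDim R = 2) (q : Ideal R) [hq : q.IsPrime]
    (hq1 : 1 ≤ q.height) : Ring.KrullDimLE 1 (R ⧸ q) := by
  rw [Ring.krullDimLE_one_iff_of_noZeroDivisors]
  intro I hI0 hI
  have hc : (I.comap (Ideal.Quotient.mk q)).IsPrime := Ideal.comap_isPrime _ _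
  have hle : q ≤ I.comap (Ideal.Quotient.mk q) := by
    intro x hx
    rw [Ideal.mem_comap, Ideal.Quotient.eq_zero_iff_mem.mpr hx]
    exact I.zero_mem
  have hne : q ≠ I.comap (Ideal.Quotient.mk q) := by
    intro h
    apply hI0
    rw [eq_bot_iff]
    intro x hx
    obtain ⟨r, rfl⟩ := Ideal.Quotient.mk_surjective x
    have : r ∈ I.comap (Ideal.Quotient.mk q) := hx
    rw [← h] at this
    rw [Ideal.mem_bot, Ideal.Quotient.eq_zero_iff_mem]
    exact this
  have hmax : I.comap (Ideal.Quotient.mk q) = maximalIdeal R := by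
    by_contra hm
    have h1 := height_le_one_of_ne hR (I.comap (Ideal.Quotient.mk q)) hm
    have h2 := Ideal.height_strict_mono_of_isPrime_of_isPrime (lt_of_le_of_ne hle hne)
    have h3 : q.height < 1 := lt_of_lt_of_le h2 h1
    exact absurd hq1 (not_le.mpr h3)
  have : (I.comap (Ideal.Quotient.mk q)).IsMaximal := by rw [hmax]; infer_instance
  have hmap : I = (I.comap (Ideal.Quotient.mk q)).map (Ideal.Quotient.mk q) :=
    (Ideal.map_comap_of_surjective _ Ideal.Quotient.mk_surjective I).symm
  rw [hmap]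
  exact (Ideal.map_eq_top_or_isMaximal_of_surjective _ Ideal.Quotient.mk_surjective this).resolve_left
    (by rw [← hmap]; exact hI.ne_top)

theorem pow_le_It (q : Ideal R) [hq : q.IsPrime] [Ring.KrullDimLE 1 (Localization.AtPrime q)]
    (t : R) (ht : t ∈ nonZeroDivisors R) : ∃ n : ℕ, q ^ n ≤ It q t := by
  have ht' : algebraMap R (Localization.AtPrime q) t ∈ nonZeroDivisors (Localization.AtPrime q) :=
    IsLocalization.map_nonZeroDivisors_le q.primeCompl _ (Submonoid.mem_map_of_mem _ ht)
  obtain ⟨n, hn⟩ := exists_pow_le_span _ ht'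
  refine ⟨n, fun r hr => ?_⟩
  unfold It
  rw [Ideal.mem_comap]
  apply hn
  rw [← Localization.AtPrime.map_eq_maximalIdeal, ← Ideal.map_pow]
  exact Ideal.mem_map_of_mem _ hr

/-- the key lemma when `a`, `b` are factorized at every height one prime containing `a b` -/
theorem good_case (hR : ringKrullDim R = 2) (a b : R) (ha : a ∈ nonZeroDivisors R)
    (hb : b ∈ nonZeroDivisors R)
    (hfac : ∀ p : PrimeSpectrum R, p.asIdeal.height = 1 → a * b ∈ p.asIdeal →
      ∃ (π : Localization.AtPrime p.asIdeal) (u v : (Localization.AtPrime p.asIdeal)ˣ) (e f : ℕ),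
        π ∈ nonZeroDivisors (Localization.AtPrime p.asIdeal) ∧
        algebraMap R (Localization.AtPrime p.asIdeal) a = (u : Localization.AtPrime p.asIdeal) * π ^ e ∧
        algebraMap R (Localization.AtPrime p.asIdeal) b = (v : Localization.AtPrime p.asIdeal) * π ^ f) :
    ∑ᶠ (p : PrimeSpectrum R) (_ : p.asIdeal.height = 1),
      CycAlg.ordFrac (R ⧸ p.asIdeal) p.asIdeal.ResidueField
        (CycAlg.tameSymbol (Localization.AtPrime p.asIdeal)
          (algebraMap R (Localization.AtPrime p.asIdeal) a)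
          (algebraMap R (Localization.AtPrime p.asIdeal) b)) = 0 := by
  classical
  have ht : a * b ∈ nonZeroDivisors R := mul_mem ha hb
  set F : PrimeSpectrum R → ℤ := fun p => CycAlg.ordFrac (R ⧸ p.asIdeal) p.asIdeal.ResidueField
    (CycAlg.tameSymbol (Localization.AtPrime p.asIdeal)
      (algebraMap R (Localization.AtPrime p.asIdeal) a)
      (algebraMap R (Localization.AtPrime p.asIdeal) b)) with hF
  set Q : Set (PrimeSpectrum R) := {p | p.asIdeal.height = 1 ∧ a * b ∈ p.asIdeal} with hQ
  have hQfin : Q.Finite := by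
    have h1 : ((Ideal.span {a * b}).minimalPrimes).Finite :=
      Ideal.finite_minimalPrimes_of_isNoetherianRing R _
    have h2 : Q ⊆ PrimeSpectrum.asIdeal ⁻¹' (Ideal.span {a * b}).minimalPrimes := by
      rintro p ⟨hp1, hp2⟩
      haveI := p.2
      haveI : p.asIdeal.FiniteHeight := ⟨Or.inr (by rw [hp1]; exact ENat.one_ne_top)⟩
      apply Ideal.mem_minimalPrimes_of_height_le
        ((Ideal.span_singleton_le_iff_mem _).mpr hp2)
      rw [hp1]
      exact Ideal.one_le_height_span_singleton_of_mem_nonZeroDivisors ht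
    exact (h1.preimage (fun x _ y _ h => PrimeSpectrum.ext h)).subset h2
  have hzero : ∀ p : PrimeSpectrum R, p.asIdeal.height = 1 → a * b ∉ p.asIdeal → F p = 0 := by
    intro p hp1 hp2
    haveI := p.2
    haveI : Ring.KrullDimLE 1 (R ⧸ p.asIdeal) := krullDimLE_one_quotient hR p.asIdeal hp1.ge
    have hau : IsUnit (algebraMap R (Localization.AtPrime p.asIdeal) a) :=
      (IsLocalization.AtPrime.isUnit_to_map_iff _ p.asIdeal a).mpr
        (fun h => hp2 (Ideal.mul_mem_right _ _ h))
    have hbu : IsUnit (algebraMap R (Localization.AtPrime p.asIdeal) b) :=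
      (IsLocalization.AtPrime.isUnit_to_map_iff _ p.asIdeal b).mpr
        (fun h => hp2 (Ideal.mul_mem_left _ _ h))
    show CycAlg.ordFrac _ _ _ = 0
    rw [tameSymbol_of_isUnit hau hbu]
    exact oq_one p.asIdeal
  have hsum1 : (∑ᶠ (p : PrimeSpectrum R) (_ : p.asIdeal.height = 1), F p) =
      ∑ᶠ (p : PrimeSpectrum R) (_ : p ∈ Q), F p := by
    show (∑ᶠ (p : PrimeSpectrum R) (_ : p ∈ {p : PrimeSpectrum R | p.asIdeal.height = 1}), F p) = _
    apply finsum_mem_inter_support_eq'
    intro p hp
    constructor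
    · intro h1
      refine ⟨h1, ?_⟩
      by_contra h2
      exact hp (hzero p h1 h2)
    · intro h
      exact h.1
  rw [hsum1]
  haveI : Fintype ↥Q := hQfin.fintype
  rw [← finsum_set_coe_eq_finsum_mem, finsum_eq_sum_of_fintype]
  -- the family of primes
  let q : ↥Q → Ideal R := fun j => j.1.asIdeal
  haveI hqp : ∀ j, (q j).IsPrime := fun j => j.1.2
  have hq1 : ∀ j, (q j).height = 1 := fun j => j.2.1
  have htq : ∀ j, a * b ∈ q j := fun j => j.2.2
  have hmh : (maximalIdeal R).height = 2 := by
    have h2 : ((maximalIdeal R).height : WithBot ℕ∞) = 2 := by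
      rw [IsLocalRing.maximalIdeal_height_eq_ringKrullDim, hR]
    have : ((maximalIdeal R).height : WithBot ℕ∞) = ((2 : ℕ∞) : WithBot ℕ∞) := h2
    exact WithBot.coe_injective this
  have hqm : ∀ j, q j ≠ maximalIdeal R := by
    intro j h
    have := hq1 j
    rw [h, hmh] at this
    norm_num at this
  have hinj : Function.Injective q := fun j k h => Subtype.ext (PrimeSpectrum.ext h)
  have hdimS : ∀ j, ringKrullDim (Localization.AtPrime (q j)) = 1 := by
    intro j
    rw [IsLocalization.AtPrime.ringKrullDim_eq_height (q j) (Localization.AtPrime (q j)), hq1 j]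
    rfl
  haveI hKS : ∀ j, Ring.KrullDimLE 1 (Localization.AtPrime (q j)) := fun j => by
    rw [Ring.KrullDimLE, Order.krullDimLE_iff]
    exact (hdimS j).le
  haveI hKQ : ∀ j, Ring.KrullDimLE 1 (R ⧸ q j) := fun j =>
    krullDimLE_one_quotient hR (q j) (hq1 j).ge
  have hex : ∀ j, Ex1836 (Localization.AtPrime (q j)) := fun j r hr x hx hna =>
    Groth.Agent.S1836.result _ (hdimS j) r hr x hx hna
  have hall : ∀ p : Ideal R, p.IsPrime → a * b ∈ p → p = maximalIdeal R ∨ ∃ j, p = q j := by
    intro p hp htp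
    by_cases hpm : p = maximalIdeal R
    · exact Or.inl hpm
    · right
      have h1 := height_le_one_of_ne hR p hpm
      have h2 := one_le_height_of_mem ht p htp
      exact ⟨⟨⟨p, hp⟩, ⟨le_antisymm h1 h2, htp⟩⟩, rfl⟩
  have hV : ∀ j, ∀ p : Ideal R, p.IsPrime → It (q j) (a * b) ≤ p →
      p = q j ∨ p = maximalIdeal R := by
    intro j p hp hle
    by_cases hpm : p = maximalIdeal R
    · exact Or.inr hpm
    · left
      obtain ⟨n, hn⟩ := pow_le_It (q j) (a * b) ht
      have hqp' : q j ≤ p := Ideal.IsPrime.le_of_pow_le (hn.trans hle)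
      by_contra hne
      exact not_le_of_ne hR ht (q j) p hpm (htq j) (fun h => hne h.symm) hqp'
  choose π u v e f hπ hfa hfb using fun j : ↥Q => hfac j.1 j.2.1 j.2.2
  choose π' u' s v' s' hπ' hu' hs hv' hs' hfa' hfb' hoq using fun j : ↥Q =>
    oq_tameSymbol_eq (q j) (hex j) a b (π j) (hπ j) (u j) (v j) (e j) (f j) (hfa j) (hfb j)
  have hef : ∀ j, 0 < e j + f j := by
    intro j
    by_contra h0
    have he : e j = 0 := by omega
    have hf : f j = 0 := by omega
    have h1 := hfa j
    have h2 := hfb j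
    rw [he, pow_zero, mul_one] at h1
    rw [hf, pow_zero, mul_one] at h2
    have h3 : IsUnit (algebraMap R (Localization.AtPrime (q j)) (a * b)) := by
      rw [map_mul, h1, h2]
      exact (u j).isUnit.mul (v j).isUnit
    exact (IsLocalization.AtPrime.isUnit_to_map_iff _ (q j) (a * b)).mp h3 (htq j)
  have hcore := core q a b hall ha hb hqm hinj hV π' u' s v' s' e f hef hπ' hu' hs hv' hs' hfa' hfb'
  have hFj : ∀ j : ↥Q, F j.1 = oq (q j) (CycAlg.tameSymbol (Localization.AtPrime (q j))
      (algebraMap R (Localization.AtPrime (q j)) a)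
      (algebraMap R (Localization.AtPrime (q j)) b)) := fun j => rfl
  rw [Finset.sum_congr rfl (fun j _ => (hFj j).trans (hoq j)), Finset.sum_neg_distrib, hcore,
    neg_zero]

end Groth.Agent.Lib.Seat9.KeyG
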