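import Mathlib
import Groth.Prelude.Def_CycAlg
import Groth.Prelude.Def_Tame
import Groth.Agent.Lib.Seat9KeyF
import Groth.Agent.S14503

/-!
# Key lemma for tame symbols (seat 9), part I

The order of a norm: for a finite local extension `A ⊆ C` with trivial residue field extension and a
prime `q'` of `C` over `q`, `ord_{A/q}(Norm_{κ(q')/κ(q)} y) = ord_{C/q'}(y)`.
-/

set_option autoImplicit false
set_option linter.unusedSectionVars false
universe u v

namespace Groth.Agent.Lib.Seat9.KeyI

open IsLocalRing CycAlg Groth.Agent.Lib.Seat9.KeyC Groth.Agent.Lib.Seat9.KeyF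
  Groth.Agent.Lib.Seat9.Lat

section oqmap

variable {R : Type u} [CommRing R] (q : Ideal R) [hq : q.IsPrime] [IsNoetherianRing R]
  [hdim : Ring.KrullDimLE 1 (R ⧸ q)]

theorem lamZ_one : lamZ q 1 = 0 := by
  unfold lamZ
  simp

theorem oq_algebraMap (c : R) (hc : c ∉ q) :
    oq q (algebraMap R q.ResidueField c) = lamZ q c := by
  have hu : IsUnit (algebraMap R (Localization.AtPrime q) c) :=
    IsLocalization.map_units (Localization.AtPrime q) (⟨c, hc⟩ : q.primeCompl)
  have h1 := oq_residue q hu.unit c 1 (fun h => hq.ne_top ((Ideal.eq_top_iff_one _).mpr h))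
    (by rw [map_one, one_mul]; rfl)
  rw [← lamZ_eq, ← lamZ_eq, lamZ_one, sub_zero] at h1
  rw [← h1]
  rfl

/-- every nonzero element of the residue field is a quotient -/
theorem exists_div_eq (y : q.ResidueField) (hy : y ≠ 0) : ∃ c d : R, c ∉ q ∧ d ∉ q ∧
    algebraMap R q.ResidueField d * y = algebraMap R q.ResidueField c := by
  obtain ⟨z, rfl⟩ := IsLocalRing.residue_surjective y
  have hz : IsUnit z := by
    by_contra h
    exact hy ((IsLocalRing.residue_eq_zero_iff z).mpr ((IsLocalRing.mem_maximalIdeal z).mpr h))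
  obtain ⟨c, d, hd, hcd⟩ := exists_clear q (S := Localization.AtPrime q) z
  have hc : c ∉ q := by
    apply (IsLocalization.AtPrime.isUnit_to_map_iff (Localization.AtPrime q) q c).mp
    rw [← hcd]
    exact (IsLocalization.map_units (Localization.AtPrime q) (⟨d, hd⟩ : q.primeCompl)).mul hz
  refine ⟨c, d, hc, hd, ?_⟩
  have := congrArg (IsLocalRing.residue (Localization.AtPrime q)) hcd
  rw [map_mul] at this
  exact this

theorem oq_of_div (y : q.ResidueField) (c d : R) (hc : c ∉ q) (hd : d ∉ q)
    (h : algebraMap R q.ResidueField d * y = algebraMap R q.ResidueField c) :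
    oq q y = lamZ q c - lamZ q d := by
  have hd0 : algebraMap R q.ResidueField d ≠ 0 := by
    intro h0
    exact hd (Ideal.algebraMap_residueField_eq_zero.mp h0)
  have hc0 : algebraMap R q.ResidueField c ≠ 0 := by
    intro h0
    exact hc (Ideal.algebraMap_residueField_eq_zero.mp h0)
  have hy0 : y ≠ 0 := by
    intro h0
    rw [h0, mul_zero] at h
    exact hc0 h.symm
  have h1 := oq_mul q _ _ hd0 hy0
  rw [h, oq_algebraMap q c hc, oq_algebraMap q d hd] at h1
  linarith

end oqmap

section norm

variable {A : Type u} [CommRing A] [IsNoetherianRing A] [IsLocalRing A]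
  {C : Type u} [CommRing C] [IsLocalRing C] [Algebra A C] [Module.Finite A C]
  [IsLocalHom (algebraMap A C)]
  (hres : ∀ c : C, ∃ x : A, c - algebraMap A C x ∈ maximalIdeal C)

include hres in
theorem length_residue_eq_one :
    Module.length (ResidueField A) (ResidueField C) = 1 := by
  have hsurj : Function.Surjective (algebraMap (ResidueField A) (ResidueField C)) := by
    intro z
    obtain ⟨c, rfl⟩ := IsLocalRing.residue_surjective z
    obtain ⟨x, hx⟩ := hres c
    refine ⟨IsLocalRing.residue A x, ?_⟩
    rw [IsLocalRing.ResidueField.algebraMap_residue]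
    symm
    rw [← sub_eq_zero, ← map_sub]
    exact (IsLocalRing.residue_eq_zero_iff _).mpr hx
  have hbij : Function.Bijective (Algebra.linearMap (ResidueField A) (ResidueField C)) :=
    ⟨(algebraMap (ResidueField A) (ResidueField C)).injective, hsurj⟩
  rw [← (LinearEquiv.ofBijective _ hbij).length_eq]
  exact Module.length_eq_one _ _

include hres in
theorem length_eq_of_res (T : Type*) [AddCommGroup T] [Module A T] [Module C T]
    [IsScalarTower A C T] : Module.length A T = Module.length C T := by
  rw [IsLocalRing.length_restrictScalars A C T, length_residue_eq_one hres, mul_one]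

variable (q : Ideal A) [hq : q.IsPrime] (q' : Ideal C) [hq' : q'.IsPrime] [hlo : q'.LiesOver q]
  [Algebra (Localization.AtPrime q) (Localization.AtPrime q')]
  [Localization.AtPrime.IsLiesOverAlgebra q q']

theorem ringKrullDim_quotient_eq_one (hqm : q ≠ maximalIdeal A) [Ring.KrullDimLE 1 (A ⧸ q)] :
    ringKrullDim (A ⧸ q) = 1 := by
  have h1 : ringKrullDim (A ⧸ q) ≤ 1 := Ring.krullDimLE_iff.mp inferInstance
  have h2 : ¬ ringKrullDim (A ⧸ q) ≤ 0 := by
    intro h
    haveI : Ring.KrullDimLE 0 (A ⧸ q) := Ring.krullDimLE_iff.mpr h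
    have hf : IsField (A ⧸ q) := Ring.KrullDimLE.isField_of_isDomain
    have := Ideal.Quotient.maximal_of_isField q hf
    exact hqm (IsLocalRing.eq_maximalIdeal this)
  exact le_antisymm h1 (Order.succ_le_of_lt (lt_of_not_ge h2))

include hres in
/-- the order of the norm of an element of `C` -/
theorem oq_norm_algebraMap (hqm : q ≠ maximalIdeal A) [Ring.KrullDimLE 1 (A ⧸ q)]
    [FiniteDimensional q.ResidueField q'.ResidueField] (c : C) (hc : c ∉ q') :
    oq q (Algebra.norm q.ResidueField (algebraMap C q'.ResidueField c)) = lamZ q' c := by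
  haveI : IsNoetherianRing C := IsNoetherianRing.of_finite A C
  letI algAL : Algebra (A ⧸ q) q'.ResidueField :=
    ((algebraMap (C ⧸ q') q'.ResidueField).comp (algebraMap (A ⧸ q) (C ⧸ q'))).toAlgebra
  haveI tow1 : IsScalarTower (A ⧸ q) (C ⧸ q') q'.ResidueField :=
    IsScalarTower.of_algebraMap_eq (fun _ => rfl)
  haveI tow2 : IsScalarTower (A ⧸ q) q.ResidueField q'.ResidueField := by
    refine IsScalarTower.of_algebraMap_eq (fun x => ?_)
    obtain ⟨a, rfl⟩ := Ideal.Quotient.mk_surjective x
    show algebraMap (C ⧸ q') q'.ResidueField (algebraMap (A ⧸ q) (C ⧸ q') (Ideal.Quotient.mk q a)) =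
      algebraMap q.ResidueField q'.ResidueField
        (algebraMap (A ⧸ q) q.ResidueField (Ideal.Quotient.mk q a))
    rw [Ideal.Quotient.algebraMap_mk_of_liesOver, Ideal.algebraMap_quotient_residueField_mk,
      Ideal.algebraMap_quotient_residueField_mk,
      IsScalarTower.algebraMap_apply A (Localization.AtPrime q) q.ResidueField,
      IsScalarTower.algebraMap_apply C (Localization.AtPrime q') q'.ResidueField,
      IsLocalRing.ResidueField.algebraMap_eq, IsLocalRing.ResidueField.algebraMap_eq,
      IsLocalRing.ResidueField.algebraMap_residue,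
      ← IsScalarTower.algebraMap_apply A (Localization.AtPrime q) (Localization.AtPrime q'),
      ← IsScalarTower.algebraMap_apply A C (Localization.AtPrime q')]
  haveI : Module.Finite (A ⧸ q) (C ⧸ q') :=
    Module.Finite.of_restrictScalars_finite A (A ⧸ q) (C ⧸ q')
  have hinj : Function.Injective (algebraMap (A ⧸ q) (C ⧸ q')) :=
    FaithfulSMul.algebraMap_injective _ _
  have hr : Ideal.Quotient.mk q' c ≠ 0 := fun h => hc (Ideal.Quotient.eq_zero_iff_mem.mp h)
  haveI : IsLocalRing (A ⧸ q) :=
    IsLocalRing.of_surjective' (Ideal.Quotient.mk q) Ideal.Quotient.mk_surjective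
  obtain ⟨-, h2⟩ := Groth.Agent.S14503.result (A ⧸ q) (ringKrullDim_quotient_eq_one q hqm)
    (C ⧸ q') hinj q.ResidueField q'.ResidueField (Ideal.Quotient.mk q' c) hr
  have h3 : algebraMap (C ⧸ q') q'.ResidueField (Ideal.Quotient.mk q' c) =
      algebraMap C q'.ResidueField c := Ideal.algebraMap_quotient_residueField_mk q' c
  rw [h3] at h2
  show CycAlg.ordFrac (A ⧸ q) q.ResidueField _ = _
  rw [← h2]
  unfold lamZ Ring.ord
  congr 2
  rw [← Module.length_eq_of_surjective (S := A) (R := A ⧸ q) Ideal.Quotient.mk_surjective,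
    length_eq_of_res hres,
    Module.length_eq_of_surjective (S := C) (R := C ⧸ q') Ideal.Quotient.mk_surjective]

include hres in
/-- the order of a norm -/
theorem oq_norm (hqm : q ≠ maximalIdeal A) [Ring.KrullDimLE 1 (A ⧸ q)]
    [Ring.KrullDimLE 1 (C ⧸ q')]
    [FiniteDimensional q.ResidueField q'.ResidueField] (y : q'.ResidueField) (hy : y ≠ 0) :
    oq q (Algebra.norm q.ResidueField y) = oq q' y := by
  haveI : IsNoetherianRing C := IsNoetherianRing.of_finite A C
  obtain ⟨c, d, hc, hd, hcd⟩ := exists_div_eq q' y hy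
  rw [oq_of_div q' y c d hc hd hcd]
  have h1 := congrArg (Algebra.norm q.ResidueField) hcd
  rw [map_mul] at h1
  have hd0 : algebraMap C q'.ResidueField d ≠ 0 := by
    intro h0
    exact hd (Ideal.algebraMap_residueField_eq_zero.mp h0)
  have hn1 : Algebra.norm q.ResidueField (algebraMap C q'.ResidueField d) ≠ 0 :=
    Algebra.norm_ne_zero_iff.mpr hd0
  have hn2 : Algebra.norm q.ResidueField y ≠ 0 := Algebra.norm_ne_zero_iff.mpr hy
  have h2 := oq_mul q _ _ hn1 hn2
  rw [h1, oq_norm_algebraMap hres q q' hqm c hc, oq_norm_algebraMap hres q q' hqm d hd] at h2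
  linarith

end norm

end Groth.Agent.Lib.Seat9.KeyI
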