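import Mathlib
import Groth.Prelude.Def_CycAlg
import Groth.Prelude.Def_Tame
import Groth.Agent.Lib.Seat9KeyI
import Groth.Agent.Lib.Seat9NormA
import Groth.Agent.S1836

/-!
# Key lemma for tame symbols (seat 9), part J

Transfer at one maximal ideal `n'` of `B = C_q`: the local ring of `C` at `q' = n' ∩ C` is the local
ring of `B` at `n'`, and the order of the local factor is the order of the tame symbol of `C_{q'}`.
-/

set_option autoImplicit false
set_option linter.unusedSectionVars false
universe u v

namespace Groth.Agent.Lib.Seat9.KeyJ

open IsLocalRing CycAlg Groth.Agent.Lib.Seat9.KeyC Groth.Agent.Lib.Seat9.KeyF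
  Groth.Agent.Lib.Seat9.KeyI Groth.Agent.Lib.Seat9.Lat Groth.Agent.Lib.Seat9.Tame

variable {A : Type u} [CommRing A] [IsLocalRing A]
  {C : Type u} [CommRing C] [Algebra A C]
  (q : Ideal A) [hq : q.IsPrime]
  {B : Type u} [CommRing B] [Algebra (Localization.AtPrime q) B] [Algebra C B]
  (hcomm : ∀ x : A, algebraMap C B (algebraMap A C x) =
    algebraMap (Localization.AtPrime q) B (algebraMap A (Localization.AtPrime q) x))
  [hloc : IsLocalization (Algebra.algebraMapSubmonoid C q.primeCompl) B]
  [hfin : Module.Finite (Localization.AtPrime q) B]
  (n' : Ideal B) [hn' : n'.IsMaximal]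

include hcomm in
/-- the contraction of `n'` to `C` lies over `q` -/
theorem liesOver_comap : (n'.comap (algebraMap C B)).LiesOver q := by
  constructor
  ext x
  rw [Ideal.under_def, Ideal.mem_comap, Ideal.mem_comap, hcomm, ← Ideal.mem_comap,
    Groth.Agent.Lib.Helper4.Branches.comap_eq_maximalIdeal n',
    IsLocalization.AtPrime.to_map_mem_maximal_iff (Localization.AtPrime q) q]

variable (C) in
/-- `C_{q'} ≃ B_{n'}` -/
noncomputable def psi : Localization.AtPrime (n'.comap (algebraMap C B)) ≃ₐ[C]
    Localization.AtPrime n' :=
  haveI : IsLocalization.AtPrime (Localization.AtPrime n') (n'.comap (algebraMap C B)) :=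
    IsLocalization.isLocalization_isLocalization_atPrime_isLocalization
      (Algebra.algebraMapSubmonoid C q.primeCompl) (Localization.AtPrime n') n'
  IsLocalization.algEquiv (n'.comap (algebraMap C B)).primeCompl _ _

theorem psi_algebraMap (c : C) :
    psi C q n' (algebraMap C (Localization.AtPrime (n'.comap (algebraMap C B))) c) =
      algebraMap B (Localization.AtPrime n') (algebraMap C B c) := by
  rw [AlgEquiv.commutes, ← IsScalarTower.algebraMap_apply]

section transfer

variable [hlo : (n'.comap (algebraMap C B)).LiesOver q]
  [Algebra (Localization.AtPrime q) (Localization.AtPrime (n'.comap (algebraMap C B)))]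
  [Localization.AtPrime.IsLiesOverAlgebra q (n'.comap (algebraMap C B))]
  [hlh : IsLocalHom (algebraMap (Localization.AtPrime q) (Localization.AtPrime n'))]

include hcomm in
theorem psi_algebraMap_loc (s : Localization.AtPrime q) :
    psi C q n' (algebraMap (Localization.AtPrime q)
      (Localization.AtPrime (n'.comap (algebraMap C B))) s) =
      algebraMap (Localization.AtPrime q) (Localization.AtPrime n') s := by
  have h : ((psi C q n' : Localization.AtPrime (n'.comap (algebraMap C B)) →+*
      Localization.AtPrime n')).comp (algebraMap (Localization.AtPrime q)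
        (Localization.AtPrime (n'.comap (algebraMap C B)))) =
      algebraMap (Localization.AtPrime q) (Localization.AtPrime n') := by
    apply IsLocalization.ringHom_ext q.primeCompl
    ext x
    simp only [RingHom.comp_apply]
    rw [← IsScalarTower.algebraMap_apply A (Localization.AtPrime q)
        (Localization.AtPrime (n'.comap (algebraMap C B))),
      IsScalarTower.algebraMap_apply A C (Localization.AtPrime (n'.comap (algebraMap C B)))]
    show psi C q n' _ = _
    rw [psi_algebraMap, hcomm, ← IsScalarTower.algebraMap_apply (Localization.AtPrime q) B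
      (Localization.AtPrime n')]
  exact congrFun (congrArg DFunLike.coe h) s

variable (C) in
/-- the induced isomorphism of residue fields -/
noncomputable def psiBar : ResidueField (Localization.AtPrime (n'.comap (algebraMap C B))) ≃+*
    ResidueField (Localization.AtPrime n') :=
  IsLocalRing.ResidueField.mapEquiv (psi C q n').toRingEquiv

theorem psiBar_symm_residue (z : Localization.AtPrime n') :
    (psiBar C q n').symm (residue _ z) = residue _ ((psi C q n').symm z) := rfl

include hcomm in
theorem psiBar_symm_algebraMap (k : q.ResidueField) :
    (psiBar C q n').symm (algebraMap q.ResidueField (ResidueField (Localization.AtPrime n')) k) =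
      algebraMap q.ResidueField (n'.comap (algebraMap C B)).ResidueField k := by
  obtain ⟨s, rfl⟩ := IsLocalRing.residue_surjective k
  rw [IsLocalRing.ResidueField.algebraMap_residue, psiBar_symm_residue]
  show residue _ _ = residue _ _
  congr 1
  rw [AlgEquiv.symm_apply_eq]
  exact (psi_algebraMap_loc q hcomm n' s).symm

include hcomm in
theorem norm_eq_norm_psiBar (y : ResidueField (Localization.AtPrime n')) :
    Algebra.norm q.ResidueField y =
      Algebra.norm q.ResidueField
        (((psiBar C q n').symm y : (n'.comap (algebraMap C B)).ResidueField)) := by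
  have he : RingHom.comp (algebraMap q.ResidueField (n'.comap (algebraMap C B)).ResidueField)
      ((RingEquiv.refl q.ResidueField : q.ResidueField ≃+* q.ResidueField) :
        q.ResidueField →+* q.ResidueField) =
      RingHom.comp (((psiBar C q n').symm : ResidueField (Localization.AtPrime n') ≃+*
        (n'.comap (algebraMap C B)).ResidueField) : ResidueField (Localization.AtPrime n') →+* _)
        (algebraMap q.ResidueField (ResidueField (Localization.AtPrime n'))) := by
    refine RingHom.ext fun k => ?_
    exact (psiBar_symm_algebraMap q hcomm n' k).symm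
  have := Algebra.norm_eq_of_equiv_equiv (RingEquiv.refl q.ResidueField) (psiBar C q n').symm he y
  rw [this]
  rfl

include hcomm in
theorem finite_residue_comap :
    FiniteDimensional q.ResidueField (n'.comap (algebraMap C B)).ResidueField := by
  haveI h1 : Module.Finite q.ResidueField (ResidueField (Localization.AtPrime n')) :=
    finite_residue_A (A := Localization.AtPrime q) B ⟨n', hn'⟩
  let g : ResidueField (Localization.AtPrime n') →ₗ[q.ResidueField]
      (n'.comap (algebraMap C B)).ResidueField :=
    { toFun := (psiBar C q n').symm
      map_add' := map_add _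
      map_smul' := fun k y => by
        simp only [Algebra.smul_def, map_mul, RingHom.id_apply]
        rw [psiBar_symm_algebraMap q hcomm n' k] }
  exact Module.Finite.of_surjective g (psiBar C q n').symm.surjective

end transfer

section fac

include hcomm in
/-- transport of a factorization from `B_{n'}` to `C_{q'}` -/
theorem fac_transport (a : A) (π : Localization.AtPrime n') (u : (Localization.AtPrime n')ˣ) (e : ℕ)
    (hfa : algebraMap (Localization.AtPrime q) (Localization.AtPrime n')
      (algebraMap A (Localization.AtPrime q) a) = (u : Localization.AtPrime n') * π ^ e) :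
    algebraMap C (Localization.AtPrime (n'.comap (algebraMap C B))) (algebraMap A C a) =
      ((Units.mapEquiv (psi C q n').symm.toRingEquiv.toMulEquiv u :
        (Localization.AtPrime (n'.comap (algebraMap C B)))ˣ) :
          Localization.AtPrime (n'.comap (algebraMap C B))) * ((psi C q n').symm π) ^ e := by
  have h1 : psi C q n' (algebraMap C (Localization.AtPrime (n'.comap (algebraMap C B)))
      (algebraMap A C a)) = (u : Localization.AtPrime n') * π ^ e := by
    rw [psi_algebraMap, hcomm, ← IsScalarTower.algebraMap_apply (Localization.AtPrime q) B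
      (Localization.AtPrime n'), hfa]
  have h2 := congrArg (psi C q n').symm h1
  rw [AlgEquiv.symm_apply_apply, map_mul, map_pow] at h2
  rw [h2]
  rfl

theorem nzd_transport (π : Localization.AtPrime n')
    (hπ : π ∈ nonZeroDivisors (Localization.AtPrime n')) :
    (psi C q n').symm π ∈ nonZeroDivisors (Localization.AtPrime (n'.comap (algebraMap C B))) := by
  rw [mem_nonZeroDivisors_iff_right]
  intro z hz
  have h1 := congrArg (psi C q n') hz
  rw [map_mul, AlgEquiv.apply_symm_apply, map_zero] at h1
  have h2 := (mem_nonZeroDivisors_iff_right.mp hπ) _ h1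
  exact (map_eq_zero_iff _ (psi C q n').injective).mp h2

include hcomm in
/-- the hypothesis of the good case holds at `q'` -/
theorem exists_fac_transport (a b : A)
    (hfac : ∃ (π : Localization.AtPrime n') (u v : (Localization.AtPrime n')ˣ) (e f : ℕ),
      π ∈ nonZeroDivisors (Localization.AtPrime n') ∧
      algebraMap (Localization.AtPrime q) (Localization.AtPrime n')
        (algebraMap A (Localization.AtPrime q) a) = (u : Localization.AtPrime n') * π ^ e ∧
      algebraMap (Localization.AtPrime q) (Localization.AtPrime n')
        (algebraMap A (Localization.AtPrime q) b) = (v : Localization.AtPrime n') * π ^ f) :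
    ∃ (π : Localization.AtPrime (n'.comap (algebraMap C B)))
      (u v : (Localization.AtPrime (n'.comap (algebraMap C B)))ˣ) (e f : ℕ),
      π ∈ nonZeroDivisors (Localization.AtPrime (n'.comap (algebraMap C B))) ∧
      algebraMap C (Localization.AtPrime (n'.comap (algebraMap C B))) (algebraMap A C a) =
        (u : Localization.AtPrime (n'.comap (algebraMap C B))) * π ^ e ∧
      algebraMap C (Localization.AtPrime (n'.comap (algebraMap C B))) (algebraMap A C b) =
        (v : Localization.AtPrime (n'.comap (algebraMap C B))) * π ^ f := by
  obtain ⟨π, u, v, e, f, hπ, hfa, hfb⟩ := hfac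
  exact ⟨(psi C q n').symm π, _, _, e, f, nzd_transport q n' π hπ,
    fac_transport q hcomm n' a π u e hfa, fac_transport q hcomm n' b π v f hfb⟩

end fac

section main

variable [IsNoetherianRing A] [IsLocalRing C] [Module.Finite A C] [IsLocalHom (algebraMap A C)]
  (hres : ∀ c : C, ∃ x : A, c - algebraMap A C x ∈ maximalIdeal C)
  [hlo : (n'.comap (algebraMap C B)).LiesOver q]
  [Algebra (Localization.AtPrime q) (Localization.AtPrime (n'.comap (algebraMap C B)))]
  [Localization.AtPrime.IsLiesOverAlgebra q (n'.comap (algebraMap C B))]
  [hlh : IsLocalHom (algebraMap (Localization.AtPrime q) (Localization.AtPrime n'))]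

include hcomm hres in
/-- the order of the local factor at `n'` is the order of the tame symbol of `C_{q'}` -/
theorem oq_localFactor_eq (hqm : q ≠ maximalIdeal A) [Ring.KrullDimLE 1 (A ⧸ q)]
    [Ring.KrullDimLE 1 (C ⧸ n'.comap (algebraMap C B))]
    (hCq : ringKrullDim (Localization.AtPrime (n'.comap (algebraMap C B))) = 1)
    (a b : A) (π : Localization.AtPrime n')
    (hπ : π ∈ nonZeroDivisors (Localization.AtPrime n')) (u v : (Localization.AtPrime n')ˣ)
    (e f : ℕ)
    (hfa : algebraMap (Localization.AtPrime q) (Localization.AtPrime n')
      (algebraMap A (Localization.AtPrime q) a) = (u : Localization.AtPrime n') * π ^ e)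
    (hfb : algebraMap (Localization.AtPrime q) (Localization.AtPrime n')
      (algebraMap A (Localization.AtPrime q) b) = (v : Localization.AtPrime n') * π ^ f) :
    oq q ((Algebra.norm q.ResidueField
      ((-1 : ResidueField (Localization.AtPrime n')) ^ (e * f) *
        residue (Localization.AtPrime n') (u : Localization.AtPrime n') ^ f *
        (residue (Localization.AtPrime n') (v : Localization.AtPrime n') ^ e)⁻¹)) ^
          (Ring.ord (Localization.AtPrime n') π).toNat) =
      oq (n'.comap (algebraMap C B))
        (tameSymbol (Localization.AtPrime (n'.comap (algebraMap C B)))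
          (algebraMap C (Localization.AtPrime (n'.comap (algebraMap C B))) (algebraMap A C a))
          (algebraMap C (Localization.AtPrime (n'.comap (algebraMap C B))) (algebraMap A C b))) := by
  haveI : IsNoetherianRing C := IsNoetherianRing.of_finite A C
  haveI : Ring.KrullDimLE 1 (Localization.AtPrime (n'.comap (algebraMap C B))) := by
    rw [Ring.KrullDimLE, Order.krullDimLE_iff]
    exact hCq.le
  haveI := finite_residue_comap (C := C) q hcomm n'
  have hex : Ex1836 (Localization.AtPrime (n'.comap (algebraMap C B))) := fun r hr x hx hna =>
    Groth.Agent.S1836.result _ hCq r hr x hx hna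
  set sym := (-1 : ResidueField (Localization.AtPrime n')) ^ (e * f) *
    residue (Localization.AtPrime n') (u : Localization.AtPrime n') ^ f *
    (residue (Localization.AtPrime n') (v : Localization.AtPrime n') ^ e)⁻¹ with hsym
  have hu0 : residue (Localization.AtPrime n') (u : Localization.AtPrime n') ≠ 0 :=
    residue_unit_ne_zero u
  have hv0 : residue (Localization.AtPrime n') (v : Localization.AtPrime n') ≠ 0 :=
    residue_unit_ne_zero v
  have hsym0 : sym ≠ 0 :=
    mul_ne_zero (mul_ne_zero (pow_ne_zero _ (neg_ne_zero.mpr one_ne_zero)) (pow_ne_zero _ hu0))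
      (inv_ne_zero (pow_ne_zero _ hv0))
  have hsym0' : ((psiBar C q n').symm sym : (n'.comap (algebraMap C B)).ResidueField) ≠ 0 :=
    (map_ne_zero_iff _ (psiBar C q n').symm.injective).mpr hsym0
  have hnorm0 : Algebra.norm q.ResidueField sym ≠ 0 := by
    rw [norm_eq_norm_psiBar q hcomm n' sym]
    exact Algebra.norm_ne_zero_iff.mpr hsym0'
  rw [oq_pow q _ hnorm0, norm_eq_norm_psiBar q hcomm n' sym,
    oq_norm hres q (n'.comap (algebraMap C B)) hqm _ hsym0',
    tameSymbol_of_fac hex _ _ ((psi C q n').symm π) (nzd_transport q n' π hπ) _ _ e f
      (fac_transport q hcomm n' a π u e hfa) (fac_transport q hcomm n' b π v f hfb)]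
  have hord : Ring.ord (Localization.AtPrime (n'.comap (algebraMap C B))) ((psi C q n').symm π) =
      Ring.ord (Localization.AtPrime n') π :=
    ord_ringEquiv (psi C q n').symm.toRingEquiv π
  have hsym' : ((psiBar C q n').symm sym : (n'.comap (algebraMap C B)).ResidueField) =
      (-1) ^ (e * f) *
        residue _ ((Units.mapEquiv (psi C q n').symm.toRingEquiv.toMulEquiv u :
          (Localization.AtPrime (n'.comap (algebraMap C B)))ˣ) :
            Localization.AtPrime (n'.comap (algebraMap C B))) ^ f *
        (residue _ ((Units.mapEquiv (psi C q n').symm.toRingEquiv.toMulEquiv v :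
          (Localization.AtPrime (n'.comap (algebraMap C B)))ˣ) :
            Localization.AtPrime (n'.comap (algebraMap C B))) ^ e)⁻¹ := by
    rw [hsym, map_mul, map_mul, map_pow, map_pow, map_inv₀, map_pow, map_neg, map_one,
      psiBar_symm_residue, psiBar_symm_residue]
    rfl
  rw [hord, ← hsym', oq_pow (n'.comap (algebraMap C B)) _ hsym0']

end main

end Groth.Agent.Lib.Seat9.KeyJ
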