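import Mathlib
import Groth.Prelude.Def_CycAlg
import Groth.Prelude.Def_Tame
import Groth.Agent.Lib.Seat9KeyG
import Groth.Agent.Lib.Seat9KeyJ
import Groth.Agent.Lib.Helper5IntDim

/-!
# Key lemma for tame symbols (seat 9), part K

The primes of the glued algebra `C` containing `t` and the transfer of the sum from `A` to `C`.
-/

set_option autoImplicit false
set_option linter.unusedSectionVars false
universe u v

namespace Groth.Agent.Lib.Seat9.KeyK

open IsLocalRing CycAlg Groth.Agent.Lib.Seat9.KeyC Groth.Agent.Lib.Seat9.KeyF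
  Groth.Agent.Lib.Seat9.KeyG Groth.Agent.Lib.Seat9.KeyI Groth.Agent.Lib.Seat9.KeyJ
  Groth.Agent.Lib.Seat9.Lat Groth.Agent.Lib.Seat9.Tame Groth.Agent.Lib.Seat9.GlueH1

section sums

variable {R : Type u} [CommRing R] [IsNoetherianRing R] [IsLocalRing R]

/-- the summand of the key lemma -/
noncomputable def FF (a b : R) (p : PrimeSpectrum R) : ℤ :=
  CycAlg.ordFrac (R ⧸ p.asIdeal) p.asIdeal.ResidueField
    (CycAlg.tameSymbol (Localization.AtPrime p.asIdeal)
      (algebraMap R (Localization.AtPrime p.asIdeal) a)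
      (algebraMap R (Localization.AtPrime p.asIdeal) b))

/-- the height one primes containing `t` -/
def QQ (t : R) : Set (PrimeSpectrum R) := {p | p.asIdeal.height = 1 ∧ t ∈ p.asIdeal}

theorem finite_QQ (t : R) (ht : t ∈ nonZeroDivisors R) : (QQ t).Finite := by
  have h1 : ((Ideal.span {t}).minimalPrimes).Finite :=
    Ideal.finite_minimalPrimes_of_isNoetherianRing R _
  have h2 : QQ t ⊆ PrimeSpectrum.asIdeal ⁻¹' (Ideal.span {t}).minimalPrimes := by
    rintro p ⟨hp1, hp2⟩
    haveI := p.2
    haveI : p.asIdeal.FiniteHeight := ⟨Or.inr (by rw [hp1]; exact ENat.one_ne_top)⟩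
    apply Ideal.mem_minimalPrimes_of_height_le
      ((Ideal.span_singleton_le_iff_mem _).mpr hp2)
    rw [hp1]
    exact Ideal.one_le_height_span_singleton_of_mem_nonZeroDivisors ht
  exact (h1.preimage (fun x _ y _ h => PrimeSpectrum.ext h)).subset h2

theorem FF_eq_zero (hR : ringKrullDim R = 2) (a b : R) (p : PrimeSpectrum R)
    (hp1 : p.asIdeal.height = 1) (hp2 : a * b ∉ p.asIdeal) : FF a b p = 0 := by
  haveI := p.2
  haveI : Ring.KrullDimLE 1 (R ⧸ p.asIdeal) := krullDimLE_one_quotient hR p.asIdeal hp1.ge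
  have hau : IsUnit (algebraMap R (Localization.AtPrime p.asIdeal) a) :=
    (IsLocalization.AtPrime.isUnit_to_map_iff _ p.asIdeal a).mpr
      (fun h => hp2 (Ideal.mul_mem_right _ _ h))
  have hbu : IsUnit (algebraMap R (Localization.AtPrime p.asIdeal) b) :=
    (IsLocalization.AtPrime.isUnit_to_map_iff _ p.asIdeal b).mpr
      (fun h => hp2 (Ideal.mul_mem_left _ _ h))
  unfold FF
  rw [tameSymbol_of_isUnit hau hbu]
  exact oq_one p.asIdeal

theorem finsum_height_one_eq (hR : ringKrullDim R = 2) (a b : R) :
    (∑ᶠ (p : PrimeSpectrum R) (_ : p.asIdeal.height = 1), FF a b p) =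
      ∑ᶠ (p : PrimeSpectrum R) (_ : p ∈ QQ (a * b)), FF a b p := by
  show (∑ᶠ (p : PrimeSpectrum R) (_ : p ∈ {p : PrimeSpectrum R | p.asIdeal.height = 1}),
    FF a b p) = _
  apply finsum_mem_inter_support_eq'
  intro p hp
  constructor
  · intro h1
    refine ⟨h1, ?_⟩
    by_contra h2
    exact hp (FF_eq_zero hR a b p h1 h2)
  · intro h
    exact h.1

end sums

section transfer

variable {A : Type u} [CommRing A] [IsNoetherianRing A] [IsLocalRing A]
  (a b : A)
  {C : Type u} [CommRing C] [IsLocalRing C] [Algebra A C] [Module.Finite A C]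
  [IsLocalHom (algebraMap A C)]
  {r : ℕ} (q : Fin r → Ideal A) [hq : ∀ i, (q i).IsPrime]
  (D : ∀ i, TameData (Localization.AtPrime (q i)) (algebraMap A (Localization.AtPrime (q i)) a)
    (algebraMap A (Localization.AtPrime (q i)) b))
  [algCB : ∀ i, Algebra C (D i).B]
  (hcomm : ∀ i (x : A), algebraMap C (D i).B (algebraMap A C x) =
    algebraMap (Localization.AtPrime (q i)) (D i).B (algebraMap A (Localization.AtPrime (q i)) x))
  [hloc : ∀ i, IsLocalization (Algebra.algebraMapSubmonoid C (q i).primeCompl) (D i).B]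

variable (C) in
/-- the prime of `C` attached to a maximal ideal of some `B i` -/
noncomputable def Phi (x : Σ i, MaximalSpectrum (D i).B) : PrimeSpectrum C :=
  ⟨x.2.asIdeal.comap (algebraMap C (D x.1).B), Ideal.comap_isPrime _ _⟩

theorem Phi_asIdeal (x : Σ i, MaximalSpectrum (D i).B) :
    (Phi a b C q D x).asIdeal = x.2.asIdeal.comap (algebraMap C (D x.1).B) := rfl

include hcomm in
theorem Phi_under (x : Σ i, MaximalSpectrum (D i).B) :
    (Phi a b C q D x).asIdeal.under A = q x.1 := by
  haveI : Module.Finite (Localization.AtPrime (q x.1)) (D x.1).B := (D x.1).isFinExt.2.1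
  have := liesOver_comap (q x.1) (hcomm x.1) x.2.asIdeal
  exact (this.over).symm

include hcomm in
theorem Phi_injective (hinj : Function.Injective q) : Function.Injective (Phi a b C q D) := by
  rintro ⟨i, n'⟩ ⟨j, n''⟩ h
  have h1 : q i = q j := by
    rw [← Phi_under a b q D hcomm ⟨i, n'⟩, ← Phi_under a b q D hcomm ⟨j, n''⟩, h]
  have hij : i = j := hinj h1
  subst hij
  congr 1
  apply MaximalSpectrum.ext
  have h2 : n'.asIdeal.comap (algebraMap C (D i).B) = n''.asIdeal.comap (algebraMap C (D i).B) :=
    congrArg PrimeSpectrum.asIdeal h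
  have e1 := IsLocalization.map_comap (Algebra.algebraMapSubmonoid C (q i).primeCompl) (D i).B
    n'.asIdeal
  have e2 := IsLocalization.map_comap (Algebra.algebraMapSubmonoid C (q i).primeCompl) (D i).B
    n''.asIdeal
  rw [← e1, ← e2]
  exact congrArg (Ideal.map (algebraMap C (D i).B)) h2

section dims

variable (hA : ringKrullDim A = 2) (hinjC : Function.Injective (algebraMap A C))
  (htC : algebraMap A C (a * b) ∈ nonZeroDivisors C)
  (ht : a * b ∈ nonZeroDivisors A)
  (hq1 : ∀ i, (q i).height = 1) (htq : ∀ i, a * b ∈ q i)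
  (hallA : ∀ p : Ideal A, p.IsPrime → p.height = 1 → a * b ∈ p → ∃ i, p = q i)

include hA hinjC in
theorem ringKrullDim_C : ringKrullDim C = 2 := by
  haveI : Algebra.IsIntegral A C := Algebra.IsIntegral.of_finite A C
  rw [Groth.Agent.Lib.Helper5.ringKrullDim_eq_of_isIntegral_of_injective A C hinjC, hA]

include hA in
theorem height_maximalIdeal_eq_two : (maximalIdeal A).height = 2 := by
  have h2 : ((maximalIdeal A).height : WithBot ℕ∞) = 2 := by
    rw [IsLocalRing.maximalIdeal_height_eq_ringKrullDim, hA]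
  have : ((maximalIdeal A).height : WithBot ℕ∞) = ((2 : ℕ∞) : WithBot ℕ∞) := h2
  exact WithBot.coe_injective this

include hA hq1 in
theorem q_ne_maximalIdeal (i : Fin r) : q i ≠ maximalIdeal A := by
  intro h
  have := hq1 i
  rw [h, height_maximalIdeal_eq_two hA] at this
  norm_num at this

include hA hinjC htC hq1 htq hcomm in
theorem Phi_mem_QQ (x : Σ i, MaximalSpectrum (D i).B) :
    Phi a b C q D x ∈ QQ (algebraMap A C (a * b)) := by
  haveI : IsNoetherianRing C := IsNoetherianRing.of_finite A C
  have hC2 := ringKrullDim_C hA hinjC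
  have hmem : algebraMap A C (a * b) ∈ (Phi a b C q D x).asIdeal := by
    have h1 : a * b ∈ (Phi a b C q D x).asIdeal.under A := by
      rw [Phi_under a b q D hcomm x]
      exact htq x.1
    exact h1
  have hne : (Phi a b C q D x).asIdeal ≠ maximalIdeal C := by
    intro h
    have h1 := Phi_under a b q D hcomm x
    rw [h] at h1
    have h2 : (maximalIdeal C).under A = maximalIdeal A :=
      Groth.Agent.Lib.Helper4.Branches.comap_eq_maximalIdeal (maximalIdeal C)
    rw [h2] at h1
    exact q_ne_maximalIdeal q hA hq1 x.1 h1.symm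
  haveI := (Phi a b C q D x).2
  exact ⟨le_antisymm (height_le_one_of_ne hC2 _ hne) (one_le_height_of_mem htC _ hmem), hmem⟩

include hA hinjC hcomm ht hallA in
theorem Phi_surj (p : PrimeSpectrum C) (hp : p ∈ QQ (algebraMap A C (a * b))) :
    ∃ x, Phi a b C q D x = p := by
  haveI : IsNoetherianRing C := IsNoetherianRing.of_finite A C
  haveI : Algebra.IsIntegral A C := Algebra.IsIntegral.of_finite A C
  have hC2 := ringKrullDim_C hA hinjC
  obtain ⟨hp1, hp2⟩ := hp
  haveI := p.2
  have hund : (p.asIdeal.under A).IsPrime := Ideal.comap_isPrime _ _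
  have htm : a * b ∈ p.asIdeal.under A := hp2
  have hne : p.asIdeal.under A ≠ maximalIdeal A := by
    intro h
    have h1 : (p.asIdeal.comap (algebraMap A C)).IsMaximal := by
      show (p.asIdeal.under A).IsMaximal
      rw [h]; infer_instance
    have h2 := Ideal.isMaximal_of_isIntegral_of_isMaximal_comap p.asIdeal h1
    have h3 : p.asIdeal = maximalIdeal C := IsLocalRing.eq_maximalIdeal h2
    rw [h3, height_maximalIdeal_eq_two hC2] at hp1
    norm_num at hp1
  have hh1 : (p.asIdeal.under A).height = 1 :=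
    le_antisymm (height_le_one_of_ne hA _ hne) (one_le_height_of_mem ht _ htm)
  obtain ⟨i, hi⟩ := hallA _ hund hh1 htm
  have hd : Disjoint ((Algebra.algebraMapSubmonoid C (q i).primeCompl : Submonoid C) : Set C)
      (p.asIdeal : Set C) := by
    rw [Set.disjoint_left]
    rintro _ ⟨s, hs, rfl⟩ hsp
    apply hs
    rw [← hi]
    exact hsp
  have hprime := IsLocalization.isPrime_of_isPrime_disjoint
    (Algebra.algebraMapSubmonoid C (q i).primeCompl) (D i).B p.asIdeal p.2 hd
  have hcm := IsLocalization.under_map_of_isPrime_disjoint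
    (Algebra.algebraMapSubmonoid C (q i).primeCompl) (D i).B p.2 hd
  set n' := p.asIdeal.map (algebraMap C (D i).B) with hn'
  haveI : Module.Finite (Localization.AtPrime (q i)) (D i).B := (D i).isFinExt.2.1
  haveI : Algebra.IsIntegral (Localization.AtPrime (q i)) (D i).B := Algebra.IsIntegral.of_finite _ _
  have hmax : n'.IsMaximal := by
    haveI := hprime
    apply Ideal.isMaximal_of_isIntegral_of_isMaximal_comap (R := Localization.AtPrime (q i)) n'
    have hc : (n'.comap (algebraMap (Localization.AtPrime (q i)) (D i).B)).IsPrime :=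
      Ideal.comap_isPrime _ _
    have hle : maximalIdeal (Localization.AtPrime (q i)) ≤
        n'.comap (algebraMap (Localization.AtPrime (q i)) (D i).B) := by
      rw [← Localization.AtPrime.map_eq_maximalIdeal, Ideal.map_le_iff_le_comap]
      intro x hx
      rw [Ideal.mem_comap, Ideal.mem_comap, ← hcomm i x]
      have : algebraMap A C x ∈ n'.under C := by
        rw [hcm]
        have : x ∈ p.asIdeal.under A := by rw [hi]; exact hx
        exact this
      exact this
    have : n'.comap (algebraMap (Localization.AtPrime (q i)) (D i).B) =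
        maximalIdeal (Localization.AtPrime (q i)) :=
      le_antisymm (IsLocalRing.le_maximalIdeal hc.ne_top) hle
    rw [this]
    infer_instance
  refine ⟨⟨i, ⟨n', hmax⟩⟩, ?_⟩
  apply PrimeSpectrum.ext
  exact hcm

end dims

end transfer

section prod

variable {R : Type u} [CommRing R] (q : Ideal R) [hq : q.IsPrime] [IsNoetherianRing R]
  [hdim : Ring.KrullDimLE 1 (R ⧸ q)]

theorem oq_prod {ι : Type*} (s : Finset ι) (f : ι → q.ResidueField) (hf : ∀ i ∈ s, f i ≠ 0) :
    oq q (∏ i ∈ s, f i) = ∑ i ∈ s, oq q (f i) := by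
  classical
  induction s using Finset.induction_on with
  | empty => simp [oq_one]
  | insert i s hi ih =>
    rw [Finset.prod_insert hi, Finset.sum_insert hi,
      oq_mul q _ _ (hf i (Finset.mem_insert_self i s))
        (Finset.prod_ne_zero_iff.mpr (fun j hj => hf j (Finset.mem_insert_of_mem hj))),
      ih (fun j hj => hf j (Finset.mem_insert_of_mem hj))]

end prod

section localFactor

variable {S : Type u} [CommRing S] [IsLocalRing S] {x y : S}

theorem localFactor_ne_zero (D : TameData S x y) (n' : MaximalSpectrum D.B) :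
    D.localFactor n' ≠ 0 := by
  unfold TameData.localFactor
  apply pow_ne_zero
  haveI := D.isLocalHom n'
  have hne : ((-1 : ResidueField (Localization.AtPrime n'.asIdeal)) ^ (D.e₁ n' * D.e₂ n') *
      residue (Localization.AtPrime n'.asIdeal) (D.u₁ n' : Localization.AtPrime n'.asIdeal) ^ D.e₂ n' *
      (residue (Localization.AtPrime n'.asIdeal)
        (D.u₂ n' : Localization.AtPrime n'.asIdeal) ^ D.e₁ n')⁻¹) ≠ 0 :=
    dsym_ne_zero (residue_unit_ne_zero _) (residue_unit_ne_zero _) _ _
  intro h0
  have h1 := congrArg (fun z => z * Algebra.norm (ResidueField S)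
    ((-1 : ResidueField (Localization.AtPrime n'.asIdeal)) ^ (D.e₁ n' * D.e₂ n') *
      residue (Localization.AtPrime n'.asIdeal) (D.u₁ n' : Localization.AtPrime n'.asIdeal) ^ D.e₂ n' *
      (residue (Localization.AtPrime n'.asIdeal)
        (D.u₂ n' : Localization.AtPrime n'.asIdeal) ^ D.e₁ n')⁻¹)⁻¹) h0
  simp only [zero_mul] at h1
  rw [← map_mul, mul_inv_cancel₀ hne, map_one] at h1
  exact one_ne_zero h1

end localFactor

end Groth.Agent.Lib.Seat9.KeyK
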