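import Mathlib
import Groth.Prelude.Def_CycAlg
import Groth.Agent.Lib.Seat9GlueH1F

/-!
# Key lemma for tame symbols (seat 9), part H

A criterion for an integral extension of a local ring to be local with the same residue field, and
its application to the glued algebra `A + (m J) • M`.
-/

set_option autoImplicit false
set_option linter.unusedSectionVars false
universe u v

namespace Groth.Agent.Lib.Seat9.KeyH

open IsLocalRing CycAlg Groth.Agent.Lib.Seat9.GlueH1

section abstract

variable {A : Type u} [CommRing A] [IsLocalRing A] {C : Type v} [CommRing C] [Algebra A C]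
  [Algebra.IsIntegral A C] (N : Ideal C)
  (hN1 : ∀ c : C, ∃ x : A, c - algebraMap A C x ∈ N)
  (hN2 : ∀ z ∈ N, z * z ∈ Ideal.map (algebraMap A C) (maximalIdeal A))

include hN2 in
theorem le_of_isMaximal (Q : Ideal C) [hQ : Q.IsMaximal] :
    Q.comap (algebraMap A C) = maximalIdeal A ∧ Ideal.map (algebraMap A C) (maximalIdeal A) ≤ Q ∧
      N ≤ Q := by
  have h1 : (Q.comap (algebraMap A C)).IsMaximal :=
    Ideal.isMaximal_comap_of_isIntegral_of_isMaximal Q
  have h2 : Q.comap (algebraMap A C) = maximalIdeal A := IsLocalRing.eq_maximalIdeal h1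
  have h3 : Ideal.map (algebraMap A C) (maximalIdeal A) ≤ Q := by
    rw [Ideal.map_le_iff_le_comap, h2]
  refine ⟨h2, h3, fun z hz => ?_⟩
  have := h3 (hN2 z hz)
  rcases hQ.isPrime.mem_or_mem this with h | h <;> exact h

include hN1 hN2 in
theorem isLocalRing_of_ideal [Nontrivial C] : IsLocalRing C := by
  apply IsLocalRing.of_unique_max_ideal
  obtain ⟨Q, hQ⟩ := Ideal.exists_maximal C
  refine ⟨Q, hQ, fun Q' hQ' => ?_⟩
  obtain ⟨c1, m1, n1⟩ := le_of_isMaximal N hN2 Q
  obtain ⟨c2, m2, n2⟩ := le_of_isMaximal N hN2 Q'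
  have hle : Q' ≤ Q := by
    intro c hc
    obtain ⟨x, hx⟩ := hN1 c
    have h1 : algebraMap A C x ∈ Q' := by
      have : algebraMap A C x = c - (c - algebraMap A C x) := by ring
      rw [this]
      exact Q'.sub_mem hc (n2 hx)
    have h2 : x ∈ maximalIdeal A := by rw [← c2]; exact h1
    have h3 : algebraMap A C x ∈ Q := m1 (Ideal.mem_map_of_mem _ h2)
    have : c = algebraMap A C x + (c - algebraMap A C x) := by ring
    rw [this]
    exact Q.add_mem h3 (n1 hx)
  exact hQ'.eq_of_le hQ.ne_top hle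

include hN2 in
theorem facts_of_ideal [IsLocalRing C] :
    IsLocalHom (algebraMap A C) ∧ N ≤ maximalIdeal C := by
  obtain ⟨c1, m1, n1⟩ := le_of_isMaximal N hN2 (maximalIdeal C)
  refine ⟨⟨fun x hx => ?_⟩, n1⟩
  by_contra hnu
  have h1 : x ∈ maximalIdeal A := (IsLocalRing.mem_maximalIdeal x).mpr hnu
  have h2 : algebraMap A C x ∈ maximalIdeal C := m1 (Ideal.mem_map_of_mem _ h1)
  exact (IsLocalRing.mem_maximalIdeal _).mp h2 hx

end abstract

section glue

variable {A : Type u} [CommRing A] [IsLocalRing A] (t : A) {r : ℕ} (q : Fin r → Ideal A)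
  [hq : ∀ i, (q i).IsPrime]
  (B : Fin r → Type u) [∀ i, CommRing (B i)] [∀ i, Algebra (Localization.AtPrime (q i)) (B i)]
  (hinjB : ∀ i, Function.Injective (algebraMap (Localization.AtPrime (q i)) (B i))) (n : ℕ)
  (hn : ∀ i (b : B i), tl t q i ^ n • b ∈ (algebraMap (Localization.AtPrime (q i)) (B i)).range)
  (J : Ideal A)
  (hJ : ∀ x' ∈ MM t q B hinjB n hn (n + n), ∀ s ∈ J, s • x' ∈ MM t q B hinjB n hn n)

include hJ in
theorem hI_of_hJ : ∀ x' ∈ MM t q B hinjB n hn (n + n), ∀ s ∈ maximalIdeal A * J,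
    s • x' ∈ MM t q B hinjB n hn n :=
  fun x' hx' s hs => hJ x' hx' s (Ideal.mul_le_right hs)

/-- the ideal `(m J) • M` of the glued algebra -/
noncomputable def Nid : Ideal (CC t q B hinjB n hn (maximalIdeal A * J)
    (hI_of_hJ t q B hinjB n hn J hJ)) where
  carrier := {c | (c : TT t) ∈ (maximalIdeal A * J) • MM t q B hinjB n hn n}
  add_mem' := fun {x y} hx hy => by
    show ((x : TT t) + (y : TT t)) ∈ (maximalIdeal A * J) • MM t q B hinjB n hn n
    exact Submodule.add_mem _ hx hy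
  zero_mem' := by
    show (0 : TT t) ∈ (maximalIdeal A * J) • MM t q B hinjB n hn n
    exact Submodule.zero_mem _
  smul_mem' := fun c z hz => by
    obtain ⟨c, hc⟩ := c
    obtain ⟨a, z', hz', rfl⟩ := (mem_CC t q B hinjB n hn _ _ c).mp hc
    have hz0 : (z : TT t) ∈ (maximalIdeal A * J) • MM t q B hinjB n hn n := hz
    show (algebraMap A (TT t) a + z') * (z : TT t) ∈
      (maximalIdeal A * J) • MM t q B hinjB n hn n
    rw [add_mul, ← Algebra.smul_def]
    exact Submodule.add_mem _ (Submodule.smul_mem _ _ hz0)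
      (mul_mem_smul t q B hinjB n hn _ (hI_of_hJ t q B hinjB n hn J hJ) _ _ hz' hz0)

theorem mem_Nid (c : CC t q B hinjB n hn (maximalIdeal A * J) (hI_of_hJ t q B hinjB n hn J hJ)) :
    c ∈ Nid t q B hinjB n hn J hJ ↔
      (c : TT t) ∈ (maximalIdeal A * J) • MM t q B hinjB n hn n := Iff.rfl

theorem Nid_hN1 (c : CC t q B hinjB n hn (maximalIdeal A * J) (hI_of_hJ t q B hinjB n hn J hJ)) :
    ∃ x : A, c - algebraMap A _ x ∈ Nid t q B hinjB n hn J hJ := by
  obtain ⟨c, hc⟩ := c
  obtain ⟨a, z, hz, rfl⟩ := (mem_CC t q B hinjB n hn _ _ c).mp hc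
  refine ⟨a, ?_⟩
  rw [mem_Nid]
  show algebraMap A (TT t) a + z - algebraMap A (TT t) a ∈
    (maximalIdeal A * J) • MM t q B hinjB n hn n
  rw [add_sub_cancel_left]
  exact hz

include hJ in
theorem mul_mem_smul_smul (z z' : TT t)
    (hz : z ∈ (maximalIdeal A * J) • MM t q B hinjB n hn n)
    (hz' : z' ∈ (maximalIdeal A * J) • MM t q B hinjB n hn n) :
    z * z' ∈ (maximalIdeal A) • ((maximalIdeal A * J) • MM t q B hinjB n hn n) := by
  have key : ∀ j ∈ J, ∀ x' ∈ MM t q B hinjB n hn n,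
      z * (j • x') ∈ (maximalIdeal A * J) • MM t q B hinjB n hn n := by
    intro j hj x' hx'
    refine Submodule.smul_induction_on hz ?_ ?_
    · intro s hs x hx
      have : s • x * j • x' = s • (j • (x * x')) := by
        rw [smul_mul_assoc, mul_smul_comm]
      rw [this]
      exact Submodule.smul_mem_smul hs
        (hJ _ (mul_mem_MM t q B hinjB n hn n n x x' hx hx') j hj)
    · intro y y' hy hy'
      rw [add_mul]
      exact Submodule.add_mem _ hy hy'
  refine Submodule.smul_induction_on hz' ?_ ?_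
  · intro s' hs' x' hx'
    refine Submodule.mul_induction_on hs' ?_ ?_
    · intro μ hμ j hj
      have : z * (μ * j) • x' = μ • (z * (j • x')) := by
        rw [mul_smul, mul_smul_comm]
      rw [this]
      exact Submodule.smul_mem_smul hμ (key j hj x' hx')
    · intro y y' hy hy'
      rw [add_smul, mul_add]
      exact Submodule.add_mem _ hy hy'
  · intro y y' hy hy'
    rw [mul_add]
    exact Submodule.add_mem _ hy hy'

include hJ in
theorem Nid_hN2 (z : CC t q B hinjB n hn (maximalIdeal A * J) (hI_of_hJ t q B hinjB n hn J hJ))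
    (hz : z ∈ Nid t q B hinjB n hn J hJ) :
    z * z ∈ Ideal.map (algebraMap A _) (maximalIdeal A) := by
  have hz0 : (z : TT t) ∈ (maximalIdeal A * J) • MM t q B hinjB n hn n := hz
  have h1 := mul_mem_smul_smul t q B hinjB n hn J hJ z.1 z.1 hz0 hz0
  have key : ∀ w : TT t, w ∈ (maximalIdeal A) • ((maximalIdeal A * J) • MM t q B hinjB n hn n) →
      ∃ c : CC t q B hinjB n hn (maximalIdeal A * J) (hI_of_hJ t q B hinjB n hn J hJ),
        (c : TT t) = w ∧ c ∈ Ideal.map (algebraMap A _) (maximalIdeal A) := by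
    intro w hw
    refine Submodule.smul_induction_on hw ?_ ?_
    · intro μ hμ x hx
      have hxC : x ∈ CC t q B hinjB n hn (maximalIdeal A * J) (hI_of_hJ t q B hinjB n hn J hJ) :=
        (mem_CC t q B hinjB n hn _ _ x).mpr ⟨0, x, hx, by rw [map_zero, zero_add]⟩
      refine ⟨algebraMap A _ μ * ⟨x, hxC⟩, ?_, Ideal.mul_mem_right _ _ (Ideal.mem_map_of_mem _ hμ)⟩
      show algebraMap A (TT t) μ * x = μ • x
      rw [Algebra.smul_def]
    · rintro y y' ⟨c, hc, hc'⟩ ⟨c', hc2, hc2'⟩
      exact ⟨c + c', by rw [← hc, ← hc2]; rfl, Ideal.add_mem _ hc' hc2'⟩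
  obtain ⟨c, hc, hc'⟩ := key _ h1
  have : z * z = c := Subtype.ext hc.symm
  rw [this]
  exact hc'

end glue

end Groth.Agent.Lib.Seat9.KeyH
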