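import Mathlib
import Groth.Prelude.Def_CycAlg
import Groth.Prelude.Def_Tame
import Groth.Agent.Lib.Seat9KeyK

/-!
# Key lemma for tame symbols (seat 9), part L

The summand at a height one prime of `A` is the sum of the summands at the primes of `C` above it;
the transfer of the key lemma from `C` to `A`.
-/

set_option autoImplicit false
set_option linter.unusedSectionVars false
universe u v

namespace Groth.Agent.Lib.Seat9.KeyL

open IsLocalRing CycAlg Groth.Agent.Lib.Seat9.KeyC Groth.Agent.Lib.Seat9.KeyF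
  Groth.Agent.Lib.Seat9.KeyG Groth.Agent.Lib.Seat9.KeyI Groth.Agent.Lib.Seat9.KeyJ
  Groth.Agent.Lib.Seat9.KeyK
  Groth.Agent.Lib.Seat9.Lat Groth.Agent.Lib.Seat9.Tame Groth.Agent.Lib.Seat9.GlueH1

variable {A : Type u} [CommRing A] [IsNoetherianRing A] [IsLocalRing A]
  (a b : A)
  {C : Type u} [CommRing C] [IsLocalRing C] [Algebra A C] [Module.Finite A C]
  [IsLocalHom (algebraMap A C)]
  {r : ℕ} (q : Fin r → Ideal A) [hq : ∀ i, (q i).IsPrime]
  (D : ∀ i, TameData (Localization.AtPrime (q i)) (algebraMap A (Localization.AtPrime (q i)) a)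
    (algebraMap A (Localization.AtPrime (q i)) b))
  [algCB : ∀ i, Algebra C (D i).B]
  (hcomm : ∀ i (x : A), algebraMap C (D i).B (algebraMap A C x) =
    algebraMap (Localization.AtPrime (q i)) (D i).B (algebraMap A (Localization.AtPrime (q i)) x))
  [hloc : ∀ i, IsLocalization (Algebra.algebraMapSubmonoid C (q i).primeCompl) (D i).B]
  (hA : ringKrullDim A = 2) (hinjC : Function.Injective (algebraMap A C))
  (htC : algebraMap A C (a * b) ∈ nonZeroDivisors C)
  (ha : a ∈ nonZeroDivisors A) (hb : b ∈ nonZeroDivisors A)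
  (hq1 : ∀ i, (q i).height = 1) (htq : ∀ i, a * b ∈ q i)
  (hallA : ∀ p : Ideal A, p.IsPrime → p.height = 1 → a * b ∈ p → ∃ i, p = q i)
  (hres : ∀ c : C, ∃ x : A, c - algebraMap A C x ∈ maximalIdeal C)

include hcomm hA hinjC htC ha hb hq1 htq hres in
theorem FF_A_eq (i : Fin r) [Fintype (MaximalSpectrum (D i).B)] :
    FF a b ⟨q i, hq i⟩ = ∑ n' : MaximalSpectrum (D i).B,
      FF (algebraMap A C a) (algebraMap A C b) (Phi a b C q D ⟨i, n'⟩) := by
  haveI : IsNoetherianRing C := IsNoetherianRing.of_finite A C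
  have hC2 := ringKrullDim_C hA hinjC
  have hqm := q_ne_maximalIdeal q hA hq1 i
  haveI hKS : Ring.KrullDimLE 1 (Localization.AtPrime (q i)) :=
    krullDimLE_one_localization hA (q i) hqm
  haveI hKQ : Ring.KrullDimLE 1 (A ⧸ q i) := krullDimLE_one_quotient hA (q i) (hq1 i).ge
  have ha' : algebraMap A (Localization.AtPrime (q i)) a ∈
      nonZeroDivisors (Localization.AtPrime (q i)) :=
    IsLocalization.map_nonZeroDivisors_le (q i).primeCompl _ (Submonoid.mem_map_of_mem _ ha)
  have hb' : algebraMap A (Localization.AtPrime (q i)) b ∈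
      nonZeroDivisors (Localization.AtPrime (q i)) :=
    IsLocalization.map_nonZeroDivisors_le (q i).primeCompl _ (Submonoid.mem_map_of_mem _ hb)
  have h0 : FF a b ⟨q i, hq i⟩ = oq (q i) ((D i).value) := by
    unfold FF
    show oq (q i) (tameSymbol (Localization.AtPrime (q i)) _ _) = _
    rw [tameSymbol_eq ha' hb' (D i)]
  rw [h0]
  unfold TameData.value
  rw [finprod_eq_prod_of_fintype, oq_prod (q i) _ _ (fun n' _ => localFactor_ne_zero (D i) n')]
  refine Finset.sum_congr rfl (fun n' _ => ?_)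
  haveI : Module.Finite (Localization.AtPrime (q i)) (D i).B := (D i).isFinExt.2.1
  haveI hmaxn := n'.isMaximal
  haveI hlo := liesOver_comap (q i) (hcomm i) n'.asIdeal
  letI := Localization.AtPrime.algebraOfLiesOver (q i) (n'.asIdeal.comap (algebraMap C (D i).B))
  haveI hlh := (D i).isLocalHom n'
  have hmem := Phi_mem_QQ a b q D hcomm hA hinjC htC hq1 htq ⟨i, n'⟩
  haveI : Ring.KrullDimLE 1 (C ⧸ n'.asIdeal.comap (algebraMap C (D i).B)) :=
    krullDimLE_one_quotient hC2 _ hmem.1.ge
  have hCq : ringKrullDim (Localization.AtPrime (n'.asIdeal.comap (algebraMap C (D i).B))) = 1 := by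
    rw [IsLocalization.AtPrime.ringKrullDim_eq_height (n'.asIdeal.comap (algebraMap C (D i).B))
      (Localization.AtPrime (n'.asIdeal.comap (algebraMap C (D i).B)))]
    have := hmem.1
    rw [Phi_asIdeal] at this
    rw [this]
    rfl
  exact oq_localFactor_eq (q i) (hcomm i) n'.asIdeal hres hqm hCq a b ((D i).π n')
    ((D i).π_mem n') ((D i).u₁ n') ((D i).u₂ n') ((D i).e₁ n') ((D i).e₂ n')
    ((D i).fac₁ n') ((D i).fac₂ n')

include hcomm hA hinjC htC ha hb hq1 htq hallA hres in
/-- the key lemma for `A` follows from the good case for `C` -/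
theorem transfer_sum (hinj : Function.Injective q)
    (haC : algebraMap A C a ∈ nonZeroDivisors C) (hbC : algebraMap A C b ∈ nonZeroDivisors C) :
    ∑ᶠ (p : PrimeSpectrum A) (_ : p.asIdeal.height = 1), FF a b p = 0 := by
  classical
  haveI : IsNoetherianRing C := IsNoetherianRing.of_finite A C
  have hC2 := ringKrullDim_C hA hinjC
  have ht : a * b ∈ nonZeroDivisors A := mul_mem ha hb
  haveI hfinM : ∀ i, Finite (MaximalSpectrum (D i).B) := fun i => by
    haveI : Module.Finite (Localization.AtPrime (q i)) (D i).B := (D i).isFinExt.2.1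
    exact finite_maximalSpectrum (A := Localization.AtPrime (q i)) (D i).B
  haveI : ∀ i, Fintype (MaximalSpectrum (D i).B) := fun i => Fintype.ofFinite _
  -- the good case for `C`
  have hgood := good_case hC2 (algebraMap A C a) (algebraMap A C b) haC hbC (by
    intro p hp1 hp2
    rw [← map_mul] at hp2
    obtain ⟨x, rfl⟩ := Phi_surj a b q D hcomm hA hinjC ht hallA p ⟨hp1, hp2⟩
    haveI : Module.Finite (Localization.AtPrime (q x.1)) (D x.1).B := (D x.1).isFinExt.2.1
    haveI := x.2.isMaximal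
    exact exists_fac_transport (q x.1) (hcomm x.1) x.2.asIdeal a b
      ⟨(D x.1).π x.2, (D x.1).u₁ x.2, (D x.1).u₂ x.2, (D x.1).e₁ x.2, (D x.1).e₂ x.2,
        (D x.1).π_mem x.2, (D x.1).fac₁ x.2, (D x.1).fac₂ x.2⟩)
  have hgood' : ∑ᶠ (p : PrimeSpectrum C) (_ : p.asIdeal.height = 1),
      FF (algebraMap A C a) (algebraMap A C b) p = 0 := hgood
  rw [finsum_height_one_eq hC2, ← map_mul] at hgood'
  have hrangeC : QQ (algebraMap A C (a * b)) = Set.range (Phi a b C q D) := by
    ext p
    constructor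
    · intro hp
      obtain ⟨x, hx⟩ := Phi_surj a b q D hcomm hA hinjC ht hallA p hp
      exact ⟨x, hx⟩
    · rintro ⟨x, rfl⟩
      exact Phi_mem_QQ a b q D hcomm hA hinjC htC hq1 htq x
  rw [hrangeC, finsum_mem_range (Phi_injective a b q D hcomm hinj),
    finsum_eq_sum_of_fintype] at hgood'
  -- the sum for `A`
  rw [finsum_height_one_eq hA]
  have hrangeA : QQ (a * b) = Set.range (fun i : Fin r => (⟨q i, hq i⟩ : PrimeSpectrum A)) := by
    ext p
    constructor
    · rintro ⟨hp1, hp2⟩
      obtain ⟨i, hi⟩ := hallA p.asIdeal p.2 hp1 hp2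
      exact ⟨i, PrimeSpectrum.ext hi.symm⟩
    · rintro ⟨i, rfl⟩
      exact ⟨hq1 i, htq i⟩
  have hginj : Function.Injective (fun i : Fin r => (⟨q i, hq i⟩ : PrimeSpectrum A)) := by
    intro i j h
    exact hinj (congrArg PrimeSpectrum.asIdeal h)
  rw [hrangeA, finsum_mem_range hginj, finsum_eq_sum_of_fintype]
  rw [Finset.sum_congr rfl (fun i _ =>
    FF_A_eq a b q D hcomm hA hinjC htC ha hb hq1 htq hres i)]
  rw [← hgood', Fintype.sum_sigma]

end Groth.Agent.Lib.Seat9.KeyL
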