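import Mathlib
import Groth.Prelude.Def_CycAlg
import Groth.Prelude.Def_Tame
import Groth.Agent.Lib.Seat9KeyL
import Groth.Agent.Lib.Seat9KeyH

/-!
# Key lemma for tame symbols (seat 9), part M: assembly
-/

set_option autoImplicit false
set_option linter.unusedSectionVars false
universe u v

namespace Groth.Agent.Lib.Seat9.KeyM

open IsLocalRing CycAlg Groth.Agent.Lib.Seat9.KeyC Groth.Agent.Lib.Seat9.KeyF
  Groth.Agent.Lib.Seat9.KeyG Groth.Agent.Lib.Seat9.KeyH Groth.Agent.Lib.Seat9.KeyI
  Groth.Agent.Lib.Seat9.KeyJ Groth.Agent.Lib.Seat9.KeyK Groth.Agent.Lib.Seat9.KeyL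
  Groth.Agent.Lib.Seat9.Lat Groth.Agent.Lib.Seat9.Tame Groth.Agent.Lib.Seat9.GlueH1

variable {A : Type u} [CommRing A] [IsNoetherianRing A] [IsLocalRing A]

/-- the key lemma, given an enumeration of the height one primes containing `a b` and tame data
at each of them -/
theorem key_of_data (hA : ringKrullDim A = 2) (a b : A) (ha : a ∈ nonZeroDivisors A)
    (hb : b ∈ nonZeroDivisors A) {r : ℕ} (q : Fin r → Ideal A) [hq : ∀ i, (q i).IsPrime]
    (hinj : Function.Injective q) (hq1 : ∀ i, (q i).height = 1) (htq : ∀ i, a * b ∈ q i)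
    (hallA : ∀ p : Ideal A, p.IsPrime → p.height = 1 → a * b ∈ p → ∃ i, p = q i)
    (D : ∀ i, TameData (Localization.AtPrime (q i)) (algebraMap A (Localization.AtPrime (q i)) a)
      (algebraMap A (Localization.AtPrime (q i)) b)) :
    ∑ᶠ (p : PrimeSpectrum A) (_ : p.asIdeal.height = 1), FF a b p = 0 := by
  classical
  set t := a * b with ht_def
  have ht : t ∈ nonZeroDivisors A := mul_mem ha hb
  have hqm : ∀ i, q i ≠ maximalIdeal A := fun i => q_ne_maximalIdeal q hA hq1 i
  have hinjB : ∀ i, Function.Injective (algebraMap (Localization.AtPrime (q i)) (D i).B) :=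
    fun i => (D i).isFinExt.1
  have htlm : ∀ i, tl t q i ∈ maximalIdeal (Localization.AtPrime (q i)) := fun i =>
    (IsLocalization.AtPrime.to_map_mem_maximal_iff (Localization.AtPrime (q i)) (q i) t).mpr (htq i)
  have hex : ∀ i, ∃ k : ℕ, ∀ β : (D i).B,
      tl t q i ^ k • β ∈ (algebraMap (Localization.AtPrime (q i)) (D i).B).range := by
    intro i
    obtain ⟨k, hk⟩ := (D i).isFinExt.2.2
    exact ⟨k, fun β => hk _ (Ideal.pow_mem_pow (htlm i) k) β⟩
  choose kf hkf using hex
  set n := ∑ i, kf i with hn_def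
  have hn : ∀ i (β : (D i).B),
      tl t q i ^ n • β ∈ (algebraMap (Localization.AtPrime (q i)) (D i).B).range := by
    intro i β
    have hle : kf i ≤ n := Finset.single_le_sum (f := kf) (fun _ _ => Nat.zero_le _)
      (Finset.mem_univ i)
    obtain ⟨d, hd⟩ := Nat.exists_eq_add_of_le hle
    obtain ⟨z, hz⟩ := hkf i β
    refine ⟨tl t q i ^ d * z, ?_⟩
    rw [map_mul, hz, hd, pow_add, mul_smul, Algebra.smul_def (tl t q i ^ d), mul_smul_comm]
  have htB' : ∀ i, algebraMap (Localization.AtPrime (q i)) (D i).B (tl t q i) ∈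
      nonZeroDivisors (D i).B := by
    intro i
    have := nzd_B (D i)
    rwa [← map_mul] at this
  set J : Ideal A := (MM t q (fun i => (D i).B) hinjB n hn n).colon
    (MM t q (fun i => (D i).B) hinjB n hn (n + n)) with hJ_def
  have hJ : ∀ x' ∈ MM t q (fun i => (D i).B) hinjB n hn (n + n), ∀ s ∈ J,
      s • x' ∈ MM t q (fun i => (D i).B) hinjB n hn n :=
    fun x' hx' s hs => Submodule.mem_colon.mp hs x' hx'
  have hJnot : ∀ i, ¬ J ≤ q i := by
    intro i hle
    obtain ⟨s, hs, hs'⟩ := exists_uniform_smul_mem_MM t q (fun i => (D i).B) hinjB n hn ht i n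
    exact hs (hle (Submodule.mem_colon.mpr hs'))
  have hI := hI_of_hJ t q (fun i => (D i).B) hinjB n hn J hJ
  have hInot : ∀ i, ¬ maximalIdeal A * J ≤ q i := by
    intro i hle
    rcases (hq i).mul_le.mp hle with h | h
    · exact hqm i ((IsLocalRing.maximalIdeal.isMaximal A).eq_of_le (hq i).ne_top h).symm
    · exact hJnot i h
  have hsep := fun i => exists_sep hA t ht q hinj hqm htq n i
  -- the glued algebra
  have hinjC : Function.Injective (algebraMap A
      (CC t q (fun i => (D i).B) hinjB n hn (maximalIdeal A * J) hI)) :=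
    algebraMap_CC_injective t q (fun i => (D i).B) hinjB n hn _ hI ht
  haveI : Nontrivial (CC t q (fun i => (D i).B) hinjB n hn (maximalIdeal A * J) hI) :=
    hinjC.nontrivial
  haveI : Algebra.IsIntegral A (CC t q (fun i => (D i).B) hinjB n hn (maximalIdeal A * J) hI) :=
    Algebra.IsIntegral.of_finite A _
  haveI hlocC : IsLocalRing (CC t q (fun i => (D i).B) hinjB n hn (maximalIdeal A * J) hI) :=
    isLocalRing_of_ideal (Nid t q (fun i => (D i).B) hinjB n hn J hJ)
      (Nid_hN1 t q (fun i => (D i).B) hinjB n hn J hJ)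
      (Nid_hN2 t q (fun i => (D i).B) hinjB n hn J hJ)
  obtain ⟨hlh, hNm⟩ := facts_of_ideal (Nid t q (fun i => (D i).B) hinjB n hn J hJ)
    (Nid_hN2 t q (fun i => (D i).B) hinjB n hn J hJ)
  haveI := hlh
  have hres : ∀ c : CC t q (fun i => (D i).B) hinjB n hn (maximalIdeal A * J) hI,
      ∃ x : A, c - algebraMap A _ x ∈
        maximalIdeal (CC t q (fun i => (D i).B) hinjB n hn (maximalIdeal A * J) hI) := by
    intro c
    obtain ⟨x, hx⟩ := Nid_hN1 t q (fun i => (D i).B) hinjB n hn J hJ c
    exact ⟨x, hNm hx⟩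
  have hnzdC : ∀ x : A, x ∈ nonZeroDivisors A → algebraMap A
      (CC t q (fun i => (D i).B) hinjB n hn (maximalIdeal A * J) hI) x ∈ nonZeroDivisors _ := by
    intro x hx
    have h1 : algebraMap A (TT t) x ∈ nonZeroDivisors (TT t) :=
      IsLocalization.map_nonZeroDivisors_le (Submonoid.powers t) _ (Submonoid.mem_map_of_mem _ hx)
    rw [mem_nonZeroDivisors_iff_right]
    intro z hz
    apply Subtype.ext
    have h2 := congrArg Subtype.val hz
    exact (mem_nonZeroDivisors_iff_right.mp h1) z.1 h2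
  letI algCB : ∀ i, Algebra (CC t q (fun i => (D i).B) hinjB n hn (maximalIdeal A * J) hI)
      (D i).B := fun i =>
    (gB t q (fun i => (D i).B) hinjB n hn (maximalIdeal A * J) hI ht htB' i).toAlgebra
  have hcomm : ∀ i (x : A), algebraMap (CC t q (fun i => (D i).B) hinjB n hn
      (maximalIdeal A * J) hI) (D i).B (algebraMap A _ x) =
      algebraMap (Localization.AtPrime (q i)) (D i).B
        (algebraMap A (Localization.AtPrime (q i)) x) := fun i x =>
    gB_algebraMap t q (fun i => (D i).B) hinjB n hn (maximalIdeal A * J) hI ht htB' i x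
  haveI hloc : ∀ i, IsLocalization (Algebra.algebraMapSubmonoid
      (CC t q (fun i => (D i).B) hinjB n hn (maximalIdeal A * J) hI) (q i).primeCompl) (D i).B :=
    fun i => isLocalization_gB t q (fun i => (D i).B) hinjB n hn (maximalIdeal A * J) hI ht htB'
      hInot hsep i
  exact transfer_sum a b q D hcomm hA hinjC (hnzdC _ ht) ha hb hq1 htq hallA hres hinj
    (hnzdC a ha) (hnzdC b hb)

end Groth.Agent.Lib.Seat9.KeyM
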