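import Mathlib
import Groth.Agent.Lib.Seat9C1DictC
import Groth.Agent.Lib.Seat9KeyK
import Groth.Agent.S1851

/-!
# c1 commutativity (seat 9), part D: the key lemma on a scheme

For `ξ ⤳ x` with `δ x + 2 = δ ξ` and `a b ∈ κ(ξ)^*`: the sum over the points `z` between `ξ` and `x` of
the order along `z ⤳ x` of the tame symbol of `a, b` at `z` is zero.
-/

set_option autoImplicit false
set_option linter.style.haveILetI false
universe u
open AlgebraicGeometry CategoryTheory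

namespace Groth.Agent.Lib.Seat9.C1Dict

open Cyc IsLocalRing Groth.Agent.Lib.Seat32.GenPrime Groth.Agent.Lib.Seat9.KeyK

variable {X : Scheme.{u}}

/-- the points strictly between `ξ` and `x` (in δ-dimension one less than `ξ`) -/
def Btw (δ : X → ℤ) (x ξ : X) : Set X := {z | ξ ⤳ z ∧ z ⤳ x ∧ δ z + 1 = δ ξ}

section skl

variable [IsLocallyNoetherian X] {δ : X → ℤ} (hδ : IsDimFun X δ) {x ξ : X} (h : ξ ⤳ x)

open Classical in
/-- the summand for elements of `LocQuot x ξ` -/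
noncomputable def GG (a b : LocQuot x ξ h) (z : X) : ℤ :=
  if hz : ξ ⤳ z ∧ z ⤳ x then
    ordAt x z hz.2 (rho z ξ hz.1
      (CycAlg.tameSymbol (LocQuot z ξ hz.1) (iota hz.1 hz.2 a) (iota hz.1 hz.2 b)))
  else 0

include hδ in
theorem bijOn_ptOf (h2 : δ x + 2 = δ ξ) :
    Set.BijOn (ptOf h) {q : PrimeSpectrum (LocQuot x ξ h) | q.asIdeal.height = 1} (Btw δ x ξ) := by
  have hdim := ringKrullDim_locQuot_eq_two hδ h h2
  refine ⟨?_, (ptOf_injective h).injOn, ?_⟩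
  · intro q hq
    have hq1 : q.asIdeal.height = 1 := hq
    refine ⟨specializes_ptOf h q, ptOf_specializes h q, ?_⟩
    have hne1 : ptOf h q ≠ ξ := by
      intro he
      have := (qOf_eq_bot_iff (specializes_ptOf h q) (ptOf_specializes h q)).2 he
      rw [qOf_ptOf] at this
      rw [this, Ideal.height_bot] at hq1
      exact zero_ne_one hq1
    have hne2 : ptOf h q ≠ x := by
      intro he
      have := (qOf_eq_maximalIdeal_iff (specializes_ptOf h q) (ptOf_specializes h q)).2 he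
      rw [qOf_ptOf] at this
      have h3 := IsLocalRing.maximalIdeal_height_eq_ringKrullDim (R := LocQuot x ξ h)
      rw [← this, hq1, hdim] at h3
      have : ((1 : ℕ∞) : WithBot ℕ∞) = ((2 : ℕ∞) : WithBot ℕ∞) := h3
      rw [WithBot.coe_inj] at this
      exact absurd this (by decide)
    have h4 := (hδ ξ (ptOf h q) (specializes_ptOf h q) (Ne.symm hne1)).1
    have h5 := (hδ (ptOf h q) x (ptOf_specializes h q) hne2).1
    omega
  · rintro z ⟨h₁, h₂, hz⟩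
    refine ⟨⟨qOf h₁ h₂, inferInstance⟩, ?_, ptOf_qOf h₁ h₂⟩
    have hd1 := ringKrullDim_locQuot_eq_one hδ h₁ hz
    have hd2 : ringKrullDim (Localization.AtPrime (qOf h₁ h₂)) = 1 := by
      rw [← hd1]
      exact ringKrullDim_eq_of_ringEquiv (e₁ h₁ h₂)
    rw [IsLocalization.AtPrime.ringKrullDim_eq_height (qOf h₁ h₂)
      (Localization.AtPrime (qOf h₁ h₂))] at hd2
    show (qOf h₁ h₂).height = 1
    exact_mod_cast hd2

include hδ in
theorem FF_eq_GG (h2 : δ x + 2 = δ ξ) (a b : LocQuot x ξ h) (ha : a ≠ 0) (hb : b ≠ 0)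
    (q : PrimeSpectrum (LocQuot x ξ h)) (hq : q.asIdeal.height = 1) :
    FF a b q = GG h a b (ptOf h q) := by
  have hmem := (bijOn_ptOf hδ h h2).1 hq
  obtain ⟨-, -, hz⟩ := hmem
  have hd1 := ringKrullDim_locQuot_eq_one hδ (specializes_ptOf h q) hz
  have hq' : (⟨qOf (specializes_ptOf h q) (ptOf_specializes h q), inferInstance⟩ :
      PrimeSpectrum (LocQuot x ξ h)) = q := PrimeSpectrum.ext (qOf_ptOf h q)
  unfold GG
  rw [dif_pos ⟨specializes_ptOf h q, ptOf_specializes h q⟩]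
  rw [← ordFrac_tameSymbol_eq (specializes_ptOf h q) (ptOf_specializes h q) hd1 a b ha hb]
  conv_lhs => rw [← hq']
  rfl

include hδ in
/-- the key lemma on a scheme, for elements of `LocQuot x ξ` -/
theorem finsum_GG_eq_zero (h2 : δ x + 2 = δ ξ) (a b : LocQuot x ξ h) (ha : a ≠ 0) (hb : b ≠ 0) :
    ∑ᶠ z ∈ Btw δ x ξ, GG h a b z = 0 := by
  have hdim := ringKrullDim_locQuot_eq_two hδ h h2
  have key := Groth.Agent.S1851.result (LocQuot x ξ h) hdim a b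
    (mem_nonZeroDivisors_of_ne_zero ha) (mem_nonZeroDivisors_of_ne_zero hb)
  rw [← key]
  symm
  exact finsum_mem_eq_of_bijOn (ptOf h) (bijOn_ptOf hδ h h2)
    (fun q hq => FF_eq_GG hδ h h2 a b ha hb q hq)

include hδ in
theorem finite_support_GG (h2 : δ x + 2 = δ ξ) (a b : LocQuot x ξ h) (ha : a ≠ 0) (hb : b ≠ 0) :
    (Btw δ x ξ ∩ Function.support (GG h a b)).Finite := by
  have hdim := ringKrullDim_locQuot_eq_two hδ h h2
  have hfin := finite_QQ (a * b) (mem_nonZeroDivisors_of_ne_zero (mul_ne_zero ha hb))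
  refine (hfin.image (ptOf h)).subset ?_
  rintro z ⟨hz, hsupp⟩
  obtain ⟨q, hq, rfl⟩ := (bijOn_ptOf hδ h h2).2.2 hz
  refine ⟨q, ⟨hq, ?_⟩, rfl⟩
  by_contra hnot
  apply hsupp
  rw [← FF_eq_GG hδ h h2 a b ha hb q hq]
  exact FF_eq_zero hdim a b q hq hnot

open Classical in
omit h in
/-- the summand for elements of `κ(ξ)` -/
noncomputable def HH (x : X) {ξ : X} (a b : X.residueField ξ) (z : X) : ℤ :=
  if hz : ξ ⤳ z ∧ z ⤳ x then ordAt x z hz.2 (tameAt z ξ hz.1 a b) else 0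

omit [IsLocallyNoetherian X] in
theorem iota_injective {z : X} (h₁ : ξ ⤳ z) (h₂ : z ⤳ x) : Function.Injective (iota h₁ h₂) := by
  intro a b hab
  apply algebraMap_locQuot_injective x ξ (h₁.trans h₂)
  rw [← algebraMap_iota h₁ h₂, ← algebraMap_iota h₁ h₂, hab]

include hδ in
theorem HH_eq_GG {a b : X.residueField ξ} {a₁ a₂ b₁ b₂ : LocQuot x ξ h} (ha₁ : a₁ ≠ 0)
    (ha₂ : a₂ ≠ 0) (hb₁ : b₁ ≠ 0) (hb₂ : b₂ ≠ 0)
    (hfa : a * algebraMap (LocQuot x ξ h) (X.residueField ξ) a₂ =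
      algebraMap (LocQuot x ξ h) (X.residueField ξ) a₁)
    (hfb : b * algebraMap (LocQuot x ξ h) (X.residueField ξ) b₂ =
      algebraMap (LocQuot x ξ h) (X.residueField ξ) b₁) {z : X} (hz : z ∈ Btw δ x ξ) :
    HH x a b z = GG h a₁ b₁ z + GG h a₂ b₂ z - (GG h a₁ b₂ z + GG h a₂ b₁ z) := by
  obtain ⟨h₁, h₂, hzd⟩ := hz
  have hd1 := ringKrullDim_locQuot_eq_one hδ h₁ hzd
  have hinj := iota_injective h₁ h₂
  have i1 : iota h₁ h₂ a₁ ≠ 0 := fun h0 => ha₁ (hinj (h0.trans (map_zero _).symm))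
  have i2 : iota h₁ h₂ a₂ ≠ 0 := fun h0 => ha₂ (hinj (h0.trans (map_zero _).symm))
  have j1 : iota h₁ h₂ b₁ ≠ 0 := fun h0 => hb₁ (hinj (h0.trans (map_zero _).symm))
  have j2 : iota h₁ h₂ b₂ ≠ 0 := fun h0 => hb₂ (hinj (h0.trans (map_zero _).symm))
  unfold HH GG
  rw [dif_pos ⟨h₁, h₂⟩, dif_pos ⟨h₁, h₂⟩, dif_pos ⟨h₁, h₂⟩, dif_pos ⟨h₁, h₂⟩, dif_pos ⟨h₁, h₂⟩]
  unfold tameAt
  rw [TameFrac.tameK_eq hd1 i1 i2 j1 j2 (by rw [algebraMap_iota, algebraMap_iota]; exact hfa)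
    (by rw [algebraMap_iota, algebraMap_iota]; exact hfb)]
  have t11 := TameFrac.T_ne hd1 i1 j1
  have t22 := TameFrac.T_ne hd1 i2 j2
  have t12 := TameFrac.T_ne hd1 i1 j2
  have t21 := TameFrac.T_ne hd1 i2 j1
  have r11 := (map_ne_zero_iff _ (rho z ξ h₁).injective).2 t11
  have r22 := (map_ne_zero_iff _ (rho z ξ h₁).injective).2 t22
  have r12 := (map_ne_zero_iff _ (rho z ξ h₁).injective).2 t12
  have r21 := (map_ne_zero_iff _ (rho z ξ h₁).injective).2 t21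
  rw [map_mul, map_mul, map_inv₀, map_mul]
  unfold ordAt
  rw [Groth.Agent.Lib.Seat28.OrdFrac.ordFrac_mul (mul_ne_zero r11 r22)
      (inv_ne_zero (mul_ne_zero r12 r21)),
    Groth.Agent.Lib.Seat28.OrdFrac.ordFrac_mul r11 r22,
    Groth.Agent.Lib.Seat28.OrdFrac.ordFrac_inv,
    Groth.Agent.Lib.Seat28.OrdFrac.ordFrac_mul r12 r21]
  ring

include hδ h in
/-- the key lemma on a scheme -/
theorem finsum_HH_eq_zero (h2 : δ x + 2 = δ ξ) (a b : X.residueField ξ) (ha : a ≠ 0) (hb : b ≠ 0) :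
    ∑ᶠ z ∈ Btw δ x ξ, HH x a b z = 0 := by
  classical
  obtain ⟨a₁, a₂, ha₂, rfl⟩ := IsFractionRing.div_surjective (A := LocQuot x ξ h) a
  obtain ⟨b₁, b₂, hb₂, rfl⟩ := IsFractionRing.div_surjective (A := LocQuot x ξ h) b
  have hinj := algebraMap_locQuot_injective x ξ h
  have ha₂0 : a₂ ≠ 0 := nonZeroDivisors.ne_zero ha₂
  have hb₂0 : b₂ ≠ 0 := nonZeroDivisors.ne_zero hb₂
  have ha₂' : algebraMap (LocQuot x ξ h) (X.residueField ξ) a₂ ≠ 0 :=
    fun h0 => ha₂0 (hinj (h0.trans (map_zero _).symm))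
  have hb₂' : algebraMap (LocQuot x ξ h) (X.residueField ξ) b₂ ≠ 0 :=
    fun h0 => hb₂0 (hinj (h0.trans (map_zero _).symm))
  have ha₁0 : a₁ ≠ 0 := by
    rintro rfl
    apply ha
    rw [map_zero, zero_div]
  have hb₁0 : b₁ ≠ 0 := by
    rintro rfl
    apply hb
    rw [map_zero, zero_div]
  have hfa := div_mul_cancel₀ (algebraMap (LocQuot x ξ h) (X.residueField ξ) a₁) ha₂'
  have hfb := div_mul_cancel₀ (algebraMap (LocQuot x ξ h) (X.residueField ξ) b₁) hb₂'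
  have f11 := finite_support_GG hδ h h2 a₁ b₁ ha₁0 hb₁0
  have f22 := finite_support_GG hδ h h2 a₂ b₂ ha₂0 hb₂0
  have f12 := finite_support_GG hδ h h2 a₁ b₂ ha₁0 hb₂0
  have f21 := finite_support_GG hδ h h2 a₂ b₁ ha₂0 hb₁0
  set T : Finset X := ((f11.union f22).union (f12.union f21)).toFinset with hT
  have hTsub : ∀ z ∈ T, z ∈ Btw δ x ξ := by
    intro z hz
    rw [hT, Set.Finite.mem_toFinset] at hz
    rcases hz with (hz | hz) | (hz | hz) <;> exact hz.1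
  have hconv : ∀ F : X → ℤ, (∀ z ∈ Btw δ x ξ, F z ≠ 0 → z ∈ T) →
      ∑ᶠ z ∈ Btw δ x ξ, F z = ∑ z ∈ T, F z := by
    intro F hF
    apply finsum_mem_eq_sum_of_inter_support_eq
    ext z
    constructor
    · rintro ⟨hz1, hz2⟩
      exact ⟨hF z hz1 hz2, hz2⟩
    · rintro ⟨hz1, hz2⟩
      exact ⟨hTsub z hz1, hz2⟩
  have m11 : ∀ z ∈ Btw δ x ξ, GG h a₁ b₁ z ≠ 0 → z ∈ T := fun z hz hne => by
    rw [hT, Set.Finite.mem_toFinset]; exact Or.inl (Or.inl ⟨hz, hne⟩)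
  have m22 : ∀ z ∈ Btw δ x ξ, GG h a₂ b₂ z ≠ 0 → z ∈ T := fun z hz hne => by
    rw [hT, Set.Finite.mem_toFinset]; exact Or.inl (Or.inr ⟨hz, hne⟩)
  have m12 : ∀ z ∈ Btw δ x ξ, GG h a₁ b₂ z ≠ 0 → z ∈ T := fun z hz hne => by
    rw [hT, Set.Finite.mem_toFinset]; exact Or.inr (Or.inl ⟨hz, hne⟩)
  have m21 : ∀ z ∈ Btw δ x ξ, GG h a₂ b₁ z ≠ 0 → z ∈ T := fun z hz hne => by
    rw [hT, Set.Finite.mem_toFinset]; exact Or.inr (Or.inr ⟨hz, hne⟩)
  have e11 := hconv (GG h a₁ b₁) m11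
  have e22 := hconv (GG h a₂ b₂) m22
  have e12 := hconv (GG h a₁ b₂) m12
  have e21 := hconv (GG h a₂ b₁) m21
  have z11 := finsum_GG_eq_zero hδ h h2 a₁ b₁ ha₁0 hb₁0
  have z22 := finsum_GG_eq_zero hδ h h2 a₂ b₂ ha₂0 hb₂0
  have z12 := finsum_GG_eq_zero hδ h h2 a₁ b₂ ha₁0 hb₂0
  have z21 := finsum_GG_eq_zero hδ h h2 a₂ b₁ ha₂0 hb₁0
  rw [e11] at z11
  rw [e22] at z22
  rw [e12] at z12
  rw [e21] at z21
  have hHH : ∀ z ∈ Btw δ x ξ, HH x (algebraMap (LocQuot x ξ h) (X.residueField ξ) a₁ /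
      algebraMap (LocQuot x ξ h) (X.residueField ξ) a₂)
      (algebraMap (LocQuot x ξ h) (X.residueField ξ) b₁ /
      algebraMap (LocQuot x ξ h) (X.residueField ξ) b₂) z =
      GG h a₁ b₁ z + GG h a₂ b₂ z - (GG h a₁ b₂ z + GG h a₂ b₁ z) :=
    fun z hz => HH_eq_GG hδ h ha₁0 ha₂0 hb₁0 hb₂0 hfa hfb hz
  rw [hconv _ (by
    intro z hz hne
    rw [hHH z hz] at hne
    by_contra hzT
    apply hne
    have n11 : GG h a₁ b₁ z = 0 := by
      by_contra h0; exact hzT (m11 z hz h0)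
    have n22 : GG h a₂ b₂ z = 0 := by
      by_contra h0; exact hzT (m22 z hz h0)
    have n12 : GG h a₁ b₂ z = 0 := by
      by_contra h0; exact hzT (m12 z hz h0)
    have n21 : GG h a₂ b₁ z = 0 := by
      by_contra h0; exact hzT (m21 z hz h0)
    rw [n11, n22, n12, n21]; ring)]
  rw [Finset.sum_congr rfl (fun z hz => hHH z (hTsub z hz)), Finset.sum_sub_distrib,
    Finset.sum_add_distrib, Finset.sum_add_distrib, z11, z22, z12, z21]
  ring

end skl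

end Groth.Agent.Lib.Seat9.C1Dict
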