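import Mathlib
import Groth.Agent.Lib.Seat9C1DictA

/-!
# c1 commutativity (seat 9), part E: the tame symbol at `z` and units of `O_{X,z}`
-/

set_option autoImplicit false
set_option linter.style.haveILetI false
universe u
open AlgebraicGeometry CategoryTheory

namespace Groth.Agent.Lib.Seat9.C1Dict

open Cyc IsLocalRing Groth.Agent.Lib.Seat32.GenPrime Groth.Agent.Lib.Seat28.OrdFrac

variable {X : Scheme.{u}} [IsLocallyNoetherian X]

/-- the residue map `O_{X,z} → κ(z)` with codomain `X.residueField z` -/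
noncomputable def res (z : X) : X.presheaf.stalk z →+* X.residueField z :=
  IsLocalRing.residue (X.presheaf.stalk z)

section units

variable {z ξ : X} (h₁ : ξ ⤳ z) (hd1 : ringKrullDim (LocQuot z ξ h₁) = 1)

include hd1

theorem tameAt_ne_zero {a b : X.residueField ξ} (ha : a ≠ 0) (hb : b ≠ 0) :
    tameAt z ξ h₁ a b ≠ 0 :=
  (map_ne_zero_iff _ (rho z ξ h₁).injective).2 (TameFrac.tameK_ne_zero hd1 ha hb)

omit hd1 in
theorem specMap_unit_ne_zero (r : (X.presheaf.stalk z)ˣ) :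
    specMap z ξ h₁ (r : X.presheaf.stalk z) ≠ 0 :=
  (r.isUnit.map (specMap z ξ h₁)).ne_zero

omit [IsLocallyNoetherian X] hd1 in
theorem residue_unit_ne_zero (r : (X.presheaf.stalk z)ˣ) :
    res z (r : X.presheaf.stalk z) ≠ 0 :=
  (r.isUnit.map (res z)).ne_zero

theorem tameAt_mul_units {a b : X.residueField ξ} (ha : a ≠ 0) (hb : b ≠ 0)
    (r s : (X.presheaf.stalk z)ˣ) :
    tameAt z ξ h₁ (a * specMap z ξ h₁ (r : X.presheaf.stalk z))
        (b * specMap z ξ h₁ (s : X.presheaf.stalk z)) =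
      tameAt z ξ h₁ a b *
        res z (r : X.presheaf.stalk z) ^
          (ordAt z ξ h₁ b) *
        res z (s : X.presheaf.stalk z) ^
          (- ordAt z ξ h₁ a) := by
  set rB : (LocQuot z ξ h₁)ˣ := Units.map (Ideal.Quotient.mk (RingHom.ker (specMap z ξ h₁)) :
    X.presheaf.stalk z →* LocQuot z ξ h₁) r with hrB
  set sB : (LocQuot z ξ h₁)ˣ := Units.map (Ideal.Quotient.mk (RingHom.ker (specMap z ξ h₁)) :
    X.presheaf.stalk z →* LocQuot z ξ h₁) s with hsB
  have hr : specMap z ξ h₁ (r : X.presheaf.stalk z) =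
      algebraMap (LocQuot z ξ h₁) (X.residueField ξ) (rB : LocQuot z ξ h₁) := rfl
  have hs : specMap z ξ h₁ (s : X.presheaf.stalk z) =
      algebraMap (LocQuot z ξ h₁) (X.residueField ξ) (sB : LocQuot z ξ h₁) := rfl
  have hr0 := specMap_unit_ne_zero h₁ r
  have hs0 := specMap_unit_ne_zero h₁ s
  unfold tameAt ordAt
  rw [hr] at hr0
  rw [hs] at hs0
  rw [hr, hs]
  rw [TameFrac.tameK_mul_left hd1 ha hr0 (mul_ne_zero hb hs0),
    TameFrac.tameK_mul_right hd1 ha hb hs0, TameFrac.tameK_mul_right hd1 hr0 hb hs0,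
    TameFrac.tameK_unit_left hd1 rB hb, TameFrac.tameK_unit_left hd1 rB hs0,
    TameFrac.tameK_unit_right hd1 sB ha, ordFrac_algebraMap_of_isUnit sB.isUnit, zpow_zero,
    mul_one, map_mul, map_mul, map_zpow₀, map_zpow₀]
  have e1 : rho z ξ h₁ (residue _ (rB : LocQuot z ξ h₁)) =
      res z (r : X.presheaf.stalk z) :=
    rho_residue_mk z ξ h₁ _
  have e2 : rho z ξ h₁ (residue _ (sB : LocQuot z ξ h₁)) =
      res z (s : X.presheaf.stalk z) :=
    rho_residue_mk z ξ h₁ _
  rw [e1, e2]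
  ring

end units

section ords

variable {x z ξ : X} (h₁ : ξ ⤳ z) (h₂ : z ⤳ x) (hd1 : ringKrullDim (LocQuot z ξ h₁) = 1)

include hd1 in
theorem ordAt_tameAt_units {a b : X.residueField ξ} (ha : a ≠ 0) (hb : b ≠ 0)
    (r s : (X.presheaf.stalk z)ˣ) :
    ordAt x z h₂ (tameAt z ξ h₁ a b) =
      ordAt x z h₂ (tameAt z ξ h₁ (a * specMap z ξ h₁ (r : X.presheaf.stalk z))
        (b * specMap z ξ h₁ (s : X.presheaf.stalk z))) +
      ordAt z ξ h₁ a *
        ordAt x z h₂ (res z (s : X.presheaf.stalk z)) -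
      ordAt z ξ h₁ b *
        ordAt x z h₂ (res z (r : X.presheaf.stalk z)) := by
  rw [tameAt_mul_units h₁ hd1 ha hb r s]
  have t0 := tameAt_ne_zero h₁ hd1 ha hb
  have r0 := residue_unit_ne_zero r
  have s0 := residue_unit_ne_zero s
  unfold ordAt at *
  rw [ordFrac_mul (mul_ne_zero t0 (zpow_ne_zero _ r0)) (zpow_ne_zero _ s0),
    ordFrac_mul t0 (zpow_ne_zero _ r0), ordFrac_zpow r0, ordFrac_zpow s0]
  ring

end ords

end Groth.Agent.Lib.Seat9.C1Dict
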