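import Mathlib
import Groth.Agent.Lib.Seat9C1Skl
import Groth.Agent.Lib.Seat9C1Unit

/-!
# c1 commutativity (seat 9), part F: the abstract core

Two "divisor data" on the closure of `ξ` (local equations `c z ∈ κ(ξ)^*` at every point `z` of the
closure, with transition units) have commuting intersection products up to the divisors of the
tame symbols of their local equations at the codimension one points.
-/

set_option autoImplicit false
set_option linter.style.haveILetI false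
universe u
open AlgebraicGeometry CategoryTheory

namespace Groth.Agent.Lib.Seat9.C1Dict

open Cyc IsLocalRing Groth.Agent.Lib.Seat32.GenPrime Groth.Agent.Lib.Seat28.OrdFrac

variable {X : Scheme.{u}}

/-- local equations of a Cartier divisor on the closure of `ξ`, with transition units -/
structure DivData (δ : X → ℤ) (ξ : X) where
  /-- the local equation at `z` -/
  c : (z : X) → ξ ⤳ z → X.residueField ξ
  c_ne : ∀ z h, c z h ≠ 0
  /-- the transition unit at `z` between the equations at `z` and at `x` -/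
  ρ : (x z : X) → z ⤳ x → (X.presheaf.stalk z)ˣ
  compat : ∀ (x z : X) (h₁ : ξ ⤳ z) (h₂ : z ⤳ x),
    c x (h₁.trans h₂) = c z h₁ * specMap z ξ h₁ (ρ x z h₂ : X.presheaf.stalk z)
  fin : ∀ V : X.Opens, IsAffineOpen V →
    {z : X | z ∈ V ∧ ∃ h : ξ ⤳ z, δ z + 1 = δ ξ ∧
      ¬ ∃ u : (X.presheaf.stalk z)ˣ, c z h = specMap z ξ h (u : X.presheaf.stalk z)}.Finite

/-- the codimension one points of the closure of `ξ` -/
def Cod1 (δ : X → ℤ) (ξ : X) : Set X := {z | ξ ⤳ z ∧ δ z + 1 = δ ξ}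

namespace DivData

variable {δ : X → ℤ} {ξ : X}

open Classical in
/-- the multiplicity of the divisor at `z` -/
noncomputable def A (D : DivData δ ξ) (z : X) : ℤ :=
  if h : ξ ⤳ z ∧ δ z + 1 = δ ξ then ordAt z ξ h.1 (D.c z h.1) else 0

open Classical in
/-- the order along `z ⤳ x` of the transition unit -/
noncomputable def E (D : DivData δ ξ) (z x : X) : ℤ :=
  if h : z ⤳ x ∧ δ x + 1 = δ z then ordAt x z h.1 (res z (D.ρ x z h.1 : X.presheaf.stalk z)) else 0

/-- the points where the local equation is not a unit -/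
def Bad (D : DivData δ ξ) : Set X :=
  {z | ∃ h : ξ ⤳ z, δ z + 1 = δ ξ ∧
    ¬ ∃ u : (X.presheaf.stalk z)ˣ, D.c z h = specMap z ξ h (u : X.presheaf.stalk z)}

variable [IsLocallyNoetherian X]

open Classical in
/-- the tame symbol of the two local equations at `z` -/
noncomputable def hh (D D' : DivData δ ξ) (z : X) : X.residueField z :=
  if h : ξ ⤳ z then tameAt z ξ h (D.c z h) (D'.c z h) else 1

theorem A_eq_zero_of_notMem (D : DivData δ ξ) {z : X} (hz : z ∉ D.Bad) : D.A z = 0 := by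
  unfold A
  split_ifs with h
  · have : ∃ u : (X.presheaf.stalk z)ˣ, D.c z h.1 = specMap z ξ h.1 (u : X.presheaf.stalk z) := by
      by_contra hno
      exact hz ⟨h.1, h.2, hno⟩
    obtain ⟨u, hu⟩ := this
    rw [hu]
    unfold ordAt
    have : specMap z ξ h.1 (u : X.presheaf.stalk z) =
        algebraMap (LocQuot z ξ h.1) (X.residueField ξ)
          (Ideal.Quotient.mk _ (u : X.presheaf.stalk z)) := rfl
    rw [this]
    exact ordFrac_algebraMap_of_isUnit (u.isUnit.map _)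
  · rfl

theorem hh_ne_zero (hδ : IsDimFun X δ) (D D' : DivData δ ξ) {z : X} (hz : z ∈ Cod1 δ ξ) :
    hh D D' z ≠ 0 := by
  unfold hh
  rw [dif_pos hz.1]
  exact tameAt_ne_zero hz.1 (ringKrullDim_locQuot_eq_one hδ hz.1 hz.2) (D.c_ne _ _) (D'.c_ne _ _)

theorem hh_eq_one_of_notMem (hδ : IsDimFun X δ) (D D' : DivData δ ξ) {z : X} (hz : z ∈ Cod1 δ ξ)
    (h1 : z ∉ D.Bad) (h2 : z ∉ D'.Bad) : hh D D' z = 1 := by
  obtain ⟨h, hd⟩ := hz
  have hd1 := ringKrullDim_locQuot_eq_one hδ h hd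
  have e1 : ∃ u : (X.presheaf.stalk z)ˣ, D.c z h = specMap z ξ h (u : X.presheaf.stalk z) := by
    by_contra hno
    exact h1 ⟨h, hd, hno⟩
  have e2 : ∃ u : (X.presheaf.stalk z)ˣ, D'.c z h = specMap z ξ h (u : X.presheaf.stalk z) := by
    by_contra hno
    exact h2 ⟨h, hd, hno⟩
  obtain ⟨r, hr⟩ := e1
  obtain ⟨s, hs⟩ := e2
  unfold hh
  rw [dif_pos h, hr, hs]
  have key := tameAt_mul_units h hd1 (one_ne_zero (α := X.residueField ξ))
    (one_ne_zero (α := X.residueField ξ)) r s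
  rw [one_mul, one_mul] at key
  rw [key]
  have o1 : ordAt z ξ h (1 : X.residueField ξ) = 0 := by
    unfold ordAt; exact ordFrac_one
  rw [o1, neg_zero, zpow_zero, zpow_zero, mul_one, mul_one]
  unfold tameAt
  have : TameFrac.tameK (LocQuot z ξ h) (X.residueField ξ) 1 1 = 1 := by
    have := TameFrac.tameK_algebraMap (K := X.residueField ξ) hd1
      (one_ne_zero (α := LocQuot z ξ h)) (one_ne_zero (α := LocQuot z ξ h))
    rw [map_one] at this
    rw [this]
    exact TameFrac.T_one_left hd1 one_ne_zero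
  rw [this, map_one]

omit [IsLocallyNoetherian X] in
theorem A_ne_zero (D : DivData δ ξ) {z : X} (h : D.A z ≠ 0) : ξ ⤳ z ∧ δ z + 1 = δ ξ := by
  by_contra hno
  apply h
  unfold A
  rw [dif_neg hno]

omit [IsLocallyNoetherian X] in
theorem E_ne_zero (D : DivData δ ξ) {z x : X} (h : D.E z x ≠ 0) : z ⤳ x ∧ δ x + 1 = δ z := by
  by_contra hno
  apply h
  unfold E
  rw [dif_neg hno]

omit [IsLocallyNoetherian X] in
theorem divFun_ne_zero {z x : X} {f : X.residueField z} (h : divFun δ z f x ≠ 0) :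
    z ⤳ x ∧ δ x + 1 = δ z := by
  by_contra hno
  apply h
  unfold divFun
  rw [dif_neg hno]

omit [IsLocallyNoetherian X] in
theorem divFun_one (z x : X) : divFun δ z (1 : X.residueField z) x = 0 := by
  unfold divFun
  split_ifs with h3
  · unfold ordAt; exact ordFrac_one
  · rfl

theorem mem_affine_of_specializes {z x : X} (h₂ : z ⤳ x) {V : X.Opens} (hxV : x ∈ V) : z ∈ V :=
  h₂.mem_open V.2 hxV

/-- the pointwise identity at a point `z` between `ξ` and `x` -/
theorem term_eq (hδ : IsDimFun X δ) (D D' : DivData δ ξ) {x z : X} (hx : ξ ⤳ x)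
    (h2 : δ x + 2 = δ ξ) (hz : z ∈ Btw δ x ξ) :
    divFun δ z (hh D D' z) x =
      HH x (D.c x hx) (D'.c x hx) z + D.A z * D'.E z x - D'.A z * D.E z x := by
  obtain ⟨h₁, h₂, hzd⟩ := hz
  have hd1 := ringKrullDim_locQuot_eq_one hδ h₁ hzd
  have hxz : δ x + 1 = δ z := by omega
  have e1 : divFun δ z (hh D D' z) x =
      ordAt x z h₂ (tameAt z ξ h₁ (D.c z h₁) (D'.c z h₁)) := by
    unfold divFun hh
    rw [dif_pos ⟨h₂, hxz⟩, dif_pos h₁]
  have e2 : D.A z = ordAt z ξ h₁ (D.c z h₁) := by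
    unfold A; rw [dif_pos ⟨h₁, hzd⟩]
  have e3 : D'.A z = ordAt z ξ h₁ (D'.c z h₁) := by
    unfold A; rw [dif_pos ⟨h₁, hzd⟩]
  have e4 : D.E z x = ordAt x z h₂ (res z (D.ρ x z h₂ : X.presheaf.stalk z)) := by
    unfold E; rw [dif_pos ⟨h₂, hxz⟩]
  have e5 : D'.E z x = ordAt x z h₂ (res z (D'.ρ x z h₂ : X.presheaf.stalk z)) := by
    unfold E; rw [dif_pos ⟨h₂, hxz⟩]
  have e6 : HH x (D.c x hx) (D'.c x hx) z =
      ordAt x z h₂ (tameAt z ξ h₁ (D.c x hx) (D'.c x hx)) := by
    unfold HH; rw [dif_pos ⟨h₁, h₂⟩]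
  rw [e1, e2, e3, e4, e5, e6]
  rw [ordAt_tameAt_units h₁ h₂ hd1 (D.c_ne z h₁) (D'.c_ne z h₁) (D.ρ x z h₂) (D'.ρ x z h₂),
    ← D.compat x z h₁ h₂, ← D'.compat x z h₁ h₂]

/-- the abstract core: commutation up to divisors of tame symbols. -/
theorem core (hδ : IsDimFun X δ) (D D' : DivData δ ξ) (x : X) :
    (∑ᶠ z, D.A z * D'.E z x) - (∑ᶠ z, D'.A z * D.E z x) =
      ∑ᶠ z ∈ Cod1 δ ξ, divFun δ z (hh D D' z) x := by
  classical
  by_cases hx : ξ ⤳ x ∧ δ x + 2 = δ ξ
  · obtain ⟨hx, h2⟩ := hx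
    obtain ⟨V, hV, hxV, -⟩ := exists_isAffineOpen_mem_and_subset (U := ⊤) (x := x) (by simp)
    have hfin : ({z : X | z ∈ V ∧ z ∈ D.Bad} ∪ {z : X | z ∈ V ∧ z ∈ D'.Bad}).Finite :=
      (D.fin V hV).union (D'.fin V hV)
    set T : Finset X := (hfin.subset (Set.inter_subset_left (t := Btw δ x ξ))).toFinset with hT
    have hTsub : ∀ z ∈ T, z ∈ Btw δ x ξ := by
      intro z hz
      rw [hT, Set.Finite.mem_toFinset] at hz
      exact hz.2
    have hmemT : ∀ z ∈ Btw δ x ξ, (z ∈ D.Bad ∨ z ∈ D'.Bad) → z ∈ T := by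
      intro z hz hbad
      rw [hT, Set.Finite.mem_toFinset]
      have hzV : z ∈ V := mem_affine_of_specializes hz.2.1 hxV
      refine ⟨?_, hz⟩
      rcases hbad with hb | hb
      · exact Or.inl ⟨hzV, hb⟩
      · exact Or.inr ⟨hzV, hb⟩
    -- the three functions
    set F₁ : X → ℤ := fun z => D.A z * D'.E z x with hF₁
    set F₂ : X → ℤ := fun z => D'.A z * D.E z x with hF₂
    set R : X → ℤ := fun z => divFun δ z (hh D D' z) x with hR
    set H : X → ℤ := HH x (D.c x hx) (D'.c x hx) with hH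
    have hterm : ∀ z ∈ Btw δ x ξ, R z = H z + F₁ z - F₂ z :=
      fun z hz => term_eq hδ D D' hx h2 hz
    -- supports
    have s1 : ∀ z, F₁ z ≠ 0 → z ∈ Btw δ x ξ ∧ z ∈ D.Bad := by
      intro z hne
      have hA : D.A z ≠ 0 := left_ne_zero_of_mul hne
      have hE : D'.E z x ≠ 0 := right_ne_zero_of_mul hne
      have hbad : z ∈ D.Bad := by
        by_contra hno
        exact hA (D.A_eq_zero_of_notMem hno)
      have h1 := D.A_ne_zero hA
      have h3 := D'.E_ne_zero hE
      exact ⟨⟨h1.1, h3.1, h1.2⟩, hbad⟩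
    have s2 : ∀ z, F₂ z ≠ 0 → z ∈ Btw δ x ξ ∧ z ∈ D'.Bad := by
      intro z hne
      have hA : D'.A z ≠ 0 := left_ne_zero_of_mul hne
      have hE : D.E z x ≠ 0 := right_ne_zero_of_mul hne
      have hbad : z ∈ D'.Bad := by
        by_contra hno
        exact hA (D'.A_eq_zero_of_notMem hno)
      have h1 := D'.A_ne_zero hA
      have h3 := D.E_ne_zero hE
      exact ⟨⟨h1.1, h3.1, h1.2⟩, hbad⟩
    have s3 : ∀ z ∈ Cod1 δ ξ, R z ≠ 0 → z ∈ Btw δ x ξ ∧ (z ∈ D.Bad ∨ z ∈ D'.Bad) := by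
      intro z hz hne
      have hbad : z ∈ D.Bad ∨ z ∈ D'.Bad := by
        by_contra hno
        push Not at hno
        apply hne
        show divFun δ z (hh D D' z) x = 0
        rw [hh_eq_one_of_notMem hδ D D' hz hno.1 hno.2]
        exact divFun_one z x
      have hne' : divFun δ z (hh D D' z) x ≠ 0 := hne
      have h3 := divFun_ne_zero hne'
      exact ⟨⟨hz.1, h3.1, hz.2⟩, hbad⟩
    -- conversion to finite sums
    have c1 : ∑ᶠ z, F₁ z = ∑ z ∈ T, F₁ z := by
      apply finsum_eq_sum_of_support_subset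
      intro z hz
      exact hmemT z (s1 z hz).1 (Or.inl (s1 z hz).2)
    have c2 : ∑ᶠ z, F₂ z = ∑ z ∈ T, F₂ z := by
      apply finsum_eq_sum_of_support_subset
      intro z hz
      exact hmemT z (s2 z hz).1 (Or.inr (s2 z hz).2)
    have c3 : ∑ᶠ z ∈ Cod1 δ ξ, R z = ∑ z ∈ T, R z := by
      apply finsum_mem_eq_sum_of_inter_support_eq
      ext z
      constructor
      · rintro ⟨hz1, hz2⟩
        exact ⟨hmemT z (s3 z hz1 hz2).1 (s3 z hz1 hz2).2, hz2⟩
      · rintro ⟨hz1, hz2⟩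
        have := hTsub z hz1
        exact ⟨⟨this.1, this.2.2⟩, hz2⟩
    have c4 : ∑ᶠ z ∈ Btw δ x ξ, H z = ∑ z ∈ T, H z := by
      apply finsum_mem_eq_sum_of_inter_support_eq
      ext z
      constructor
      · rintro ⟨hz1, hz2⟩
        refine ⟨?_, hz2⟩
        by_contra hzT
        apply hz2
        have e := hterm z hz1
        have n1 : F₁ z = 0 := by
          by_contra h0; exact hzT (hmemT z hz1 (Or.inl (s1 z h0).2))
        have n2 : F₂ z = 0 := by
          by_contra h0; exact hzT (hmemT z hz1 (Or.inr (s2 z h0).2))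
        have n3 : R z = 0 := by
          by_contra h0; exact hzT (hmemT z hz1 (s3 z ⟨hz1.1, hz1.2.2⟩ h0).2)
        rw [n1, n2, n3] at e
        show H z = 0
        linarith
      · rintro ⟨hz1, hz2⟩
        exact ⟨hTsub z hz1, hz2⟩
    have skl := finsum_HH_eq_zero hδ hx h2 (D.c x hx) (D'.c x hx) (D.c_ne _ _) (D'.c_ne _ _)
    rw [c4] at skl
    show (∑ᶠ z, F₁ z) - (∑ᶠ z, F₂ z) = ∑ᶠ z ∈ Cod1 δ ξ, R z
    rw [c1, c2, c3, Finset.sum_congr rfl (fun z hz => hterm z (hTsub z hz)), Finset.sum_sub_distrib,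
      Finset.sum_add_distrib, skl]
    ring
  · have z1 : ∀ z, D.A z * D'.E z x = 0 := by
      intro z
      by_contra hne
      have hA : D.A z ≠ 0 := left_ne_zero_of_mul hne
      have hE : D'.E z x ≠ 0 := right_ne_zero_of_mul hne
      have h1 := D.A_ne_zero hA
      have h3 := D'.E_ne_zero hE
      exact hx ⟨h1.1.trans h3.1, by omega⟩
    have z2 : ∀ z, D'.A z * D.E z x = 0 := by
      intro z
      by_contra hne
      have hA : D'.A z ≠ 0 := left_ne_zero_of_mul hne
      have hE : D.E z x ≠ 0 := right_ne_zero_of_mul hne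
      have h1 := D'.A_ne_zero hA
      have h3 := D.E_ne_zero hE
      exact hx ⟨h1.1.trans h3.1, by omega⟩
    have z3 : ∀ z ∈ Cod1 δ ξ, divFun δ z (hh D D' z) x = 0 := by
      intro z hz
      by_contra hne
      have h3 := divFun_ne_zero hne
      exact hx ⟨hz.1.trans h3.1, by have := hz.2; omega⟩
    rw [finsum_eq_zero_of_forall_eq_zero z1, finsum_eq_zero_of_forall_eq_zero z2,
      finsum_mem_eq_zero_of_forall_eq_zero z3, sub_zero]

end DivData

end Groth.Agent.Lib.Seat9.C1Dict
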