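import Mathlib
import Groth.Agent.Lib.Seat9C1Core
import Groth.Agent.Lib.Seat28C1Gen
import Groth.Agent.Lib.Seat32CycFin

/-!
# c1 commutativity (seat 9), part G: frames of an invertible module and transition units
-/

set_option autoImplicit false
set_option linter.style.haveILetI false
universe u
open AlgebraicGeometry CategoryTheory TopologicalSpace Opposite

namespace Groth.Agent.Lib.Seat9.C1Dict

open Cyc IsLocalRing Groth.Agent.Lib.Seat32.GenPrime Groth.Agent.Lib.Seat28.OrdFrac
  Groth.Agent.Lib.Seat28.C1Gen Groth.Agent.Lib.Seat28.C1Inv Groth.Agent.Lib.Helper2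
  Groth.Agent.Lib.Helper20.InvGen

variable {X : Scheme.{u}} {L : X.Modules}

section transition

variable {W W' : X.Opens} {τ : Γ(L, W)} {τ' : Γ(L, W')} (hτ : IsFrame L W τ) (hτ' : IsFrame L W' τ')

/-- the coordinate with values in `X.residueField y` -/
noncomputable def coordK {W : X.Opens} {τ : Γ(L, W)} (hτ : IsFrame L W τ) (y : X) (hy : y ∈ W)
    (s : secFibre L y) : X.residueField y := coord hτ y hy s

include hτ hτ' in
/-- the transition unit at `z ∈ W ∩ W'`: `germ_z τ' = trans • germ_z τ` -/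
theorem exists_trans (z : X) (hz : z ∈ W) (hz' : z ∈ W') :
    ∃ ρ : (X.presheaf.stalk z)ˣ,
      L.presheaf.germ W' z hz' τ' = (ρ : X.presheaf.stalk z) • L.presheaf.germ W z hz τ := by
  obtain ⟨r, hr⟩ := (hτ z hz).2 (L.presheaf.germ W' z hz' τ')
  obtain ⟨r', hr'⟩ := (hτ' z hz').2 (L.presheaf.germ W z hz τ)
  have hr1 : r • L.presheaf.germ W z hz τ = L.presheaf.germ W' z hz' τ' := hr
  have hr2 : r' • L.presheaf.germ W' z hz' τ' = L.presheaf.germ W z hz τ := hr'
  have h1 : r' * r = 1 := by
    apply (hτ z hz).1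
    change (r' * r) • L.presheaf.germ W z hz τ = (1 : X.presheaf.stalk z) • _
    rw [mul_smul, hr1, hr2, one_smul]
  have hu : IsUnit r := IsUnit.of_mul_eq_one_right r' h1
  exact ⟨hu.unit, hr1.symm⟩

/-- the transition unit -/
noncomputable def trans (z : X) (hz : z ∈ W) (hz' : z ∈ W') : (X.presheaf.stalk z)ˣ :=
  (exists_trans hτ hτ' z hz hz').choose

theorem trans_spec (z : X) (hz : z ∈ W) (hz' : z ∈ W') :
    L.presheaf.germ W' z hz' τ' =
      (trans hτ hτ' z hz hz' : X.presheaf.stalk z) • L.presheaf.germ W z hz τ :=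
  (exists_trans hτ hτ' z hz hz').choose_spec

/-- change of frame for the coordinate of a rational section at a generization `ξ` of `z` -/
theorem coord_eq_mul_specMap {z ξ : X} (h : ξ ⤳ z) (hz : z ∈ W) (hz' : z ∈ W')
    (s : secFibre L ξ) :
    coordK hτ ξ (h.mem_open W.2 hz) s =
      coordK hτ' ξ (h.mem_open W'.2 hz') s *
        specMap z ξ h (trans hτ hτ' z hz hz' : X.presheaf.stalk z) := by
  have hξ : ξ ∈ W := h.mem_open W.2 hz
  have hξ' : ξ ∈ W' := h.mem_open W'.2 hz'
  obtain ⟨a, rfl⟩ := exists_eq_smul_germ hτ' ξ hξ' s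
  unfold coordK
  rw [coord_mk_smul_germ]
  have e1 : L.presheaf.stalkSpecializes h (L.presheaf.germ W z hz τ) = L.presheaf.germ W ξ hξ τ :=
    ConcreteCategory.congr_hom (TopCat.Presheaf.germ_stalkSpecializes L.presheaf hz h) τ
  have e2 : L.presheaf.stalkSpecializes h (L.presheaf.germ W' z hz' τ') =
      L.presheaf.germ W' ξ hξ' τ' :=
    ConcreteCategory.congr_hom (TopCat.Presheaf.germ_stalkSpecializes L.presheaf hz' h) τ'
  have e3 : L.presheaf.germ W' ξ hξ' τ' =
      (X.presheaf.stalkSpecializes h (trans hτ hτ' z hz hz' : X.presheaf.stalk z)) •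
        L.presheaf.germ W ξ hξ τ := by
    rw [← e2, trans_spec hτ hτ' z hz hz', stalkSpecializes_smul, e1]
  have e4 : a • L.presheaf.germ W' ξ hξ' τ' =
      (a * X.presheaf.stalkSpecializes h (trans hτ hτ' z hz hz' : X.presheaf.stalk z)) •
        L.presheaf.germ W ξ hξ τ := by
    rw [e3, mul_smul]
  rw [e4, coord_mk_smul_germ, map_mul]
  rfl

/-- the coordinate at `z` itself of the germ of the other frame is the residue of the transition
unit -/
theorem coord_mk_germ (z : X) (hz : z ∈ W) (hz' : z ∈ W') :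
    coordK hτ z hz (Submodule.Quotient.mk (L.presheaf.germ W' z hz' τ')) =
      res z (trans hτ hτ' z hz hz' : X.presheaf.stalk z) := by
  unfold coordK
  rw [trans_spec hτ hτ' z hz hz', coord_mk_smul_germ]
  rfl

end transition

/-- a choice of a frame around every point -/
structure Frames (L : X.Modules) where
  /-- the domain of the frame at `y` -/
  W : X → X.Opens
  /-- the frame at `y` -/
  τ : (y : X) → Γ(L, W y)
  mem : ∀ y, y ∈ W y
  isFrame : ∀ y, IsFrame L (W y) (τ y)

theorem exists_frames (hL : PicF.IsInvertible L) : Nonempty (Frames L) := by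
  choose W t hmem ht using fun y => exists_local_generator L hL y
  exact ⟨⟨W, t, hmem, ht⟩⟩

end Groth.Agent.Lib.Seat9.C1Dict
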