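import Mathlib
import Groth.Agent.Lib.Seat9C1ModA

/-!
# c1 commutativity (seat 9), part H: the divisor data of a rational section of an invertible module
-/

set_option autoImplicit false
set_option linter.style.haveILetI false
universe u
open AlgebraicGeometry CategoryTheory TopologicalSpace Opposite

namespace Groth.Agent.Lib.Seat9.C1Dict

open Cyc IsLocalRing Groth.Agent.Lib.Seat32.GenPrime Groth.Agent.Lib.Seat28.OrdFrac
  Groth.Agent.Lib.Seat28.C1Gen Groth.Agent.Lib.Seat28.C1Inv Groth.Agent.Lib.Helper2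
  Groth.Agent.Lib.Helper20.InvGen Groth.Agent.Lib.Seat32.CycFin

variable {X : Scheme.{u}} {L : X.Modules}

section data

variable (F : Frames L) (ξ : X) (s : secFibre L ξ)

/-- the local equation of `s` at `z` -/
noncomputable def cOf (z : X) (h : ξ ⤳ z) : X.residueField ξ :=
  coordK (F.isFrame z) ξ (h.mem_open (F.W z).2 (F.mem z)) s

/-- the transition unit at `z` between the frames at `x` and `z` -/
noncomputable def rhoOf (x z : X) (h₂ : z ⤳ x) : (X.presheaf.stalk z)ˣ :=
  trans (F.isFrame x) (F.isFrame z) z (h₂.mem_open (F.W x).2 (F.mem x)) (F.mem z)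

theorem cOf_ne_zero (hs : s ≠ 0) (z : X) (h : ξ ⤳ z) : cOf F ξ s z h ≠ 0 :=
  coord_ne_zero (F.isFrame z) ξ _ hs

theorem cOf_compat (x z : X) (h₁ : ξ ⤳ z) (h₂ : z ⤳ x) :
    cOf F ξ s x (h₁.trans h₂) =
      cOf F ξ s z h₁ * specMap z ξ h₁ (rhoOf F x z h₂ : X.presheaf.stalk z) :=
  coord_eq_mul_specMap (F.isFrame x) (F.isFrame z) h₁ (h₂.mem_open (F.W x).2 (F.mem x)) (F.mem z) s

/-- the local equation at `z` with respect to another frame around `z` differs by a unit -/
theorem cOf_eq_of_frame {W : X.Opens} {τ : Γ(L, W)} (hτ : IsFrame L W τ) (z : X) (hz : z ∈ W)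
    (h : ξ ⤳ z) :
    coordK hτ ξ (h.mem_open W.2 hz) s =
      cOf F ξ s z h * specMap z ξ h (trans hτ (F.isFrame z) z hz (F.mem z) : X.presheaf.stalk z) :=
  coord_eq_mul_specMap hτ (F.isFrame z) h hz (F.mem z) s

variable [IsLocallyNoetherian X] {δ : X → ℤ} (hδ : IsDimFun X δ)

include hδ in
/-- finiteness of the non-unit locus inside an affine open contained in a frame domain -/
theorem finite_bad_of_le (hs : s ≠ 0) {W : X.Opens} {τ : Γ(L, W)} (hτ : IsFrame L W τ)
    {V : X.Opens} (hV : IsAffineOpen V) (hVW : V ≤ W) :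
    {z : X | z ∈ V ∧ ∃ h : ξ ⤳ z, δ z + 1 = δ ξ ∧
      ¬ ∃ u : (X.presheaf.stalk z)ˣ, cOf F ξ s z h = specMap z ξ h (u : X.presheaf.stalk z)}.Finite := by
  by_cases hξV : ξ ∈ V
  · set φ : X.residueField ξ := coordK hτ ξ (hVW hξV) s with hφ
    have hφ0 : φ ≠ 0 := coord_ne_zero hτ ξ _ hs
    obtain ⟨a, b, hb, hab⟩ := exists_eq_div hV ξ hξV φ
    have ha : (X.presheaf.germ V ξ hξV ≫ X.residue ξ).hom a ≠ 0 := by
      intro h0
      apply hφ0
      rw [hab, h0, zero_div]
    have haξ : ξ ∈ X.basicOpen a := by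
      by_contra hnot
      exact ha ((Scheme.evaluation_eq_zero_iff_notMem_basicOpen X ξ hξV a).2 hnot)
    have hbξ : ξ ∈ X.basicOpen b := by
      by_contra hnot
      exact hb ((Scheme.evaluation_eq_zero_iff_notMem_basicOpen X ξ hξV b).2 hnot)
    refine ((finite_immediate_specializations_zeroLocus hδ hV ξ hξV a haξ).union
      (finite_immediate_specializations_zeroLocus hδ hV ξ hξV b hbξ)).subset ?_
    rintro z ⟨hzV, h, hd, hnot⟩
    by_cases hza : z ∈ X.basicOpen a
    · by_cases hzb : z ∈ X.basicOpen b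
      · exfalso
        apply hnot
        obtain ⟨ua, hua⟩ := (X.mem_basicOpen a z hzV).1 hza
        obtain ⟨ub, hub⟩ := (X.mem_basicOpen b z hzV).1 hzb
        have hua' : (X.presheaf.germ V z hzV).hom a = (ua : X.presheaf.stalk z) := hua.symm
        have hub' : (X.presheaf.germ V z hzV).hom b = (ub : X.presheaf.stalk z) := hub.symm
        have hsp : ∀ r : Γ(X, V), (X.presheaf.germ V ξ hξV ≫ X.residue ξ).hom r =
            specMap z ξ h ((X.presheaf.germ V z hzV).hom r) := by
          intro r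
          unfold specMap
          have h1 := TopCat.Presheaf.germ_stalkSpecializes X.presheaf hzV h
          simp only [CommRingCat.hom_comp, RingHom.coe_comp, Function.comp_apply]
          rw [← h1]
          rfl
        have hkey := cOf_eq_of_frame F ξ s hτ z (hVW hzV) h
        have hφ' : coordK hτ ξ (h.mem_open W.2 (hVW hzV)) s = φ := rfl
        rw [hφ', hab, hsp a, hsp b, hua', hub'] at hkey
        set t := trans hτ (F.isFrame z) z (hVW hzV) (F.mem z) with ht
        refine ⟨ua * ub⁻¹ * t⁻¹, ?_⟩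
        have hb0 : specMap z ξ h (ub : X.presheaf.stalk z) ≠ 0 := specMap_unit_ne_zero h ub
        have ht0 : specMap z ξ h (t : X.presheaf.stalk z) ≠ 0 := specMap_unit_ne_zero h t
        have e1 : specMap z ξ h ((ua * ub⁻¹ * t⁻¹ : (X.presheaf.stalk z)ˣ) :
            X.presheaf.stalk z) * specMap z ξ h (ub : X.presheaf.stalk z) *
              specMap z ξ h (t : X.presheaf.stalk z) =
            specMap z ξ h (ua : X.presheaf.stalk z) := by
          rw [← map_mul, ← map_mul, ← Units.val_mul, ← Units.val_mul]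
          congr 2
          calc ua * ub⁻¹ * t⁻¹ * ub * t = ua * (ub⁻¹ * ub) * (t⁻¹ * t) := by ac_rfl
            _ = ua := by simp
        have e4 : cOf F ξ s z h * specMap z ξ h (t : X.presheaf.stalk z) *
            specMap z ξ h (ub : X.presheaf.stalk z) =
            specMap z ξ h (ua : X.presheaf.stalk z) := by
          rw [← hkey, div_mul_cancel₀ _ hb0]
        have e5 : cOf F ξ s z h * (specMap z ξ h (t : X.presheaf.stalk z) *
            specMap z ξ h (ub : X.presheaf.stalk z)) =
            specMap z ξ h ((ua * ub⁻¹ * t⁻¹ : (X.presheaf.stalk z)ˣ) :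
              X.presheaf.stalk z) * (specMap z ξ h (t : X.presheaf.stalk z) *
            specMap z ξ h (ub : X.presheaf.stalk z)) := by
          rw [← mul_assoc, e4, ← e1]; ring
        exact mul_right_cancel₀ (mul_ne_zero ht0 hb0) e5
      · exact Or.inr ⟨hzV, h, hd, hzb⟩
    · exact Or.inl ⟨hzV, h, hd, hza⟩
  · convert Set.finite_empty
    ext z
    simp only [Set.mem_setOf_eq, Set.mem_empty_iff_false, iff_false, not_and]
    intro hzV
    rintro ⟨h, -⟩
    exact hξV (h.mem_open V.2 hzV)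

include hδ in
/-- finiteness of the non-unit locus inside any affine open -/
theorem finite_bad (hs : s ≠ 0) (V : X.Opens) (hV : IsAffineOpen V) :
    {z : X | z ∈ V ∧ ∃ h : ξ ⤳ z, δ z + 1 = δ ξ ∧
      ¬ ∃ u : (X.presheaf.stalk z)ˣ, cOf F ξ s z h = specMap z ξ h (u : X.presheaf.stalk z)}.Finite := by
  classical
  have hex : ∀ y : X, ∃ V' : X.Opens, IsAffineOpen V' ∧ (y ∈ V → y ∈ V') ∧ V' ≤ F.W y := by
    intro y
    obtain ⟨V', hV', hyV', hle⟩ := exists_isAffineOpen_mem_and_subset (U := F.W y) (x := y) (F.mem y)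
    exact ⟨V', hV', fun _ => hyV', hle⟩
  choose V' hV' hmem hle using hex
  obtain ⟨t, -, htcover⟩ := hV.isCompact.elim_nhds_subcover (fun y => (V' y : Set X))
    (fun y hy => (V' y).2.mem_nhds (hmem y hy))
  have hfin : (⋃ y ∈ t, {z : X | z ∈ V' y ∧ ∃ h : ξ ⤳ z, δ z + 1 = δ ξ ∧
      ¬ ∃ u : (X.presheaf.stalk z)ˣ,
        cOf F ξ s z h = specMap z ξ h (u : X.presheaf.stalk z)}).Finite :=
    Set.Finite.biUnion t.finite_toSet
      (fun y _ => finite_bad_of_le F ξ s hδ hs (F.isFrame y) (hV' y) (hle y))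
  refine hfin.subset ?_
  rintro z ⟨hzV, hz⟩
  obtain ⟨y, hyt, hzy⟩ := Set.mem_iUnion₂.1 (htcover hzV)
  exact Set.mem_iUnion₂.2 ⟨y, hyt, hzy, hz⟩

/-- the divisor data of a nonzero rational section of an invertible module -/
noncomputable def divDataOf (hs : s ≠ 0) : DivData δ ξ where
  c := cOf F ξ s
  c_ne := cOf_ne_zero F ξ s hs
  ρ := rhoOf F
  compat := cOf_compat F ξ s
  fin := finite_bad F ξ s hδ hs

end data

end Groth.Agent.Lib.Seat9.C1Dict
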