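import Mathlib
import Groth.Agent.Lib.Seat9C1ModB

/-!
# c1 commutativity (seat 9), part I: `secDivFun` in terms of divisor data
-/

set_option autoImplicit false
set_option linter.style.haveILetI false
universe u
open AlgebraicGeometry CategoryTheory TopologicalSpace Opposite

namespace Groth.Agent.Lib.Seat9.C1Dict

open Cyc IsLocalRing Groth.Agent.Lib.Seat32.GenPrime Groth.Agent.Lib.Seat28.OrdFrac
  Groth.Agent.Lib.Seat28.C1Gen Groth.Agent.Lib.Seat28.C1Inv Groth.Agent.Lib.Helper2
  Groth.Agent.Lib.Helper20.InvGen Groth.Agent.Lib.Seat32.CycFin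

variable {X : Scheme.{u}} {L : X.Modules}

section divFun

variable {δ : X → ℤ}

theorem divFun_mul {z : X} {f g : X.residueField z} (hf : f ≠ 0) (hg : g ≠ 0) (x : X) :
    divFun δ z (f * g) x = divFun δ z f x + divFun δ z g x := by
  unfold divFun
  split_ifs with h
  · unfold ordAt; exact ordFrac_mul hf hg
  · rw [add_zero]

theorem divFun_inv {z : X} (f : X.residueField z) (x : X) :
    divFun δ z f⁻¹ x = - divFun δ z f x := by
  unfold divFun
  split_ifs with h
  · unfold ordAt; exact ordFrac_inv f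
  · rw [neg_zero]

theorem divFun_zpow {z : X} {f : X.residueField z} (hf : f ≠ 0) (m : ℤ) (x : X) :
    divFun δ z (f ^ m) x = m * divFun δ z f x := by
  unfold divFun
  split_ifs with h
  · unfold ordAt; exact ordFrac_zpow hf m
  · rw [mul_zero]

end divFun

section sec

variable (F : Frames L)

/-- the rational section of `L` on the closure of `z` given by the frame at `z` -/
noncomputable def vOf (z : X) : secFibre L z :=
  Submodule.Quotient.mk (L.presheaf.germ (F.W z) z (F.mem z) (F.τ z))

theorem vOf_ne_zero (z : X) : vOf F z ≠ 0 := by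
  intro h0
  have h1 : coord (F.isFrame z) z (F.mem z) (vOf F z) = 0 := by rw [h0, map_zero]
  have h2 : coord (F.isFrame z) z (F.mem z) (vOf F z) = residue _ (1 : X.presheaf.stalk z) := by
    unfold vOf
    have := coord_mk_smul_germ (F.isFrame z) z (F.mem z) (1 : X.presheaf.stalk z)
    rwa [one_smul] at this
  rw [h2, map_one] at h1
  exact one_ne_zero h1

variable [IsLocallyNoetherian X] {δ : X → ℤ} (hδ : IsDimFun X δ)

theorem secDivFun_eq_A (ξ : X) (s : secFibre L ξ) (hs : s ≠ 0) (z : X) :
    secDivFun δ L ξ s z = (divDataOf F ξ s hδ hs).A z := by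
  unfold secDivFun DivData.A
  by_cases h : ξ ⤳ z ∧ δ z + 1 = δ ξ
  · rw [dif_pos h, dif_pos h]
    exact secOrdAt_eq_coord (F.isFrame z) h.1 (F.mem z) s
  · rw [dif_neg h, dif_neg h]

theorem secDivFun_vOf_eq_E (ξ : X) (s : secFibre L ξ) (hs : s ≠ 0) (z x : X) :
    secDivFun δ L z (vOf F z) x = (divDataOf F ξ s hδ hs).E z x := by
  unfold secDivFun DivData.E
  by_cases h : z ⤳ x ∧ δ x + 1 = δ z
  · rw [dif_pos h, dif_pos h]
    rw [secOrdAt_eq_coord (F.isFrame x) h.1 (F.mem x) (vOf F z)]
    congr 1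
    exact coord_mk_germ (F.isFrame x) (F.isFrame z) z (h.1.mem_open (F.W x).2 (F.mem x)) (F.mem z)
  · rw [dif_neg h, dif_neg h]

omit [IsLocallyNoetherian X] in
/-- any nonzero rational section differs from the frame section by a nonzero function -/
theorem exists_secDivFun_eq (hL : PicF.IsInvertible L) (z : X) (v : secFibre L z) (hv : v ≠ 0) :
    ∃ g : X.residueField z, g ≠ 0 ∧ ∀ x : X,
      secDivFun δ L z v x = divFun δ z g x + secDivFun δ L z (vOf F z) x := by
  obtain ⟨ρ, hρ⟩ := exists_smul_eq hL z v (vOf F z) (vOf_ne_zero F z)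
  refine ⟨res z ρ, ?_, ?_⟩
  · intro h0
    apply hv
    rw [hρ]
    have hm : ρ ∈ IsLocalRing.maximalIdeal (X.presheaf.stalk z) :=
      (IsLocalRing.residue_eq_zero_iff _).1 h0
    obtain ⟨m, hm'⟩ := Submodule.Quotient.mk_surjective _ (vOf F z)
    rw [← hm', ← Submodule.Quotient.mk_smul, Submodule.Quotient.mk_eq_zero]
    exact Submodule.smul_mem_smul hm Submodule.mem_top
  · intro x
    unfold secDivFun divFun
    by_cases h : z ⤳ x ∧ δ x + 1 = δ z
    · rw [dif_pos h, dif_pos h, dif_pos h]
      conv_lhs => rw [hρ]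
      exact secOrdAt_smul hL h.1 ρ (vOf F z) (by rw [← hρ]; exact hv)
    · rw [dif_neg h, dif_neg h, dif_neg h, add_zero]

end sec

end Groth.Agent.Lib.Seat9.C1Dict
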