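import Mathlib
import Groth.Agent.Lib.Seat9C1ModC

/-!
# c1 commutativity (seat 9), part J: the pointwise commutation formula

For a point `ξ` of a scheme with dimension function, invertible modules `L, N` with nonzero rational
sections `s ∈ L(ξ)`, `t ∈ N(ξ)` and arbitrary nonzero rational sections `u z ∈ N(z)`, `v z ∈ L(z)`:
`c_1(N) ∩ div_L(s) - c_1(L) ∩ div_N(t) = Σ_z div(f z)` over the codimension one points `z` of the
closure of `ξ`, for a locally finite family of nonzero functions `f z ∈ κ(z)`.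
-/

set_option autoImplicit false
set_option linter.style.haveILetI false
universe u
open AlgebraicGeometry CategoryTheory TopologicalSpace Opposite

namespace Groth.Agent.Lib.Seat9.C1Dict

open Cyc IsLocalRing Groth.Agent.Lib.Seat32.GenPrime Groth.Agent.Lib.Seat28.OrdFrac
  Groth.Agent.Lib.Seat28.C1Gen Groth.Agent.Lib.Seat28.C1Inv Groth.Agent.Lib.Helper2
  Groth.Agent.Lib.Helper20.InvGen Groth.Agent.Lib.Seat32.CycFin

variable {X : Scheme.{u}}

theorem c1_comm_point {δ : X → ℤ} (hX : IsSetup X δ) (ξ : X) (L N : X.Modules)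
    (hL : PicF.IsInvertible L) (hN : PicF.IsInvertible N)
    (s : secFibre L ξ) (hs : s ≠ 0) (t : secFibre N ξ) (ht : t ≠ 0)
    (u : (z : X) → secFibre N z) (hu : ∀ z, u z ≠ 0)
    (v : (z : X) → secFibre L z) (hv : ∀ z, v z ≠ 0) :
    ∃ f : (z : X) → X.residueField z, (∀ z, f z ≠ 0) ∧
      (∀ V : X.Opens, IsAffineOpen V → {z : X | z ∈ V ∧ z ∈ Cod1 δ ξ ∧ f z ≠ 1}.Finite) ∧
      ∀ x : X, c1CapFun δ N (secDivFun δ L ξ s) u x - c1CapFun δ L (secDivFun δ N ξ t) v x =
        ∑ᶠ z ∈ Cod1 δ ξ, divFun δ z (f z) x := by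
  classical
  haveI : IsLocallyNoetherian X := hX.1
  have hδ : IsDimFun X δ := hX.2.2
  obtain ⟨FL⟩ := exists_frames hL
  obtain ⟨FN⟩ := exists_frames hN
  set DL := divDataOf FL ξ s hδ hs with hDL
  set DN := divDataOf FN ξ t hδ ht with hDN
  choose gN hgN0 hgN using fun z => exists_secDivFun_eq (δ := δ) FN hN z (u z) (hu z)
  choose gL hgL0 hgL using fun z => exists_secDivFun_eq (δ := δ) FL hL z (v z) (hv z)
  -- the family of functions
  set f : (z : X) → X.residueField z := fun z =>
    if z ∈ Cod1 δ ξ then DL.hh DN z * gN z ^ (DL.A z) * (gL z ^ (DN.A z))⁻¹ else 1 with hf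
  have hf0 : ∀ z, f z ≠ 0 := by
    intro z
    rw [hf]
    by_cases hz : z ∈ Cod1 δ ξ
    · simp only [if_pos hz]
      exact mul_ne_zero (mul_ne_zero (DivData.hh_ne_zero hδ DL DN hz) (zpow_ne_zero _ (hgN0 z)))
        (inv_ne_zero (zpow_ne_zero _ (hgL0 z)))
    · simp only [if_neg hz]
      exact one_ne_zero
  have hf1 : ∀ z ∈ Cod1 δ ξ, z ∉ DL.Bad → z ∉ DN.Bad → f z = 1 := by
    intro z hz h1 h2
    rw [hf]
    simp only [if_pos hz]
    rw [DivData.hh_eq_one_of_notMem hδ DL DN hz h1 h2, DL.A_eq_zero_of_notMem h1,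
      DN.A_eq_zero_of_notMem h2, zpow_zero, zpow_zero, inv_one, mul_one, mul_one]
  have hfdiv : ∀ z ∈ Cod1 δ ξ, ∀ x, divFun δ z (f z) x =
      divFun δ z (DL.hh DN z) x + DL.A z * divFun δ z (gN z) x -
        DN.A z * divFun δ z (gL z) x := by
    intro z hz x
    rw [hf]
    simp only [if_pos hz]
    rw [divFun_mul (mul_ne_zero (DivData.hh_ne_zero hδ DL DN hz) (zpow_ne_zero _ (hgN0 z)))
        (inv_ne_zero (zpow_ne_zero _ (hgL0 z))),
      divFun_mul (DivData.hh_ne_zero hδ DL DN hz) (zpow_ne_zero _ (hgN0 z)), divFun_inv,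
      divFun_zpow (hgN0 z), divFun_zpow (hgL0 z)]
    ring
  refine ⟨f, hf0, ?_, ?_⟩
  · intro V hV
    refine ((DL.fin V hV).union (DN.fin V hV)).subset ?_
    rintro z ⟨hzV, hz, hne⟩
    by_contra hno
    apply hne
    have h1 : z ∉ DL.Bad := fun hb => hno (Or.inl ⟨hzV, hb⟩)
    have h2 : z ∉ DN.Bad := fun hb => hno (Or.inr ⟨hzV, hb⟩)
    exact hf1 z hz h1 h2
  · intro x
    obtain ⟨V, hV, hxV, -⟩ := exists_isAffineOpen_mem_and_subset (U := ⊤) (x := x) (by simp)
    have hfin : ({z : X | z ∈ V ∧ z ∈ DL.Bad} ∪ {z : X | z ∈ V ∧ z ∈ DN.Bad}).Finite :=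
      (DL.fin V hV).union (DN.fin V hV)
    set T : Finset X := hfin.toFinset with hT
    have hTcod : ∀ z ∈ T, z ∈ Cod1 δ ξ := by
      intro z hz
      rw [hT, Set.Finite.mem_toFinset] at hz
      rcases hz with ⟨-, h, hd, -⟩ | ⟨-, h, hd, -⟩ <;> exact ⟨h, hd⟩
    have hmemT : ∀ z : X, z ⤳ x → (z ∈ DL.Bad ∨ z ∈ DN.Bad) → z ∈ T := by
      intro z hzx hbad
      rw [hT, Set.Finite.mem_toFinset]
      have hzV : z ∈ V := hzx.mem_open V.2 hxV
      rcases hbad with hb | hb
      · exact Or.inl ⟨hzV, hb⟩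
      · exact Or.inr ⟨hzV, hb⟩
    -- the two caps as finite sums
    have g1 : c1CapFun δ N (secDivFun δ L ξ s) u x =
        ∑ z ∈ T, (DL.A z * divFun δ z (gN z) x + DL.A z * DN.E z x) := by
      unfold c1CapFun
      have : ∀ z, secDivFun δ L ξ s z * secDivFun δ N z (u z) x =
          DL.A z * divFun δ z (gN z) x + DL.A z * DN.E z x := by
        intro z
        rw [secDivFun_eq_A FL hδ ξ s hs z, hgN z x, secDivFun_vOf_eq_E FN hδ ξ t ht z x]
        ring
      simp_rw [this]
      apply finsum_eq_sum_of_support_subset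
      intro z hz
      have hz' : DL.A z * divFun δ z (gN z) x + DL.A z * DN.E z x ≠ 0 := hz
      have hA : DL.A z ≠ 0 := by
        intro h0; apply hz'; rw [h0, zero_mul, zero_mul, add_zero]
      have hbad : z ∈ DL.Bad := by
        by_contra hno; exact hA (DL.A_eq_zero_of_notMem hno)
      have hzx : z ⤳ x := by
        by_contra hno
        apply hz'
        have e1 : divFun δ z (gN z) x = 0 := by
          by_contra h0; exact hno (DivData.divFun_ne_zero h0).1
        have e2 : DN.E z x = 0 := by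
          by_contra h0; exact hno (DN.E_ne_zero h0).1
        rw [e1, e2, mul_zero, add_zero]
      exact hmemT z hzx (Or.inl hbad)
    have g2 : c1CapFun δ L (secDivFun δ N ξ t) v x =
        ∑ z ∈ T, (DN.A z * divFun δ z (gL z) x + DN.A z * DL.E z x) := by
      unfold c1CapFun
      have : ∀ z, secDivFun δ N ξ t z * secDivFun δ L z (v z) x =
          DN.A z * divFun δ z (gL z) x + DN.A z * DL.E z x := by
        intro z
        rw [secDivFun_eq_A FN hδ ξ t ht z, hgL z x, secDivFun_vOf_eq_E FL hδ ξ s hs z x]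
        ring
      simp_rw [this]
      apply finsum_eq_sum_of_support_subset
      intro z hz
      have hz' : DN.A z * divFun δ z (gL z) x + DN.A z * DL.E z x ≠ 0 := hz
      have hA : DN.A z ≠ 0 := by
        intro h0; apply hz'; rw [h0, zero_mul, zero_mul, add_zero]
      have hbad : z ∈ DN.Bad := by
        by_contra hno; exact hA (DN.A_eq_zero_of_notMem hno)
      have hzx : z ⤳ x := by
        by_contra hno
        apply hz'
        have e1 : divFun δ z (gL z) x = 0 := by
          by_contra h0; exact hno (DivData.divFun_ne_zero h0).1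
        have e2 : DL.E z x = 0 := by
          by_contra h0; exact hno (DL.E_ne_zero h0).1
        rw [e1, e2, mul_zero, add_zero]
      exact hmemT z hzx (Or.inr hbad)
    -- the core
    have hcore := DivData.core hδ DL DN x
    have k1 : ∑ᶠ z, DL.A z * DN.E z x = ∑ z ∈ T, DL.A z * DN.E z x := by
      apply finsum_eq_sum_of_support_subset
      intro z hz
      have hz' : DL.A z * DN.E z x ≠ 0 := hz
      have hbad : z ∈ DL.Bad := by
        by_contra hno; exact left_ne_zero_of_mul hz' (DL.A_eq_zero_of_notMem hno)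
      exact hmemT z (DN.E_ne_zero (right_ne_zero_of_mul hz')).1 (Or.inl hbad)
    have k2 : ∑ᶠ z, DN.A z * DL.E z x = ∑ z ∈ T, DN.A z * DL.E z x := by
      apply finsum_eq_sum_of_support_subset
      intro z hz
      have hz' : DN.A z * DL.E z x ≠ 0 := hz
      have hbad : z ∈ DN.Bad := by
        by_contra hno; exact left_ne_zero_of_mul hz' (DN.A_eq_zero_of_notMem hno)
      exact hmemT z (DL.E_ne_zero (right_ne_zero_of_mul hz')).1 (Or.inr hbad)
    have k3 : ∑ᶠ z ∈ Cod1 δ ξ, divFun δ z (DL.hh DN z) x = ∑ z ∈ T, divFun δ z (DL.hh DN z) x := by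
      apply finsum_mem_eq_sum_of_inter_support_eq
      ext z
      constructor
      · rintro ⟨hz1, hz2⟩
        refine ⟨?_, hz2⟩
        have hz2' : divFun δ z (DL.hh DN z) x ≠ 0 := hz2
        have hbad : z ∈ DL.Bad ∨ z ∈ DN.Bad := by
          by_contra hno
          push Not at hno
          apply hz2'
          rw [DivData.hh_eq_one_of_notMem hδ DL DN hz1 hno.1 hno.2]
          exact DivData.divFun_one z x
        exact hmemT z (DivData.divFun_ne_zero hz2').1 hbad
      · rintro ⟨hz1, hz2⟩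
        exact ⟨hTcod z hz1, hz2⟩
    have k4 : ∑ᶠ z ∈ Cod1 δ ξ, divFun δ z (f z) x = ∑ z ∈ T, divFun δ z (f z) x := by
      apply finsum_mem_eq_sum_of_inter_support_eq
      ext z
      constructor
      · rintro ⟨hz1, hz2⟩
        refine ⟨?_, hz2⟩
        have hz2' : divFun δ z (f z) x ≠ 0 := hz2
        have hbad : z ∈ DL.Bad ∨ z ∈ DN.Bad := by
          by_contra hno
          push Not at hno
          apply hz2'
          rw [hf1 z hz1 hno.1 hno.2]
          exact DivData.divFun_one z x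
        exact hmemT z (DivData.divFun_ne_zero hz2').1 hbad
      · rintro ⟨hz1, hz2⟩
        exact ⟨hTcod z hz1, hz2⟩
    rw [k1, k2, k3] at hcore
    rw [g1, g2, k4, Finset.sum_congr rfl (fun z hz => hfdiv z (hTcod z hz) x),
      Finset.sum_sub_distrib, Finset.sum_add_distrib, Finset.sum_add_distrib,
      Finset.sum_add_distrib, ← hcore]
    ring

end Groth.Agent.Lib.Seat9.C1Dict
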