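import Mathlib
import Groth.Agent.Lib.Seat9C1Main

/-!
# c1 commutativity (seat 9), part K: packaging a family of functions as a rational equivalence
-/

set_option autoImplicit false
set_option linter.style.haveILetI false
universe u
open AlgebraicGeometry CategoryTheory TopologicalSpace Opposite

namespace Groth.Agent.Lib.Seat9.C1Dict

open Cyc IsLocalRing Groth.Agent.Lib.Seat28.OrdFrac Groth.Agent.Lib.Seat32.CycFin

variable {X : Scheme.{u}}

/-- a family of nonzero functions `f z ∈ κ(z)` on the points of a set `S` of δ-dimension `k + 1`,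
equal to `1` outside a locally finite subset, defines a rational equivalence to zero. -/
theorem ratEquivZero_of_family [IsLocallyNoetherian X] {δ : X → ℤ} (k : ℤ)
    (α : AlgebraicCycle X ℤ) (S : Set X) (hS : ∀ z ∈ S, δ z = k + 1)
    (f : (z : X) → X.residueField z) (hf0 : ∀ z, f z ≠ 0)
    (hfin : ∀ V : X.Opens, IsAffineOpen V → {z : X | z ∈ V ∧ z ∈ S ∧ f z ≠ 1}.Finite)
    (hα : ∀ x : X, α x = ∑ᶠ z ∈ S, divFun δ z (f z) x) : RatEquivZero δ k α := by
  classical
  refine ⟨{z : X // z ∈ S ∧ f z ≠ 1}, fun i => i.1, fun i => f i.1, fun i => hS _ i.2.1,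
    fun i => hf0 _, ?_, ?_⟩
  · intro x
    apply locallyFinite_of_finite_affine (fun i : {z : X // z ∈ S ∧ f z ≠ 1} => i.1)
    intro V hV
    have h1 := (hfin V hV).preimage (f := fun i : {z : X // z ∈ S ∧ f z ≠ 1} => i.1)
      Subtype.val_injective.injOn
    refine h1.subset ?_
    intro i hi
    exact ⟨hi, i.2.1, i.2.2⟩
  · intro x
    rw [hα x]
    rw [finsum_subtype_eq_finsum_cond (f := fun z : X => divFun δ z (f z) x)
      (fun z => z ∈ S ∧ f z ≠ 1)]
    show ∑ᶠ z ∈ S, divFun δ z (f z) x = ∑ᶠ z ∈ {z : X | z ∈ S ∧ f z ≠ 1}, divFun δ z (f z) x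
    apply finsum_mem_inter_support_eq'
    intro z hz
    constructor
    · intro hzS
      refine ⟨hzS, ?_⟩
      intro h1
      apply hz
      show divFun δ z (f z) x = 0
      rw [h1]
      exact DivData.divFun_one z x
    · intro h
      exact h.1

end Groth.Agent.Lib.Seat9.C1Dict
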