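import Mathlib
import Groth.Agent.Lib.Seat9C1Pack

/-!
# c1 commutativity (seat 9), part L: locally finite double sums

* `finsum_comm'`: interchange of two `finsum`s with finite joint support;
* `c1CapFun_finsum`: `c_1(L) ∩ -` is additive over locally finite sums of coefficient functions;
* `ratEquivZero_of_double_family`: a locally finite weighted double family of divisors of functions
  is rationally equivalent to zero.
-/

set_option autoImplicit false
set_option linter.style.haveILetI false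
universe u
open AlgebraicGeometry CategoryTheory TopologicalSpace Opposite

namespace Groth.Agent.Lib.Seat9.C1Dict

open Cyc IsLocalRing Groth.Agent.Lib.Seat28.OrdFrac Groth.Agent.Lib.Seat32.CycFin

theorem finsum_comm' {α β M : Type*} [AddCommMonoid M] (F : α → β → M)
    (h : (Function.support (Function.uncurry F)).Finite) :
    ∑ᶠ a, ∑ᶠ b, F a b = ∑ᶠ b, ∑ᶠ a, F a b := by
  have h1 := finsum_curry (Function.uncurry F) h
  have hG : (Function.support (fun p : β × α => F p.2 p.1)).Finite := by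
    refine (h.image (Equiv.prodComm α β)).subset ?_
    rintro ⟨b, a⟩ hp
    exact ⟨(a, b), hp, rfl⟩
  have h2 := finsum_curry (fun p : β × α => F p.2 p.1) hG
  have h3 : ∑ᶠ ab : α × β, Function.uncurry F ab = ∑ᶠ ba : β × α, F ba.2 ba.1 := by
    rw [← finsum_comp_equiv (Equiv.prodComm β α)]
    rfl
  calc ∑ᶠ a, ∑ᶠ b, F a b = ∑ᶠ ab : α × β, Function.uncurry F ab := h1.symm
    _ = ∑ᶠ ba : β × α, F ba.2 ba.1 := h3
    _ = ∑ᶠ b, ∑ᶠ a, F a b := h2

variable {X : Scheme.{u}}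

/-- `c_1(L) ∩ -` commutes with weighted sums of coefficient functions which are finite near `x`. -/
theorem c1CapFun_finsum {δ : X → ℤ} (L : X.Modules) (s : (z : X) → secFibre L z) {J : Type*}
    (w : J → ℤ) (β : J → X → ℤ) (x : X)
    (hfin : {p : J × X | w p.1 ≠ 0 ∧ β p.1 p.2 ≠ 0 ∧ secDivFun δ L p.2 (s p.2) x ≠ 0}.Finite) :
    c1CapFun δ L (fun z => ∑ᶠ j, w j * β j z) s x = ∑ᶠ j, w j * c1CapFun δ L (β j) s x := by
  unfold c1CapFun
  simp_rw [finsum_mul, mul_finsum]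
  have hsupp : (Function.support (Function.uncurry
      (fun (z : X) (j : J) => w j * β j z * secDivFun δ L z (s z) x))).Finite := by
    refine (hfin.image (Equiv.prodComm J X)).subset ?_
    rintro ⟨z, j⟩ hp
    have hp' : w j * β j z * secDivFun δ L z (s z) x ≠ 0 := hp
    refine ⟨(j, z), ⟨?_, ?_, ?_⟩, rfl⟩
    · exact left_ne_zero_of_mul (left_ne_zero_of_mul hp')
    · exact right_ne_zero_of_mul (left_ne_zero_of_mul hp')
    · exact right_ne_zero_of_mul hp'
  rw [finsum_comm' _ hsupp]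
  refine finsum_congr fun j => finsum_congr fun z => ?_
  ring

/-- finiteness of a set of pairs from finiteness of the first components and of each fibre -/
theorem finite_pairs {J : Type*} (P : J → X → Prop) (A : Set J) (hA : A.Finite)
    (hP : ∀ j z, P j z → j ∈ A) (hz : ∀ j ∈ A, {z : X | P j z}.Finite) :
    {p : J × X | P p.1 p.2}.Finite := by
  have : {p : J × X | P p.1 p.2} ⊆ ⋃ j ∈ A, (fun z => (j, z)) '' {z : X | P j z} := by
    rintro ⟨j, z⟩ hp
    exact Set.mem_iUnion₂.2 ⟨j, hP j z hp, z, hp, rfl⟩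
  exact (Set.Finite.biUnion hA (fun j hj => (hz j hj).image _)).subset this

/-- a locally finite weighted double family of divisors of functions is rationally equivalent to
zero. -/
theorem ratEquivZero_of_double_family [IsLocallyNoetherian X] {δ : X → ℤ} (k : ℤ)
    (γ : AlgebraicCycle X ℤ) {J : Type u} (ξ : J → X) (w : J → ℤ)
    (hξ : ∀ j, w j ≠ 0 → δ (ξ j) = k + 2)
    (f : (j : J) → (z : X) → X.residueField z) (hf0 : ∀ j z, f j z ≠ 0)
    (hfin : ∀ V : X.Opens, IsAffineOpen V →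
      {p : J × X | p.2 ∈ V ∧ w p.1 ≠ 0 ∧ p.2 ∈ Cod1 δ (ξ p.1) ∧ f p.1 p.2 ≠ 1}.Finite)
    (hγ : ∀ x : X, γ x = ∑ᶠ j, w j * ∑ᶠ z ∈ Cod1 δ (ξ j), divFun δ z (f j z) x) :
    RatEquivZero δ k γ := by
  classical
  refine ⟨{p : J × X // w p.1 ≠ 0 ∧ p.2 ∈ Cod1 δ (ξ p.1) ∧ f p.1 p.2 ≠ 1}, fun i => i.1.2,
    fun i => (f i.1.1 i.1.2) ^ (w i.1.1), ?_, fun i => zpow_ne_zero _ (hf0 _ _), ?_, ?_⟩
  · intro i
    show δ i.1.2 = k + 1
    have h1 := hξ _ i.2.1
    have h2 : δ i.1.2 + 1 = δ (ξ i.1.1) := i.2.2.1.2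
    omega
  · intro x
    apply locallyFinite_of_finite_affine
      (fun i : {p : J × X // w p.1 ≠ 0 ∧ p.2 ∈ Cod1 δ (ξ p.1) ∧ f p.1 p.2 ≠ 1} => i.1.2)
    intro V hV
    have h1 := (hfin V hV).preimage
      (f := fun i : {p : J × X // w p.1 ≠ 0 ∧ p.2 ∈ Cod1 δ (ξ p.1) ∧ f p.1 p.2 ≠ 1} => i.1)
      Subtype.val_injective.injOn
    refine h1.subset ?_
    intro i hi
    exact ⟨hi, i.2.1, i.2.2.1, i.2.2.2⟩
  · intro x
    rw [hγ x]
    obtain ⟨V, hV, hxV, -⟩ := exists_isAffineOpen_mem_and_subset (U := ⊤) (x := x) (by simp)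
    set G : J → X → ℤ := fun j z =>
      if z ∈ Cod1 δ (ξ j) then w j * divFun δ z (f j z) x else 0 with hG
    have e1 : ∀ j, w j * ∑ᶠ z ∈ Cod1 δ (ξ j), divFun δ z (f j z) x = ∑ᶠ z, G j z := by
      intro j
      rw [mul_finsum]
      refine finsum_congr fun z => ?_
      rw [hG, finsum_eq_if]
      by_cases hz : z ∈ Cod1 δ (ξ j)
      · simp only [if_pos hz]
      · simp only [if_neg hz, mul_zero]
    simp_rw [e1]
    have hGsupp : ∀ j z, G j z ≠ 0 →
        z ∈ V ∧ w j ≠ 0 ∧ z ∈ Cod1 δ (ξ j) ∧ f j z ≠ 1 := by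
      intro j z hne
      rw [hG] at hne
      by_cases hz : z ∈ Cod1 δ (ξ j)
      · simp only [if_pos hz] at hne
        have hd : divFun δ z (f j z) x ≠ 0 := right_ne_zero_of_mul hne
        refine ⟨(DivData.divFun_ne_zero hd).1.mem_open V.2 hxV, left_ne_zero_of_mul hne, hz, ?_⟩
        intro h1
        rw [h1] at hd
        exact hd (DivData.divFun_one z x)
      · simp only [if_neg hz] at hne
        exact absurd rfl hne
    have hsupp : (Function.support (Function.uncurry G)).Finite := by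
      refine (hfin V hV).subset ?_
      rintro ⟨j, z⟩ hp
      exact hGsupp j z hp
    have hcur : ∑ᶠ j, ∑ᶠ z, G j z = ∑ᶠ p : J × X, G p.1 p.2 :=
      (finsum_curry (Function.uncurry G) hsupp).symm
    rw [hcur]
    rw [finsum_subtype_eq_finsum_cond
      (f := fun p : J × X => divFun δ p.2 ((f p.1 p.2) ^ (w p.1)) x)
      (fun p => w p.1 ≠ 0 ∧ p.2 ∈ Cod1 δ (ξ p.1) ∧ f p.1 p.2 ≠ 1)]
    have hconv : ∑ᶠ p : J × X, G p.1 p.2 = ∑ᶠ p ∈ {p : J × X | w p.1 ≠ 0 ∧
        p.2 ∈ Cod1 δ (ξ p.1) ∧ f p.1 p.2 ≠ 1}, G p.1 p.2 := by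
      rw [← finsum_mem_univ]
      apply finsum_mem_inter_support_eq'
      rintro ⟨j, z⟩ hp
      exact ⟨fun _ => (hGsupp j z hp).2, fun _ => Set.mem_univ _⟩
    rw [hconv]
    refine finsum_mem_congr rfl ?_
    rintro ⟨j, z⟩ ⟨h1, h2, h3⟩
    show G j z = _
    rw [hG]
    simp only [if_pos h2]
    rw [divFun_zpow (hf0 j z)]

end Groth.Agent.Lib.Seat9.C1Dict
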