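import Mathlib
import Groth.Agent.Lib.Seat9C1Sum

/-!
# c1 commutativity (seat 9), part M: finiteness facts in an affine open

* `finite_cycle_support`: a cycle has finitely many nonzero coefficients in an affine open;
* `finite_family_in_affine`: a locally finite family of points has finitely many members in an
  affine open;
* `finite_secDivFun_support`: the divisor of a rational section has finitely many nonzero
  coefficients in an affine open.
-/

set_option autoImplicit false
set_option linter.style.haveILetI false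
universe u
open AlgebraicGeometry CategoryTheory TopologicalSpace Opposite

namespace Groth.Agent.Lib.Seat9.C1Dict

open Cyc IsLocalRing Groth.Agent.Lib.Seat28.OrdFrac Groth.Agent.Lib.Seat32.CycFin

variable {X : Scheme.{u}}

theorem finite_cycle_support (α : AlgebraicCycle X ℤ) {V : X.Opens} (hV : IsAffineOpen V) :
    {ξ : X | ξ ∈ V ∧ α ξ ≠ 0}.Finite := by
  have h := α.supportLocallyFiniteWithinDomain'
  choose t ht htf using fun z : X => h z (Set.mem_univ z)
  obtain ⟨T, -, hT⟩ := hV.isCompact.elim_nhds_subcover t (fun z _ => ht z)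
  refine (Set.Finite.biUnion T.finite_toSet (fun z _ => htf z)).subset ?_
  rintro ξ ⟨hξV, hξ⟩
  obtain ⟨z, hzT, hz⟩ := Set.mem_iUnion₂.1 (hT hξV)
  exact Set.mem_iUnion₂.2 ⟨z, hzT, hz, hξ⟩

theorem finite_family_in_affine {ι : Type*} (ξ : ι → X)
    (hlf : ∀ x : X, ∃ U : Set X, IsOpen U ∧ x ∈ U ∧ {i | (closure {ξ i} ∩ U).Nonempty}.Finite)
    {V : X.Opens} (hV : IsAffineOpen V) : {i | ξ i ∈ V}.Finite := by
  choose W hWo hWm hWf using hlf
  obtain ⟨T, -, hT⟩ := hV.isCompact.elim_nhds_subcover W (fun z _ => (hWo z).mem_nhds (hWm z))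
  refine (Set.Finite.biUnion T.finite_toSet (fun z _ => hWf z)).subset ?_
  intro i hi
  obtain ⟨z, hzT, hz⟩ := Set.mem_iUnion₂.1 (hT hi)
  exact Set.mem_iUnion₂.2 ⟨z, hzT, ⟨ξ i, subset_closure rfl, hz⟩⟩

theorem secDivFun_ne_zero {δ : X → ℤ} {L : X.Modules} {ξ z : X} {s : secFibre L ξ}
    (h : secDivFun δ L ξ s z ≠ 0) : ξ ⤳ z ∧ δ z + 1 = δ ξ := by
  unfold secDivFun at h
  by_contra hc
  rw [dif_neg hc] at h
  exact h rfl

theorem finite_secDivFun_support [IsLocallyNoetherian X] {δ : X → ℤ} (hδ : IsDimFun X δ)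
    {L : X.Modules} (hL : PicF.IsInvertible L) (ξ : X) (s : secFibre L ξ) (hs : s ≠ 0)
    {V : X.Opens} (hV : IsAffineOpen V) : {z : X | z ∈ V ∧ secDivFun δ L ξ s z ≠ 0}.Finite := by
  obtain ⟨F⟩ := exists_frames hL
  refine ((divDataOf F ξ s hδ hs).fin V hV).subset ?_
  rintro z ⟨hzV, hz⟩
  refine ⟨hzV, ?_⟩
  rw [secDivFun_eq_A F hδ ξ s hs z] at hz
  by_contra hno
  exact hz (DivData.A_eq_zero_of_notMem _ hno)

end Groth.Agent.Lib.Seat9.C1Dict
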