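import Mathlib
import Groth.Agent.Lib.Seat9C1Fin

/-!
# c1 commutativity (seat 9), part N: `c_1(L) ∩ div(f)` is a sum of principal divisors

For `f ∈ κ(ξ)^*` and `L` invertible, `c_1(L) ∩ div(f) = Σ_z div(g z)` over the codimension one points
`z` of the closure of `ξ`, for a locally finite family of nonzero functions `g z ∈ κ(z)`.
-/

set_option autoImplicit false
set_option linter.style.haveILetI false
universe u
open AlgebraicGeometry CategoryTheory TopologicalSpace Opposite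

namespace Groth.Agent.Lib.Seat9.C1Dict

open Cyc IsLocalRing Groth.Agent.Lib.Seat28.OrdFrac Groth.Agent.Lib.Seat32.CycFin
  Groth.Agent.Lib.Seat28.C1Inv

variable {X : Scheme.{u}}

theorem c1CapFun_add {δ : X → ℤ} (L : X.Modules) (a b : X → ℤ) (v : (z : X) → secFibre L z) (x : X)
    (ha : {z : X | a z ≠ 0 ∧ secDivFun δ L z (v z) x ≠ 0}.Finite)
    (hb : {z : X | b z ≠ 0 ∧ secDivFun δ L z (v z) x ≠ 0}.Finite) :
    c1CapFun δ L (fun z => a z + b z) v x = c1CapFun δ L a v x + c1CapFun δ L b v x := by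
  unfold c1CapFun
  rw [← finsum_add_distrib]
  · refine finsum_congr fun z => ?_
    ring
  · refine ha.subset ?_
    intro z hz
    have hz' : a z * secDivFun δ L z (v z) x ≠ 0 := hz
    exact ⟨left_ne_zero_of_mul hz', right_ne_zero_of_mul hz'⟩
  · refine hb.subset ?_
    intro z hz
    have hz' : b z * secDivFun δ L z (v z) x ≠ 0 := hz
    exact ⟨left_ne_zero_of_mul hz', right_ne_zero_of_mul hz'⟩

theorem c1_fn_point {δ : X → ℤ} (hX : IsSetup X δ) (ξ : X) (L : X.Modules)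
    (hL : PicF.IsInvertible L) (f : X.residueField ξ) (hf : f ≠ 0)
    (v : (z : X) → secFibre L z) (hv : ∀ z, v z ≠ 0) :
    ∃ g : (z : X) → X.residueField z, (∀ z, g z ≠ 0) ∧
      (∀ V : X.Opens, IsAffineOpen V → {z : X | z ∈ V ∧ z ∈ Cod1 δ ξ ∧ g z ≠ 1}.Finite) ∧
      ∀ x : X, c1CapFun δ L (divFun δ ξ f) v x = ∑ᶠ z ∈ Cod1 δ ξ, divFun δ z (g z) x := by
  classical
  haveI : IsLocallyNoetherian X := hX.1
  have hδ : IsDimFun X δ := hX.2.2
  obtain ⟨FL⟩ := exists_frames hL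
  set s : secFibre L ξ := vOf FL ξ with hs_def
  have hs : s ≠ 0 := vOf_ne_zero FL ξ
  obtain ⟨ρ, hρ⟩ := IsLocalRing.residue_surjective (R := X.presheaf.stalk ξ) f
  have hρu : IsUnit ρ := by
    by_contra hno
    apply hf
    rw [← hρ]
    exact (IsLocalRing.residue_eq_zero_iff _).2 ((IsLocalRing.mem_maximalIdeal _).2 hno)
  have hρs : ρ • s ≠ 0 := by
    intro h0
    apply hs
    obtain ⟨u, hu⟩ := hρu
    have : (↑u⁻¹ : X.presheaf.stalk ξ) • (ρ • s) = s := by
      rw [← hu, smul_smul, Units.inv_mul, one_smul]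
    rw [← this, h0, smul_zero]
  have hsd : ∀ z, secDivFun δ L ξ (ρ • s) z = divFun δ ξ f z + secDivFun δ L ξ s z := by
    intro z
    unfold secDivFun divFun
    by_cases h : ξ ⤳ z ∧ δ z + 1 = δ ξ
    · rw [dif_pos h, dif_pos h, dif_pos h, secOrdAt_smul hL h.1 ρ s hρs, hρ]
    · rw [dif_neg h, dif_neg h, dif_neg h, add_zero]
  obtain ⟨g, hg0, hgfin, hg⟩ := c1_comm_point hX ξ L L hL hL (ρ • s) hρs s hs v hv v hv
  refine ⟨g, hg0, hgfin, ?_⟩
  intro x
  obtain ⟨V, hV, hxV, -⟩ := exists_isAffineOpen_mem_and_subset (U := ⊤) (x := x) (by simp)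
  have e1 : secDivFun δ L ξ (ρ • s) = fun z => divFun δ ξ f z + secDivFun δ L ξ s z :=
    funext hsd
  have e2 := c1CapFun_add (δ := δ) L (divFun δ ξ f) (secDivFun δ L ξ s) v x
    ((finite_support_divFun_inter hδ ξ f hf hV).subset (by
      rintro z ⟨h1, h2⟩
      exact ⟨(secDivFun_ne_zero h2).1.mem_open V.2 hxV, h1⟩))
    ((finite_secDivFun_support hδ hL ξ s hs hV).subset (by
      rintro z ⟨h1, h2⟩
      exact ⟨(secDivFun_ne_zero h2).1.mem_open V.2 hxV, h1⟩))
  have e3 := hg x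
  rw [e1, e2] at e3
  rw [← e3]
  ring

end Groth.Agent.Lib.Seat9.C1Dict
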