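import Mathlib
import Groth.Agent.Lib.Seat9C1Fn

/-!
# c1 commutativity (seat 9), part O: the pointwise commutation formula with prescribed frames

The same formula as `c1_comm_point`, for given families of frames of `L` and `N`, together with the
information where the functions `f z` are equal to `1`: at the points `z` where the local equation of
one of the two sections is `1` and the rational section used at `z` for that module is the frame section.
This controls the support of the rational equivalence (used for the Gysin maps).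
-/

set_option autoImplicit false
set_option linter.style.haveILetI false
universe u
open AlgebraicGeometry CategoryTheory TopologicalSpace Opposite

namespace Groth.Agent.Lib.Seat9.C1Dict

open Cyc IsLocalRing Groth.Agent.Lib.Seat32.GenPrime Groth.Agent.Lib.Seat28.OrdFrac
  Groth.Agent.Lib.Seat28.C1Gen Groth.Agent.Lib.Seat28.C1Inv Groth.Agent.Lib.Helper2
  Groth.Agent.Lib.Helper20.InvGen Groth.Agent.Lib.Seat32.CycFin

variable {X : Scheme.{u}}

namespace DivData

variable {δ : X → ℤ} {ξ : X}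

theorem A_eq_zero_of_c_eq_one (D : DivData δ ξ) {z : X} (h : ξ ⤳ z) (hc : D.c z h = 1) :
    D.A z = 0 := by
  unfold A
  split_ifs with h'
  · rw [hc]
    unfold ordAt
    exact ordFrac_one
  · rfl

variable [IsLocallyNoetherian X]

theorem tameAt_one_left {z : X} (h : ξ ⤳ z) (hd1 : ringKrullDim (LocQuot z ξ h) = 1)
    {b : X.residueField ξ} (hb : b ≠ 0) : tameAt z ξ h 1 b = 1 := by
  unfold tameAt
  have key := TameFrac.tameK_unit_left (K := X.residueField ξ) hd1 (1 : (LocQuot z ξ h)ˣ) hb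
  rw [Units.val_one, map_one, map_one, one_zpow] at key
  rw [key, map_one]

theorem tameAt_one_right {z : X} (h : ξ ⤳ z) (hd1 : ringKrullDim (LocQuot z ξ h) = 1)
    {a : X.residueField ξ} (ha : a ≠ 0) : tameAt z ξ h a 1 = 1 := by
  unfold tameAt
  have key := TameFrac.tameK_unit_right (K := X.residueField ξ) hd1 (1 : (LocQuot z ξ h)ˣ) ha
  rw [Units.val_one, map_one, map_one, one_zpow] at key
  rw [key, map_one]

theorem hh_eq_one_of_left (hδ : IsDimFun X δ) (D D' : DivData δ ξ) {z : X} (hz : z ∈ Cod1 δ ξ)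
    (hc : D.c z hz.1 = 1) : hh D D' z = 1 := by
  unfold hh
  rw [dif_pos hz.1, hc]
  exact tameAt_one_left hz.1 (ringKrullDim_locQuot_eq_one hδ hz.1 hz.2) (D'.c_ne _ _)

theorem hh_eq_one_of_right (hδ : IsDimFun X δ) (D D' : DivData δ ξ) {z : X} (hz : z ∈ Cod1 δ ξ)
    (hc : D'.c z hz.1 = 1) : hh D D' z = 1 := by
  unfold hh
  rw [dif_pos hz.1, hc]
  exact tameAt_one_right hz.1 (ringKrullDim_locQuot_eq_one hδ hz.1 hz.2) (D.c_ne _ _)

end DivData

/-- a variant of `exists_secDivFun_eq` with `g = 1` when `v` is the frame section. -/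
theorem exists_secDivFun_eq' {δ : X → ℤ} {L : X.Modules} (F : Frames L) (hL : PicF.IsInvertible L)
    (z : X) (v : secFibre L z) (hv : v ≠ 0) :
    ∃ g : X.residueField z, g ≠ 0 ∧ (v = vOf F z → g = 1) ∧ ∀ x : X,
      secDivFun δ L z v x = divFun δ z g x + secDivFun δ L z (vOf F z) x := by
  by_cases hvz : v = vOf F z
  · refine ⟨1, one_ne_zero, fun _ => rfl, fun x => ?_⟩
    rw [DivData.divFun_one, zero_add, hvz]
  · obtain ⟨g, hg0, hg⟩ := exists_secDivFun_eq (δ := δ) F hL z v hv
    exact ⟨g, hg0, fun h => absurd h hvz, hg⟩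

theorem c1_comm_point_frames {δ : X → ℤ} (hX : IsSetup X δ) (ξ : X) (L N : X.Modules)
    (hL : PicF.IsInvertible L) (hN : PicF.IsInvertible N) (FL : Frames L) (FN : Frames N)
    (s : secFibre L ξ) (hs : s ≠ 0) (t : secFibre N ξ) (ht : t ≠ 0)
    (u : (z : X) → secFibre N z) (hu : ∀ z, u z ≠ 0)
    (v : (z : X) → secFibre L z) (hv : ∀ z, v z ≠ 0) :
    ∃ f : (z : X) → X.residueField z, (∀ z, f z ≠ 0) ∧
      (∀ z (h : ξ ⤳ z), z ∈ Cod1 δ ξ → cOf FL ξ s z h = 1 → v z = vOf FL z → f z = 1) ∧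
      (∀ z (h : ξ ⤳ z), z ∈ Cod1 δ ξ → cOf FN ξ t z h = 1 → u z = vOf FN z → f z = 1) ∧
      (∀ V : X.Opens, IsAffineOpen V → {z : X | z ∈ V ∧ z ∈ Cod1 δ ξ ∧ f z ≠ 1}.Finite) ∧
      ∀ x : X, c1CapFun δ N (secDivFun δ L ξ s) u x - c1CapFun δ L (secDivFun δ N ξ t) v x =
        ∑ᶠ z ∈ Cod1 δ ξ, divFun δ z (f z) x := by
  classical
  haveI : IsLocallyNoetherian X := hX.1
  have hδ : IsDimFun X δ := hX.2.2
  set DL := divDataOf FL ξ s hδ hs with hDL
  set DN := divDataOf FN ξ t hδ ht with hDN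
  choose gN hgN0 hgN1 hgN using fun z => exists_secDivFun_eq' (δ := δ) FN hN z (u z) (hu z)
  choose gL hgL0 hgL1 hgL using fun z => exists_secDivFun_eq' (δ := δ) FL hL z (v z) (hv z)
  -- the family of functions
  set f : (z : X) → X.residueField z := fun z =>
    if z ∈ Cod1 δ ξ then DL.hh DN z * gN z ^ (DL.A z) * (gL z ^ (DN.A z))⁻¹ else 1 with hf
  have hf0 : ∀ z, f z ≠ 0 := by
    intro z
    rw [hf]
    by_cases hz : z ∈ Cod1 δ ξ
    · simp only [if_pos hz]
      exact mul_ne_zero (mul_ne_zero (DivData.hh_ne_zero hδ DL DN hz) (zpow_ne_zero _ (hgN0 z)))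
        (inv_ne_zero (zpow_ne_zero _ (hgL0 z)))
    · simp only [if_neg hz]
      exact one_ne_zero
  have hf1 : ∀ z ∈ Cod1 δ ξ, z ∉ DL.Bad → z ∉ DN.Bad → f z = 1 := by
    intro z hz h1 h2
    rw [hf]
    simp only [if_pos hz]
    rw [DivData.hh_eq_one_of_notMem hδ DL DN hz h1 h2, DL.A_eq_zero_of_notMem h1,
      DN.A_eq_zero_of_notMem h2, zpow_zero, zpow_zero, inv_one, mul_one, mul_one]
  have hfdiv : ∀ z ∈ Cod1 δ ξ, ∀ x, divFun δ z (f z) x =
      divFun δ z (DL.hh DN z) x + DL.A z * divFun δ z (gN z) x -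
        DN.A z * divFun δ z (gL z) x := by
    intro z hz x
    rw [hf]
    simp only [if_pos hz]
    rw [divFun_mul (mul_ne_zero (DivData.hh_ne_zero hδ DL DN hz) (zpow_ne_zero _ (hgN0 z)))
        (inv_ne_zero (zpow_ne_zero _ (hgL0 z))),
      divFun_mul (DivData.hh_ne_zero hδ DL DN hz) (zpow_ne_zero _ (hgN0 z)), divFun_inv,
      divFun_zpow (hgN0 z), divFun_zpow (hgL0 z)]
    ring
  refine ⟨f, hf0, ?_, ?_, ?_, ?_⟩
  · intro z h hz hc hvz
    rw [hf]
    simp only [if_pos hz]
    have hc' : DL.c z hz.1 = 1 := hc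
    rw [DivData.hh_eq_one_of_left hδ DL DN hz hc', DL.A_eq_zero_of_c_eq_one hz.1 hc', hgL1 z hvz,
      zpow_zero, one_zpow, inv_one, mul_one, mul_one]
  · intro z h hz hc huz
    rw [hf]
    simp only [if_pos hz]
    have hc' : DN.c z hz.1 = 1 := hc
    rw [DivData.hh_eq_one_of_right hδ DL DN hz hc', DN.A_eq_zero_of_c_eq_one hz.1 hc', hgN1 z huz,
      zpow_zero, one_zpow, inv_one, mul_one, mul_one]
  · intro V hV
    refine ((DL.fin V hV).union (DN.fin V hV)).subset ?_
    rintro z ⟨hzV, hz, hne⟩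
    by_contra hno
    apply hne
    have h1 : z ∉ DL.Bad := fun hb => hno (Or.inl ⟨hzV, hb⟩)
    have h2 : z ∉ DN.Bad := fun hb => hno (Or.inr ⟨hzV, hb⟩)
    exact hf1 z hz h1 h2
  · intro x
    obtain ⟨V, hV, hxV, -⟩ := exists_isAffineOpen_mem_and_subset (U := ⊤) (x := x) (by simp)
    have hfin : ({z : X | z ∈ V ∧ z ∈ DL.Bad} ∪ {z : X | z ∈ V ∧ z ∈ DN.Bad}).Finite :=
      (DL.fin V hV).union (DN.fin V hV)
    set T : Finset X := hfin.toFinset with hT
    have hTcod : ∀ z ∈ T, z ∈ Cod1 δ ξ := by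
      intro z hz
      rw [hT, Set.Finite.mem_toFinset] at hz
      rcases hz with ⟨-, h, hd, -⟩ | ⟨-, h, hd, -⟩ <;> exact ⟨h, hd⟩
    have hmemT : ∀ z : X, z ⤳ x → (z ∈ DL.Bad ∨ z ∈ DN.Bad) → z ∈ T := by
      intro z hzx hbad
      rw [hT, Set.Finite.mem_toFinset]
      have hzV : z ∈ V := hzx.mem_open V.2 hxV
      rcases hbad with hb | hb
      · exact Or.inl ⟨hzV, hb⟩
      · exact Or.inr ⟨hzV, hb⟩
    -- the two caps as finite sums
    have g1 : c1CapFun δ N (secDivFun δ L ξ s) u x =
        ∑ z ∈ T, (DL.A z * divFun δ z (gN z) x + DL.A z * DN.E z x) := by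
      unfold c1CapFun
      have : ∀ z, secDivFun δ L ξ s z * secDivFun δ N z (u z) x =
          DL.A z * divFun δ z (gN z) x + DL.A z * DN.E z x := by
        intro z
        rw [secDivFun_eq_A FL hδ ξ s hs z, hgN z x, secDivFun_vOf_eq_E FN hδ ξ t ht z x]
        ring
      simp_rw [this]
      apply finsum_eq_sum_of_support_subset
      intro z hz
      have hz' : DL.A z * divFun δ z (gN z) x + DL.A z * DN.E z x ≠ 0 := hz
      have hA : DL.A z ≠ 0 := by
        intro h0; apply hz'; rw [h0, zero_mul, zero_mul, add_zero]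
      have hbad : z ∈ DL.Bad := by
        by_contra hno; exact hA (DL.A_eq_zero_of_notMem hno)
      have hzx : z ⤳ x := by
        by_contra hno
        apply hz'
        have e1 : divFun δ z (gN z) x = 0 := by
          by_contra h0; exact hno (DivData.divFun_ne_zero h0).1
        have e2 : DN.E z x = 0 := by
          by_contra h0; exact hno (DN.E_ne_zero h0).1
        rw [e1, e2, mul_zero, add_zero]
      exact hmemT z hzx (Or.inl hbad)
    have g2 : c1CapFun δ L (secDivFun δ N ξ t) v x =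
        ∑ z ∈ T, (DN.A z * divFun δ z (gL z) x + DN.A z * DL.E z x) := by
      unfold c1CapFun
      have : ∀ z, secDivFun δ N ξ t z * secDivFun δ L z (v z) x =
          DN.A z * divFun δ z (gL z) x + DN.A z * DL.E z x := by
        intro z
        rw [secDivFun_eq_A FN hδ ξ t ht z, hgL z x, secDivFun_vOf_eq_E FL hδ ξ s hs z x]
        ring
      simp_rw [this]
      apply finsum_eq_sum_of_support_subset
      intro z hz
      have hz' : DN.A z * divFun δ z (gL z) x + DN.A z * DL.E z x ≠ 0 := hz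
      have hA : DN.A z ≠ 0 := by
        intro h0; apply hz'; rw [h0, zero_mul, zero_mul, add_zero]
      have hbad : z ∈ DN.Bad := by
        by_contra hno; exact hA (DN.A_eq_zero_of_notMem hno)
      have hzx : z ⤳ x := by
        by_contra hno
        apply hz'
        have e1 : divFun δ z (gL z) x = 0 := by
          by_contra h0; exact hno (DivData.divFun_ne_zero h0).1
        have e2 : DL.E z x = 0 := by
          by_contra h0; exact hno (DL.E_ne_zero h0).1
        rw [e1, e2, mul_zero, add_zero]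
      exact hmemT z hzx (Or.inr hbad)
    -- the core
    have hcore := DivData.core hδ DL DN x
    have k1 : ∑ᶠ z, DL.A z * DN.E z x = ∑ z ∈ T, DL.A z * DN.E z x := by
      apply finsum_eq_sum_of_support_subset
      intro z hz
      have hz' : DL.A z * DN.E z x ≠ 0 := hz
      have hbad : z ∈ DL.Bad := by
        by_contra hno; exact left_ne_zero_of_mul hz' (DL.A_eq_zero_of_notMem hno)
      exact hmemT z (DN.E_ne_zero (right_ne_zero_of_mul hz')).1 (Or.inl hbad)
    have k2 : ∑ᶠ z, DN.A z * DL.E z x = ∑ z ∈ T, DN.A z * DL.E z x := by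
      apply finsum_eq_sum_of_support_subset
      intro z hz
      have hz' : DN.A z * DL.E z x ≠ 0 := hz
      have hbad : z ∈ DN.Bad := by
        by_contra hno; exact left_ne_zero_of_mul hz' (DN.A_eq_zero_of_notMem hno)
      exact hmemT z (DL.E_ne_zero (right_ne_zero_of_mul hz')).1 (Or.inr hbad)
    have k3 : ∑ᶠ z ∈ Cod1 δ ξ, divFun δ z (DL.hh DN z) x = ∑ z ∈ T, divFun δ z (DL.hh DN z) x := by
      apply finsum_mem_eq_sum_of_inter_support_eq
      ext z
      constructor
      · rintro ⟨hz1, hz2⟩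
        refine ⟨?_, hz2⟩
        have hz2' : divFun δ z (DL.hh DN z) x ≠ 0 := hz2
        have hbad : z ∈ DL.Bad ∨ z ∈ DN.Bad := by
          by_contra hno
          push Not at hno
          apply hz2'
          rw [DivData.hh_eq_one_of_notMem hδ DL DN hz1 hno.1 hno.2]
          exact DivData.divFun_one z x
        exact hmemT z (DivData.divFun_ne_zero hz2').1 hbad
      · rintro ⟨hz1, hz2⟩
        exact ⟨hTcod z hz1, hz2⟩
    have k4 : ∑ᶠ z ∈ Cod1 δ ξ, divFun δ z (f z) x = ∑ z ∈ T, divFun δ z (f z) x := by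
      apply finsum_mem_eq_sum_of_inter_support_eq
      ext z
      constructor
      · rintro ⟨hz1, hz2⟩
        refine ⟨?_, hz2⟩
        have hz2' : divFun δ z (f z) x ≠ 0 := hz2
        have hbad : z ∈ DL.Bad ∨ z ∈ DN.Bad := by
          by_contra hno
          push Not at hno
          apply hz2'
          rw [hf1 z hz1 hno.1 hno.2]
          exact DivData.divFun_one z x
        exact hmemT z (DivData.divFun_ne_zero hz2').1 hbad
      · rintro ⟨hz1, hz2⟩
        exact ⟨hTcod z hz1, hz2⟩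
    rw [k1, k2, k3] at hcore
    rw [g1, g2, k4, Finset.sum_congr rfl (fun z hz => hfdiv z (hTcod z hz) x),
      Finset.sum_sub_distrib, Finset.sum_add_distrib, Finset.sum_add_distrib,
      Finset.sum_add_distrib, ← hcore]
    ring

end Groth.Agent.Lib.Seat9.C1Dict
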