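import Mathlib
import Groth.Agent.Lib.Seat9C1Supp

/-!
# c1 commutativity (seat 9), part P: frames adapted to a global section

For a global section `s` of an invertible module `L`, there is a family of frames of `L` whose frame at
every point `z` with `s(z) ≠ 0` is (a restriction of) `s` itself. For such frames the rational section
`s(z) ∈ L(z)` is the frame section at `z`, and the local equation at `z` of `s(ξ)`, `ξ ⤳ z`, is `1`.
Also: the support-refined version of `c1_fn_point`.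
-/

set_option autoImplicit false
set_option linter.style.haveILetI false
universe u
open AlgebraicGeometry CategoryTheory TopologicalSpace Opposite

namespace Groth.Agent.Lib.Seat9.C1Dict

open Cyc IsLocalRing Groth.Agent.Lib.Seat32.GenPrime Groth.Agent.Lib.Seat28.OrdFrac
  Groth.Agent.Lib.Seat28.C1Gen Groth.Agent.Lib.Seat28.C1Inv Groth.Agent.Lib.Helper2
  Groth.Agent.Lib.Helper20.InvGen Groth.Agent.Lib.Seat32.CycFin

variable {X : Scheme.{u}} {L : X.Modules}

/-- the value in `L(z)` of a global section -/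
noncomputable def valAt (s : Γ(L, ⊤)) (z : X) : secFibre L z :=
  Submodule.Quotient.mk (L.presheaf.germ ⊤ z trivial s)

/-- a unit multiple of a free generator is a free generator -/
theorem bijective_smul_of_isUnit {R M : Type*} [CommRing R] [AddCommGroup M] [Module R M]
    {g : M} (hg : Function.Bijective (fun c : R => c • g)) {a : R} (ha : IsUnit a) :
    Function.Bijective (fun c : R => c • (a • g)) := by
  obtain ⟨w, rfl⟩ := ha
  have : (fun c : R => c • ((w : R) • g)) = (fun c : R => c • g) ∘ (fun c : R => c * (w : R)) := by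
    funext c
    simp only [Function.comp_apply, mul_smul]
  rw [this]
  refine hg.comp ⟨?_, ?_⟩
  · intro c c' h
    exact w.isUnit.mul_left_injective h
  · intro c
    exact ⟨c * ((w⁻¹ : Rˣ) : R), by simp [mul_assoc]⟩

/-- a global section of an invertible module is a frame near every point where it does not vanish -/
theorem exists_frame_of_valAt_ne_zero (hL : PicF.IsInvertible L) (s : Γ(L, ⊤)) (z : X)
    (hz : valAt s z ≠ 0) :
    ∃ (W : X.Opens) (_ : z ∈ W), IsFrame L W (L.presheaf.map (homOfLE (le_top : W ≤ ⊤)).op s) := by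
  obtain ⟨W₀, e, hz₀, he⟩ := exists_local_generator L hL z
  have he' : IsFrame L W₀ e := he
  obtain ⟨a, ha⟩ := (he z hz₀).2 (L.presheaf.germ ⊤ z trivial s)
  have ha' : a • L.presheaf.germ W₀ z hz₀ e = L.presheaf.germ ⊤ z trivial s := ha
  have hau : IsUnit a := by
    by_contra hno
    apply hz
    unfold valAt
    rw [Submodule.Quotient.mk_eq_zero, ← ha']
    exact Submodule.smul_mem_smul ((IsLocalRing.mem_maximalIdeal _).2 hno) Submodule.mem_top
  obtain ⟨W₁, hz₁, r, hr⟩ := X.presheaf.exists_germ_eq a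
  set W₁₂ : X.Opens := W₀ ⊓ W₁ with hW₁₂
  have hz₁₂ : z ∈ W₁₂ := ⟨hz₀, hz₁⟩
  set e' : Γ(L, W₁₂) := L.presheaf.map (homOfLE (inf_le_left : W₁₂ ≤ W₀)).op e with he'_def
  set r' : Γ(X, W₁₂) := X.presheaf.map (homOfLE (inf_le_right : W₁₂ ≤ W₁)).op r with hr'_def
  set s' : Γ(L, W₁₂) := L.presheaf.map (homOfLE (le_top : W₁₂ ≤ ⊤)).op s with hs'_def
  have hfe' : IsFrame L W₁₂ e' := isFrame_res inf_le_left he'
  have ge' : ∀ (y : X) (hy : y ∈ W₁₂), L.presheaf.germ W₁₂ y hy e' = L.presheaf.germ W₀ y hy.1 e :=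
    fun y hy => TopCat.Presheaf.germ_res_apply L.presheaf (homOfLE inf_le_left) y hy e
  have gr' : ∀ (y : X) (hy : y ∈ W₁₂), X.presheaf.germ W₁₂ y hy r' = X.presheaf.germ W₁ y hy.2 r :=
    fun y hy => TopCat.Presheaf.germ_res_apply X.presheaf (homOfLE inf_le_right) y hy r
  have gs' : ∀ (y : X) (hy : y ∈ W₁₂), L.presheaf.germ W₁₂ y hy s' = L.presheaf.germ ⊤ y trivial s :=
    fun y hy => TopCat.Presheaf.germ_res_apply L.presheaf (homOfLE le_top) y hy s
  have hgerm : L.presheaf.germ W₁₂ z hz₁₂ (r' • e') = L.presheaf.germ W₁₂ z hz₁₂ s' := by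
    rw [QCoh.germ_smul, ge', gr', gs', hr, ha']
  obtain ⟨W₂, hz₂, iU, iV, hres⟩ := TopCat.Presheaf.germ_eq L.presheaf z hz₁₂ hz₁₂ _ _ hgerm
  have hW₂ : W₂ ≤ W₁₂ := iU.le
  set W₃ : X.Opens := W₂ ⊓ X.basicOpen r' with hW₃
  have hz₃ : z ∈ W₃ := by
    refine ⟨hz₂, (X.mem_basicOpen r' z hz₁₂).2 ?_⟩
    rw [gr', hr]
    exact hau
  refine ⟨W₃, hz₃, ?_⟩
  intro y hy
  have hy₂ : y ∈ W₂ := hy.1
  have hy₁₂ : y ∈ W₁₂ := hW₂ hy₂
  have hyu : IsUnit (X.presheaf.germ W₁₂ y hy₁₂ r') := (X.mem_basicOpen r' y hy₁₂).1 hy.2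
  have e1 : L.presheaf.germ W₃ y hy (L.presheaf.map (homOfLE (le_top : W₃ ≤ ⊤)).op s) =
      L.presheaf.germ ⊤ y trivial s :=
    TopCat.Presheaf.germ_res_apply L.presheaf (homOfLE le_top) y hy s
  have e2 : L.presheaf.germ W₁₂ y hy₁₂ s' = L.presheaf.germ W₁₂ y hy₁₂ (r' • e') := by
    rw [← TopCat.Presheaf.germ_res_apply L.presheaf iV y hy₂ s',
      ← TopCat.Presheaf.germ_res_apply L.presheaf iU y hy₂ (r' • e')]
    exact congrArg _ hres.symm
  rw [e1, ← gs' y hy₁₂, e2, QCoh.germ_smul]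
  exact bijective_smul_of_isUnit (hfe' y hy₁₂) hyu

/-- frames adapted to the global section `s` -/
theorem exists_adapted_frames (hL : PicF.IsInvertible L) (s : Γ(L, ⊤)) :
    ∃ F : Frames L, ∀ z : X, valAt s z ≠ 0 →
      vOf F z = valAt s z ∧ ∀ (ξ : X) (h : ξ ⤳ z), cOf F ξ (valAt s ξ) z h = 1 := by
  classical
  have hex : ∀ z : X, ∃ (W : X.Opens) (τ : Γ(L, W)), z ∈ W ∧ IsFrame L W τ ∧
      (valAt s z ≠ 0 → ∀ (y : X) (hy : y ∈ W),
        L.presheaf.germ W y hy τ = L.presheaf.germ ⊤ y trivial s) := by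
    intro z
    by_cases hz : valAt s z ≠ 0
    · obtain ⟨W, hzW, hf⟩ := exists_frame_of_valAt_ne_zero hL s z hz
      exact ⟨W, _, hzW, hf, fun _ y hy =>
        TopCat.Presheaf.germ_res_apply L.presheaf (homOfLE le_top) y hy s⟩
    · obtain ⟨W, e, hzW, he⟩ := exists_local_generator L hL z
      exact ⟨W, e, hzW, he, fun h => absurd h hz⟩
  choose W τ hmem hframe hgerm using hex
  refine ⟨⟨W, τ, hmem, hframe⟩, fun z hz => ⟨?_, fun ξ h => ?_⟩⟩
  · unfold vOf valAt
    exact congrArg _ (hgerm z hz z (hmem z))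
  · unfold cOf coordK valAt
    have hξ : ξ ∈ W z := h.mem_open (W z).2 (hmem z)
    have := coord_mk_smul_germ (hframe z) ξ hξ (1 : X.presheaf.stalk ξ)
    rw [one_smul, hgerm z hz ξ hξ, map_one] at this
    exact this

/-- the support-refined version of `c1_fn_point`: the functions `g z` are `1` at the points `z` where
the local equation of the auxiliary section `σ` is `1` and `v z` is the frame section. -/
theorem c1_fn_point_frames {δ : X → ℤ} (hX : IsSetup X δ) (ξ : X)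
    (hL : PicF.IsInvertible L) (F : Frames L) (σ : secFibre L ξ) (hσ : σ ≠ 0)
    (f : X.residueField ξ) (hf : f ≠ 0)
    (v : (z : X) → secFibre L z) (hv : ∀ z, v z ≠ 0) :
    ∃ g : (z : X) → X.residueField z, (∀ z, g z ≠ 0) ∧
      (∀ z (h : ξ ⤳ z), z ∈ Cod1 δ ξ → cOf F ξ σ z h = 1 → v z = vOf F z → g z = 1) ∧
      (∀ V : X.Opens, IsAffineOpen V → {z : X | z ∈ V ∧ z ∈ Cod1 δ ξ ∧ g z ≠ 1}.Finite) ∧
      ∀ x : X, c1CapFun δ L (divFun δ ξ f) v x = ∑ᶠ z ∈ Cod1 δ ξ, divFun δ z (g z) x := by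
  classical
  haveI : IsLocallyNoetherian X := hX.1
  have hδ : IsDimFun X δ := hX.2.2
  obtain ⟨ρ, hρ⟩ := IsLocalRing.residue_surjective (R := X.presheaf.stalk ξ) f
  have hρu : IsUnit ρ := by
    by_contra hno
    apply hf
    rw [← hρ]
    exact (IsLocalRing.residue_eq_zero_iff _).2 ((IsLocalRing.mem_maximalIdeal _).2 hno)
  have hρs : ρ • σ ≠ 0 := by
    intro h0
    apply hσ
    obtain ⟨u, hu⟩ := hρu
    have : (↑u⁻¹ : X.presheaf.stalk ξ) • (ρ • σ) = σ := by
      rw [← hu, smul_smul, Units.inv_mul, one_smul]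
    rw [← this, h0, smul_zero]
  have hsd : ∀ z, secDivFun δ L ξ (ρ • σ) z = divFun δ ξ f z + secDivFun δ L ξ σ z := by
    intro z
    unfold secDivFun divFun
    by_cases h : ξ ⤳ z ∧ δ z + 1 = δ ξ
    · rw [dif_pos h, dif_pos h, dif_pos h, secOrdAt_smul hL h.1 ρ σ hρs, hρ]
    · rw [dif_neg h, dif_neg h, dif_neg h, add_zero]
  obtain ⟨g, hg0, -, hg1, hgfin, hg⟩ :=
    c1_comm_point_frames hX ξ L L hL hL F F (ρ • σ) hρs σ hσ v hv v hv
  refine ⟨g, hg0, hg1, hgfin, ?_⟩
  intro x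
  obtain ⟨V, hV, hxV, -⟩ := exists_isAffineOpen_mem_and_subset (U := ⊤) (x := x) (by simp)
  have e1 : secDivFun δ L ξ (ρ • σ) = fun z => divFun δ ξ f z + secDivFun δ L ξ σ z :=
    funext hsd
  have e2 := c1CapFun_add (δ := δ) L (divFun δ ξ f) (secDivFun δ L ξ σ) v x
    ((finite_support_divFun_inter hδ ξ f hf hV).subset (by
      rintro z ⟨h1, h2⟩
      exact ⟨(secDivFun_ne_zero h2).1.mem_open V.2 hxV, h1⟩))
    ((finite_secDivFun_support hδ hL ξ σ hσ hV).subset (by
      rintro z ⟨h1, h2⟩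
      exact ⟨(secDivFun_ne_zero h2).1.mem_open V.2 hxV, h1⟩))
  have e3 := hg x
  rw [e1, e2] at e3
  rw [← e3]
  ring

end Groth.Agent.Lib.Seat9.C1Dict
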