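import Mathlib
import Groth.Agent.Lib.Seat9C1Adapt
import Groth.Agent.Lib.Seat32MV

/-!
# c1 commutativity (seat 9), part Q: Gysin maps and supports

* `double_family_data`: the single family attached to a weighted double family of functions;
* `ratEquivZero_comap_of_double_family`: if all nontrivial functions of a double family live at points
  of a closed subscheme `i : D → X`, the restriction to `D` of the divisor cycle is rationally
  equivalent to zero on `D`;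
* `gysin_fn_point`: `c_1(L) ∩ div(f)`, computed with the Gysin choice of rational sections of `(L, s)`,
  is a sum of divisors of functions at points of the zero locus of `s`.
-/

set_option autoImplicit false
set_option linter.style.haveILetI false
universe u
open AlgebraicGeometry CategoryTheory TopologicalSpace Opposite

namespace Groth.Agent.Lib.Seat9.C1Dict

open Cyc IsLocalRing Groth.Agent.Lib.Seat28.OrdFrac Groth.Agent.Lib.Seat32.CycFin
  Groth.Agent.Lib.Seat28.C1Gen Groth.Agent.Lib.Seat32.MV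

variable {X : Scheme.{u}}

/-- the single family attached to a weighted double family -/
theorem double_family_data [IsLocallyNoetherian X] {δ : X → ℤ} (k : ℤ)
    {J : Type u} (ξ : J → X) (w : J → ℤ)
    (hξ : ∀ j, w j ≠ 0 → δ (ξ j) = k + 2)
    (f : (j : J) → (z : X) → X.residueField z) (hf0 : ∀ j z, f j z ≠ 0)
    (hfin : ∀ V : X.Opens, IsAffineOpen V →
      {p : J × X | p.2 ∈ V ∧ w p.1 ≠ 0 ∧ p.2 ∈ Cod1 δ (ξ p.1) ∧ f p.1 p.2 ≠ 1}.Finite) :
    (∀ i : {p : J × X // w p.1 ≠ 0 ∧ p.2 ∈ Cod1 δ (ξ p.1) ∧ f p.1 p.2 ≠ 1}, δ i.1.2 = k + 1) ∧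
    (∀ x : X, ∃ U : Set X, IsOpen U ∧ x ∈ U ∧
      {i : {p : J × X // w p.1 ≠ 0 ∧ p.2 ∈ Cod1 δ (ξ p.1) ∧ f p.1 p.2 ≠ 1} |
        (closure {i.1.2} ∩ U).Nonempty}.Finite) ∧
    ∀ x : X, ∑ᶠ j, w j * ∑ᶠ z ∈ Cod1 δ (ξ j), divFun δ z (f j z) x =
      ∑ᶠ i : {p : J × X // w p.1 ≠ 0 ∧ p.2 ∈ Cod1 δ (ξ p.1) ∧ f p.1 p.2 ≠ 1},
        divFun δ i.1.2 ((f i.1.1 i.1.2) ^ (w i.1.1)) x := by
  classical
  refine ⟨?_, ?_, ?_⟩
  · intro i
    have h1 := hξ _ i.2.1
    have h2 : δ i.1.2 + 1 = δ (ξ i.1.1) := i.2.2.1.2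
    omega
  · intro x
    apply locallyFinite_of_finite_affine
      (fun i : {p : J × X // w p.1 ≠ 0 ∧ p.2 ∈ Cod1 δ (ξ p.1) ∧ f p.1 p.2 ≠ 1} => i.1.2)
    intro V hV
    have h1 := (hfin V hV).preimage
      (f := fun i : {p : J × X // w p.1 ≠ 0 ∧ p.2 ∈ Cod1 δ (ξ p.1) ∧ f p.1 p.2 ≠ 1} => i.1)
      Subtype.val_injective.injOn
    refine h1.subset ?_
    intro i hi
    exact ⟨hi, i.2.1, i.2.2.1, i.2.2.2⟩
  · intro x
    obtain ⟨V, hV, hxV, -⟩ := exists_isAffineOpen_mem_and_subset (U := ⊤) (x := x) (by simp)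
    set G : J → X → ℤ := fun j z =>
      if z ∈ Cod1 δ (ξ j) then w j * divFun δ z (f j z) x else 0 with hG
    have e1 : ∀ j, w j * ∑ᶠ z ∈ Cod1 δ (ξ j), divFun δ z (f j z) x = ∑ᶠ z, G j z := by
      intro j
      rw [mul_finsum]
      refine finsum_congr fun z => ?_
      rw [hG, finsum_eq_if]
      by_cases hz : z ∈ Cod1 δ (ξ j)
      · simp only [if_pos hz]
      · simp only [if_neg hz, mul_zero]
    simp_rw [e1]
    have hGsupp : ∀ j z, G j z ≠ 0 →
        z ∈ V ∧ w j ≠ 0 ∧ z ∈ Cod1 δ (ξ j) ∧ f j z ≠ 1 := by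
      intro j z hne
      rw [hG] at hne
      by_cases hz : z ∈ Cod1 δ (ξ j)
      · simp only [if_pos hz] at hne
        have hd : divFun δ z (f j z) x ≠ 0 := right_ne_zero_of_mul hne
        refine ⟨(DivData.divFun_ne_zero hd).1.mem_open V.2 hxV, left_ne_zero_of_mul hne, hz, ?_⟩
        intro h1
        rw [h1] at hd
        exact hd (DivData.divFun_one z x)
      · simp only [if_neg hz] at hne
        exact absurd rfl hne
    have hsupp : (Function.support (Function.uncurry G)).Finite := by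
      refine (hfin V hV).subset ?_
      rintro ⟨j, z⟩ hp
      exact hGsupp j z hp
    have hcur : ∑ᶠ j, ∑ᶠ z, G j z = ∑ᶠ p : J × X, G p.1 p.2 :=
      (finsum_curry (Function.uncurry G) hsupp).symm
    rw [hcur]
    rw [finsum_subtype_eq_finsum_cond
      (f := fun p : J × X => divFun δ p.2 ((f p.1 p.2) ^ (w p.1)) x)
      (fun p => w p.1 ≠ 0 ∧ p.2 ∈ Cod1 δ (ξ p.1) ∧ f p.1 p.2 ≠ 1)]
    have hconv : ∑ᶠ p : J × X, G p.1 p.2 = ∑ᶠ p ∈ {p : J × X | w p.1 ≠ 0 ∧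
        p.2 ∈ Cod1 δ (ξ p.1) ∧ f p.1 p.2 ≠ 1}, G p.1 p.2 := by
      rw [← finsum_mem_univ]
      apply finsum_mem_inter_support_eq'
      rintro ⟨j, z⟩ hp
      exact ⟨fun _ => (hGsupp j z hp).2, fun _ => Set.mem_univ _⟩
    rw [hconv]
    refine finsum_mem_congr rfl ?_
    rintro ⟨j, z⟩ ⟨h1, h2, h3⟩
    show G j z = _
    rw [hG]
    simp only [if_pos h2]
    rw [divFun_zpow (hf0 j z)]

/-- if all nontrivial functions of a weighted double family live at points of the closed subscheme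
`i : D → X`, the restriction to `D` of its divisor is rationally equivalent to zero on `D`. -/
theorem ratEquivZero_comap_of_double_family {D : Scheme.{u}} (i : D ⟶ X) [IsClosedImmersion i]
    {δ : X → ℤ} (hX : IsSetup X δ) (k : ℤ)
    (γ : AlgebraicCycle D ℤ) {J : Type u} (ξ : J → X) (w : J → ℤ)
    (hξ : ∀ j, w j ≠ 0 → δ (ξ j) = k + 2)
    (f : (j : J) → (z : X) → X.residueField z) (hf0 : ∀ j z, f j z ≠ 0)
    (hfin : ∀ V : X.Opens, IsAffineOpen V →
      {p : J × X | p.2 ∈ V ∧ w p.1 ≠ 0 ∧ p.2 ∈ Cod1 δ (ξ p.1) ∧ f p.1 p.2 ≠ 1}.Finite)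
    (hr : ∀ j z, z ∈ Cod1 δ (ξ j) → f j z ≠ 1 → z ∈ Set.range i)
    (hγ : ∀ d : D, γ d = ∑ᶠ j, w j * ∑ᶠ z ∈ Cod1 δ (ξ j), divFun δ z (f j z) (i d)) :
    RatEquivZero (fun d => δ (i d)) k γ := by
  haveI : IsLocallyNoetherian X := hX.1
  obtain ⟨h1, h2, h3⟩ := double_family_data k ξ w hξ f hf0 hfin
  have key := ratEquivZero_comapCycle i δ hX k
    (fun i : {p : J × X // w p.1 ≠ 0 ∧ p.2 ∈ Cod1 δ (ξ p.1) ∧ f p.1 p.2 ≠ 1} => i.1.2)
    (fun i => (f i.1.1 i.1.2) ^ (w i.1.1)) (fun i => zpow_ne_zero _ (hf0 _ _)) h2 h1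
    (fun i => hr _ _ i.2.2.1 i.2.2.2)
  obtain ⟨ι', ξ', f', g1, g2, g3, g4⟩ := key
  refine ⟨ι', ξ', f', g1, g2, g3, fun d => ?_⟩
  rw [← g4 d, comapCycle_apply, divCycle_apply, hγ d, h3 (i d)]

section gysin

variable {L : X.Modules}

/-- the vanishing locus of a global section is stable under specialization -/
theorem valAt_eq_zero_of_specializes (hL : PicF.IsInvertible L) (s : Γ(L, ⊤)) {ξ z : X}
    (h : ξ ⤳ z) (hξ : valAt s ξ = 0) : valAt s z = 0 := by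
  by_contra hz
  obtain ⟨F, hF⟩ := exists_adapted_frames hL s
  have h1 := (hF z hz).2 ξ h
  unfold cOf coordK at h1
  rw [hξ, map_zero] at h1
  exact (one_ne_zero (α := IsLocalRing.ResidueField (X.presheaf.stalk ξ))) h1.symm

theorem gysinChoice_eq_of_ne_zero (s : Γ(L, ⊤)) (t : (ξ : X) → secFibre L ξ) {z : X}
    (hz : valAt s z ≠ 0) : gysinChoice L s t z = valAt s z := by
  unfold gysinChoice
  exact if_pos hz

theorem gysinChoice_eq_of_eq_zero (s : Γ(L, ⊤)) (t : (ξ : X) → secFibre L ξ) {z : X}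
    (hz : valAt s z = 0) : gysinChoice L s t z = t z := by
  unfold gysinChoice
  exact if_neg (not_not.2 hz)

theorem gysinChoice_ne_zero (s : Γ(L, ⊤)) (t : (ξ : X) → secFibre L ξ) (ht : ∀ ξ, t ξ ≠ 0)
    (z : X) : gysinChoice L s t z ≠ 0 := by
  by_cases hz : valAt s z ≠ 0
  · rw [gysinChoice_eq_of_ne_zero s t hz]
    exact hz
  · rw [gysinChoice_eq_of_eq_zero s t (not_not.1 hz)]
    exact ht z

/-- `c_1(L) ∩ div(f)` computed with the Gysin choice of sections for `(L, s)`: the functions `g z`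
are trivial outside the zero locus of `s`. -/
theorem gysin_fn_point {δ : X → ℤ} (hX : IsSetup X δ) (hL : PicF.IsInvertible L) (s : Γ(L, ⊤))
    (t : (ξ : X) → secFibre L ξ) (ht : ∀ ξ, t ξ ≠ 0) (ξ : X)
    (f : X.residueField ξ) (hf : f ≠ 0) :
    ∃ g : (z : X) → X.residueField z, (∀ z, g z ≠ 0) ∧
      (∀ z, z ∈ Cod1 δ ξ → valAt s z ≠ 0 → g z = 1) ∧
      (∀ V : X.Opens, IsAffineOpen V → {z : X | z ∈ V ∧ z ∈ Cod1 δ ξ ∧ g z ≠ 1}.Finite) ∧
      ∀ x : X, c1CapFun δ L (divFun δ ξ f) (gysinChoice L s t) x =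
        ∑ᶠ z ∈ Cod1 δ ξ, divFun δ z (g z) x := by
  have hv := gysinChoice_ne_zero s t ht
  by_cases hξ : valAt s ξ ≠ 0
  · obtain ⟨F, hF⟩ := exists_adapted_frames hL s
    obtain ⟨g, hg0, hg1, hgfin, hg⟩ :=
      c1_fn_point_frames hX ξ hL F (valAt s ξ) hξ f hf (gysinChoice L s t) hv
    refine ⟨g, hg0, ?_, hgfin, hg⟩
    intro z hz hsz
    refine hg1 z hz.1 hz ((hF z hsz).2 ξ hz.1) ?_
    rw [gysinChoice_eq_of_ne_zero s t hsz, (hF z hsz).1]
  · obtain ⟨g, hg0, hgfin, hg⟩ := c1_fn_point hX ξ L hL f hf (gysinChoice L s t) hv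
    refine ⟨g, hg0, ?_, hgfin, hg⟩
    intro z hz hsz
    exact absurd (valAt_eq_zero_of_specializes hL s hz.1 (not_not.1 hξ)) hsz

end gysin

end Groth.Agent.Lib.Seat9.C1Dict
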