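import Mathlib
import Groth.Agent.Lib.Helper4NormDelta

/-!
# Stalks of `i_* O_Z` for a closed immersion `i : Z ⟶ X` (seat 9)

* `subsingleton_stalk_pushO` : the stalk vanishes outside the image of `i`;
* `length_stalk_pushO` : at `i z` the stalk has the same length over `O_{X, i z}` as
  `O_{Z,z}` has over itself.
-/

set_option autoImplicit false
set_option linter.style.haveILetI false
universe u
open CategoryTheory CategoryTheory.Limits AlgebraicGeometry Opposite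

namespace Groth.Agent.Lib.Seat9.ClosedPushStalk

open Groth.Agent.Lib.Helper2.QCoh Groth.Agent.Lib.Helper2.Push Groth.Agent.Lib.Helper2.ModExact
open Groth.Agent.Lib.Helper4.NormDelta

variable {Z X : Scheme.{u}} (i : Z ⟶ X)

theorem subsingleton_stalk_pushO [IsClosedImmersion i] (x : X) (hx : x ∉ Set.range i) :
    Subsingleton ((pushO i).presheaf.stalk x) := by
  have hcl : IsClosed (Set.range i) := i.isClosedEmbedding.isClosed_range
  let W : X.Opens := ⟨(Set.range i)ᶜ, hcl.isOpen_compl⟩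
  have hxW : x ∈ W := hx
  have hpre : i ⁻¹ᵁ W = ⊥ := by
    ext z
    simp only [TopologicalSpace.Opens.coe_bot, Set.mem_empty_iff_false, iff_false]
    intro hz
    exact hz ⟨z, rfl⟩
  refine ⟨fun a b => ?_⟩
  suffices h : ∀ y : (pushO i).presheaf.stalk x, y = 0 by rw [h a, h b]
  intro y
  obtain ⟨V, hxV, t, rfl⟩ := (pushO i).presheaf.exists_germ_eq y
  have hxVW : x ∈ V ⊓ W := ⟨hxV, hxW⟩
  rw [← TopCat.Presheaf.germ_res_apply (pushO i).presheaf (homOfLE (inf_le_left : V ⊓ W ≤ V)) x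
    hxVW t]
  have hsub : Subsingleton Γ(Z, i ⁻¹ᵁ (V ⊓ W)) := by
    have hbot : i ⁻¹ᵁ (V ⊓ W) = ⊥ := by
      rw [eq_bot_iff, ← hpre]
      exact fun z hz => hz.2
    rw [hbot]
    infer_instance
  have h0 : (pushO i).presheaf.map (homOfLE (inf_le_left : V ⊓ W ≤ V)).op t = 0 :=
    hsub.elim (α := Γ(Z, i ⁻¹ᵁ (V ⊓ W))) _ _
  rw [h0, map_zero]


theorem length_stalk_pushO [IsClosedImmersion i] (z : Z) :
    Module.length (X.presheaf.stalk (i z)) ((pushO i).presheaf.stalk (i z)) =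
      Module.length (Z.presheaf.stalk z) (Z.presheaf.stalk z) := by
  obtain ⟨_, ⟨V, hV, rfl⟩, hxV, -⟩ := X.isBasis_affineOpens.exists_subset_of_mem_open
    (Set.mem_univ (i z)) isOpen_univ
  have hU : IsAffineOpen (i ⁻¹ᵁ V) := hV.preimage i
  have hzU : z ∈ i ⁻¹ᵁ V := hxV
  have hG : IsLocOn (pushO i) V := isLocOn_pushO i hV
  have hsurj : Function.Surjective (i.app V) := i.app_surjective V hV
  -- instances on the `X` side
  letI algAR : Algebra Γ(X, V) (X.presheaf.stalk (i z)) :=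
    (X.presheaf.germ V (i z) hxV).hom.toAlgebra
  haveI hloc : IsLocalization.AtPrime (X.presheaf.stalk (i z))
      (hV.primeIdealOf ⟨i z, hxV⟩).asIdeal := hV.isLocalization_stalk ⟨i z, hxV⟩
  letI modAG := sectionStalkModule (pushO i) V (i z) hxV
  haveI : IsScalarTower Γ(X, V) (X.presheaf.stalk (i z)) ((pushO i).presheaf.stalk (i z)) :=
    IsScalarTower.of_algebraMap_smul (fun r m => rfl)
  haveI loc1 := isLocalizedModule_germLin hV hG (i z) hxV
  -- instances on the `Z` side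
  letI algAB : Algebra Γ(X, V) Γ(Z, i ⁻¹ᵁ V) := (i.app V).hom.toAlgebra
  letI algBS : Algebra Γ(Z, i ⁻¹ᵁ V) (Z.presheaf.stalk z) :=
    (Z.presheaf.germ (i ⁻¹ᵁ V) z hzU).hom.toAlgebra
  haveI hlocZ : IsLocalization.AtPrime (Z.presheaf.stalk z)
      (hU.primeIdealOf ⟨z, hzU⟩).asIdeal := hU.isLocalization_stalk ⟨z, hzU⟩
  letI algRS : Algebra (X.presheaf.stalk (i z)) (Z.presheaf.stalk z) :=
    (i.stalkMap z).hom.toAlgebra
  letI algAS : Algebra Γ(X, V) (Z.presheaf.stalk z) :=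
    ((algebraMap Γ(Z, i ⁻¹ᵁ V) (Z.presheaf.stalk z)).comp
      (algebraMap Γ(X, V) Γ(Z, i ⁻¹ᵁ V))).toAlgebra
  haveI towerABS : IsScalarTower Γ(X, V) Γ(Z, i ⁻¹ᵁ V) (Z.presheaf.stalk z) :=
    IsScalarTower.of_algebraMap_eq (fun _ => rfl)
  haveI towerARS : IsScalarTower Γ(X, V) (X.presheaf.stalk (i z)) (Z.presheaf.stalk z) := by
    refine IsScalarTower.of_algebraMap_eq (fun a => ?_)
    exact (i.germ_stalkMap_apply V z hxV a).symm
  -- the submonoids
  have hprime : hV.primeIdealOf ⟨i z, hxV⟩ = (hU.primeIdealOf ⟨z, hzU⟩).comap (i.app V).hom :=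
    primeIdealOf_map i hV hU z hxV
  have hsub : Algebra.algebraMapSubmonoid Γ(Z, i ⁻¹ᵁ V)
      (hV.primeIdealOf ⟨i z, hxV⟩).asIdeal.primeCompl =
      (hU.primeIdealOf ⟨z, hzU⟩).asIdeal.primeCompl := by
    ext b
    constructor
    · rintro ⟨a, ha, rfl⟩
      intro hb
      apply ha
      rw [hprime]
      exact hb
    · intro hb
      obtain ⟨a, rfl⟩ := hsurj b
      refine ⟨a, ?_, rfl⟩
      intro ha
      apply hb
      rw [hprime] at ha
      exact ha
  haveI hlocZ' : IsLocalization (Algebra.algebraMapSubmonoid Γ(Z, i ⁻¹ᵁ V)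
      (hV.primeIdealOf ⟨i z, hxV⟩).asIdeal.primeCompl) (Z.presheaf.stalk z) := by
    rw [hsub]
    exact hlocZ
  haveI loc3 : IsLocalizedModule (hV.primeIdealOf ⟨i z, hxV⟩).asIdeal.primeCompl
      (IsScalarTower.toAlgHom Γ(X, V) Γ(Z, i ⁻¹ᵁ V) (Z.presheaf.stalk z)).toLinearMap :=
    isLocalizedModule_iff_isLocalization.mpr hlocZ'
  -- sections of the pushforward
  let j₀ : Γ(pushO i, V) ≃ₗ[Γ(X, V)] Γ(Z, i ⁻¹ᵁ V) :=
    { toFun := fun b => ofPush i V b
      invFun := fun b => toPush i V b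
      map_add' := fun a b => rfl
      map_smul' := fun a b => by
        rw [pushO_smul]
        rfl
      left_inv := fun b => rfl
      right_inv := fun b => rfl }
  haveI loc2 : IsLocalizedModule (hV.primeIdealOf ⟨i z, hxV⟩).asIdeal.primeCompl
      ((IsScalarTower.toAlgHom Γ(X, V) Γ(Z, i ⁻¹ᵁ V) (Z.presheaf.stalk z)).toLinearMap ∘ₗ
        (j₀ : Γ(pushO i, V) →ₗ[Γ(X, V)] Γ(Z, i ⁻¹ᵁ V))) :=
    IsLocalizedModule.of_linearEquiv_right _ _ j₀
  let ΘA := IsLocalizedModule.linearEquiv (hV.primeIdealOf ⟨i z, hxV⟩).asIdeal.primeCompl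
    (germLin (pushO i) V (i z) hxV)
    ((IsScalarTower.toAlgHom Γ(X, V) Γ(Z, i ⁻¹ᵁ V) (Z.presheaf.stalk z)).toLinearMap ∘ₗ
        (j₀ : Γ(pushO i, V) →ₗ[Γ(X, V)] Γ(Z, i ⁻¹ᵁ V)))
  let ΘR : (pushO i).presheaf.stalk (i z) ≃ₗ[X.presheaf.stalk (i z)] Z.presheaf.stalk z :=
    LinearEquiv.extendScalarsOfIsLocalization (hV.primeIdealOf ⟨i z, hxV⟩).asIdeal.primeCompl
      (X.presheaf.stalk (i z)) ΘA
  rw [ΘR.length_eq]
  exact Module.length_eq_of_surjective (i.stalkMap_surjective z)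

end Groth.Agent.Lib.Seat9.ClosedPushStalk
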