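import Mathlib
import Groth.Prelude.Def_CycDet
import Groth.Prelude.Def_Tame
import Groth.Agent.Lib.Seat9LatD
import Groth.Agent.Lib.Seat9QFilt

/-!
# Lattices in finite length modules over a localization (seat 9), part E

Modules with a filtration by `R ⧸ q` embedded in a finite length module over the localization:
they are lattices adapted to the image of the filtering tuple.
-/

set_option autoImplicit false
set_option linter.unusedSectionVars false
universe u v

namespace Groth.Agent.Lib.Seat9.Lat

open CycDet IsLocalRing Groth.Agent.Lib.Seat9.DetBasic Groth.Agent.Lib.Seat9.DetMoves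
  Groth.Agent.Lib.Seat9.RelLen Groth.Agent.Lib.Seat9.Idx Groth.Agent.Lib.Seat9.DetConn
  Groth.Agent.Lib.Seat9.QFilt

variable {R : Type u} [CommRing R] [IsLocalRing R] (q : Ideal R) [hq : q.IsPrime]
  {M' : Type u} [AddCommGroup M'] [Module R M']

/-- the quotients of a module filtered by `R ⧸ q` by the steps of the filtration have no torsion
outside `q`. -/
theorem torsion_free {l : ℕ} (z : Fin l → M') (hz : IsQFilt q z)
    (hsp : Submodule.span R (Set.range z) = ⊤) (t : R) (ht : t ∉ q) :
    ∀ (d k : ℕ), k + d = l → ∀ m : M', t • m ∈ spanBefore R M' z k →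
      m ∈ spanBefore R M' z k := by
  intro d
  induction d with
  | zero =>
    intro k hk m _
    have : k = l := by omega
    subst this
    rw [spanBefore_of_le z le_rfl, hsp]
    trivial
  | succ d ih =>
    intro k hk m hm
    have hkl : k < l := by omega
    have h1 : m ∈ spanBefore R M' z (k + 1) :=
      ih (k + 1) (by omega) m (spanBefore_mono z (Nat.le_succ k) hm)
    obtain ⟨ε⟩ := hz ⟨k, hkl⟩
    simp only at ε
    let m' : ↥(spanBefore R M' z (k + 1)) := ⟨m, h1⟩
    have h2 : t • (Submodule.Quotient.mk m' :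
        ↥(spanBefore R M' z (k + 1)) ⧸
          (spanBefore R M' z k).submoduleOf (spanBefore R M' z (k + 1))) = 0 := by
      rw [← Submodule.Quotient.mk_smul, Submodule.Quotient.mk_eq_zero]
      exact hm
    have h3 : t • ε (Submodule.Quotient.mk m') = 0 := by rw [← map_smul, h2, map_zero]
    have h4 : ε (Submodule.Quotient.mk m') = 0 := by
      obtain ⟨w, hw⟩ := Ideal.Quotient.mk_surjective (ε (Submodule.Quotient.mk m'))
      rw [← hw] at h3 ⊢
      have h5 : t • (Ideal.Quotient.mk q w) = Ideal.Quotient.mk q (t * w) := rfl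
      rw [h5, Ideal.Quotient.eq_zero_iff_mem] at h3
      rw [Ideal.Quotient.eq_zero_iff_mem]
      exact (hq.mem_or_mem h3).resolve_left ht
    have h5 := ε.map_eq_zero_iff.mp h4
    rw [Submodule.Quotient.mk_eq_zero] at h5
    exact h5

/-- no entry of the filtering tuple lies in the span of the previous ones. -/
theorem notMem_of_isQFilt {l : ℕ} (z : Fin l → M') (hz : IsQFilt q z) (i : Fin l) :
    z i ∉ spanBefore R M' z i := by
  intro h
  obtain ⟨ε⟩ := hz i
  have h1 : spanBefore R M' z ((i : ℕ) + 1) = spanBefore R M' z i := by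
    rw [spanBefore_succ]
    apply le_antisymm
    · refine sup_le le_rfl ?_
      rw [Submodule.span_singleton_le_iff_mem]
      exact h
    · exact le_sup_left
  have h2 : (1 : R ⧸ q) = 0 := by
    have h3 : ε.symm 1 = 0 := by
      obtain ⟨⟨y, hy⟩, hy'⟩ := Submodule.mkQ_surjective _ (ε.symm 1)
      rw [← hy', Submodule.mkQ_apply, Submodule.Quotient.mk_eq_zero]
      show y ∈ spanBefore R M' z i
      rw [← h1]
      exact hy
    have := congrArg ε h3
    rwa [LinearEquiv.apply_symm_apply, map_zero] at this
  have h4 : (1 : R) ∈ q := by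
    rw [← Ideal.Quotient.eq_zero_iff_mem]
    exact h2
  exact hq.ne_top ((Ideal.eq_top_iff_one _).mpr h4)

section Embed

variable {S : Type v} [CommRing S] [Algebra R S] [IsLocalization.AtPrime S q] [IsLocalRing S]
  {V : Type v} [AddCommGroup V] [Module R V] [Module S V] [IsScalarTower R S V]
  (ψ : M' →ₗ[R] V) {l : ℕ} (z : Fin l → M') (e : Adm S V l) (he : ∀ i, e.1 i = ψ (z i))

include he in
omit [IsLocalization.AtPrime S q] hq in
theorem map_spanBefore_le (k : ℕ) :
    Submodule.map ψ (spanBefore R M' z k) ≤ Fl R S e.1 k := by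
  unfold spanBefore
  rw [Submodule.map_span, Submodule.span_le]
  rintro _ ⟨_, ⟨j, hj, rfl⟩, rfl⟩
  show ψ (z j) ∈ spanBefore S V e.1 k
  rw [← he j]
  exact mem_spanBefore e.1 hj

include he in
omit [IsLocalization.AtPrime S q] hq in
theorem spanBefore_le_span_map (k : ℕ) :
    spanBefore S V e.1 k ≤
      Submodule.span S (Submodule.map ψ (spanBefore R M' z k) : Set V) := by
  unfold spanBefore
  refine Submodule.span_mono ?_
  rintro _ ⟨j, hj, rfl⟩
  rw [he j]
  exact ⟨z j, Submodule.subset_span ⟨j, hj, rfl⟩, rfl⟩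

include he in
theorem mem_spanBefore_of_map_mem (hψ : Function.Injective ψ) (hz : IsQFilt q z)
    (hsp : Submodule.span R (Set.range z) = ⊤) (k : ℕ) (hk : k ≤ l) (m : M')
    (h : ψ m ∈ Fl R S e.1 k) : m ∈ spanBefore R M' z k := by
  have h1 : ψ m ∈ Submodule.span S (Submodule.map ψ (spanBefore R M' z k) : Set V) :=
    spanBefore_le_span_map ψ z e he k h
  obtain ⟨t, ht, htm⟩ := exists_smul_mem_of_mem_span q _ _ h1
  obtain ⟨m', hm', hm'e⟩ := htm
  rw [← map_smul] at hm'e
  have h2 : m' = t • m := hψ hm'e
  rw [h2] at hm'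
  obtain ⟨d, hd⟩ := Nat.exists_eq_add_of_le hk
  exact torsion_free q z hz hsp t ht d k hd.symm m hm'

include he in
theorem generates_of_isQFilt (hψ : Function.Injective ψ) (hz : IsQFilt q z)
    (hsp : Submodule.span R (Set.range z) = ⊤) (hl : Module.length S V = l) :
    Generates S V e.1 := by
  refine generates_of_forall_notMem e.1 e.2 hl ?_
  intro i hi
  apply notMem_of_isQFilt q z hz i
  refine mem_spanBefore_of_map_mem q ψ z e he hψ hz hsp i (le_of_lt i.2) (z i) ?_
  rw [← he i]
  exact hi

include he in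
theorem isAdapted_range (hψ : Function.Injective ψ) (hz : IsQFilt q z)
    (hsp : Submodule.span R (Set.range z) = ⊤) :
    IsAdapted R S (LinearMap.range ψ) e.1 := by
  intro i
  unfold Xs Ys
  apply le_antisymm
  · refine sup_le ?_ le_sup_right
    rintro v ⟨⟨m, rfl⟩, hv2⟩
    have hm := mem_spanBefore_of_map_mem q ψ z e he hψ hz hsp ((i : ℕ) + 1)
      (Nat.succ_le_of_lt i.2) m hv2
    rw [spanBefore_succ] at hm
    obtain ⟨n, hn, w, hw, rfl⟩ := Submodule.mem_sup.mp hm
    obtain ⟨u, rfl⟩ := Submodule.mem_span_singleton.mp hw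
    rw [map_add, map_smul, ← he i, add_comm]
    refine Submodule.add_mem _ (Submodule.mem_sup_left
      (Submodule.smul_mem _ _ (Submodule.mem_span_singleton_self _))) (Submodule.mem_sup_right ?_)
    exact map_spanBefore_le ψ z e he i ⟨n, hn, rfl⟩
  · refine sup_le ?_ le_sup_right
    rw [Submodule.span_singleton_le_iff_mem]
    refine Submodule.mem_sup_left ⟨?_, ?_⟩
    · rw [he i]
      exact ⟨z i, rfl⟩
    · exact mem_spanBefore e.1 (Nat.lt_succ_self _)

omit [IsLocalRing R] in
theorem isLattice_range [Module.Finite R M'] (hg : Generates S V e.1)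
    (hran : ∀ i, e.1 i ∈ LinearMap.range ψ) : IsLattice q (LinearMap.range ψ) := by
  refine ⟨?_, ?_⟩
  · rw [LinearMap.range_eq_map]
    exact (Module.finite_def.mp inferInstance).map ψ
  · intro v
    have hv : v ∈ Submodule.span S (Set.range e.1) := by
      rw [hg]
      trivial
    have hv' : v ∈ Submodule.span S ((LinearMap.range ψ : Submodule R V) : Set V) := by
      refine Submodule.span_mono ?_ hv
      rintro _ ⟨i, rfl⟩
      exact hran i
    exact exists_smul_mem_of_mem_span q _ v hv'

end Embed

end Groth.Agent.Lib.Seat9.Lat
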