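import Mathlib
import Groth.Prelude.Def_CycDet
import Groth.Prelude.Def_Tame
import Groth.Agent.Lib.Seat9LatE

/-!
# Lengths of cokernels and determinants (seat 9)

For `φ : M → N` between finite modules filtered by `R ⧸ q` (`dim R ⧸ q = 1`): `φ` is injective iff
its localization at `q` is bijective, and then the length of the cokernel is the order of the
factor between the symbols of the two filtering tuples in the determinant of `N_q`.
-/

set_option autoImplicit false
set_option linter.unusedSectionVars false
universe u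

namespace Groth.Agent.Lib.Seat9.Lat

open CycDet IsLocalRing Groth.Agent.Lib.Seat9.DetBasic Groth.Agent.Lib.Seat9.DetMoves
  Groth.Agent.Lib.Seat9.RelLen Groth.Agent.Lib.Seat9.Idx Groth.Agent.Lib.Seat9.DetConn
  Groth.Agent.Lib.Seat9.QFilt Groth.Agent.Lib.Seat9.DetFun

variable {R : Type u} [CommRing R] [IsLocalRing R] (q : Ideal R) [hq : q.IsPrime]

section Basic

variable {M' : Type u} [AddCommGroup M'] [Module R M']

theorem mkLinearMap_injective_of_isQFilt {l : ℕ} (z : Fin l → M') (hz : IsQFilt q z)
    (hsp : Submodule.span R (Set.range z) = ⊤) :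
    Function.Injective (LocalizedModule.mkLinearMap q.primeCompl M') := by
  rw [injective_iff_map_eq_zero]
  intro m hm
  rw [IsLocalizedModule.eq_zero_iff q.primeCompl] at hm
  obtain ⟨t, ht⟩ := hm
  have h1 : (t : R) • m ∈ spanBefore R M' z 0 := by
    rw [spanBefore_zero, Submodule.mem_bot]
    exact ht
  have h2 := torsion_free q z hz hsp t t.2 l 0 (by omega) m h1
  rwa [spanBefore_zero, Submodule.mem_bot] at h2

omit [IsLocalRing R] hq in
theorem hmax_of_dim (hdim : ringKrullDim (R ⧸ q) = 1) [hq : q.IsPrime] :
    ∀ p : Ideal R, p.IsPrime → q < p → p.IsMaximal := by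
  intro p hp hqp
  haveI : Ring.KrullDimLE 1 (R ⧸ q) := Ring.krullDimLE_iff.mpr (le_of_eq hdim)
  have hker : RingHom.ker (Ideal.Quotient.mk q) ≤ p := by
    rw [Ideal.mk_ker]
    exact le_of_lt hqp
  haveI hp' : (p.map (Ideal.Quotient.mk q)).IsPrime :=
    Ideal.map_isPrime_of_surjective Ideal.Quotient.mk_surjective hker
  have hne : p.map (Ideal.Quotient.mk q) ≠ ⊥ := by
    intro h
    obtain ⟨t, htp, htq⟩ := Set.exists_of_ssubset hqp
    apply htq
    rw [SetLike.mem_coe, ← Ideal.Quotient.eq_zero_iff_mem, ← Ideal.mem_bot, ← h]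
    exact Ideal.mem_map_of_mem _ htp
  haveI hm := Ideal.IsPrime.isMaximal_of_ne_bot hp' hne
  have hcomap : p = (p.map (Ideal.Quotient.mk q)).comap (Ideal.Quotient.mk q) := by
    rw [Ideal.comap_map_of_surjective _ Ideal.Quotient.mk_surjective, ← RingHom.ker_eq_comap_bot,
      sup_eq_left.mpr hker]
  rw [hcomap]
  exact Ideal.comap_isMaximal_of_surjective _ Ideal.Quotient.mk_surjective

end Basic

section Main

variable [IsNoetherianRing R] (hdim : ringKrullDim (R ⧸ q) = 1)
  {M N : Type u} [AddCommGroup M] [Module R M] [AddCommGroup N] [Module R N]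
  [Module.Finite R M] [Module.Finite R N] (φ : M →ₗ[R] N) {l : ℕ} (x : Fin l → M) (y : Fin l → N)
  (hx : Submodule.span R (Set.range x) = ⊤) (hy : Submodule.span R (Set.range y) = ⊤)
  (hxq : IsQFilt q x) (hyq : IsQFilt q y)

omit [IsNoetherianRing R] [Module.Finite R N] in
include hy hyq in
theorem length_localized_eq :
    Module.length (Localization.AtPrime q) (LocalizedModule q.primeCompl N) = l := by
  have hsub : Subsingleton (N ⧸ Submodule.span R (Set.range y)) := by
    rw [hy]
    infer_instance
  have hsupp : (⟨q, hq⟩ : PrimeSpectrum R) ∉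
      Module.support R (N ⧸ Submodule.span R (Set.range y)) := by
    rw [Module.support_eq_empty_iff.mpr hsub]
    exact Set.notMem_empty _
  exact (length_eq_of_isQFilt ⟨q, hq⟩ y hyq hsupp).symm

include hdim hx hy hxq hyq in
/-- the length of the cokernel is the order of the factor between the symbols. -/
theorem main_length (hφ : Function.Injective φ) {l' : ℕ} (hl : l' = l)
    (ex ey : Adm (Localization.AtPrime q) (LocalizedModule q.primeCompl N) l')
    (f : q.ResidueField)
    (hex : ex.1 = fun i => LocalizedModule.mkLinearMap q.primeCompl N (φ (x (Fin.cast hl i))))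
    (hey : ey.1 = fun i => LocalizedModule.mkLinearMap q.primeCompl N (y (Fin.cast hl i)))
    (hsym : symb ex = f • symb ey) :
    ∃ n : ℕ, Module.length R (N ⧸ LinearMap.range φ) = n ∧ (n : ℤ) = oq q f := by
  subst hl
  simp only [Fin.cast_eq_self] at hex hey
  have hmax := hmax_of_dim q hdim
  haveI : Ring.KrullDimLE 1 (R ⧸ q) := Ring.krullDimLE_iff.mpr (le_of_eq hdim)
  set ψN := LocalizedModule.mkLinearMap q.primeCompl N with hψN_def
  have hψN : Function.Injective ψN := mkLinearMap_injective_of_isQFilt q y hyq hy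
  have hLN := length_localized_eq q y hy hyq
  have he_y : ∀ i, ey.1 i = ψN (y i) := fun i => congrFun hey i
  have he_x : ∀ i, ex.1 i = (ψN ∘ₗ φ) (x i) := fun i => congrFun hex i
  have hinj : Function.Injective (ψN ∘ₗ φ) := hψN.comp hφ
  have hgy : Generates (Localization.AtPrime q) _ ey.1 :=
    generates_of_isQFilt q ψN y ey he_y hψN hyq hy hLN
  have hgx : Generates (Localization.AtPrime q) _ ex.1 :=
    generates_of_isQFilt q (ψN ∘ₗ φ) x ex he_x hinj hxq hx hLN
  have hQl : IsLattice q (LinearMap.range ψN) :=
    isLattice_range q ψN ey hgy (fun i => by rw [he_y]; exact ⟨_, rfl⟩)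
  have hPl : IsLattice q (LinearMap.range (ψN ∘ₗ φ)) :=
    isLattice_range q (ψN ∘ₗ φ) ex hgx (fun i => by rw [he_x]; exact ⟨_, rfl⟩)
  have hPQ : LinearMap.range (ψN ∘ₗ φ) ≤ LinearMap.range ψN := LinearMap.range_comp_le_range _ _
  have adQ := isAdapted_range q ψN y ey he_y hψN hyq hy
  have adP := isAdapted_range q (ψN ∘ₗ φ) x ex he_x hinj hxq hx
  obtain ⟨u, hu⟩ := exists_conn hLN ex ey hgx hgy
  have hfu : f = u := by
    have h1 := hu.symb_eq
    rw [hsym] at h1
    have h2 : (f - u) • symb ey = 0 := by rw [sub_smul, h1, sub_self]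
    rcases smul_eq_zero.mp h2 with h3 | h3
    · exact sub_eq_zero.mp h3
    · exact absurd h3 (symb_ne_zero hLN ey hgy)
  have hinv := hQ_conn q hmax hQl hLN (oq q) (oq_one q) (oq_mul q) (oq_neg_one q)
    (oq_residue q) hu
  rw [hQ_of_isAdapted adQ, zero_add, hQ_eq_of_le q hmax hQl hPl hPQ ex hgx adP, ← hfu] at hinv
  -- the relative length is the length of the cokernel
  have hrl : rl (LinearMap.range (ψN ∘ₗ φ)) (LinearMap.range ψN) =
      Module.length R (N ⧸ LinearMap.range φ) := by
    rw [LinearMap.range_comp, LinearMap.range_eq_map ψN,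
      rl_map ψN (LinearMap.range φ) ⊤ le_top (by
        rw [LinearMap.ker_eq_bot.mpr hψN]
        exact bot_le.trans' inf_le_left)]
    unfold rl
    refine length_quot_eq_of_comap (⊤ : Submodule R N).subtype _ _ rfl ?_
    rw [Submodule.range_subtype, sup_top_eq]
  have hfin : rl (LinearMap.range (ψN ∘ₗ φ)) (LinearMap.range ψN) ≠ ⊤ := by
    have hpow : ∀ r ∈ q ^ l', ∀ v ∈ (⊤ : Submodule R (LocalizedModule q.primeCompl N)),
        r • v ∈ (⊥ : Submodule R (LocalizedModule q.primeCompl N)) := by
      intro r hr v _
      have h0 : Fl R (Localization.AtPrime q) ey.1 0 = ⊥ := by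
        unfold Fl
        rw [spanBefore_zero]
        rfl
      rw [← h0]
      refine pow_smul_mem_Fl q ey 0 l' r hr v ?_
      rw [Nat.zero_add]
      show v ∈ spanBefore _ _ ey.1 l'
      rw [spanBefore_of_le ey.1 le_rfl, hgy]
      trivial
    have l1 := isLat_inf q hQl ⊥ ⊤
    have l2 := isLat_inf q hPl ⊥ ⊤
    rw [sup_bot_eq, inf_top_eq] at l1 l2
    exact (IsLat.comm q hmax l' hpow l1 l2).2
  refine ⟨(rl (LinearMap.range (ψN ∘ₗ φ)) (LinearMap.range ψN)).toNat, ?_, hinv⟩
  rw [← hrl, ENat.natCast_toNat hfin]

include hx hy hxq hyq in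
omit [IsNoetherianRing R] [Module.Finite R M] [Module.Finite R N] in
/-- injectivity can be tested after localization. -/
theorem main_iff :
    Function.Injective φ ↔ Function.Bijective (LocalizedModule.map q.primeCompl φ) := by
  have hLN := length_localized_eq q y hy hyq
  have hLM := length_localized_eq q x hx hxq
  constructor
  · intro hφ
    have hinj := LocalizedModule.map_injective q.primeCompl φ hφ
    refine ⟨hinj, ?_⟩
    have hadd := Module.length_eq_add_of_exact (LocalizedModule.map q.primeCompl φ)
      (LinearMap.range (LocalizedModule.map q.primeCompl φ)).mkQ hinj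
      (Submodule.mkQ_surjective _) (LinearMap.exact_map_mkQ_range _)
    rw [hLN, hLM] at hadd
    have h0 : Module.length (Localization.AtPrime q) (LocalizedModule q.primeCompl N ⧸
        LinearMap.range (LocalizedModule.map q.primeCompl φ)) = 0 := by
      generalize Module.length (Localization.AtPrime q) (LocalizedModule q.primeCompl N ⧸
        LinearMap.range (LocalizedModule.map q.primeCompl φ)) = k at hadd
      cases k with
      | top => simp at hadd
      | coe k =>
        have : l = l + k := by exact_mod_cast hadd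
        have : k = 0 := by omega
        rw [this]
        rfl
    rw [Module.length_eq_zero_iff, Submodule.Quotient.subsingleton_iff] at h0
    exact LinearMap.range_eq_top.mp h0
  · intro hb
    rw [injective_iff_map_eq_zero]
    intro m hm
    have h1 : LocalizedModule.map q.primeCompl φ (LocalizedModule.mkLinearMap q.primeCompl M m) =
        0 := by
      rw [LocalizedModule.mkLinearMap_apply, LocalizedModule.map_mk, hm, LocalizedModule.zero_mk]
    have h2 := (injective_iff_map_eq_zero _).mp hb.1 _ h1
    exact (injective_iff_map_eq_zero _).mp (mkLinearMap_injective_of_isQFilt q x hxq hx) m h2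

end Main

end Groth.Agent.Lib.Seat9.Lat
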