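import Mathlib
import Groth.Agent.Lib.Seat35FinExt

/-!
# Semilocal principalisation of a two-generated ideal (Seat 9)

A variant of `Seat35FinExt.exists_subalgebra_common_factor` for a base ring `R` that need not be
local: it suffices that `a` is a nonzerodivisor of finite order lying in the Jacobson radical, that
`a` becomes a unit in the ambient algebra `K`, and that the finite subalgebras of `K` are semilocal.
-/

set_option autoImplicit false
set_option linter.unusedSectionVars false

universe u

namespace Groth.Agent.Lib.Seat9.Mono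

open Polynomial Pointwise Groth.Agent.Lib.Seat35.FinExt

section Relation

variable {R : Type*} [CommRing R]

theorem length_ker_factor' {a : R} (ha : a ∈ nonZeroDivisors R) (M : Ideal R)
    (hfin : Module.length R (R ⧸ M) ≠ ⊤) (hle : a • M ≤ M) :
    Module.length R (LinearMap.ker (Submodule.factor hle)) = Ring.ord R a := by
  have h1 : Module.length R (R ⧸ a • M) = Module.length R (R ⧸ M) + Ring.ord R a :=
    Module.length_eq_add_of_exact (Ideal.mulQuot a M) (Ideal.quotOfMul a M)
      (Ideal.mulQuot_injective M ha) (Ideal.quotOfMul_surjective M)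
      (Ideal.exact_mulQuot_quotOfMul M)
  have h2 : Module.length R (R ⧸ a • M) =
      Module.length R (LinearMap.ker (Submodule.factor hle)) + Module.length R (R ⧸ M) :=
    Module.length_eq_add_of_exact (LinearMap.ker (Submodule.factor hle)).subtype
      (Submodule.factor hle) (Submodule.subtype_injective _) (Submodule.factor_surjective hle)
      (LinearMap.exact_subtype_ker_map _)
  rw [h1, add_comm] at h2
  exact ((WithTop.add_right_inj hfin).mp h2).symm

/-- semilocal version of `exists_unit_relation` -/
theorem exists_unit_relation' {a : R} (ha : a ∈ nonZeroDivisors R)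
    (haJ : ∀ s : R, IsUnit (1 - a * s)) (n : ℕ) (hn : Ring.ord R a ≤ n)
    (g : Fin (n + 1) → R) (N : ℕ) (hN : a ^ N ∈ Ideal.span (Set.range g)) :
    ∃ (c : Fin (n + 1) → R) (j : Fin (n + 1)), IsUnit (c j) ∧ ∑ l, c l * g l = 0 := by
  classical
  set M : Ideal R := Ideal.span (Set.range g) with hM
  have hle : a • M ≤ M := by
    intro z hz
    obtain ⟨m, hm, rfl⟩ := (Submodule.mem_smul_pointwise_iff_exists _ _ _).mp hz
    exact M.smul_mem a hm
  have hfin : Module.length R (R ⧸ M) ≠ ⊤ := by
    have hle' : Ideal.span {a ^ N} ≤ M := (Ideal.span_singleton_le_iff_mem _).mpr hN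
    have h3 : Module.length R (R ⧸ M) ≤ Module.length R (R ⧸ Ideal.span {a ^ N}) :=
      Module.length_le_of_surjective (Submodule.factor hle') (Submodule.factor_surjective hle')
    have h4 : Module.length R (R ⧸ Ideal.span {a ^ N}) ≠ ⊤ := by
      have : Module.length R (R ⧸ Ideal.span {a ^ N}) = N • Ring.ord R a := Ring.ord_pow ha N
      rw [this]
      have hord : Ring.ord R a ≠ ⊤ := ne_top_of_le_ne_top (ENat.coe_ne_top n) hn
      lift Ring.ord R a to ℕ using hord with k
      rw [nsmul_eq_mul, ← Nat.cast_mul]
      exact ENat.coe_ne_top _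
    exact ne_top_of_le_ne_top h4 h3
  have hlen := length_ker_factor' ha M hfin hle
  have hgM : ∀ l, g l ∈ M := fun l => Ideal.subset_span ⟨l, rfl⟩
  let q : Fin (n + 1) → LinearMap.ker (Submodule.factor hle) := fun l =>
    ⟨Submodule.mkQ (a • M) (g l), by
      rw [LinearMap.mem_ker, Submodule.factor_mk]
      exact (Submodule.Quotient.mk_eq_zero _).mpr (hgM l)⟩
  obtain ⟨j, hj⟩ := exists_mem_span_lt (R := R) n (hlen ▸ hn) q
  have hj2 : (Submodule.mkQ (a • M)) (g j) ∈
      Submodule.map (Submodule.mkQ (a • M)) (Submodule.span R (g '' {l | l < j})) := by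
    have h5 := Submodule.mem_map_of_mem (f := (LinearMap.ker (Submodule.factor hle)).subtype) hj
    rw [Submodule.map_span, ← Set.image_comp] at h5
    rw [Submodule.map_span, ← Set.image_comp]
    exact h5
  obtain ⟨z, hz, hzj⟩ := hj2
  have hdiff : g j - z ∈ a • M := by
    rw [← Submodule.Quotient.eq]
    exact hzj.symm
  obtain ⟨l₀, hl₀, rfl⟩ := (Finsupp.mem_span_image_iff_linearCombination R).mp hz
  obtain ⟨m', hm', hm'eq⟩ := (Submodule.mem_smul_pointwise_iff_exists _ _ _).mp hdiff
  obtain ⟨s, hs⟩ := (Submodule.mem_span_range_iff_exists_fun R).mp hm'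
  refine ⟨fun l => (if l = j then 1 else 0) - l₀ l - a * s l, j, ?_, ?_⟩
  · have h0 : l₀ j = 0 := by
      have := (Finsupp.mem_supported' R l₀).mp hl₀ j (by simp)
      exact this
    simp only [if_true, h0, sub_zero]
    exact haJ (s j)
  · have e1 : (Finsupp.linearCombination R g) l₀ = ∑ l, l₀ l * g l := by
      rw [Finsupp.linearCombination_apply, Finsupp.sum_fintype _ _ (by simp)]
      simp
    have e2 : a * m' = g j - ∑ l, l₀ l * g l := by
      rw [← e1, ← hm'eq, smul_eq_mul]
    have e3 : m' = ∑ l, s l * g l := by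
      rw [← hs]; simp
    calc ∑ l, ((if l = j then 1 else 0) - l₀ l - a * s l) * g l
        = g j - ∑ l, l₀ l * g l - a * ∑ l, s l * g l := by
          simp only [sub_mul, Finset.sum_sub_distrib, Finset.mul_sum, ite_mul, one_mul, zero_mul,
            Finset.sum_ite_eq', Finset.mem_univ, if_true, mul_assoc]
      _ = 0 := by rw [← e3, ← e2]; ring

end Relation

end Groth.Agent.Lib.Seat9.Mono
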